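import Mathlib.Algebra.Homology.ShortComplex.HomologicalComplex
import Mathlib.Algebra.Homology.HomologySequence
import Mathlib.Algebra.Homology.Additive
import Mathlib.CategoryTheory.Limits.Preserves.Shapes.Kernels
import Mathlib.CategoryTheory.Abelian.Basic

set_option autoImplicit false
universe u

namespace Groth.Agent.Lib.Helper75.FlatCx

open CategoryTheory CategoryTheory.Limits

section General

variable {C D : Type*} [Category C] [Abelian C] [Category D] [Abelian D]
  {ι : Type*} {c : ComplexShape ι} (F : C ⥤ D) [F.Additive] [PreservesFiniteColimits F]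
  (K : HomologicalComplex C c) (i : ι)

/-- `F(K).opcycles i ≅ F(K.opcycles i)` for a right exact additive functor `F`. -/
noncomputable def opcyclesMapIso :
    ((F.mapHomologicalComplex c).obj K).opcycles i ≅ F.obj (K.opcycles i) :=
  IsColimit.coconePointUniqueUpToIso
    (((F.mapHomologicalComplex c).obj K).opcyclesIsCokernel (c.prev i) i rfl)
    (CokernelCofork.mapIsColimit _ (K.opcyclesIsCokernel (c.prev i) i rfl) F)

@[reassoc (attr := simp)]
theorem pOpcycles_opcyclesMapIso_hom :
    ((F.mapHomologicalComplex c).obj K).pOpcycles i ≫ (opcyclesMapIso F K i).hom =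
      F.map (K.pOpcycles i) :=
  IsColimit.comp_coconePointUniqueUpToIso_hom
    (((F.mapHomologicalComplex c).obj K).opcyclesIsCokernel (c.prev i) i rfl)
    (CokernelCofork.mapIsColimit _ (K.opcyclesIsCokernel (c.prev i) i rfl) F)
    WalkingParallelPair.one

@[reassoc (attr := simp)]
theorem opcyclesMapIso_hom_fromOpcycles (j : ι) :
    (opcyclesMapIso F K i).hom ≫
        (show F.obj (K.opcycles i) ⟶ ((F.mapHomologicalComplex c).obj K).X j from
          F.map (K.fromOpcycles i j)) =
      ((F.mapHomologicalComplex c).obj K).fromOpcycles i j := by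
  have h2 : F.map (K.pOpcycles i) ≫ F.map (K.fromOpcycles i j) = F.map (K.d i j) := by
    rw [← F.map_comp, K.p_fromOpcycles]
  rw [← cancel_epi (((F.mapHomologicalComplex c).obj K).pOpcycles i)]
  rw [HomologicalComplex.p_fromOpcycles]
  refine (Category.assoc _ _ _).symm.trans ?_
  refine (congrArg (fun x => x ≫ F.map (K.fromOpcycles i j))
    (pOpcycles_opcyclesMapIso_hom F K i)).trans ?_
  exact h2

variable {F} in
theorem opcyclesMap_opcyclesMapIso_hom {G : C ⥤ D} [G.Additive] [PreservesFiniteColimits G]
    (α : F ⟶ G) :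
    HomologicalComplex.opcyclesMap ((NatTrans.mapHomologicalComplex α c).app K) i ≫
        (opcyclesMapIso G K i).hom =
      (opcyclesMapIso F K i).hom ≫ α.app (K.opcycles i) := by
  rw [← cancel_epi (((F.mapHomologicalComplex c).obj K).pOpcycles i)]
  rw [HomologicalComplex.p_opcyclesMap_assoc, pOpcycles_opcyclesMapIso_hom,
    pOpcycles_opcyclesMapIso_hom_assoc]
  exact (α.naturality _).symm

end General

end Groth.Agent.Lib.Helper75.FlatCx
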