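import Mathlib.RingTheory.Flat.Basic
import Mathlib.Algebra.Category.ModuleCat.Monoidal.Basic
import Mathlib.Algebra.Category.ModuleCat.EpiMono
import Mathlib.LinearAlgebra.TensorProduct.RightExactness
import Mathlib.CategoryTheory.Functor.EpiMono

set_option autoImplicit false
universe u

namespace Groth.Agent.Lib.Helper75.FlatCx

open CategoryTheory TensorProduct

section FlatQuot

variable {A : Type u} [CommRing A]

theorem sq {X Y M N : Type*} [AddCommGroup X] [Module A X] [AddCommGroup Y] [Module A Y]
    [AddCommGroup M] [Module A M] [AddCommGroup N] [Module A N] (a : X →ₗ[A] Y) (b : M →ₗ[A] N)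
    (x : X ⊗[A] M) : (a.rTensor N) ((b.lTensor X) x) = (b.lTensor Y) ((a.rTensor M) x) := by
  rw [← LinearMap.comp_apply, ← LinearMap.comp_apply, LinearMap.rTensor_comp_lTensor,
    LinearMap.lTensor_comp_rTensor]

/-- If `0 → K → P → V → 0` is exact with `V` flat, then `K ⊗ M → P ⊗ M` is injective. -/
theorem rTensor_injective_of_flat_quot {K P V : Type u} [AddCommGroup K] [Module A K]
    [AddCommGroup P] [Module A P] [AddCommGroup V] [Module A V] [Module.Flat A V]
    (i : K →ₗ[A] P) (v : P →ₗ[A] V) (hi : Function.Injective i) (hex : Function.Exact i v)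
    (hv : Function.Surjective v) (M : Type u) [AddCommGroup M] [Module A M] :
    Function.Injective (i.rTensor M) := by
  -- free presentation of M
  let q : (M →₀ A) →ₗ[A] M := Finsupp.linearCombination A id
  have hq : Function.Surjective q := Finsupp.linearCombination_id_surjective A M
  let r : LinearMap.ker q →ₗ[A] (M →₀ A) := (LinearMap.ker q).subtype
  have hr : Function.Injective r := Submodule.subtype_injective _
  have hrq : Function.Exact r q := LinearMap.exact_subtype_ker_map q
  rw [injective_iff_map_eq_zero]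
  intro x hx
  -- lift x to K ⊗ F
  obtain ⟨x1, rfl⟩ := LinearMap.lTensor_surjective K hq x
  -- its image in P ⊗ F maps to 0 in P ⊗ M
  have h1 : (q.lTensor P) ((i.rTensor _) x1) = 0 := by
    have : (q.lTensor P) ((i.rTensor _) x1) = (i.rTensor M) ((q.lTensor K) x1) := by
      rw [← LinearMap.comp_apply, ← LinearMap.comp_apply, LinearMap.lTensor_comp_rTensor,
        LinearMap.rTensor_comp_lTensor]
    rw [this, hx]
  obtain ⟨y, hy⟩ := (lTensor_exact (M := ↥(LinearMap.ker q)) P hrq hq _).mp h1
  -- y ∈ P ⊗ R; its image in V ⊗ R is zero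
  have h2 : (v.rTensor _) y = 0 := by
    have hinj : Function.Injective (r.lTensor V) := Module.Flat.lTensor_preserves_injective_linearMap r hr
    apply hinj
    rw [map_zero]
    have : (r.lTensor V) ((v.rTensor _) y) = (v.rTensor _) ((r.lTensor P) y) := by
      rw [← LinearMap.comp_apply, ← LinearMap.comp_apply, LinearMap.lTensor_comp_rTensor,
        LinearMap.rTensor_comp_lTensor]
    rw [this, hy, ← LinearMap.comp_apply, ← LinearMap.rTensor_comp, hex.linearMap_comp_eq_zero,
      LinearMap.rTensor_zero, LinearMap.zero_apply]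
  obtain ⟨z, hz⟩ := (rTensor_exact _ hex hv _).mp h2
  -- z ∈ K ⊗ R maps to x1 in K ⊗ F
  have hinjF : Function.Injective (i.rTensor (M →₀ A)) :=
    Module.Flat.rTensor_preserves_injective_linearMap i hi
  have h3 : (r.lTensor K) z = x1 := by
    apply hinjF
    rw [← hy, ← hz, ← LinearMap.comp_apply, ← LinearMap.comp_apply, LinearMap.lTensor_comp_rTensor,
      LinearMap.rTensor_comp_lTensor]
  rw [← h3, ← LinearMap.comp_apply, ← LinearMap.lTensor_comp, hrq.linearMap_comp_eq_zero,
    LinearMap.lTensor_zero, LinearMap.zero_apply]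

end FlatQuot

end Groth.Agent.Lib.Helper75.FlatCx

namespace Groth.Agent.Lib.Helper75.FlatCx

open CategoryTheory TensorProduct

variable {A : Type u} [CommRing A]

/-- A presentation of a functor `T` on `A`-modules as `M ↦ ker (f ⊗ M)` for a linear map `f : W → Q`. -/
structure KerModel (T : ModuleCat.{u} A ⥤ ModuleCat.{u} A) {W Q : Type u} [AddCommGroup W]
    [Module A W] [AddCommGroup Q] [Module A Q] (f : W →ₗ[A] Q) where
  ι : ∀ M : ModuleCat.{u} A, T.obj M →ₗ[A] W ⊗[A] M
  inj : ∀ M, Function.Injective (ι M)
  exact : ∀ M, Function.Exact (ι M) (f.rTensor M)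
  nat : ∀ {M N : ModuleCat.{u} A} (g : M ⟶ N) (x : T.obj M),
    ι N ((T.map g).hom x) = (g.hom.lTensor W) (ι M x)

namespace KerModel

variable {T : ModuleCat.{u} A ⥤ ModuleCat.{u} A} {W Q : Type u} [AddCommGroup W]
    [Module A W] [AddCommGroup Q] [Module A Q] {f : W →ₗ[A] Q} (m : KerModel T f)

include m

theorem preservesMono_of_flat [Module.Flat A W] : T.PreservesMonomorphisms := by
  constructor
  intro M N g hg
  rw [ModuleCat.mono_iff_injective] at hg ⊢
  have h1 : Function.Injective (g.hom.lTensor W) :=
    Module.Flat.lTensor_preserves_injective_linearMap _ hg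
  intro x y hxy
  apply m.inj M
  apply h1
  rw [← m.nat, ← m.nat]
  exact congrArg _ hxy

theorem flat_of_preservesMono [Module.Flat A Q] [hT : T.PreservesMonomorphisms] :
    Module.Flat A W := by
  rw [Module.Flat.iff_lTensor_preserves_injective_linearMap'.{u, u, u}]
  intro N N' _ _ _ _ g hg
  let g' : ModuleCat.of A N ⟶ ModuleCat.of A N' := ModuleCat.ofHom g
  have hmono : Mono g' := (ModuleCat.mono_iff_injective g').mpr hg
  have hTg : Function.Injective (T.map g').hom :=
    (ModuleCat.mono_iff_injective _).mp (hT.preserves g')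
  have hQ : Function.Injective (g.lTensor Q) :=
    Module.Flat.lTensor_preserves_injective_linearMap _ hg
  rw [injective_iff_map_eq_zero]
  intro x hx
  have h1 : (f.rTensor N) x = 0 := by
    apply hQ
    rw [map_zero]
    rw [← sq, hx, map_zero]
  obtain ⟨t, rfl⟩ := (m.exact (ModuleCat.of A N) x).mp h1
  have h2 : (T.map g').hom t = 0 := by
    apply m.inj
    rw [m.nat, map_zero]
    exact hx
  have h3 : t = 0 := by
    apply hTg
    rw [h2, map_zero]
  rw [h3, map_zero]

theorem preservesMono_iff [Module.Flat A Q] : T.PreservesMonomorphisms ↔ Module.Flat A W :=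
  ⟨fun _ => m.flat_of_preservesMono, fun _ => m.preservesMono_of_flat⟩

variable {V : Type u} [AddCommGroup V] [Module A V] (v : Q →ₗ[A] V)

theorem preservesEpi_of_flat [Module.Flat A Q] [Module.Flat A V] (hex : Function.Exact f v)
    (hv : Function.Surjective v) : T.PreservesEpimorphisms := by
  constructor
  intro M M'' g hg
  rw [ModuleCat.epi_iff_surjective] at hg ⊢
  let j : LinearMap.ker g.hom →ₗ[A] M := (LinearMap.ker g.hom).subtype
  have hj : Function.Injective j := Submodule.subtype_injective _
  have hjg : Function.Exact j g.hom := LinearMap.exact_subtype_ker_map g.hom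
  intro t''
  obtain ⟨x, hx⟩ := LinearMap.lTensor_surjective W hg (m.ι M'' t'')
  have h2 : (g.hom.lTensor Q) ((f.rTensor M) x) = 0 := by
    rw [← sq, hx]
    exact (m.exact M'' _).mpr ⟨t'', rfl⟩
  obtain ⟨y', hy'⟩ := (lTensor_exact (M := ↥(LinearMap.ker g.hom)) Q hjg hg _).mp h2
  have h3 : (v.rTensor _) y' = 0 := by
    have hinj : Function.Injective (j.lTensor V) :=
      Module.Flat.lTensor_preserves_injective_linearMap j hj
    apply hinj
    rw [map_zero, ← sq, hy', ← LinearMap.comp_apply, ← LinearMap.rTensor_comp,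
      hex.linearMap_comp_eq_zero, LinearMap.rTensor_zero, LinearMap.zero_apply]
  obtain ⟨x', hx'⟩ := (rTensor_exact _ hex hv _).mp h3
  have h5 : (f.rTensor M) (x - (j.lTensor W) x') = 0 := by
    rw [map_sub, sq, hx', hy', sub_self]
  obtain ⟨t, ht⟩ := (m.exact M _).mp h5
  refine ⟨t, ?_⟩
  apply m.inj
  rw [m.nat, ht, map_sub, hx, ← LinearMap.comp_apply (g.hom.lTensor W), ← LinearMap.lTensor_comp,
    hjg.linearMap_comp_eq_zero, LinearMap.lTensor_zero, LinearMap.zero_apply, sub_zero]

theorem flat_of_preservesEpi [Module.Flat A Q] [hT : T.PreservesEpimorphisms]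
    (hex : Function.Exact f v) (hv : Function.Surjective v) : Module.Flat A V := by
  rw [Module.Flat.iff_lTensor_preserves_injective_linearMap'.{u, u, u}]
  intro N N' _ _ _ _ j hj
  let g : N' →ₗ[A] (N' ⧸ LinearMap.range j) := (LinearMap.range j).mkQ
  have hg : Function.Surjective g := Submodule.mkQ_surjective _
  have hjg : Function.Exact j g := LinearMap.exact_map_mkQ_range j
  let g' : ModuleCat.of A N' ⟶ ModuleCat.of A (N' ⧸ LinearMap.range j) := ModuleCat.ofHom g
  have hepi : Epi g' := (ModuleCat.epi_iff_surjective g').mpr hg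
  have hTg : Function.Surjective (T.map g').hom :=
    (ModuleCat.epi_iff_surjective _).mp (hT.preserves g')
  have hQ : Function.Injective (j.lTensor Q) :=
    Module.Flat.lTensor_preserves_injective_linearMap _ hj
  rw [injective_iff_map_eq_zero]
  intro z' hz'
  obtain ⟨y', rfl⟩ := LinearMap.rTensor_surjective N hv z'
  have h2 : (v.rTensor N') ((j.lTensor Q) y') = 0 := by rw [sq, hz']
  obtain ⟨x, hx⟩ := (rTensor_exact N' hex hv _).mp h2
  have h3 : (f.rTensor _) ((g.lTensor W) x) = 0 := by
    rw [sq, hx, ← LinearMap.comp_apply, ← LinearMap.lTensor_comp, hjg.linearMap_comp_eq_zero,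
      LinearMap.lTensor_zero, LinearMap.zero_apply]
  obtain ⟨t'', ht''⟩ := (m.exact (ModuleCat.of A (N' ⧸ LinearMap.range j)) _).mp h3
  obtain ⟨t, rfl⟩ := hTg t''
  have h4 : (g.lTensor W) (x - m.ι (ModuleCat.of A N') t) = 0 := by
    rw [map_sub, ← ht'', m.nat g' t, ModuleCat.hom_ofHom, sub_self]
  obtain ⟨x', hx'⟩ := (lTensor_exact W hjg hg _).mp h4
  have h6 : (f.rTensor N) x' = y' := by
    apply hQ
    rw [← sq, hx', map_sub, hx]
    have : (f.rTensor N') (m.ι (ModuleCat.of A N') t) = 0 :=
      (m.exact (ModuleCat.of A N') _).mpr ⟨t, rfl⟩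
    rw [this, sub_zero]
  rw [← h6, ← LinearMap.comp_apply, ← LinearMap.rTensor_comp, hex.linearMap_comp_eq_zero,
    LinearMap.rTensor_zero, LinearMap.zero_apply]

theorem preservesEpi_iff [Module.Flat A Q] (hex : Function.Exact f v)
    (hv : Function.Surjective v) : T.PreservesEpimorphisms ↔ Module.Flat A V :=
  ⟨fun _ => m.flat_of_preservesEpi v hex hv, fun _ => m.preservesEpi_of_flat v hex hv⟩

section Iso

omit m in
theorem exact_range_subtype (hex : Function.Exact f v) :
    Function.Exact (LinearMap.range f).subtype v := by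
  rw [LinearMap.exact_iff, Submodule.range_subtype]
  exact hex.linearMap_ker_eq

omit m in
theorem range_rTensor_injective [Module.Flat A V] (hex : Function.Exact f v)
    (hv : Function.Surjective v) (M : Type u) [AddCommGroup M] [Module A M] :
    Function.Injective ((LinearMap.range f).subtype.rTensor M) :=
  rTensor_injective_of_flat_quot (LinearMap.range f).subtype v (Submodule.subtype_injective _)
    (exact_range_subtype v hex) hv M

omit m in
theorem flat_range [Module.Flat A Q] [Module.Flat A V] (hex : Function.Exact f v)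
    (hv : Function.Surjective v) : Module.Flat A (LinearMap.range f) := by
  rw [Module.Flat.iff_lTensor_preserves_injective_linearMap'.{u, u, u}]
  intro N N' _ _ _ _ j hj
  have hQ : Function.Injective (j.lTensor Q) :=
    Module.Flat.lTensor_preserves_injective_linearMap _ hj
  have h1 := range_rTensor_injective v hex hv N
  intro x y hxy
  apply h1
  apply hQ
  rw [← sq, ← sq, hxy]

omit m in
theorem exact_ker_rangeRestrict : Function.Exact (LinearMap.ker f).subtype f.rangeRestrict := by
  rw [LinearMap.exact_iff, Submodule.range_subtype, LinearMap.ker_rangeRestrict]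

omit m in
theorem ker_rTensor_injective [Module.Flat A Q] [Module.Flat A V] (hex : Function.Exact f v)
    (hv : Function.Surjective v) (M : Type u) [AddCommGroup M] [Module A M] :
    Function.Injective ((LinearMap.ker f).subtype.rTensor M) :=
  haveI := flat_range v hex hv
  rTensor_injective_of_flat_quot (LinearMap.ker f).subtype f.rangeRestrict
    (Submodule.subtype_injective _) exact_ker_rangeRestrict f.surjective_rangeRestrict M

omit m in
theorem ker_rTensor_exact [Module.Flat A V] (hex : Function.Exact f v)
    (hv : Function.Surjective v) (M : Type u) [AddCommGroup M] [Module A M] :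
    Function.Exact ((LinearMap.ker f).subtype.rTensor M) (f.rTensor M) := by
  have h1 := rTensor_exact M (exact_ker_rangeRestrict (f := f)) f.surjective_rangeRestrict
  have h2 := range_rTensor_injective v hex hv M
  intro x
  rw [← h1 x]
  have : f.rTensor M x = (LinearMap.range f).subtype.rTensor M (f.rangeRestrict.rTensor M x) := by
    rw [← LinearMap.comp_apply, ← LinearMap.rTensor_comp]
    rfl
  rw [this]
  exact ⟨fun h => h2 (by rw [h, map_zero]), fun h => by rw [h, map_zero]⟩

/-- the comparison `ker f ⊗ M ≃ T M` when `coker f` is flat. -/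
noncomputable def tensorEquiv [Module.Flat A Q] [Module.Flat A V] (hex : Function.Exact f v)
    (hv : Function.Surjective v) (M : ModuleCat.{u} A) :
    (LinearMap.ker f) ⊗[A] M ≃ₗ[A] T.obj M :=
  (LinearEquiv.ofInjective _ (ker_rTensor_injective v hex hv M)) ≪≫ₗ
    (LinearEquiv.ofEq _ _ (((ker_rTensor_exact v hex hv M).linearMap_ker_eq).symm.trans
      (m.exact M).linearMap_ker_eq)) ≪≫ₗ
    (LinearEquiv.ofInjective _ (m.inj M)).symm

theorem ι_tensorEquiv [Module.Flat A Q] [Module.Flat A V] (hex : Function.Exact f v)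
    (hv : Function.Surjective v) (M : ModuleCat.{u} A) (x : (LinearMap.ker f) ⊗[A] M) :
    m.ι M (m.tensorEquiv v hex hv M x) = (LinearMap.ker f).subtype.rTensor M x := by
  have : ∀ y : LinearMap.range (m.ι M), m.ι M ((LinearEquiv.ofInjective _ (m.inj M)).symm y) = y := by
    intro y
    obtain ⟨t, ht⟩ := y.2
    have : y = LinearEquiv.ofInjective _ (m.inj M) t := Subtype.ext ht.symm
    rw [this, LinearEquiv.symm_apply_apply]
    rfl
  simp only [tensorEquiv, LinearEquiv.trans_apply]
  rw [this]
  rfl

open MonoidalCategory in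
/-- `T ≅ ker f ⊗ -` when `coker f` is flat. -/
noncomputable def isoTensor [Module.Flat A Q] [Module.Flat A V] (hex : Function.Exact f v)
    (hv : Function.Surjective v) : tensorLeft (ModuleCat.of A (LinearMap.ker f)) ≅ T :=
  NatIso.ofComponents (fun M => (m.tensorEquiv v hex hv M).toModuleIso) (by
    intro M N g
    ext x
    apply m.inj
    change m.ι N (m.tensorEquiv v hex hv N ((g.hom.lTensor _) x)) =
      m.ι N ((T.map g).hom (m.tensorEquiv v hex hv M x))
    rw [m.nat, ι_tensorEquiv, ι_tensorEquiv, sq])

end Iso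

end KerModel

end Groth.Agent.Lib.Helper75.FlatCx
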