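import Groth.Prelude.Def_ega3
import Groth.Agent.Lib.Helper75.FlatCx0
import Groth.Agent.Lib.Helper75.FlatCx1

set_option autoImplicit false
universe u

namespace Groth.Agent.Lib.Helper75.FlatCx

open CategoryTheory CategoryTheory.Limits MonoidalCategory TensorProduct

variable {A : Type u} [CommRing A] {ι : Type} {c : ComplexShape ι}

instance preservesFiniteColimits_tensorRight (M : ModuleCat.{u} A) :
    PreservesFiniteColimits (tensorRight M) :=
  preservesFiniteColimits_of_natIso (BraidedCategory.tensorLeftIsoTensorRight M)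

variable (P : HomologicalComplex (ModuleCat.{u} A) c) (p : ι)

/-- `T_p(M) ⟶ W_p ⊗ M`. -/
noncomputable def ιT (M : ModuleCat.{u} A) : CohIII.T P p M ⟶ P.opcycles p ⊗ M :=
  (CohIII.tensorObj P M).homologyι p ≫ (opcyclesMapIso (tensorRight M) P p).hom

instance (M : ModuleCat.{u} A) : Mono (ιT P p M) := by
  unfold ιT
  infer_instance

theorem ιT_naturality {M N : ModuleCat.{u} A} (g : M ⟶ N) :
    (CohIII.TFun P p).map g ≫ ιT P p N = ιT P p M ≫ (P.opcycles p ◁ g) := by
  unfold ιT
  change HomologicalComplex.homologyMap (CohIII.tensorMap P g) p ≫ _ = _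
  rw [HomologicalComplex.homologyι_naturality_assoc, Category.assoc]
  congr 1
  exact opcyclesMap_opcyclesMapIso_hom P p ((tensoringRight (ModuleCat.{u} A)).map g)

theorem ιT_comp (M : ModuleCat.{u} A) (j : ι) :
    ιT P p M ≫ (P.fromOpcycles p j ▷ M) = 0 := by
  unfold ιT
  rw [Category.assoc]
  have := opcyclesMapIso_hom_fromOpcycles (tensorRight M) P p j
  erw [this]
  exact HomologicalComplex.homologyι_comp_fromOpcycles _ _ _

theorem ιT_exact (M : ModuleCat.{u} A) (j : ι) (hj : c.next p = j) :
    Function.Exact (ιT P p M).hom ((P.fromOpcycles p j).hom.rTensor M) := by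
  let K := CohIII.tensorObj P M
  let S1 : ShortComplex (ModuleCat.{u} A) :=
    ShortComplex.mk (K.homologyι p) (K.fromOpcycles p j) (K.homologyι_comp_fromOpcycles p j)
  have hS1 : S1.Exact := ShortComplex.exact_of_f_is_kernel _ (K.homologyIsKernel p j hj)
  let S2 : ShortComplex (ModuleCat.{u} A) :=
    ShortComplex.mk (ιT P p M) (P.fromOpcycles p j ▷ M) (ιT_comp P p M j)
  let e : S1 ≅ S2 := ShortComplex.isoMk (Iso.refl _) (opcyclesMapIso (tensorRight M) P p)
    (Iso.refl _) (by simp [S1, S2, ιT, K]) (by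
      simp only [S1, S2, Iso.refl_hom]
      exact (opcyclesMapIso_hom_fromOpcycles (tensorRight M) P p j).trans (Category.comp_id _).symm)
  have hS2 : S2.Exact := (ShortComplex.exact_iff_of_iso e).mp hS1
  exact (ShortComplex.ShortExact.moduleCat_exact_iff_function_exact S2).mp hS2

/-- the kernel model of `TFun P p`. -/
noncomputable def kerModel (j : ι) (hj : c.next p = j) :
    KerModel (CohIII.TFun P p) (P.fromOpcycles p j).hom where
  ι M := (ιT P p M).hom
  inj M := (ModuleCat.mono_iff_injective _).mp inferInstance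
  exact M := ιT_exact P p M j hj
  nat {M N} g x := by
    have := congrArg (fun φ => φ.hom x) (ιT_naturality P p g)
    exact this

theorem pOpcycles_surjective (j : ι) : Function.Surjective (P.pOpcycles j).hom :=
  (ModuleCat.epi_iff_surjective _).mp inferInstance

theorem fromOpcycles_pOpcycles_exact (j : ι) (hj : c.prev j = p) :
    Function.Exact (P.fromOpcycles p j).hom (P.pOpcycles j).hom := by
  let S : ShortComplex (ModuleCat.{u} A) :=
    ShortComplex.mk (P.d p j) (P.pOpcycles j) (P.d_pOpcycles p j)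
  have hS : S.Exact := ShortComplex.exact_of_g_is_cokernel _ (P.opcyclesIsCokernel p j hj)
  have h1 : Function.Exact (P.d p j).hom (P.pOpcycles j).hom :=
    (ShortComplex.ShortExact.moduleCat_exact_iff_function_exact S).mp hS
  have h2 : (P.d p j).hom = (P.fromOpcycles p j).hom ∘ₗ (P.pOpcycles p).hom := by
    rw [← ModuleCat.hom_comp, P.p_fromOpcycles]
  intro y
  rw [h1 y, h2]
  constructor
  · rintro ⟨x, rfl⟩
    exact ⟨_, rfl⟩
  · rintro ⟨w, rfl⟩
    obtain ⟨x, rfl⟩ := pOpcycles_surjective P p w
    exact ⟨x, rfl⟩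

section Criteria

variable (hP : ∀ i, Module.Flat A (P.X i))
include hP

theorem preservesMono_iff_flat_opcycles (j : ι) (h : c.Rel p j) :
    (CohIII.TFun P p).PreservesMonomorphisms ↔ Module.Flat A (P.opcycles p) :=
  haveI := hP j
  (kerModel P p j (c.next_eq' h)).preservesMono_iff

theorem preservesEpi_iff_flat_opcycles (j : ι) (h : c.Rel p j) :
    (CohIII.TFun P p).PreservesEpimorphisms ↔ Module.Flat A (P.opcycles j) :=
  haveI := hP j
  (kerModel P p j (c.next_eq' h)).preservesEpi_iff (P.pOpcycles j).hom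
    (fromOpcycles_pOpcycles_exact P p j (c.prev_eq' h)) (pOpcycles_surjective P j)

end Criteria

end Groth.Agent.Lib.Helper75.FlatCx
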