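import Groth.Agent.Lib.Helper75.Kz1

/- helper75: additive functors compatible with scalar actions commute with `CohIII.koszulCx`;
`Koszul.koszul A l = koszulCx (of A A) l`; Koszul homology vanishing under restriction of scalars. -/

set_option autoImplicit false
universe u
open CategoryTheory CategoryTheory.Limits HomologicalComplex CochainComplex HomComplex
open scoped Pointwise

namespace Groth.Agent.Lib.Helper75.Kz

open Helper98.KoszulFun Helper98.KoszulMod

section KosFun

variable {R₁ R₂ : Type u} [CommRing R₁] [CommRing R₂]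

lemma mapHC_smul_id (F : ModuleCat.{u} R₁ ⥤ ModuleCat.{u} R₂) [F.Additive] (a : R₁) (b : R₂)
    (hab : ∀ Y : ModuleCat.{u} R₁, F.map (a • 𝟙 Y) = b • 𝟙 (F.obj Y))
    (K : CochainComplex (ModuleCat.{u} R₁) ℤ) :
    (F.mapHomologicalComplex (ComplexShape.up ℤ)).map (a • 𝟙 K) =
      b • 𝟙 ((F.mapHomologicalComplex (ComplexShape.up ℤ)).obj K) := by
  ext n : 1
  simp only [Functor.mapHomologicalComplex_map_f, HomologicalComplex.smul_f_apply,
    HomologicalComplex.id_f]
  exact hab (K.X n)

/-- an additive functor compatible with the actions of the elements commutes with `koszulCx` -/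
theorem koszulCx_map_iso (F : ModuleCat.{u} R₁ ⥤ ModuleCat.{u} R₂) [F.Additive]
    (l₁ : List R₁) (l₂ : List R₂)
    (h : List.Forall₂ (fun a b => ∀ Y : ModuleCat.{u} R₁, F.map (a • 𝟙 Y) = b • 𝟙 (F.obj Y)) l₁ l₂)
    (Y : ModuleCat.{u} R₁) :
    Nonempty ((F.mapHomologicalComplex (ComplexShape.up ℤ)).obj (CohIII.koszulCx Y l₁) ≅
      CohIII.koszulCx (F.obj Y) l₂) := by
  induction h with
  | nil => exact ⟨(HomologicalComplex.singleMapHomologicalComplex F (ComplexShape.up ℤ) 0).app Y⟩
  | @cons a b l₁ l₂ hab _ ih =>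
    obtain ⟨e⟩ := ih
    have e1 := mappingCone.mapHomologicalComplexIso (a • 𝟙 (CohIII.koszulCx Y l₁)) F
    have e2 : mappingCone ((F.mapHomologicalComplex (ComplexShape.up ℤ)).map
        (a • 𝟙 (CohIII.koszulCx Y l₁))) ≅
        mappingCone (b • 𝟙 ((F.mapHomologicalComplex (ComplexShape.up ℤ)).obj
          (CohIII.koszulCx Y l₁))) :=
      eqToIso (by rw [mapHC_smul_id F a b hab])
    exact ⟨e1 ≪≫ e2 ≪≫ Helper98.KoszulTensor.coneSmulIso b e⟩

end KosFun

end Groth.Agent.Lib.Helper75.Kz

namespace Groth.Agent.Lib.Helper75.Kz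

open Helper98.KoszulFun Helper98.KoszulMod

section Bridge

variable {A : Type u} [CommRing A]

theorem koszul_eq_koszulCx (l : List A) :
    Koszul.koszul A l = CohIII.koszulCx (ModuleCat.of A A) l := by
  induction l with
  | nil => rfl
  | cons a l ih =>
    change mappingCone (a • 𝟙 (Koszul.koszul A l)) = mappingCone (a • 𝟙 (CohIII.koszulCx (ModuleCat.of A A) l))
    rw [ih]

variable {R' R : Type u} [CommRing R'] [CommRing R] (φ : R' →+* R)

lemma restrictScalars_smul_id (b : R') (Y : ModuleCat.{u} R) :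
    (ModuleCat.restrictScalars φ).map (φ b • 𝟙 Y) = b • 𝟙 ((ModuleCat.restrictScalars φ).obj Y) := by
  ext y
  rfl

lemma forall₂_restrictScalars (l' : List R') :
    List.Forall₂ (fun a b => ∀ Y : ModuleCat.{u} R, (ModuleCat.restrictScalars φ).map (a • 𝟙 Y) =
      b • 𝟙 ((ModuleCat.restrictScalars φ).obj Y)) (l'.map φ) l' := by
  induction l' with
  | nil => exact List.Forall₂.nil
  | cons b l' ih => exact List.Forall₂.cons (restrictScalars_smul_id φ b) ih

/-- vanishing of Koszul homology is insensitive to restriction of scalars -/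
theorem isZero_homology_restrictScalars_iff (l' : List R') (Y : ModuleCat.{u} R) (i : ℤ) :
    IsZero ((CohIII.koszulCx ((ModuleCat.restrictScalars φ).obj Y) l').homology i) ↔
      IsZero ((CohIII.koszulCx Y (l'.map φ)).homology i) := by
  obtain ⟨e⟩ := koszulCx_map_iso (ModuleCat.restrictScalars φ) (l'.map φ) l'
    (forall₂_restrictScalars φ l') Y
  have h1 : IsZero ((CohIII.koszulCx ((ModuleCat.restrictScalars φ).obj Y) l').homology i) ↔
      IsZero ((((ModuleCat.restrictScalars φ).mapHomologicalComplex (ComplexShape.up ℤ)).obj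
        (CohIII.koszulCx Y (l'.map φ))).homology i) :=
    ((HomologicalComplex.homologyFunctor _ _ i).mapIso e).symm.isZero_iff
  rw [h1, ← HomologicalComplex.exactAt_iff_isZero_homology,
    ← HomologicalComplex.exactAt_iff_isZero_homology, HomologicalComplex.exactAt_iff,
    HomologicalComplex.exactAt_iff]
  exact ShortComplex.exact_map_iff_of_faithful ((CohIII.koszulCx Y (l'.map φ)).sc i)
    (ModuleCat.restrictScalars φ)

end Bridge

end Groth.Agent.Lib.Helper75.Kz
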