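import Groth.Agent.Lib.Helper75.Fitting12
import Mathlib.RingTheory.Localization.BaseChange
import Mathlib.RingTheory.Localization.Ideal
import Mathlib.RingTheory.LocalRing.ResidueField.Ideal

set_option autoImplicit false
universe u v w

namespace Groth.Agent.Lib.Helper75.Fitting

open TensorProduct

variable {R : Type u} [CommRing R] {M : Type v} [AddCommGroup M] [Module R M]

theorem fitt_mono [Module.Finite R M] {k k' : ℕ} (h : k ≤ k') :
    Fitt.ideal R M k ≤ Fitt.ideal R M k' := by
  obtain ⟨n, x, hx⟩ := Module.Finite.exists_fin (R := R) (M := M)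
  rw [fitt_eq_H x hx k, fitt_eq_H x hx k']
  exact G_anti x (by omega)

/-- over a field -/
theorem fitt_eq_top_iff_of_field {K : Type u} [Field K] {V : Type v} [AddCommGroup V]
    [Module K V] [Module.Finite K V] (k : ℕ) :
    Fitt.ideal K V k = ⊤ ↔ Module.finrank K V ≤ k := by
  constructor
  · intro h
    by_contra hlt
    push Not at hlt
    rw [fitt_free_eq_bot k hlt] at h
    exact bot_ne_top h
  · intro h
    let b := Module.finBasis K V
    have h1 : Fitt.ideal K V (Module.finrank K V) = ⊤ := fitt_eq_top b b.span_eq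
    exact top_le_iff.mp (h1 ▸ fitt_mono h)

theorem fitt_localizedModule [Module.Finite R M] (S : Submonoid R) (k : ℕ) :
    Fitt.ideal (Localization S) (LocalizedModule S M) k =
      (Fitt.ideal R M k).map (algebraMap R (Localization S)) := by
  rw [fitt_congr (LocalizedModule.equivTensorProduct S M) k, fitt_baseChange]

theorem map_atPrime_eq_top_iff (I : Ideal R) (p : Ideal R) [p.IsPrime] :
    I.map (algebraMap R (Localization.AtPrime p)) = ⊤ ↔ ¬ I ≤ p := by
  have h := IsLocalization.map_algebraMap_ne_top_iff_disjoint p.primeCompl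
    (Localization.AtPrime p) I
  rw [← not_iff_not, not_not]
  rw [← ne_eq, h, Set.disjoint_left]
  constructor
  · intro h1 a ha
    by_contra hap
    exact h1 hap ha
  · intro h1 a hap ha
    exact hap (h1 ha)

theorem map_residueField_eq_top_iff (I : Ideal R) (p : Ideal R) [p.IsPrime] :
    I.map (algebraMap R p.ResidueField) = ⊤ ↔ ¬ I ≤ p := by
  constructor
  · intro h hle
    have : I.map (algebraMap R p.ResidueField) ≤ ⊥ := by
      rw [Ideal.map_le_iff_le_comap]
      intro a ha
      rw [Ideal.mem_comap, Ideal.mem_bot, Ideal.algebraMap_residueField_eq_zero]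
      exact hle ha
    rw [h] at this
    exact bot_ne_top (le_bot_iff.mp this).symm
  · intro h
    obtain ⟨a, haI, hap⟩ := Set.not_subset.mp h
    have hne : algebraMap R p.ResidueField a ≠ 0 := by
      rw [ne_eq, Ideal.algebraMap_residueField_eq_zero]
      exact hap
    exact Ideal.eq_top_of_isUnit_mem _ (Ideal.mem_map_of_mem _ haI) (isUnit_iff_ne_zero.mpr hne)

/-- criterion (1): fibre dimension -/
theorem not_fitt_le_iff_finrank [Module.Finite R M] (k : ℕ) (p : Ideal R) [p.IsPrime] :
    ¬ Fitt.ideal R M k ≤ p ↔ Module.finrank p.ResidueField (p.ResidueField ⊗[R] M) ≤ k := by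
  rw [← map_residueField_eq_top_iff, ← fitt_baseChange, fitt_eq_top_iff_of_field]

/-- criterion (2): generators of the localization at `p` -/
theorem not_fitt_le_iff_localization [Module.Finite R M] (k : ℕ) (p : Ideal R) [p.IsPrime] :
    ¬ Fitt.ideal R M k ≤ p ↔
      ∃ g : Fin k → LocalizedModule p.primeCompl M,
        Submodule.span (Localization.AtPrime p) (Set.range g) = ⊤ := by
  rw [← map_atPrime_eq_top_iff, ← fitt_localizedModule, fitt_eq_top_iff_of_isLocalRing]

end Groth.Agent.Lib.Helper75.Fitting
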