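import Groth.Agent.Lib.Helper75.FlatCx12
import Mathlib.LinearAlgebra.Dimension.Finite
import Mathlib.LinearAlgebra.FiniteDimensional.Lemmas
import Mathlib.RingTheory.Spectrum.Prime.FreeLocus
import Mathlib.Topology.Semicontinuity.Basic
import Groth.Agent.Lib.Helper75.Fitting13

set_option autoImplicit false
universe u

namespace Groth.Agent.Lib.Helper75.FlatCx

open CategoryTheory CategoryTheory.Limits MonoidalCategory TensorProduct

section LinAlg

variable {κ : Type*} [Field κ] {H X Y Z : Type*} [AddCommGroup H] [Module κ H]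
  [AddCommGroup X] [Module κ X] [AddCommGroup Y] [Module κ Y] [AddCommGroup Z] [Module κ Z]

theorem finrank_four_term [FiniteDimensional κ X] [FiniteDimensional κ Y]
    (a : H →ₗ[κ] X) (b : X →ₗ[κ] Y) (c : Y →ₗ[κ] Z) (ha : Function.Injective a)
    (hab : Function.Exact a b) (hbc : Function.Exact b c) (hc : Function.Surjective c) :
    Module.finrank κ H + Module.finrank κ Y = Module.finrank κ X + Module.finrank κ Z := by
  have h1 : Module.finrank κ H = Module.finrank κ (LinearMap.ker b) := by
    rw [hab.linearMap_ker_eq]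
    exact (LinearEquiv.ofInjective a ha).finrank_eq
  have h2 := LinearMap.finrank_range_add_finrank_ker b
  have h3 := LinearMap.finrank_range_add_finrank_ker c
  have h4 : Module.finrank κ (LinearMap.range c) = Module.finrank κ Z := by
    rw [LinearMap.range_eq_top.mpr hc, finrank_top]
  have h5 : LinearMap.ker c = LinearMap.range b := hbc.linearMap_ker_eq
  rw [h5, h4] at h3
  omega

end LinAlg

section Cx

variable {κ : Type u} [Field κ] {ι : Type} {c : ComplexShape ι}
  (K : HomologicalComplex (ModuleCat.{u} κ) c) (p : ι)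

theorem homologyι_fromOpcycles_exact (j : ι) (hj : c.next p = j) :
    Function.Exact (K.homologyι p).hom (K.fromOpcycles p j).hom := by
  let S1 : ShortComplex (ModuleCat.{u} κ) :=
    ShortComplex.mk (K.homologyι p) (K.fromOpcycles p j) (K.homologyι_comp_fromOpcycles p j)
  have hS1 : S1.Exact := ShortComplex.exact_of_f_is_kernel _ (K.homologyIsKernel p j hj)
  exact (ShortComplex.ShortExact.moduleCat_exact_iff_function_exact S1).mp hS1

theorem finrank_homology_add (j : ι) (h : c.Rel p j) [FiniteDimensional κ (K.opcycles p)]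
    [FiniteDimensional κ (K.X j)] :
    Module.finrank κ (K.homology p) + Module.finrank κ (K.X j) =
      Module.finrank κ (K.opcycles p) + Module.finrank κ (K.opcycles j) :=
  finrank_four_term (K.homologyι p).hom (K.fromOpcycles p j).hom (K.pOpcycles j).hom
    ((ModuleCat.mono_iff_injective _).mp inferInstance)
    (homologyι_fromOpcycles_exact K p j (c.next_eq' h))
    (fromOpcycles_pOpcycles_exact K p j (c.prev_eq' h)) (pOpcycles_surjective K j)

end Cx

section dRank

variable {A : Type u} [CommRing A] {ι : Type} {c : ComplexShape ι}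
  (P : HomologicalComplex (ModuleCat.{u} A) c) (p : ι)

/-- `w_p(x) = dim κ(x) ⊗ W_p` -/
noncomputable def wRank (x : PrimeSpectrum A) : ℕ :=
  Module.finrank x.asIdeal.ResidueField (x.asIdeal.ResidueField ⊗[A] P.opcycles p)

/-- `r_p(x) = dim κ(x) ⊗ P_p` -/
noncomputable def xRank (x : PrimeSpectrum A) : ℕ :=
  Module.finrank x.asIdeal.ResidueField (x.asIdeal.ResidueField ⊗[A] P.X p)

theorem dRank_add (j : ι) (h : c.Rel p j) [Module.Finite A (P.X p)] [Module.Finite A (P.X j)]
    (x : PrimeSpectrum A) :
    CohIII.dRank P p x + xRank P j x = wRank P p x + wRank P j x := by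
  let φ := algebraMap A x.asIdeal.ResidueField
  let K := CohIII.bcCx φ P
  let e1 : K.opcycles p ≃ₗ[x.asIdeal.ResidueField] x.asIdeal.ResidueField ⊗[A] P.opcycles p :=
    (opcyclesBcIso (B := x.asIdeal.ResidueField) P p).toLinearEquiv ≪≫ₗ extEquiv _
  let e2 : K.opcycles j ≃ₗ[x.asIdeal.ResidueField] x.asIdeal.ResidueField ⊗[A] P.opcycles j :=
    (opcyclesBcIso (B := x.asIdeal.ResidueField) P j).toLinearEquiv ≪≫ₗ extEquiv _
  let e3 : K.X j ≃ₗ[x.asIdeal.ResidueField] x.asIdeal.ResidueField ⊗[A] P.X j := extEquiv _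
  have f1 : FiniteDimensional x.asIdeal.ResidueField (K.opcycles p) :=
    Module.Finite.equiv e1.symm
  have f3 : FiniteDimensional x.asIdeal.ResidueField (K.X j) := Module.Finite.equiv e3.symm
  have := finrank_homology_add K p j h
  rw [e1.finrank_eq, e2.finrank_eq, e3.finrank_eq] at this
  exact this

theorem isOpen_wRank_le [Module.Finite A (P.X p)] (n : ℕ) :
    IsOpen {x : PrimeSpectrum A | wRank P p x ≤ n} := by
  have : {x : PrimeSpectrum A | wRank P p x ≤ n} =
      (PrimeSpectrum.zeroLocus (Fitt.ideal A (P.opcycles p) n : Set A))ᶜ := by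
    ext x
    simp only [Set.mem_ofPred_eq, Set.mem_compl_iff, PrimeSpectrum.mem_zeroLocus,
      SetLike.coe_subset_coe]
    exact (Fitting.not_fitt_le_iff_finrank n x.asIdeal).symm
  rw [this]
  exact (PrimeSpectrum.isClosed_zeroLocus _).isOpen_compl

theorem xRank_eq_rankAtStalk [Module.Finite A (P.X p)] [Module.Flat A (P.X p)]
    (x : PrimeSpectrum A) : xRank P p x = Module.rankAtStalk (P.X p) x :=
  (Module.rankAtStalk_eq x).symm

theorem isLocallyConstant_xRank [IsNoetherianRing A] [Module.Finite A (P.X p)]
    [Module.Flat A (P.X p)] : IsLocallyConstant (xRank P p) := by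
  have : xRank P p = Module.rankAtStalk (P.X p) := funext (xRank_eq_rankAtStalk P p)
  rw [this]
  have : Module.FinitePresentation A (P.X p) := Module.finitePresentation_of_finite A _
  exact Module.isLocallyConstant_rankAtStalk

theorem upperSemicontinuous_dRank [IsNoetherianRing A]
    (hP : ∀ i, Module.Finite A (P.X i) ∧ Module.Flat A (P.X i)) (j : ι) (h : c.Rel p j) :
    UpperSemicontinuous (CohIII.dRank P p) := by
  have := (hP p).1
  have := (hP j).1
  have := (hP j).2
  intro x y hy
  have h1 : {x' | wRank P p x' ≤ wRank P p x} ∈ nhds x :=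
    (isOpen_wRank_le P p _).mem_nhds (le_refl (wRank P p x))
  have h2 : {x' | wRank P j x' ≤ wRank P j x} ∈ nhds x :=
    (isOpen_wRank_le P j _).mem_nhds (le_refl (wRank P j x))
  have h3 : {x' | xRank P j x' = xRank P j x} ∈ nhds x :=
    ((isLocallyConstant_xRank P j).isOpen_fiber _).mem_nhds rfl
  filter_upwards [h1, h2, h3] with x' hx1 hx2 hx3
  have e1 := dRank_add P p j h x'
  have e2 := dRank_add P p j h x
  change wRank P p x' ≤ wRank P p x at hx1
  change wRank P j x' ≤ wRank P j x at hx2
  change xRank P j x' = xRank P j x at hx3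
  have : CohIII.dRank P p x' ≤ CohIII.dRank P p x := by omega
  exact lt_of_le_of_lt this hy

end dRank

end Groth.Agent.Lib.Helper75.FlatCx
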