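import Groth.Agent.Lib.Helper75.Fitting21
import Mathlib.RingTheory.Localization.Module

set_option autoImplicit false
universe u v w

namespace Groth.Agent.Lib.Helper75.Fitting

variable {S : Type u} [CommRing S] {P : Type u} [AddCommGroup P] [Module S P]

theorem mk_eq_zero_iff' (W : Submonoid S) (m : P) (s : W) :
    (LocalizedModule.mk m s = (0 : LocalizedModule W P)) ↔ ∃ t : W, t • m = 0 := by
  rw [← LocalizedModule.zero_mk (1 : W), LocalizedModule.mk_eq]
  simp only [one_smul, smul_zero]

/-- if `Fit_k(P) = (a)` then the quotient by `a`-power torsion has `Fit_k = ⊤` -/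
theorem fitt_quot_powTorsion_eq_top [Module.Finite S P] (a : S) (k : ℕ)
    (h : Fitt.ideal S P k = Ideal.span {a}) :
    Fitt.ideal S (P ⧸ FlatCA.powTorsion S a P) k = ⊤ := by
  by_contra hne
  obtain ⟨q, hq, hle⟩ := Ideal.exists_le_maximal _ hne
  have := hq.isPrime
  refine (not_fitt_le_iff_localization (M := P ⧸ FlatCA.powTorsion S a P) k q).mpr ?_ hle
  set T := FlatCA.powTorsion S a P with hT
  let A := Localization.AtPrime q
  let Pq := LocalizedModule q.primeCompl P
  let aA : A := algebraMap S A a
  have hfit : Fitt.ideal A Pq k = Ideal.span {aA} := by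
    rw [fitt_localizedModule, h, Ideal.map_span, Set.image_singleton]
  obtain ⟨g₀, hg₀⟩ := exists_generators_quot_ker (R := A) (M := Pq) k aA hfit
  let φ : Pq →ₗ[A] LocalizedModule q.primeCompl (P ⧸ T) := LocalizedModule.map q.primeCompl T.mkQ
  have hφsurj : Function.Surjective φ :=
    LocalizedModule.map_surjective q.primeCompl T.mkQ T.mkQ_surjective
  have hker : LinearMap.ker (aA • (LinearMap.id : Pq →ₗ[A] Pq)) ≤ LinearMap.ker φ := by
    intro y hy
    rw [LinearMap.mem_ker] at hy ⊢
    induction y using LocalizedModule.induction_on with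
    | h m s =>
      have h1 : aA • (LocalizedModule.mk m s : Pq) = LocalizedModule.mk (a • m) s := by
        rw [algebraMap_smul, LocalizedModule.smul'_mk]
      simp only [LinearMap.smul_apply, LinearMap.id_coe, id_eq] at hy
      rw [h1, mk_eq_zero_iff'] at hy
      obtain ⟨t, ht⟩ := hy
      have h2 : (t : S) • m ∈ T := by
        rw [hT, mem_powTorsion_iff]
        refine ⟨1, ?_⟩
        rw [pow_one, smul_comm]
        exact ht
      have h3 : φ (LocalizedModule.mk m s) = LocalizedModule.mk (T.mkQ m) s :=
        LocalizedModule.map_mk q.primeCompl T.mkQ m s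
      rw [h3, mk_eq_zero_iff']
      refine ⟨t, ?_⟩
      rw [Submonoid.smul_def, ← map_smul, Submodule.mkQ_apply, Submodule.Quotient.mk_eq_zero]
      exact h2
  let ψ := (LinearMap.ker (aA • (LinearMap.id : Pq →ₗ[A] Pq))).liftQ φ hker
  have hψsurj : Function.Surjective ψ := by
    rw [← LinearMap.range_eq_top, Submodule.range_liftQ, LinearMap.range_eq_top]
    exact hφsurj
  refine ⟨ψ ∘ g₀, ?_⟩
  rw [Set.range_comp, ← Submodule.map_span, hg₀, Submodule.map_top, LinearMap.range_eq_top]
  exact hψsurj

end Groth.Agent.Lib.Helper75.Fitting
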