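import Groth.Agent.Lib.Helper75.Fitting15

set_option autoImplicit false
universe u v w

namespace Groth.Agent.Lib.Helper75.Fitting

open TensorProduct

variable {R : Type u} [CommRing R] {M : Type v} [AddCommGroup M] [Module R M]

theorem not_le_of_map_away_eq_top (I : Ideal R) (p : Ideal R) [p.IsPrime] (f : R) (hf : f ∉ p)
    (h1 : I.map (algebraMap R (Localization.Away f)) = ⊤) : ¬ I ≤ p := by
  intro hle
  have h2 := (IsLocalization.map_algebraMap_ne_top_iff_disjoint (Submonoid.powers f)
    (Localization.Away f) I).not
  rw [ne_eq, not_not] at h2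
  have h3 := h2.mp h1
  rw [Set.not_disjoint_iff] at h3
  obtain ⟨y, ⟨N, rfl⟩, hy⟩ := h3
  exact hf (Ideal.IsPrime.mem_of_pow_mem inferInstance N (hle hy))

theorem locallyFree_iff [Module.Finite R M] (r : ℕ) :
    (∀ (p : Ideal R) [p.IsPrime], ∃ f : R, f ∉ p ∧
      Module.Free (Localization.Away f) (LocalizedModule (Submonoid.powers f) M) ∧
        Module.finrank (Localization.Away f) (LocalizedModule (Submonoid.powers f) M) = r) ↔
    ((∀ k, k < r → Fitt.ideal R M k = ⊥) ∧ (∀ k, r ≤ k → Fitt.ideal R M k = ⊤)) := by
  constructor
  · intro h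
    constructor
    · intro k hk
      rw [eq_bot_iff]
      intro a ha
      rw [Ideal.mem_bot]
      by_contra hne
      have hI : (Ideal.span {a}).annihilator ≠ ⊤ := by
        intro htop
        have : (1 : R) ∈ (Ideal.span {a}).annihilator := by rw [htop]; trivial
        rw [Submodule.mem_annihilator_span_singleton] at this
        exact hne (by simpa using this)
      obtain ⟨m, hm, hIm⟩ := Ideal.exists_le_maximal _ hI
      have := hm.isPrime
      obtain ⟨f, hf, hfree, hrank⟩ := h m
      have h1 : Fitt.ideal (Localization.Away f) (LocalizedModule (Submonoid.powers f) M) k = ⊥ :=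
        fitt_free_eq_bot k (by rw [hrank]; exact hk)
      rw [fitt_localizedModule] at h1
      have h2 : algebraMap R (Localization.Away f) a = 0 := by
        have := Ideal.mem_map_of_mem (algebraMap R (Localization.Away f)) ha
        rw [h1] at this
        exact this
      rw [IsLocalization.map_eq_zero_iff (Submonoid.powers f)] at h2
      obtain ⟨⟨_, N, rfl⟩, hN⟩ := h2
      have h3 : f ^ N ∈ (Ideal.span {a}).annihilator := by
        rw [Submodule.mem_annihilator_span_singleton]
        exact hN
      exact hf (Ideal.IsPrime.mem_of_pow_mem inferInstance N (hIm h3))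
    · intro k hk
      by_contra hne
      obtain ⟨m, hm, hIm⟩ := Ideal.exists_le_maximal _ hne
      have := hm.isPrime
      obtain ⟨f, hf, hfree, hrank⟩ := h m
      have := nontrivial_away_of_notMem m f hf
      have h1 : Fitt.ideal (Localization.Away f) (LocalizedModule (Submonoid.powers f) M) r = ⊤ := by
        let b := Module.finBasisOfFinrankEq (Localization.Away f)
          (LocalizedModule (Submonoid.powers f) M) hrank
        exact fitt_eq_top b b.span_eq
      have h2 : Fitt.ideal (Localization.Away f) (LocalizedModule (Submonoid.powers f) M) k = ⊤ :=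
        top_le_iff.mp (h1 ▸ fitt_mono hk)
      rw [fitt_localizedModule] at h2
      exact not_le_of_map_away_eq_top _ m f hf h2 hIm
  · rintro ⟨h1, h2⟩ p hp
    have h3 : ¬ Fitt.ideal R M r ≤ p := by
      rw [h2 r le_rfl]
      intro hle
      exact hp.ne_top (top_le_iff.mp hle)
    obtain ⟨f, hf, g, hg⟩ := (not_fitt_le_iff_away r p).mp h3
    refine ⟨f, hf, ?_⟩
    have := nontrivial_away_of_notMem p f hf
    apply free_of_fitt g hg
    intro k hk
    rw [fitt_localizedModule, h1 k hk, Ideal.map_bot]

end Groth.Agent.Lib.Helper75.Fitting
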