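import Mathlib

/-!
# CH2 for helper32's S16359: adapted basis of a f.g. submodule over a PID
-/

set_option autoImplicit false
universe u

namespace Groth.Agent.Lib.Helper75.ChevDVR2

open Module

section Split

variable {V : Type u} [CommRing V] {W R : Type u} [AddCommGroup W] [Module V W]
  [AddCommGroup R] [Module V R] (q : W →ₗ[V] R) (s : R →ₗ[V] W) (hs : q ∘ₗ s = LinearMap.id)

include hs in
theorem q_s (y : R) : q (s y) = y := by
  have := congrArg (fun f => f y) hs
  simpa using this

/-- `ker q × R ≃ W` for a split surjection `q` with section `s` -/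
noncomputable def splitEquiv : (LinearMap.ker q × R) ≃ₗ[V] W :=
  LinearEquiv.ofLinearMap ((LinearMap.ker q).subtype.coprod s)
    ((LinearMap.codRestrict (LinearMap.ker q) (LinearMap.id - s ∘ₗ q) (fun w => by
      rw [LinearMap.mem_ker, LinearMap.sub_apply, map_sub, LinearMap.id_apply,
        LinearMap.comp_apply, q_s q s hs, sub_self])).prod q)
    (by
      ext w
      simp)
    (by
      apply LinearMap.ext
      rintro ⟨⟨k, hk⟩, y⟩
      have hk' : q k = 0 := hk
      ext
      · simp [hk', q_s q s hs]
      · simp [hk', q_s q s hs])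

theorem splitEquiv_apply (x : LinearMap.ker q × R) :
    splitEquiv q s hs x = (x.1 : W) + s x.2 := by
  simp [splitEquiv]

theorem splitEquiv_symm_snd (w : W) : ((splitEquiv q s hs).symm w).2 = q w := by
  simp [splitEquiv]

end Split

theorem exists_adapted_basis (V : Type u) [CommRing V] [IsDomain V] [IsPrincipalIdealRing V] (A B : Type u) [AddCommGroup A] [Module V A] [AddCommGroup B] [Module V B] [Module.IsTorsionFree V A] [Module.IsTorsionFree V B] (p : A →ₗ[V] B) (W : Submodule V A) (hW : W.FG) : ∃ (n e : ℕ) (_ : e ≤ n) (b : Module.Basis (Fin n) V W), (∀ j : Fin n, j.1 < e → p (b j : A) = 0) ∧ (∀ c : Fin n → V, p (∑ i, c i • (b i : A)) = 0 → ∀ i : Fin n, e ≤ i.1 → c i = 0) := by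
  have : Module.Finite V W := Module.Finite.iff_fg.mpr hW
  have : IsNoetherian V W := isNoetherian_of_isNoetherianRing_of_finite V W
  let q0 : W →ₗ[V] B := p ∘ₗ W.subtype
  let q : W →ₗ[V] LinearMap.range q0 := q0.rangeRestrict
  have hq : Function.Surjective q := q0.surjective_rangeRestrict
  have : Module.Finite V (LinearMap.range q0) := Module.Finite.range q0
  have : Module.IsTorsionFree V (LinearMap.range q0) := inferInstance
  have : Module.Free V (LinearMap.range q0) := Module.free_of_finite_type_torsion_free'
  obtain ⟨s, hs⟩ := Module.projective_lifting_property q LinearMap.id hq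
  have : Module.IsTorsionFree V W := inferInstance
  have : Module.IsTorsionFree V (LinearMap.ker q) := inferInstance
  have : Module.Finite V (LinearMap.ker q) := inferInstance
  have : Module.Free V (LinearMap.ker q) := Module.free_of_finite_type_torsion_free'
  let bK := Module.finBasis V (LinearMap.ker q)
  let bR := Module.finBasis V (LinearMap.range q0)
  let E := splitEquiv q s hs
  let b : Module.Basis (Fin (finrank V (LinearMap.ker q) + finrank V (LinearMap.range q0))) V W :=
    ((bK.prod bR).map E).reindex finSumFinEquiv
  refine ⟨_, finrank V (LinearMap.ker q), Nat.le_add_right _ _, b, ?_, ?_⟩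
  · intro j hj
    have h1 : b j = E ((bK.prod bR) (finSumFinEquiv.symm j)) := by
      simp [b]
    have h2 : finSumFinEquiv.symm j = Sum.inl ⟨j.1, hj⟩ := by
      rw [Equiv.symm_apply_eq]
      ext
      simp
    have h3 : q (b j) = 0 := by
      rw [h1, h2, splitEquiv_apply]
      simp
    have h4 : (q (b j) : B) = p (b j : A) := rfl
    rw [← h4, h3]
    rfl
  · intro c hc i hi
    set w : W := ∑ i, c i • b i with hw
    have hwA : (w : A) = ∑ i, c i • (b i : A) := by
      rw [hw]
      simp
    have hqw : q w = 0 := by
      apply Subtype.ext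
      change p (w : A) = 0
      rw [hwA, hc]
    have h1 : c i = b.repr w i := by
      rw [hw, Module.Basis.repr_sum_self]
    have h2 : finSumFinEquiv.symm i = Sum.inr ⟨i.1 - finrank V (LinearMap.ker q), by omega⟩ := by
      rw [Equiv.symm_apply_eq]
      ext
      simp
      omega
    rw [h1]
    change (((bK.prod bR).map E).reindex finSumFinEquiv).repr w i = 0
    rw [Module.Basis.repr_reindex_apply, h2, Module.Basis.map_repr, LinearEquiv.trans_apply,
      Module.Basis.prod_repr_inr, splitEquiv_symm_snd, hqw, map_zero, Finsupp.zero_apply]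

end Groth.Agent.Lib.Helper75.ChevDVR2
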