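import Groth.Agent.Lib.Helper75.Fitting11
import Mathlib.LinearAlgebra.Matrix.NonsingularInverse
import Mathlib.RingTheory.LocalRing.Basic

set_option autoImplicit false
universe u v w

namespace Groth.Agent.Lib.Helper75.Fitting

open TensorProduct

variable {R : Type u} [CommRing R] {M : Type v} [AddCommGroup M] [Module R M]

/-- invariance under linear equivalence -/
theorem fitt_congr {M' : Type w} [AddCommGroup M'] [Module R M'] (e : M ≃ₗ[R] M') (k : ℕ) :
    Fitt.ideal R M k = Fitt.ideal R M' k :=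
  le_antisymm (fitt_le_of_surjective e.toLinearMap e.surjective k)
    (fitt_le_of_surjective e.symm.toLinearMap e.symm.surjective k)

/-- if a Fitting matrix has unit determinant, then `k` elements generate -/
theorem exists_fin_generating_of_isUnit_det {n : ℕ} (x : Fin n → M)
    (hx : Submodule.span R (Set.range x) = ⊤) (k : ℕ) (a : Matrix (Fin n) (Fin n) R)
    (ha : ∀ i : Fin n, (i : ℕ) < n - k → ∑ j, a i j • x j = 0) (hdet : IsUnit a.det) :
    ∃ g : Fin k → M, Submodule.span R (Set.range g) = ⊤ := by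
  let x' : Fin n → M := fun i => ∑ j, a i j • x j
  have hxx' : ∀ j, x j = ∑ i, (a⁻¹) j i • x' i := by
    intro j
    have h1 : a⁻¹ * a = 1 := Matrix.nonsing_inv_mul a hdet
    simp only [x', Finset.smul_sum, smul_smul]
    rw [Finset.sum_comm]
    have h2 : ∀ l, ∑ i, ((a⁻¹) j i * a i l) • x l = ((1 : Matrix (Fin n) (Fin n) R) j l) • x l := by
      intro l
      rw [← Finset.sum_smul, ← h1, Matrix.mul_apply]
    simp_rw [h2, Matrix.one_apply]
    simp
  let g : Fin k → M := fun l => if h : n - k + (l : ℕ) < n then x' ⟨n - k + l, h⟩ else 0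
  refine ⟨g, ?_⟩
  rw [eq_top_iff, ← hx]
  apply Submodule.span_le.mpr
  rintro _ ⟨j, rfl⟩
  rw [hxx' j]
  apply Submodule.sum_mem
  intro i _
  apply Submodule.smul_mem
  by_cases hi : (i : ℕ) < n - k
  · have : x' i = 0 := ha i hi
    rw [this]
    exact Submodule.zero_mem _
  · have hi' : n - k ≤ (i : ℕ) := Nat.le_of_not_lt hi
    have hlt : (i : ℕ) - (n - k) < k := by
      have := i.2
      omega
    apply Submodule.subset_span
    refine ⟨⟨(i : ℕ) - (n - k), hlt⟩, ?_⟩
    have h3 : n - k + ((i : ℕ) - (n - k)) = i := by omega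
    simp only [g]
    rw [dif_pos (by rw [h3]; exact i.2)]
    congr 1
    exact Fin.ext h3

/-- over a local ring, `Fit_k = ⊤` forces a Fitting matrix with unit determinant -/
theorem exists_isUnit_det_of_fitt_eq_top [IsLocalRing R] (k : ℕ) (h : Fitt.ideal R M k = ⊤) :
    ∃ (n : ℕ) (x : Fin n → M) (a : Matrix (Fin n) (Fin n) R),
      Submodule.span R (Set.range x) = ⊤ ∧
      (∀ i : Fin n, (i : ℕ) < n - k → ∑ j, a i j • x j = 0) ∧ IsUnit a.det := by
  by_contra hcon
  push Not at hcon
  have hle : Fitt.ideal R M k ≤ IsLocalRing.maximalIdeal R := by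
    apply Ideal.span_le.mpr
    rintro d ⟨n, x, a, hx, ha, rfl⟩
    exact (IsLocalRing.mem_maximalIdeal _).mpr (hcon n x a hx ha)
  rw [h] at hle
  exact (IsLocalRing.maximalIdeal.isMaximal R).ne_top (top_le_iff.mp hle)

/-- over a local ring, `Fit_k(M) = ⊤` iff `M` is generated by `k` elements -/
theorem fitt_eq_top_iff_of_isLocalRing [IsLocalRing R] (k : ℕ) :
    Fitt.ideal R M k = ⊤ ↔ ∃ g : Fin k → M, Submodule.span R (Set.range g) = ⊤ := by
  constructor
  · intro h
    obtain ⟨n, x, a, hx, ha, hdet⟩ := exists_isUnit_det_of_fitt_eq_top k h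
    exact exists_fin_generating_of_isUnit_det x hx k a ha hdet
  · rintro ⟨g, hg⟩
    exact fitt_eq_top g hg

end Groth.Agent.Lib.Helper75.Fitting
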