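import Groth.Agent.Lib.Helper75.Fitting14
import Mathlib.LinearAlgebra.Dimension.StrongRankCondition
import Mathlib.LinearAlgebra.Dimension.Free

set_option autoImplicit false
universe u v w

namespace Groth.Agent.Lib.Helper75.Fitting

open TensorProduct

variable {R : Type u} [CommRing R] {M : Type v} [AddCommGroup M] [Module R M]

/-- entries of relations lie in `G x 1` -/
theorem rel_apply_mem_G_one {ι : Type*} [Fintype ι] [DecidableEq ι] (x : ι → M) (z : ι → R)
    (hz : IsRel x z) (j : ι) : z j ∈ G R x 1 := by
  have h1 : ((1 : Matrix ι ι R).updateRow j z).det = z j := by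
    rw [← Matrix.cramer_transpose_apply, Matrix.transpose_one, Matrix.cramer_one]
    rfl
  rw [← h1]
  refine det_mem_G x _ {j} (by simp) ?_
  intro i hi
  rw [Finset.mem_singleton] at hi
  subst hi
  rw [Matrix.updateRow_self]
  exact hz

/-- if `r` elements generate and `Fit_{r-1} = 0` then they form a basis -/
theorem linearIndependent_of_fitt_eq_bot {r : ℕ} (g : Fin r → M)
    (hg : Submodule.span R (Set.range g) = ⊤) (h : ∀ k, k < r → Fitt.ideal R M k = ⊥) :
    LinearIndependent R g := by
  rw [Fintype.linearIndependent_iff]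
  intro z hz j
  have hr : 0 < r := Fin.pos j
  have h1 := h (r - 1) (by omega)
  rw [fitt_eq_H g hg] at h1
  unfold H at h1
  have h2 : r - (r - 1) = 1 := by omega
  rw [h2] at h1
  have h3 := rel_apply_mem_G_one g z hz j
  rw [h1] at h3
  exact h3

theorem free_of_fitt {r : ℕ} (g : Fin r → M)
    (hg : Submodule.span R (Set.range g) = ⊤) (h : ∀ k, k < r → Fitt.ideal R M k = ⊥)
    [Nontrivial R] : Module.Free R M ∧ Module.finrank R M = r := by
  let b : Module.Basis (Fin r) R M :=
    Module.Basis.mk (linearIndependent_of_fitt_eq_bot g hg h) (by rw [hg])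
  exact ⟨Module.Free.of_basis b, by rw [Module.finrank_eq_card_basis b, Fintype.card_fin]⟩

theorem nontrivial_away_of_notMem (p : Ideal R) [p.IsPrime] (f : R) (hf : f ∉ p) :
    Nontrivial (Localization.Away f) := by
  rw [← not_subsingleton_iff_nontrivial]
  intro hsub
  have h1 : algebraMap R (Localization.Away f) 1 = 0 := Subsingleton.elim _ _
  rw [IsLocalization.map_eq_zero_iff (Submonoid.powers f)] at h1
  obtain ⟨⟨_, N, rfl⟩, hm⟩ := h1
  rw [mul_one] at hm
  have : f ^ N ∈ p := by
    change f ^ N = 0 at hm
    rw [hm]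
    exact p.zero_mem
  exact hf (Ideal.IsPrime.mem_of_pow_mem inferInstance N this)

end Groth.Agent.Lib.Helper75.Fitting
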