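import Mathlib
import Groth.Agent.Lib.Helper51.MS2Defs
import Groth.Agent.Lib.Helper55.GR.Final

set_option autoImplicit false
universe u
open TensorProduct

namespace Groth.Agent.Lib.Helper75.MS2P2

section FlatAnn

variable {R S : Type u} [CommRing R] [CommRing S] [Algebra R S] [Module.Flat R S]

/-- the map `a ↦ (a * b j)_j` -/
def mulMap {r : ℕ} (b : Fin r → R) : R →ₗ[R] (Fin r → R) :=
  LinearMap.pi fun j => LinearMap.toSpanSingleton R R (b j)

theorem mem_ker_mulMap {r : ℕ} (b : Fin r → R) (a : R) :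
    a ∈ LinearMap.ker (mulMap b) ↔ ∀ j, a * b j = 0 := by
  rw [LinearMap.mem_ker]
  constructor
  · intro h j
    have := congrFun h j
    simpa [mulMap] using this
  · intro h
    ext j
    simpa [mulMap] using h j

/-- flat modules commute with annihilators of finitely generated ideals -/
theorem mem_ker_smul_top_of_flat {r : ℕ} (b : Fin r → R) (y : S) (hy : ∀ j, b j • y = 0) :
    y ∈ ((LinearMap.ker (mulMap b) : Ideal R) • ⊤ : Submodule R S) := by
  have hex : Function.Exact (LinearMap.lTensor S (LinearMap.ker (mulMap b)).subtype)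
      (LinearMap.lTensor S (mulMap b)) :=
    Module.Flat.lTensor_exact S (LinearMap.exact_subtype_ker_map (mulMap b))
  have h0 : LinearMap.lTensor S (mulMap b) (y ⊗ₜ[R] (1 : R)) = 0 := by
    rw [LinearMap.lTensor_tmul]
    have h1 : mulMap b (1 : R) = ∑ j, b j • (Pi.single j (1 : R) : Fin r → R) := by
      ext i
      simp [mulMap, Finset.sum_apply, Pi.single_apply]
    rw [h1, tmul_sum]
    refine Finset.sum_eq_zero fun j _ => ?_
    rw [tmul_smul, smul_tmul', hy j, zero_tmul]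
  obtain ⟨z, hz⟩ := (hex _).mp h0
  -- multiplication map
  have key : ∀ z : S ⊗[R] (LinearMap.ker (mulMap b)),
      TensorProduct.rid R S (LinearMap.lTensor S (LinearMap.ker (mulMap b)).subtype z) ∈
        ((LinearMap.ker (mulMap b) : Ideal R) • ⊤ : Submodule R S) := by
    intro z
    induction z using TensorProduct.induction_on with
    | zero => simp
    | tmul s k =>
      rw [LinearMap.lTensor_tmul, TensorProduct.rid_tmul]
      exact Submodule.smul_mem_smul k.2 Submodule.mem_top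
    | add z₁ z₂ h₁ h₂ =>
      rw [map_add, map_add]
      exact Submodule.add_mem _ h₁ h₂
  have := key z
  rw [hz, TensorProduct.rid_tmul, one_smul] at this
  exact this

end FlatAnn

section Coord

variable {R S : Type u} [CommRing R] [CommRing S] [Algebra R S]

/-- coordinates argument: if `S_h` is free over `R_h` and `y/1 ≠ 0`, there is `a` with `h * a ≠ 0`
such that `y ∉ P S` for all primes `P ∌ h * a`. -/
theorem exists_of_free (h : R) (y : S)
    [Module.Free (Localization.Away h) (LocalizedModule (Submonoid.powers h) S)]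
    (hy : ∀ n : ℕ, h ^ n • y ≠ 0) :
    ∃ a : R, h * a ≠ 0 ∧ ∀ P : Ideal R, P.IsPrime → h * a ∉ P →
      y ∉ (P • ⊤ : Submodule R S) := by
  classical
  let β := Module.Free.chooseBasis (Localization.Away h) (LocalizedModule (Submonoid.powers h) S)
  let mk := LocalizedModule.mkLinearMap (Submonoid.powers h) S
  have hy1 : mk y ≠ 0 := by
    intro h0
    obtain ⟨c, hc⟩ := (IsLocalizedModule.eq_zero_iff (Submonoid.powers h) mk).mp h0
    obtain ⟨n, hn⟩ := c.2
    apply hy n
    have hn' : h ^ n = (c : R) := hn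
    rw [hn']
    exact hc
  have hrepr : β.repr (mk y) ≠ 0 := fun h0 => hy1 (β.repr.map_eq_zero_iff.mp h0)
  obtain ⟨i, hi⟩ := DFunLike.ne_iff.mp hrepr
  rw [Finsupp.zero_apply] at hi
  obtain ⟨a, s, hc⟩ := IsLocalization.exists_mk'_eq (Submonoid.powers h) (β.repr (mk y) i)
  have hha : h * a ≠ 0 := by
    intro h0
    apply hi
    rw [← hc, IsLocalization.mk'_eq_zero_iff]
    exact ⟨⟨h, Submonoid.mem_powers h⟩, h0⟩
  refine ⟨a, hha, ?_⟩
  intro P hP hPa hyP
  have hhP : h ∉ P := fun hh => hPa (P.mul_mem_right a hh)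
  have haP : a ∉ P := fun ha => hPa (P.mul_mem_left h ha)
  have key : ∀ s ∈ (P • ⊤ : Submodule R S),
      β.repr (mk s) i ∈ P.map (algebraMap R (Localization.Away h)) := by
    intro s hs
    refine Submodule.smul_induction_on hs ?_ ?_
    · intro p hp s _
      have h1 : mk (p • s) = (algebraMap R (Localization.Away h) p) • mk s := by
        rw [map_smul, algebraMap_smul]
      rw [h1, map_smul, Finsupp.smul_apply, smul_eq_mul]
      exact Ideal.mul_mem_right _ _ (Ideal.mem_map_of_mem _ hp)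
    · intro x z hx hz
      rw [map_add, map_add, Finsupp.add_apply]
      exact Ideal.add_mem _ hx hz
  have h2 := key y hyP
  rw [← hc, IsLocalization.mk'_mem_map_algebraMap_iff (Submonoid.powers h)] at h2
  obtain ⟨m, hm, hma⟩ := h2
  obtain ⟨n, rfl⟩ := hm
  rcases hP.mem_or_mem hma with h3 | h3
  · exact hhP (hP.mem_of_pow_mem n h3)
  · exact haP h3

end Coord

section Core

variable (R S : Type u) [CommRing R] [IsReduced R] [IsNoetherianRing R] [CommRing S] [Algebra R S]
  [Module.Flat R S] [Algebra.FiniteType R S]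

theorem core (y : S) (hy : y ≠ 0) :
    ∃ r : R, r ≠ 0 ∧ ∀ P : Ideal R, P.IsPrime → r ∉ P → y ∉ (P • ⊤ : Submodule R S) := by
  obtain ⟨n, b, hb⟩ := (Submodule.fg_iff_exists_fin_generating_family).mp
    ((isNoetherianRing_iff_ideal_fg R).mp inferInstance (Ideal.torsionOf R S y))
  have hbJ : ∀ j, b j • y = 0 := by
    intro j
    have : b j ∈ Ideal.torsionOf R S y := by
      rw [← hb]; exact Submodule.subset_span ⟨j, rfl⟩
    exact (Ideal.mem_torsionOf_iff _ _).mp this
  have hyK := mem_ker_smul_top_of_flat b y hbJ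
  have hKne : (LinearMap.ker (mulMap b) : Ideal R) ≠ ⊥ := by
    intro h0
    rw [h0, Submodule.bot_smul] at hyK
    exact hy ((Submodule.mem_bot R).mp hyK)
  obtain ⟨h₀, hh₀K, hh₀⟩ := Submodule.exists_mem_ne_zero_of_ne_bot hKne
  obtain ⟨f, hne, -, hfree, -, -⟩ :=
    Groth.Agent.Lib.Helper55.GR.generic_freeness_reduced R S S h₀ hh₀
  have := hfree
  -- `K ⊓ J` is nil
  have hJK : ∀ w : R, w ∈ LinearMap.ker (mulMap b) → w • y = 0 → w = 0 := by
    intro w hwK hwJ
    have hwJ' : w ∈ Submodule.span R (Set.range b) := by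
      rw [hb]; exact (Ideal.mem_torsionOf_iff _ _).mpr hwJ
    have h1 : ∀ x ∈ Submodule.span R (Set.range b), w * x = 0 := by
      intro x hx
      induction hx using Submodule.span_induction with
      | mem x hx =>
        obtain ⟨j, rfl⟩ := hx
        exact (mem_ker_mulMap b w).mp hwK j
      | zero => simp
      | add x z _ _ hx hz => rw [mul_add, hx, hz, add_zero]
      | smul c x _ hx => rw [smul_eq_mul, mul_left_comm, hx, mul_zero]
    exact IsNilpotent.eq_zero ⟨2, by rw [pow_two]; exact h1 w hwJ'⟩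
  have hpow : ∀ m : ℕ, (h₀ * f) ^ m • y ≠ 0 := by
    intro m hm
    have h1 : (h₀ * f) ^ (m + 1) • y = 0 := by
      rw [pow_succ', mul_smul, hm, smul_zero]
    have h2 : (h₀ * f) ^ (m + 1) ∈ LinearMap.ker (mulMap b) := by
      rw [pow_succ', mul_assoc]
      exact Ideal.mul_mem_right _ _ hh₀K
    have h3 := hJK _ h2 h1
    exact hne (IsNilpotent.eq_zero ⟨m + 1, h3⟩)
  obtain ⟨a, ha, hP⟩ := exists_of_free (h₀ * f) y hpow
  exact ⟨h₀ * f * a, ha, hP⟩

end Core

section Main

theorem exists_not_mem_forall_prime {B C : Type u} [CommRing B] [CommRing C] [Algebra B C] [IsNoetherianRing B] [Module.Flat B C] [Algebra.FiniteType B C] (𝔟 : Ideal B) (hrad : 𝔟.IsRadical) (x : C) (hx : x ∉ 𝔟.map (algebraMap B C)) : ∃ h : B, h ∉ 𝔟 ∧ ∀ q : Ideal B, q.IsPrime → 𝔟 ≤ q → h ∉ q → x ∉ q.map (algebraMap B C) := by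
  have : IsReduced (B ⧸ 𝔟) := (Ideal.isRadical_iff_quotient_reduced 𝔟).mp hrad
  have hy : ((1 : B ⧸ 𝔟) ⊗ₜ[B] x : (B ⧸ 𝔟) ⊗[B] C) ≠ 0 := by
    intro h0
    have h1 := congrArg (TensorProduct.quotTensorEquivQuotSMul C 𝔟) h0
    rw [TensorProduct.quotTensorEquivQuotSMul_mk_one_tmul, map_zero,
      Submodule.Quotient.mk_eq_zero, Ideal.smul_top_eq_map] at h1
    exact hx h1
  obtain ⟨r, hr0, hr⟩ := core (B ⧸ 𝔟) ((B ⧸ 𝔟) ⊗[B] C) _ hy
  obtain ⟨h, rfl⟩ := Ideal.Quotient.mk_surjective r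
  refine ⟨h, fun hh => hr0 (Ideal.Quotient.eq_zero_iff_mem.mpr hh), ?_⟩
  intro q hq hbq hhq hxq
  have hker : RingHom.ker (Ideal.Quotient.mk 𝔟) ≤ q := by rw [Ideal.mk_ker]; exact hbq
  have hP : (q.map (Ideal.Quotient.mk 𝔟)).IsPrime :=
    Ideal.map_isPrime_of_surjective Ideal.Quotient.mk_surjective hker
  have hrP : Ideal.Quotient.mk 𝔟 h ∉ q.map (Ideal.Quotient.mk 𝔟) := by
    intro hmem
    obtain ⟨z, hz, hzh⟩ := (Ideal.mem_map_iff_of_surjective _ Ideal.Quotient.mk_surjective).mp hmem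
    have h1 : z - h ∈ 𝔟 := Ideal.Quotient.eq.mp hzh
    have h2 : h = z - (z - h) := by ring
    rw [h2] at hhq
    exact hhq (q.sub_mem hz (hbq h1))
  apply hr _ hP hrP
  -- `x ∈ q C` gives `1 ⊗ x ∈ P S`
  have hxq' : x ∈ (q • ⊤ : Submodule B C) := by
    rw [Ideal.smul_top_eq_map]; exact hxq
  refine Submodule.smul_induction_on hxq' ?_ ?_
  · intro b hb c _
    have h1 : ((1 : B ⧸ 𝔟) ⊗ₜ[B] (b • c) : (B ⧸ 𝔟) ⊗[B] C) =
        (Ideal.Quotient.mk 𝔟 b) • ((1 : B ⧸ 𝔟) ⊗ₜ[B] c) := by
      rw [TensorProduct.smul_tmul', smul_eq_mul, mul_one, TensorProduct.tmul_smul,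
        TensorProduct.smul_tmul']
      congr 1
      rw [Algebra.smul_def, mul_one]
      rfl
    rw [h1]
    exact Submodule.smul_mem_smul (Ideal.mem_map_of_mem _ hb) Submodule.mem_top
  · intro c₁ c₂ h₁ h₂
    rw [TensorProduct.tmul_add]
    exact Submodule.add_mem _ h₁ h₂

end Main

end Groth.Agent.Lib.Helper75.MS2P2
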