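import Mathlib
import Groth.Prelude.Def_SGA3x
import Groth.Agent.Lib.Helper5.DSPts
import Groth.Agent.Lib.Helper15.GaPts

/- helper75: S8392 support (hom from mult. type group to G_a is trivial), part 2 -/
set_option autoImplicit false
universe u
open CategoryTheory CategoryTheory.Limits MonoidalCategory CartesianMonoidalCategory MonObj
  AlgebraicGeometry Opposite

noncomputable section

namespace Groth.Agent.Lib.Helper75.MTGa

open Groth.Agent.Lib.Helper5

/-! ### pure algebra -/

section Alg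

variable {R : Type*} [CommRing R] {G : Type*} [Group G]

open Classical in
theorem eq_zero_of_mapDomain_diag (x : MonoidAlgebra R G)
    (h : MonoidAlgebra.mapDomain (fun m : G => ((m, m) : G × G)) x =
      MonoidAlgebra.mapDomain (fun m : G => ((m, 1) : G × G)) x +
      MonoidAlgebra.mapDomain (fun m : G => ((1, m) : G × G)) x) : x = 0 := by
  have hd : Function.Injective (fun m : G => ((m, m) : G × G)) := fun a b h => (Prod.ext_iff.mp h).1
  have h1 : Function.Injective (fun m : G => ((m, 1) : G × G)) := fun a b h => (Prod.ext_iff.mp h).1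
  have h2 : Function.Injective (fun m : G => ((1, m) : G × G)) := fun a b h => (Prod.ext_iff.mp h).2
  have key : ∀ m : G, x.coeff m = (if m = 1 then x.coeff 1 else 0) + (if m = 1 then x.coeff 1 else 0) := by
    intro m
    have := congrArg (fun y => y.coeff (m, m)) h
    simp only [MonoidAlgebra.coeff_mapDomain, MonoidAlgebra.coeff_add, Finsupp.add_apply] at this
    rw [show ((m, m) : G × G) = (fun m : G => ((m, m) : G × G)) m from rfl,
      Finsupp.mapDomain_apply hd] at this
    rw [this]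
    by_cases hm : m = 1
    · subst hm
      rw [if_pos rfl]
      have e1 : Finsupp.mapDomain (fun m : G => ((m, 1) : G × G)) x.coeff ((1 : G), (1 : G)) = x.coeff 1 :=
        Finsupp.mapDomain_apply h1 x.coeff 1
      have e2 : Finsupp.mapDomain (fun m : G => ((1, m) : G × G)) x.coeff ((1 : G), (1 : G)) = x.coeff 1 :=
        Finsupp.mapDomain_apply h2 x.coeff 1
      exact congrArg₂ (· + ·) e1 e2
    · rw [if_neg hm]
      have e1 : Finsupp.mapDomain (fun m : G => ((m, 1) : G × G)) x.coeff (m, m) = 0 := by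
        apply Finsupp.mapDomain_of_notMem_range
        rintro ⟨a, ha⟩
        exact hm (Prod.ext_iff.mp ha).2.symm
      have e2 : Finsupp.mapDomain (fun m : G => ((1, m) : G × G)) x.coeff (m, m) = 0 := by
        apply Finsupp.mapDomain_of_notMem_range
        rintro ⟨a, ha⟩
        exact hm (Prod.ext_iff.mp ha).1.symm
      exact congrArg₂ (· + ·) e1 e2
  have h0 : x.coeff 1 = 0 := by
    have := key 1
    rw [if_pos rfl] at this
    have h' : x.coeff 1 + 0 = x.coeff 1 + x.coeff 1 := by rw [add_zero]; exact this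
    exact (add_left_cancel h').symm
  apply MonoidAlgebra.coeff_injective
  ext m
  rw [key m]
  by_cases hm : m = 1
  · simp [hm, h0]
  · simp [hm]

end Alg

/-! ### points of `D_U(M)` with values in `Spec B`, `B` an algebra over `Γ(U, V)` -/

section Univ

variable {U : Scheme.{u}} {V : U.Opens} (hV : IsAffineOpen V) {M : Type} [AddCommGroup M]

/-- `Spec B` as an object over `U`. -/
abbrev ov (B : Type u) [CommRing B] [Algebra Γ(U, V) B] : Over U :=
  Over.mk (Spec.map (CommRingCat.ofHom (algebraMap Γ(U, V) B)) ≫ hV.fromSpec)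

/-- functoriality -/
def ovMap {B B' : Type u} [CommRing B] [CommRing B'] [Algebra Γ(U, V) B] [Algebra Γ(U, V) B']
    (φ : B →ₐ[Γ(U, V)] B') : ov hV B' ⟶ ov hV B :=
  Over.homMk (Spec.map (CommRingCat.ofHom φ.toRingHom)) (by
    simp only [Over.mk_hom]
    have h : (φ.toRingHom).comp (algebraMap Γ(U, V) B) = algebraMap Γ(U, V) B' := φ.comp_algebraMap
    rw [← Category.assoc, ← Spec.map_comp, ← CommRingCat.ofHom_comp, h])

@[simp] theorem ovMap_left {B B' : Type u} [CommRing B] [CommRing B'] [Algebra Γ(U, V) B]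
    [Algebra Γ(U, V) B'] (φ : B →ₐ[Γ(U, V)] B') :
    (ovMap hV φ).left = Spec.map (CommRingCat.ofHom φ.toRingHom) := rfl

/-- the point of a `B`-valued character -/
def pt {B : Type u} [CommRing B] [Algebra Γ(U, V) B] (ξ : Multiplicative M →* B) :
    ov hV B ⟶ Red.DS U M :=
  DSPts.ptOfChar (T := ov hV B)
    (((Scheme.ΓSpecIso (CommRingCat.of B)).inv.hom : B →* Γ(Spec (CommRingCat.of B), ⊤)).comp ξ)

theorem charOfPt_pt {B : Type u} [CommRing B] [Algebra Γ(U, V) B] (ξ : Multiplicative M →* B)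
    (m : Multiplicative M) :
    DSPts.charOfPt (pt hV ξ) m = (Scheme.ΓSpecIso (CommRingCat.of B)).inv (ξ m) := by
  rw [pt, DSPts.charOfPt_ptOfChar]
  rfl

theorem ovMap_pt {B B' : Type u} [CommRing B] [CommRing B'] [Algebra Γ(U, V) B]
    [Algebra Γ(U, V) B'] (φ : B →ₐ[Γ(U, V)] B') (ξ : Multiplicative M →* B) :
    ovMap hV φ ≫ pt hV ξ = pt hV ((φ : B →* B').comp ξ) := by
  apply DSPts.charOfPt_injective
  refine MonoidHom.ext fun m => ?_
  rw [DSPts.charOfPt_comp, charOfPt_pt]
  change (ovMap hV φ).left.appTop (DSPts.charOfPt (pt hV ξ) m) = _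
  rw [charOfPt_pt, ovMap_left]
  have h := congrArg (fun ψ => (ConcreteCategory.hom ψ) (ξ m))
    (Scheme.ΓSpecIso_inv_naturality (CommRingCat.ofHom φ.toRingHom))
  exact h.symm

theorem pt_mul {B : Type u} [CommRing B] [Algebra Γ(U, V) B] (ξ ξ' : Multiplicative M →* B) :
    pt hV (ξ * ξ') = pt hV ξ * pt hV ξ' := by
  apply DSPts.charOfPt_injective
  refine MonoidHom.ext fun m => ?_
  rw [DSPts.charOfPt_mul, MonoidHom.mul_apply, charOfPt_pt, charOfPt_pt, charOfPt_pt,
    MonoidHom.mul_apply, map_mul]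

/-- the value in `B` of the function `c` at a `Spec B`-point -/
def val (c : Γ((Red.DS U M).left, ⊤)) {B : Type u} [CommRing B] [Algebra Γ(U, V) B]
    (d : ov hV B ⟶ Red.DS U M) : B :=
  (Scheme.ΓSpecIso (CommRingCat.of B)).hom (d.left.appTop c)

theorem val_ovMap (c : Γ((Red.DS U M).left, ⊤)) {B B' : Type u} [CommRing B] [CommRing B']
    [Algebra Γ(U, V) B] [Algebra Γ(U, V) B'] (φ : B →ₐ[Γ(U, V)] B') (d : ov hV B ⟶ Red.DS U M) :
    val hV c (ovMap hV φ ≫ d) = φ (val hV c d) := by
  unfold val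
  rw [Over.comp_left, Scheme.Hom.comp_appTop, CommRingCat.comp_apply, ovMap_left]
  have h := congrArg (fun ψ => (ConcreteCategory.hom ψ) (d.left.appTop c))
    (Scheme.ΓSpecIso_naturality (CommRingCat.ofHom φ.toRingHom))
  exact h

/-- additivity of a function on `D_U(M)` along the group law, in terms of points -/
def IsAdd (c : Γ((Red.DS U M).left, ⊤)) : Prop :=
  ∀ (T : Over U) (d d' : T ⟶ Red.DS U M),
    (d * d').left.appTop c = d.left.appTop c + d'.left.appTop c

theorem val_mul {c : Γ((Red.DS U M).left, ⊤)} (hc : IsAdd c) {B : Type u} [CommRing B]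
    [Algebra Γ(U, V) B] (d d' : ov hV B ⟶ Red.DS U M) :
    val hV c (d * d') = val hV c d + val hV c d' := by
  unfold val
  rw [hc, map_add]

theorem val_univ_eq_zero {c : Γ((Red.DS U M).left, ⊤)} (hc : IsAdd c) :
    val hV c (pt hV (MonoidAlgebra.of Γ(U, V) (Multiplicative M))) = 0 := by
  set G := Multiplicative M
  set R := Γ(U, V)
  set x := val hV c (pt hV (MonoidAlgebra.of R G)) with hx
  let fd : G →* G × G := MonoidHom.prod (MonoidHom.id G) (MonoidHom.id G)
  let f1 : G →* G × G := MonoidHom.inl G G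
  let f2 : G →* G × G := MonoidHom.inr G G
  have hφ : ∀ f : G →* G × G, MonoidAlgebra.mapDomain f x =
      val hV c (pt hV ((MonoidAlgebra.of R (G × G)).comp f)) := by
    intro f
    have h1 := val_ovMap hV c (MonoidAlgebra.mapDomainAlgHom R R f) (pt hV (MonoidAlgebra.of R G))
    rw [ovMap_pt] at h1
    rw [← hx] at h1
    have h2 : ((MonoidAlgebra.mapDomainAlgHom R R f : MonoidAlgebra R G →* MonoidAlgebra R (G × G))).comp
        (MonoidAlgebra.of R G) = (MonoidAlgebra.of R (G × G)).comp f := by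
      refine MonoidHom.ext fun m => ?_
      simp [MonoidAlgebra.of_apply]
    rw [h2] at h1
    rw [h1]
    rfl
  have hmul : (MonoidAlgebra.of R (G × G)).comp fd =
      (MonoidAlgebra.of R (G × G)).comp f1 * (MonoidAlgebra.of R (G × G)).comp f2 := by
    refine MonoidHom.ext fun m => ?_
    simp only [MonoidHom.comp_apply, MonoidHom.mul_apply, ← map_mul]
    congr 1
    simp [fd, f1, f2]
  apply eq_zero_of_mapDomain_diag x
  have e := hφ fd
  rw [hmul, pt_mul, val_mul hV hc, ← hφ f1, ← hφ f2] at e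
  exact e

theorem appTop_eq_zero_of_factors {c : Γ((Red.DS U M).left, ⊤)} (hc : IsAdd c) (T : Over U)
    (l : T.left ⟶ Spec Γ(U, V)) (hl : l ≫ hV.fromSpec = T.hom) (d : T ⟶ Red.DS U M) :
    d.left.appTop c = 0 := by
  let A := MonoidAlgebra Γ(U, V) (Multiplicative M)
  let ρ : Γ(U, V) ⟶ Γ(T.left, ⊤) := (Scheme.ΓSpecIso Γ(U, V)).inv ≫ l.appTop
  let χ : Multiplicative M →* Γ(T.left, ⊤) := DSPts.charOfPt d
  let θ : A →+* Γ(T.left, ⊤) := MonoidAlgebra.liftNCRingHom ρ.hom χ (fun _ _ => Commute.all _ _)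
  have hθalg : θ.comp (algebraMap Γ(U, V) A) = ρ.hom := by
    ext r
    simp [θ, A, MonoidAlgebra.liftNCRingHom, MonoidAlgebra.coe_algebraMap]
  have hθof : ∀ m : Multiplicative M, θ (MonoidAlgebra.of Γ(U, V) (Multiplicative M) m) = χ m := by
    intro m
    simp [θ, MonoidAlgebra.liftNCRingHom, MonoidAlgebra.of_apply]
  let h₀l : T.left ⟶ Spec (CommRingCat.of A) :=
    ΓSpec.adjunction.homEquiv T.left (op (CommRingCat.of A)) (CommRingCat.ofHom θ).op
  have hh₀app : h₀l.appTop = (Scheme.ΓSpecIso (CommRingCat.of A)).hom ≫ CommRingCat.ofHom θ :=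
    ΓSpec_adjunction_homEquiv_eq _
  have hh₀l : h₀l ≫ Spec.map (CommRingCat.ofHom (algebraMap Γ(U, V) A)) = l := by
    apply ext_of_isAffine
    rw [Scheme.Hom.comp_appTop, hh₀app, ← Category.assoc, Scheme.ΓSpecIso_naturality,
      Category.assoc, ← CommRingCat.ofHom_comp, hθalg]
    exact Iso.hom_inv_id_assoc _ _
  let h₀ : T ⟶ ov hV A := Over.homMk h₀l (by
    simp only [Over.mk_hom]
    rw [← Category.assoc, hh₀l, hl])
  have hfac : h₀ ≫ pt hV (MonoidAlgebra.of Γ(U, V) (Multiplicative M)) = d := by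
    apply DSPts.charOfPt_injective
    refine MonoidHom.ext fun m => ?_
    rw [DSPts.charOfPt_comp]
    change h₀l.appTop (DSPts.charOfPt (pt hV (MonoidAlgebra.of Γ(U, V) (Multiplicative M))) m) = χ m
    rw [charOfPt_pt, hh₀app, CommRingCat.comp_apply]
    rw [Iso.inv_hom_id_apply]
    exact hθof m
  rw [← hfac, Over.comp_left, Scheme.Hom.comp_appTop, CommRingCat.comp_apply]
  have hv := val_univ_eq_zero hV hc
  unfold val at hv
  have hv' : (pt hV (MonoidAlgebra.of Γ(U, V) (Multiplicative M))).left.appTop c = 0 := by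
    have := congrArg (Scheme.ΓSpecIso (CommRingCat.of A)).inv hv
    rw [Iso.hom_inv_id_apply, map_zero] at this
    exact this
  rw [hv', map_zero]

theorem eq_zero_of_isAdd {c : Γ((Red.DS U M).left, ⊤)} (hc : IsAdd c) : c = 0 := by
  apply (Red.DS U M).left.IsSheaf.section_ext (U := op ⊤)
  intro x _
  obtain ⟨V, hVaff, hxV, -⟩ := (TopologicalSpace.Opens.isBasis_iff_nbhd.mp U.isBasis_affineOpens)
    (show (Red.DS U M).hom x ∈ (⊤ : U.Opens) from trivial)
  let W : (Red.DS U M).left.Opens := (Red.DS U M).hom ⁻¹ᵁ V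
  refine ⟨W.ι ''ᵁ ⊤, le_top, ?_, ?_⟩
  · exact ⟨⟨x, hxV⟩, trivial, rfl⟩
  · rw [map_zero]
    let T : Over U := Over.mk (W.ι ≫ (Red.DS U M).hom)
    let d : T ⟶ Red.DS U M := Over.homMk W.ι rfl
    have hrange : Set.range (W.ι ≫ (Red.DS U M).hom).base ⊆ Set.range (IsAffineOpen.fromSpec hVaff).base := by
      rw [IsAffineOpen.range_fromSpec]
      rintro _ ⟨y, rfl⟩
      exact y.2
    let l : T.left ⟶ Spec Γ(U, V) := IsOpenImmersion.lift (IsAffineOpen.fromSpec hVaff) (W.ι ≫ (Red.DS U M).hom) hrange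
    have hl : l ≫ IsAffineOpen.fromSpec hVaff = T.hom := IsOpenImmersion.lift_fac _ _ _
    exact appTop_eq_zero_of_factors hVaff hc T l hl d

end Univ

end Groth.Agent.Lib.Helper75.MTGa
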