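import Groth.Agent.Lib.Helper75.Fitting7

set_option autoImplicit false
universe u v w

namespace Groth.Agent.Lib.Helper75.Fitting

variable {R : Type u} [CommRing R] {M : Type v} [AddCommGroup M] [Module R M]

/-- Cramer: if all rows of `a` are relations among `x`, then `det a` kills every `x j` -/
theorem det_smul_eq_zero {ι : Type*} [Fintype ι] [DecidableEq ι] (x : ι → M) (a : Matrix ι ι R)
    (ha : ∀ i, IsRel x (a i)) (j : ι) : a.det • x j = 0 := by
  have h1 : ∀ l, (a.adjugate * a) j l = if j = l then a.det else 0 := by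
    intro l
    rw [Matrix.adjugate_mul, Matrix.smul_apply, Matrix.one_apply]
    simp
  have h2 : ∑ l, (a.adjugate * a) j l • x l = a.det • x j := by
    simp_rw [h1]
    simp
  rw [← h2]
  simp_rw [Matrix.mul_apply, Finset.sum_smul, mul_smul]
  rw [Finset.sum_comm]
  apply Finset.sum_eq_zero
  intro i _
  rw [← Finset.smul_sum]
  have := ha i
  unfold IsRel at this
  rw [this, smul_zero]

theorem fitt_zero_le_annihilator : Fitt.ideal R M 0 ≤ Module.annihilator R M := by
  apply Ideal.span_le.mpr
  rintro d ⟨n, x, a, hx, ha, rfl⟩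
  rw [SetLike.mem_coe, Module.mem_annihilator]
  intro m
  have hm : m ∈ Submodule.span R (Set.range x) := by rw [hx]; trivial
  induction hm using Submodule.span_induction with
  | mem v hv =>
    obtain ⟨j, rfl⟩ := hv
    exact det_smul_eq_zero x a (fun i => ha i (by simp)) j
  | zero => simp
  | add v w _ _ hv hw => rw [smul_add, hv, hw, add_zero]
  | smul c v _ hv => rw [smul_comm, hv, smul_zero]

theorem pow_mem_fitt_zero {n : ℕ} (x : Fin n → M) (hx : Submodule.span R (Set.range x) = ⊤)
    (f : R) (hf : f ∈ Module.annihilator R M) : f ^ n ∈ Fitt.ideal R M 0 := by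
  rw [fitt_eq_H x hx 0]
  have h1 : (f • (1 : Matrix (Fin n) (Fin n) R)).det = f ^ n := by
    rw [Matrix.det_smul, Matrix.det_one, mul_one, Fintype.card_fin]
  rw [← h1]
  refine det_mem_G x _ Finset.univ (by simp) ?_
  intro i _
  unfold IsRel
  have h2 : ∀ j, (f • (1 : Matrix (Fin n) (Fin n) R)) i j • x j = if i = j then f • x j else 0 := by
    intro j
    rw [Matrix.smul_apply, Matrix.one_apply]
    split_ifs <;> simp
  simp_rw [h2]
  rw [Finset.sum_ite_eq, if_pos (Finset.mem_univ i)]
  exact (Module.mem_annihilator.mp hf) _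

theorem zeroLocus_fitt_zero [Module.Finite R M] :
    PrimeSpectrum.zeroLocus (Fitt.ideal R M 0 : Set R) = Module.support R M := by
  rw [Module.support_eq_zeroLocus]
  apply le_antisymm
  · intro p hp
    rw [PrimeSpectrum.mem_zeroLocus] at hp ⊢
    intro f hf
    obtain ⟨n, x, hx⟩ := Module.Finite.exists_fin (R := R) (M := M)
    have h1 := hp (pow_mem_fitt_zero x hx f hf)
    exact p.isPrime.mem_of_pow_mem n h1
  · exact PrimeSpectrum.zeroLocus_anti_mono fitt_zero_le_annihilator

theorem fitt_zero_quotient (I : Ideal R) : Fitt.ideal R (R ⧸ I) 0 = I := by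
  let x : Fin 1 → R ⧸ I := fun _ => 1
  have hx : Submodule.span R (Set.range x) = ⊤ := by
    rw [eq_top_iff]
    rintro v -
    obtain ⟨r, rfl⟩ := Ideal.Quotient.mk_surjective v
    have : (Ideal.Quotient.mk I r) = r • x 0 := by
      simp [x, Algebra.smul_def]
    rw [this]
    exact Submodule.smul_mem _ _ (Submodule.subset_span ⟨0, rfl⟩)
  rw [fitt_eq_H x hx 0, H_eq_span_prelude]
  apply le_antisymm
  · apply Ideal.span_le.mpr
    rintro d ⟨a, ha, rfl⟩
    have h1 := ha 0 (by simp)
    rw [Fin.sum_univ_one] at h1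
    rw [Matrix.det_fin_one]
    have h2 : a 0 0 • x 0 = Ideal.Quotient.mk I (a 0 0) := by
      simp [x, Algebra.smul_def]
    rw [h2] at h1
    exact Ideal.Quotient.eq_zero_iff_mem.mp h1
  · intro r hr
    apply Ideal.subset_span
    refine ⟨Matrix.of fun _ _ => r, ?_, by simp⟩
    intro i _
    rw [Fin.sum_univ_one]
    have h2 : r • x 0 = Ideal.Quotient.mk I r := by
      simp [x, Algebra.smul_def]
    simp only [Matrix.of_apply]
    rw [h2]
    exact Ideal.Quotient.eq_zero_iff_mem.mpr hr

end Groth.Agent.Lib.Helper75.Fitting
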