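import Groth.Agent.Lib.Helper75.Fitting9

set_option autoImplicit false
universe u u' v

namespace Groth.Agent.Lib.Helper75.Fitting

open TensorProduct

variable {R : Type u} {R' : Type u'} [CommRing R] [CommRing R'] [Algebra R R']
variable {M : Type v} [AddCommGroup M] [Module R M]

section baseChange
variable {n : ℕ} (x : Fin n → M)

/-- the base-changed relations -/
def bcRel (R : Type u) (R' : Type u') [CommRing R] [CommRing R'] [Algebra R R']
    {M : Type v} [AddCommGroup M] [Module R M] {n : ℕ} (x : Fin n → M) :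
    relSubmodule R x → (Fin n → R') := fun k i => algebraMap R R' (k.1 i)

theorem span_bcRel_le : Submodule.span R' (Set.range (bcRel R R' x)) ≤
    relSubmodule R' (bcTuple R R' x) := by
  apply Submodule.span_le.mpr
  rintro _ ⟨k, rfl⟩
  exact isRel_bcTuple_of_isRel x k.1 k.2

theorem relSubmodule_bcTuple_le (hx : Submodule.span R (Set.range x) = ⊤) :
    relSubmodule R' (bcTuple R R' x) ≤
    Submodule.span R' (Set.range (bcRel R R' x)) := by
  intro r' hr'
  change IsRel (bcTuple R R' x) r' at hr'
  unfold IsRel bcTuple at hr'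
  let π : (Fin n → R) →ₗ[R] M := Fintype.linearCombination R x
  let K : Submodule R (Fin n → R) := LinearMap.ker π
  have hK : K = relSubmodule R x := (relSubmodule_eq_ker x).symm
  -- the element of `R' ⊗ Rⁿ`
  let t : R' ⊗[R] (Fin n → R) := ∑ i, r' i ⊗ₜ[R] (Pi.single i 1 : Fin n → R)
  have hπ : ∀ i, π (Pi.single i 1) = x i := by
    intro i
    simp [π, Fintype.linearCombination_apply, Pi.single_apply]
  have ht : (LinearMap.lTensor R' π) t = 0 := by
    simp only [t, map_sum, LinearMap.lTensor_tmul, hπ]
    rw [← hr']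
    apply Finset.sum_congr rfl
    intro i _
    rw [TensorProduct.smul_tmul', smul_eq_mul, mul_one]
  have hex : Function.Exact (LinearMap.lTensor R' K.subtype) (LinearMap.lTensor R' π) := by
    apply lTensor_exact R' (LinearMap.exact_subtype_ker_map π)
    rw [← LinearMap.range_eq_top, Fintype.range_linearCombination]
    exact hx
  obtain ⟨u, hu⟩ := (hex t).mp ht
  let ψ := TensorProduct.piScalarRight R R' R' (Fin n)
  have hψt : ψ t = r' := by
    simp only [t, map_sum, ψ, TensorProduct.piScalarRight_apply,
      TensorProduct.piScalarRightHom_tmul]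
    funext j
    simp [Finset.sum_apply, Pi.single_apply]
  rw [← hψt, ← hu]
  clear hu ht hψt
  induction u using TensorProduct.induction_on with
  | zero => simp
  | tmul c k =>
    rw [LinearMap.lTensor_tmul]
    simp only [ψ, TensorProduct.piScalarRight_apply, TensorProduct.piScalarRightHom_tmul]
    have : (fun j => (K.subtype k) j • c) = c • bcRel R R' x ⟨k.1, hK ▸ k.2⟩ := by
      funext j
      simp [bcRel, Algebra.smul_def, mul_comm]
    rw [this]
    exact Submodule.smul_mem _ _ (Submodule.subset_span ⟨_, rfl⟩)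
  | add a b ha hb =>
    rw [map_add, map_add]
    exact Submodule.add_mem _ ha hb

theorem relSubmodule_bcTuple (hx : Submodule.span R (Set.range x) = ⊤) :
    Submodule.span R' (Set.range (bcRel R R' x)) = relSubmodule R' (bcTuple R R' x) :=
  le_antisymm (span_bcRel_le x) (relSubmodule_bcTuple_le x hx)

theorem minorsIdeal_bcRel (s : ℕ) :
    minorsIdeal (bcRel R R' x) s =
      (minorsIdeal (fun k : relSubmodule R x => (k.1 : Fin n → R)) s).map (algebraMap R R') := by
  unfold minorsIdeal
  rw [Ideal.map_span]
  congr 1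
  ext d
  constructor
  · rintro ⟨f, e, rfl⟩
    refine ⟨(Matrix.of fun a b => (f b).1 (e a)).det, ⟨f, e, rfl⟩, ?_⟩
    rw [RingHom.map_det]
    rfl
  · rintro ⟨_, ⟨f, e, rfl⟩, rfl⟩
    refine ⟨f, e, ?_⟩
    rw [RingHom.map_det]
    rfl

/-- base change of Fitting ideals -/
theorem fitt_baseChange [Module.Finite R M] (k : ℕ) :
    Fitt.ideal R' (R' ⊗[R] M) k = (Fitt.ideal R M k).map (algebraMap R R') := by
  obtain ⟨n, x, hx⟩ := Module.Finite.exists_fin (R := R) (M := M)
  rw [fitt_eq_J (bcTuple R R' x) (span_bcTuple x hx) k,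
    J_eq_minorsIdeal _ _ (relSubmodule_bcTuple x hx), fitt_eq_J x hx k,
    J_eq_minorsIdeal x (fun k : relSubmodule R x => (k.1 : Fin n → R)) (by simp),
    minorsIdeal_bcRel]

end baseChange

end Groth.Agent.Lib.Helper75.Fitting
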