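import Groth.Agent.Lib.Helper75.Fitting6
import Mathlib.Algebra.Module.FinitePresentation
import Mathlib.LinearAlgebra.Matrix.Adjugate
import Mathlib.RingTheory.Support

set_option autoImplicit false
universe u v w

namespace Groth.Agent.Lib.Helper75.Fitting

variable {R : Type u} [CommRing R] {M : Type v} [AddCommGroup M] [Module R M]

/-- monotonicity of Fitting ideals along surjections -/
theorem fitt_le_of_surjective {M' : Type w} [AddCommGroup M'] [Module R M']
    (f : M →ₗ[R] M') (hf : Function.Surjective f) (k : ℕ) :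
    Fitt.ideal R M k ≤ Fitt.ideal R M' k := by
  apply Ideal.span_mono
  rintro d ⟨n, x, a, hx, ha, rfl⟩
  refine ⟨n, f ∘ x, a, ?_, ?_, rfl⟩
  · rw [Set.range_comp, ← Submodule.map_span, hx, Submodule.map_top, LinearMap.range_eq_top]
    exact hf
  · intro i hi
    have := congrArg f (ha i hi)
    simpa using this

/-- `Fit_n(M) = R` if `M` has `n` generators -/
theorem fitt_eq_top {n : ℕ} (x : Fin n → M) (hx : Submodule.span R (Set.range x) = ⊤) :
    Fitt.ideal R M n = ⊤ := by
  rw [fitt_eq_H x hx n]
  unfold H
  rw [Nat.sub_self, G_zero]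

theorem relSubmodule_eq_ker {ι : Type*} [Fintype ι] (x : ι → M) :
    relSubmodule R x = LinearMap.ker (Fintype.linearCombination R x) := by
  ext r
  rw [mem_relSubmodule, LinearMap.mem_ker, Fintype.linearCombination_apply]
  rfl

theorem minorsIdeal_fg {n p : ℕ} (B : Fin p → (Fin n → R)) (s : ℕ) : (minorsIdeal B s).FG := by
  unfold minorsIdeal
  apply Submodule.fg_span
  have : {d | ∃ (f : Fin s → Fin p) (e : Fin s → Fin n),
      d = (Matrix.of fun a b => B (f b) (e a)).det} =
      Set.range (fun fe : (Fin s → Fin p) × (Fin s → Fin n) =>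
        (Matrix.of fun a b => B (fe.1 b) (fe.2 a)).det) := by
    ext d
    constructor
    · rintro ⟨f, e, rfl⟩
      exact ⟨(f, e), rfl⟩
    · rintro ⟨⟨f, e⟩, rfl⟩
      exact ⟨f, e, rfl⟩
  rw [this]
  exact Set.finite_range _

/-- Fitting ideals of a finitely presented module are finitely generated -/
theorem fitt_fg [Module.FinitePresentation R M] (k : ℕ) : (Fitt.ideal R M k).FG := by
  obtain ⟨n, x, hx⟩ := Module.Finite.exists_fin (R := R) (M := M)
  have hsurj : Function.Surjective (Fintype.linearCombination R x) := by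
    rw [← LinearMap.range_eq_top, Fintype.range_linearCombination]
    exact hx
  have hker : (relSubmodule R x).FG := by
    rw [relSubmodule_eq_ker]
    exact Module.FinitePresentation.fg_ker _ hsurj
  obtain ⟨p, B, hB⟩ := Submodule.fg_iff_exists_fin_generating_family.mp hker
  rw [fitt_eq_J x hx k, J_eq_minorsIdeal x B hB]
  exact minorsIdeal_fg B _

end Groth.Agent.Lib.Helper75.Fitting
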