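import Mathlib

/-!
# Q1 for helper90's S1940/S1856: length of `(B/J)_q` vs `B_Q/JB_Q`
-/

set_option autoImplicit false
universe u

namespace Groth.Agent.Lib.Helper75.Cyc1940Q1

theorem length_self_of_ringEquiv {R S : Type*} [CommRing R] [CommRing S] (e : R ≃+* S) :
    Module.length R R = Module.length S S := by
  let := e.toRingHom.toAlgebra
  have h1 : Module.length R S = Module.length S S :=
    Module.length_eq_of_surjective e.surjective
  rw [← h1]
  refine LinearEquiv.length_eq
    ({ e with map_smul' := fun r x => ?_ } : R ≃ₗ[R] S)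
  change e (r * x) = e r * e x
  exact map_mul e r x

theorem primeCompl_eq {B : Type u} [CommRing B] (J : Ideal B) (q : Ideal (B ⧸ J)) [q.IsPrime] :
    Algebra.algebraMapSubmonoid (B ⧸ J) (q.comap (Ideal.Quotient.mk J)).primeCompl =
      q.primeCompl := by
  ext x
  constructor
  · rintro ⟨b, hb, rfl⟩
    exact hb
  · intro hx
    obtain ⟨b, rfl⟩ := Ideal.Quotient.mk_surjective x
    exact ⟨b, hx, rfl⟩

theorem length_localization_quotient {B : Type u} [CommRing B] (J : Ideal B) (q : Ideal (B ⧸ J)) [q.IsPrime] : Module.length (Localization.AtPrime q) (Localization.AtPrime q) = Module.length (Localization.AtPrime (q.comap (Ideal.Quotient.mk J))) (Localization.AtPrime (q.comap (Ideal.Quotient.mk J)) ⧸ J.map (algebraMap B (Localization.AtPrime (q.comap (Ideal.Quotient.mk J))))) := by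
  have h0 : IsLocalization
      (Algebra.algebraMapSubmonoid (B ⧸ J) (q.comap (Ideal.Quotient.mk J)).primeCompl)
      (Localization.AtPrime (q.comap (Ideal.Quotient.mk J)) ⧸
        J.map (algebraMap B (Localization.AtPrime (q.comap (Ideal.Quotient.mk J))))) :=
    inferInstance
  rw [primeCompl_eq] at h0
  have : IsLocalization.AtPrime (Localization.AtPrime (q.comap (Ideal.Quotient.mk J)) ⧸
        J.map (algebraMap B (Localization.AtPrime (q.comap (Ideal.Quotient.mk J))))) q := h0
  let e := IsLocalization.algEquiv q.primeCompl (Localization.AtPrime q)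
    (Localization.AtPrime (q.comap (Ideal.Quotient.mk J)) ⧸
        J.map (algebraMap B (Localization.AtPrime (q.comap (Ideal.Quotient.mk J)))))
  rw [length_self_of_ringEquiv e.toRingEquiv]
  exact (Module.length_eq_of_surjective Ideal.Quotient.mk_surjective).symm

end Groth.Agent.Lib.Helper75.Cyc1940Q1
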