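import Groth.Prelude.Def_SGA3b
import Mathlib

/- helper75: group-like elements of group algebras over arbitrary commutative rings
   (coefficients are orthogonal idempotents), annihilator of `x - 1`, linear independence of
   group-likes with regular differences (towards S2983). -/

set_option autoImplicit false
universe u
open TensorProduct Coalgebra

namespace Groth.Agent.Lib.Helper75.DiagConn

section GrpLike

variable {S : Type u} [CommRing S] {M : Type u}

/-- coefficient functional on a monoid algebra -/
noncomputable def cf (m : M) : MonoidAlgebra S M →ₗ[S] S :=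
  (Finsupp.lapply m) ∘ₗ (MonoidAlgebra.coeffLinearEquiv S).toLinearMap

theorem cf_apply (m : M) (x : MonoidAlgebra S M) : cf m x = x.coeff m := rfl

/-- the bilinear coefficient extraction on the tensor square -/
noncomputable def cf2 (m n : M) : MonoidAlgebra S M ⊗[S] MonoidAlgebra S M →ₗ[S] S :=
  (LinearMap.mul' S S) ∘ₗ (TensorProduct.map (cf m) (cf n))

open Classical in
theorem cf2_comul (m n : M) (x : MonoidAlgebra S M) :
    cf2 m n (Coalgebra.comul x) = if m = n then x.coeff m else 0 := by
  induction x using MonoidAlgebra.induction_linear with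
  | zero => simp
  | add f g hf hg =>
    rw [map_add, map_add, hf, hg]
    split_ifs <;> simp
  | single g r =>
    simp only [cf2, LinearMap.comp_apply, MonoidAlgebra.comul_single, CommSemiring.comul_apply,
      TensorProduct.map_tmul, LinearMap.mul'_apply, cf_apply, MonoidAlgebra.lsingle_apply,
      MonoidAlgebra.coeff_single]
    by_cases hgm : g = m
    · subst hgm
      by_cases hgn : g = n
      · subst hgn; simp
      · rw [if_neg hgn, Finsupp.single_eq_of_ne' hgn, mul_zero]
    · rw [Finsupp.single_eq_of_ne' hgm, zero_mul, Finsupp.single_eq_of_ne' hgm]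
      split_ifs <;> rfl

theorem cf2_tmul (m n : M) (x y : MonoidAlgebra S M) :
    cf2 m n (x ⊗ₜ y) = x.coeff m * y.coeff n := by
  simp [cf2, cf_apply]

open Classical in
/-- the coefficients of a group-like element are orthogonal idempotents -/
theorem coeff_mul_coeff {x : MonoidAlgebra S M} (hx : IsGroupLikeElem S x) (m n : M) :
    x.coeff m * x.coeff n = if m = n then x.coeff m else 0 := by
  rw [← cf2_tmul, ← hx.comul_eq_tmul_self, cf2_comul]

theorem coeff_mul_self {x : MonoidAlgebra S M} (hx : IsGroupLikeElem S x) (m : M) :
    x.coeff m * x.coeff m = x.coeff m := by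
  classical
  rw [coeff_mul_coeff hx, if_pos rfl]

theorem coeff_mul_of_ne {x : MonoidAlgebra S M} (hx : IsGroupLikeElem S x) {m n : M}
    (h : m ≠ n) : x.coeff m * x.coeff n = 0 := by
  classical
  rw [coeff_mul_coeff hx, if_neg h]

theorem sum_coeff {x : MonoidAlgebra S M} (hx : IsGroupLikeElem S x) :
    x.coeff.sum (fun _ r => r) = 1 := by
  have h := hx.counit_eq_one
  conv_lhs at h => rw [← MonoidAlgebra.sum_coeff_single x]
  rw [Finsupp.sum, map_sum] at h
  simpa [Finsupp.sum] using h

end GrpLike

section DiagCase

variable {S : Type u} [CommRing S] {M : Type u} [CommGroup M]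

/-- annihilator of `x - 1` for a group-like element of a group algebra -/
theorem smul_sub_one_eq_zero_iff {x : MonoidAlgebra S M} (hx : IsGroupLikeElem S x) (r : S) :
    r • (x - 1) = 0 ↔ r ∈ Ideal.span {x.coeff 1} := by
  classical
  have h1 : ∀ m : M, ((1 : MonoidAlgebra S M)).coeff m = if (1 : M) = m then 1 else 0 := by
    intro m
    rw [MonoidAlgebra.one_def, MonoidAlgebra.coeff_single, Finsupp.single_apply]
  constructor
  · intro h
    have h2 := congrArg (fun z : MonoidAlgebra S M => z.coeff 1) h
    simp only [MonoidAlgebra.coeff_smul_apply, MonoidAlgebra.coeff_sub, Finsupp.sub_apply, h1,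
      smul_eq_mul, MonoidAlgebra.coeff_zero, Finsupp.zero_apply, if_true] at h2
    rw [Ideal.mem_span_singleton']
    exact ⟨r, by linear_combination h2⟩
  · intro h
    obtain ⟨t, rfl⟩ := Ideal.mem_span_singleton'.mp h
    apply MonoidAlgebra.coeff_injective
    ext m
    simp only [MonoidAlgebra.coeff_smul_apply, MonoidAlgebra.coeff_sub, Finsupp.sub_apply, h1,
      smul_eq_mul, MonoidAlgebra.coeff_zero, Finsupp.zero_apply]
    by_cases hm : (1 : M) = m
    · subst hm
      rw [if_pos rfl]
      have := coeff_mul_self hx 1
      linear_combination t * this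
    · rw [if_neg hm, sub_zero]
      have := coeff_mul_of_ne hx hm
      linear_combination t * this

/-- group-likes of a group algebra with pairwise regular differences are linearly independent -/
theorem linearIndependent_of_regular_sub {ι : Type u} (x : ι → MonoidAlgebra S M)
    (hx : ∀ i, IsGroupLikeElem S (x i))
    (hreg : ∀ i j, i ≠ j → ∀ r : S, r • (x i - x j) = 0 → r = 0) :
    LinearIndependent S x := by
  classical
  have horth : ∀ i j, i ≠ j → ∀ m : M, (x i).coeff m * (x j).coeff m = 0 := by
    intro i j hij m
    apply hreg i j hij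
    apply MonoidAlgebra.coeff_injective
    ext n
    simp only [MonoidAlgebra.coeff_smul_apply, MonoidAlgebra.coeff_sub, Finsupp.sub_apply,
      smul_eq_mul, MonoidAlgebra.coeff_zero, Finsupp.zero_apply]
    by_cases hmn : m = n
    · subst hmn
      have h1 := coeff_mul_self (hx i) m
      have h2 := coeff_mul_self (hx j) m
      linear_combination (x j).coeff m * h1 - (x i).coeff m * h2
    · have h1 := coeff_mul_of_ne (hx i) hmn
      have h2 := coeff_mul_of_ne (hx j) hmn
      linear_combination (x j).coeff m * h1 - (x i).coeff m * h2
  rw [linearIndependent_iff']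
  intro s c hc j hj
  have hm : ∀ m : M, c j * (x j).coeff m = 0 := by
    intro m
    have h1 := congrArg (fun z : MonoidAlgebra S M => z.coeff m) hc
    simp only [MonoidAlgebra.coeff_sum, Finsupp.coe_finsetSum, Finset.sum_apply,
      MonoidAlgebra.coeff_smul_apply, smul_eq_mul, MonoidAlgebra.coeff_zero,
      Finsupp.zero_apply] at h1
    have h2 : (∑ i ∈ s, c i * (x i).coeff m) * (x j).coeff m = c j * (x j).coeff m := by
      rw [Finset.sum_mul, Finset.sum_eq_single j]
      · rw [mul_assoc, coeff_mul_self (hx j)]
      · intro i _ hij
        rw [mul_assoc, horth i j hij, mul_zero]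
      · intro h; exact absurd hj h
    rw [← h2, h1, zero_mul]
  have hsum := sum_coeff (hx j)
  have : c j = c j * (x j).coeff.sum (fun _ r => r) := by rw [hsum, mul_one]
  rw [this, Finsupp.sum, Finset.mul_sum]
  exact Finset.sum_eq_zero fun m _ => hm m

end DiagCase

end Groth.Agent.Lib.Helper75.DiagConn
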