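import Groth.Agent.Lib.Helper75.DiagConn1

/- helper75: annihilators of elements commute with flat base change; descent (faithfully flat and
   Zariski) of `the annihilator is generated by an idempotent` (towards S2983). -/

set_option autoImplicit false
universe u
open TensorProduct Coalgebra

namespace Groth.Agent.Lib.Helper75.DiagConn

section Flat

variable {R : Type u} [CommRing R] (S : Type u) [CommRing S] [Algebra R S]
  {N : Type u} [AddCommGroup N] [Module R N]

/-- the annihilator ideal of an element -/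
noncomputable def ann (b : N) : Ideal R := LinearMap.ker (LinearMap.toSpanSingleton R N b)

theorem mem_ann (b : N) (r : R) : r ∈ ann b ↔ r • b = 0 := by
  rw [ann, LinearMap.mem_ker, LinearMap.toSpanSingleton_apply]

theorem rid_lTensor_mem (I : Ideal R) (t : S ⊗[R] I) :
    TensorProduct.rid R S (LinearMap.lTensor S (Submodule.subtype I) t) ∈
      Ideal.map (algebraMap R S) I := by
  induction t using TensorProduct.induction_on with
  | zero => simp
  | tmul s i =>
    rw [LinearMap.lTensor_tmul, TensorProduct.rid_tmul, Submodule.subtype_apply, Algebra.smul_def]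
    exact Ideal.mul_mem_right _ _ (Ideal.mem_map_of_mem _ i.2)
  | add a b ha hb =>
    rw [map_add, map_add]
    exact Ideal.add_mem _ ha hb

theorem smul_tmul_eq_zero_of_mem (b : N) (s : S)
    (hs : s ∈ Ideal.map (algebraMap R S) (ann b)) : s • ((1 : S) ⊗ₜ[R] b) = 0 := by
  refine Submodule.span_induction (p := fun s _ => s • ((1 : S) ⊗ₜ[R] b) = 0) ?_ ?_ ?_ ?_ hs
  · rintro _ ⟨i, hi, rfl⟩
    rw [TensorProduct.smul_tmul', smul_eq_mul, mul_one, Algebra.algebraMap_eq_smul_one,
      TensorProduct.smul_tmul, (mem_ann b i).mp hi, TensorProduct.tmul_zero]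
  · simp
  · intro x y _ _ hx hy
    rw [add_smul, hx, hy, add_zero]
  · intro a x _ hx
    rw [smul_eq_mul, mul_smul, hx, smul_zero]

variable [Module.Flat R S]

/-- annihilators of elements commute with flat base change -/
theorem mem_map_ann_of_tmul_eq_zero (b : N) (s : S) (h : s ⊗ₜ[R] b = 0) :
    s ∈ Ideal.map (algebraMap R S) (ann b) := by
  have hex : Function.Exact (Submodule.subtype (ann b)) (LinearMap.toSpanSingleton R N b) :=
    LinearMap.exact_subtype_ker_map _
  have hex' := Module.Flat.lTensor_exact S hex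
  have h1 : LinearMap.lTensor S (LinearMap.toSpanSingleton R N b) (s ⊗ₜ[R] (1 : R)) = 0 := by
    rw [LinearMap.lTensor_tmul, LinearMap.toSpanSingleton_apply, one_smul, h]
  obtain ⟨t, ht⟩ := (hex' _).mp h1
  have h2 := rid_lTensor_mem S (ann b) t
  rw [ht, TensorProduct.rid_tmul, one_smul] at h2
  exact h2

theorem smul_one_tmul_eq_zero_iff (b : N) (s : S) :
    s • ((1 : S) ⊗ₜ[R] b) = 0 ↔ s ∈ Ideal.map (algebraMap R S) (ann b) := by
  constructor
  · intro h
    apply mem_map_ann_of_tmul_eq_zero
    rwa [TensorProduct.smul_tmul', smul_eq_mul, mul_one] at h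
  · exact smul_tmul_eq_zero_of_mem S b s

end Flat

section IdemDescent

variable {R : Type u} [CommRing R] {N : Type u} [AddCommGroup N] [Module R N]

/-- the annihilator of `b` is generated by an idempotent -/
def AnnIdemElem (R : Type u) [CommRing R] {N : Type u} [AddCommGroup N] [Module R N] (b : N) :
    Prop :=
  ∃ e : R, IsIdempotentElem e ∧ ann b = Ideal.span {e}

theorem annIdemElem_of_fg_of_idem (b : N) (h1 : (ann (R := R) b).FG)
    (h2 : IsIdempotentElem (ann (R := R) b)) : AnnIdemElem R b := by
  obtain ⟨e, he, h⟩ := (Ideal.isIdempotentElem_iff_of_fg _ h1).mp h2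
  exact ⟨e, he, h⟩

theorem annIdemElem_of_faithfullyFlat (S : Type u) [CommRing S] [Algebra R S]
    [Module.FaithfullyFlat R S] (b : N) (h : AnnIdemElem S ((1 : S) ⊗ₜ[R] b)) :
    AnnIdemElem R b := by
  obtain ⟨ε, hε, hann⟩ := h
  have hmap : Ideal.map (algebraMap R S) (ann b) = Ideal.span {ε} := by
    rw [← hann]
    ext s
    rw [mem_ann, smul_one_tmul_eq_zero_iff]
  apply annIdemElem_of_fg_of_idem
  · apply Ideal.FG.of_FG_map_of_faithfullyFlat (S := S)
    rw [hmap]
    exact ⟨{ε}, by simp⟩
  · have h1 : Ideal.map (algebraMap R S) (ann b * ann b) = Ideal.map (algebraMap R S) (ann b) := by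
      rw [Ideal.map_mul, hmap, Ideal.span_singleton_mul_span_singleton, hε.eq]
    have h2 := congrArg (Ideal.comap (algebraMap R S)) h1
    rw [Ideal.comap_map_eq_self_of_faithfullyFlat, Ideal.comap_map_eq_self_of_faithfullyFlat] at h2
    exact h2

theorem annIdemElem_of_localized_span (s : Set R) (hs : Ideal.span s = ⊤) (b : N)
    (h : ∀ f : s, AnnIdemElem (Localization.Away f.1)
      ((1 : Localization.Away f.1) ⊗ₜ[R] b)) : AnnIdemElem R b := by
  have hmap : ∀ f : s, ∃ ε : Localization.Away f.1, IsIdempotentElem ε ∧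
      Ideal.map (algebraMap R (Localization.Away f.1)) (ann b) = Ideal.span {ε} := by
    intro f
    obtain ⟨ε, hε, hann⟩ := h f
    refine ⟨ε, hε, ?_⟩
    rw [← hann]
    ext x
    rw [mem_ann, smul_one_tmul_eq_zero_iff]
  apply annIdemElem_of_fg_of_idem
  · apply Ideal.fg_of_localizationSpan s hs
    intro f
    obtain ⟨ε, _, hm⟩ := hmap f
    rw [hm]
    exact ⟨{ε}, by simp⟩
  · change ann b * ann b = ann b
    apply le_antisymm Ideal.mul_le_right
    intro x hx
    apply Submodule.mem_of_span_eq_top_of_smul_pow_mem _ s hs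
    intro f
    obtain ⟨ε, hε, hm⟩ := hmap f
    have h1 : algebraMap R (Localization.Away f.1) x ∈
        Ideal.map (algebraMap R (Localization.Away f.1)) (ann b * ann b) := by
      rw [Ideal.map_mul, hm, Ideal.span_singleton_mul_span_singleton, hε.eq, ← hm]
      exact Ideal.mem_map_of_mem _ hx
    obtain ⟨⟨⟨y, hy⟩, ⟨fn, n, hn⟩⟩, hxy⟩ :=
      (IsLocalization.mem_map_algebraMap_iff (Submonoid.powers f.1) _).mp h1
    simp only at hxy hn
    subst hn
    rw [← map_mul] at hxy
    obtain ⟨⟨fk, k, hk'⟩, hk⟩ := (IsLocalization.eq_iff_exists (Submonoid.powers f.1) _).mp hxy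
    simp only at hk hk'
    subst hk'
    refine ⟨k + n, ?_⟩
    have h3 : f.1 ^ (k + n) • x = f.1 ^ k * y := by
      rw [smul_eq_mul, pow_add, ← hk]; ring
    rw [h3]
    exact Ideal.mul_mem_left _ _ hy

end IdemDescent

end Groth.Agent.Lib.Helper75.DiagConn
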