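import Groth.Agent.Lib.Helper75.Fitting5

set_option autoImplicit false
universe u v

namespace Groth.Agent.Lib.Helper75.Fitting

variable {R : Type u} [CommRing R] {M : Type v} [AddCommGroup M] [Module R M]

section multilinear
variable {ι : Type*} [Fintype ι] [DecidableEq ι]

theorem det_mem_of_rows_mem_span_aux (I : Ideal R) (T : ι → Set (ι → R))
    (h : ∀ b : Matrix ι ι R, (∀ i, b i ∈ T i) → b.det ∈ I) (S : Finset ι) :
    ∀ a : Matrix ι ι R, (∀ i ∈ S, a i ∈ Submodule.span R (T i)) → (∀ i ∉ S, a i ∈ T i) →
      a.det ∈ I := by
  induction S using Finset.induction_on with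
  | empty =>
    intro a _ ha
    exact h a (fun i => ha i (Finset.notMem_empty i))
  | insert i₀ S hi₀ ih =>
    intro a ha1 ha2
    have key : ∀ v ∈ Submodule.span R (T i₀), (a.updateRow i₀ v).det ∈ I := by
      intro v hv
      induction hv using Submodule.span_induction with
      | mem v hv =>
        apply ih
        · intro i hi
          have hne : i ≠ i₀ := fun h => hi₀ (h ▸ hi)
          rw [Matrix.updateRow_ne hne]
          exact ha1 i (Finset.mem_insert_of_mem hi)
        · intro i hi
          by_cases hii : i = i₀
          · subst hii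
            rw [Matrix.updateRow_self]
            exact hv
          · rw [Matrix.updateRow_ne hii]
            exact ha2 i (by simp [hii, hi])
      | zero =>
        have : (a.updateRow i₀ (0 : ι → R)).det = 0 :=
          Matrix.det_eq_zero_of_row_eq_zero i₀ (fun j => by simp)
        rw [this]
        exact I.zero_mem
      | add v w _ _ hv hw =>
        rw [Matrix.det_updateRow_add]
        exact I.add_mem hv hw
      | smul c v _ hv =>
        rw [Matrix.det_updateRow_smul]
        exact I.mul_mem_left c hv
    have := key (a i₀) (ha1 i₀ (Finset.mem_insert_self i₀ S))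
    rwa [Matrix.updateRow_eq_self] at this

/-- multilinearity: to show `det a ∈ I` when the rows lie in spans, check spanning rows -/
theorem det_mem_of_rows_mem_span (I : Ideal R) (T : ι → Set (ι → R))
    (h : ∀ b : Matrix ι ι R, (∀ i, b i ∈ T i) → b.det ∈ I) (a : Matrix ι ι R)
    (ha : ∀ i, a i ∈ Submodule.span R (T i)) : a.det ∈ I :=
  det_mem_of_rows_mem_span_aux I T h Finset.univ a (fun i _ => ha i)
    (fun i hi => absurd (Finset.mem_univ i) hi)

end multilinear

section presentation
variable {n : ℕ} (x : Fin n → M)

/-- the submodule of relations -/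
def relSubmodule (R : Type u) [CommRing R] {M : Type v} [AddCommGroup M] [Module R M]
    {ι : Type*} [Fintype ι] (x : ι → M) : Submodule R (ι → R) where
  carrier := {r | IsRel x r}
  add_mem' h h' := IsRel.add x h h'
  zero_mem' := isRel_zero x
  smul_mem' c _ h := IsRel.smul x c h

theorem mem_relSubmodule {ι : Type*} [Fintype ι] (x : ι → M) (r : ι → R) :
    r ∈ relSubmodule R x ↔ IsRel x r := Iff.rfl

/-- the minors ideal of a family `B` of row vectors -/
def minorsIdeal {P : Type*} (B : P → (Fin n → R)) (s : ℕ) : Ideal R :=
  Ideal.span {d | ∃ (f : Fin s → P) (e : Fin s → Fin n),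
    d = (Matrix.of fun a b => B (f b) (e a)).det}

/-- Fitting ideals from a spanning family of relations (a presentation) -/
theorem J_eq_minorsIdeal {P : Type*} (B : P → (Fin n → R))
    (hB : Submodule.span R (Set.range B) = relSubmodule R x) (s : ℕ) :
    J R x s = minorsIdeal B s := by
  apply le_antisymm
  · apply Ideal.span_le.mpr
    rintro d ⟨z, e, hz, rfl⟩
    rw [← Matrix.det_transpose]
    apply det_mem_of_rows_mem_span (minorsIdeal B s)
      (fun _ => {v : Fin s → R | ∃ p : P, v = fun a => B p (e a)})
    · intro b hb
      choose f hf using hb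
      apply Ideal.subset_span
      refine ⟨f, e, ?_⟩
      rw [← Matrix.det_transpose]
      congr 1
      ext i j
      simp [hf j]
    · intro i
      have hzi : z i ∈ Submodule.span R (Set.range B) := by
        rw [hB]
        exact hz i
      -- push through the linear map `v ↦ v ∘ e`
      let L : (Fin n → R) →ₗ[R] (Fin s → R) := LinearMap.funLeft R R e
      have h1 : L (z i) ∈ Submodule.map L (Submodule.span R (Set.range B)) :=
        Submodule.mem_map_of_mem hzi
      rw [Submodule.map_span] at h1
      refine Submodule.span_mono ?_ h1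
      rintro _ ⟨_, ⟨p, rfl⟩, rfl⟩
      exact ⟨p, rfl⟩
  · apply Ideal.span_le.mpr
    rintro d ⟨f, e, rfl⟩
    apply Ideal.subset_span
    refine ⟨fun b => B (f b), e, fun j => ?_, rfl⟩
    have : B (f j) ∈ relSubmodule R x := by
      rw [← hB]
      exact Submodule.subset_span ⟨f j, rfl⟩
    exact this

end presentation

end Groth.Agent.Lib.Helper75.Fitting
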