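import Mathlib.FieldTheory.Finite.Basic
import Mathlib.Algebra.CharP.Lemmas
import Mathlib.Data.ZMod.Basic

/- helper75: Frobenius-type identities in a commutative ring with `p = 0` (no `CharP` instance needed),
and the cast `c : ZMod p → R`. -/

set_option autoImplicit false

namespace Groth.Agent.Lib.Helper75.ASRing

variable (p : ℕ) [hpp : Fact p.Prime] {R : Type*} [CommRing R] (hp : (p : R) = 0)

include hpp hp in
theorem add_pow_p (a b : R) : (a + b) ^ p = a ^ p + b ^ p := by
  obtain ⟨r, hr⟩ := exists_add_pow_prime_eq hpp.out a b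
  rw [hr, hp]
  ring

include hpp hp in
theorem neg_pow_p (a : R) : (-a) ^ p = -(a ^ p) := by
  have h := add_pow_p p hp a (-a)
  rw [add_neg_cancel, zero_pow hpp.out.ne_zero] at h
  exact eq_neg_of_add_eq_zero_right h.symm

include hpp hp in
theorem sub_pow_p (a b : R) : (a - b) ^ p = a ^ p - b ^ p := by
  rw [sub_eq_add_neg, add_pow_p p hp, neg_pow_p p hp, ← sub_eq_add_neg]

include hpp hp in
theorem natCast_pow_p (k : ℕ) : ((k : R)) ^ p = k := by
  induction k with
  | zero => simp [zero_pow hpp.out.ne_zero]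
  | succ k ih => rw [Nat.cast_succ, add_pow_p p hp, ih, one_pow]

/-- the "cast" of an element of `ZMod p` to a ring in which `p = 0`. -/
def c (n : ZMod p) : R := (n.val : R)

include hpp hp in
theorem c_pow (n : ZMod p) : (c p n : R) ^ p = c p n := natCast_pow_p p hp _

theorem c_zero : (c p (0 : ZMod p) : R) = 0 := by
  simp [c]

omit hpp in
include hp in
theorem cast_eq_of_modEq {a b : ℕ} (h : a ≡ b [MOD p]) : (a : R) = b := by
  obtain ⟨k, hk⟩ := (Nat.modEq_iff_dvd).mp h
  have h1 := congrArg (fun z : ℤ => (z : R)) hk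
  simp only [Int.cast_sub, Int.cast_natCast, Int.cast_mul, hp, zero_mul] at h1
  exact (sub_eq_zero.mp h1).symm

include hp in
theorem c_add (x y : ZMod p) : (c p (x + y) : R) = c p x + c p y := by
  unfold c
  rw [← Nat.cast_add]
  apply cast_eq_of_modEq p hp
  rw [ZMod.val_add]
  exact Nat.mod_modEq _ _

include hp in
theorem c_mul (x y : ZMod p) : (c p (x * y) : R) = c p x * c p y := by
  unfold c
  rw [← Nat.cast_mul]
  apply cast_eq_of_modEq p hp
  rw [ZMod.val_mul]
  exact Nat.mod_modEq _ _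

include hpp in
theorem c_one : (c p (1 : ZMod p) : R) = 1 := by
  have : Fact (1 < p) := ⟨hpp.out.one_lt⟩
  simp [c, ZMod.val_one]

include hpp hp in
theorem isUnit_c_sub {n m : ZMod p} (h : n ≠ m) : IsUnit ((c p n : R) - c p m) := by
  have hd : n - m ≠ 0 := sub_ne_zero.mpr h
  have e1 : (c p n : R) - c p m = c p (n - m) := by
    have := c_add p hp (n - m) m
    rw [sub_add_cancel] at this
    rw [this, add_sub_cancel_right]
  rw [e1]
  refine IsUnit.of_mul_eq_one (c p (n - m)⁻¹) ?_
  rw [← c_mul p hp, mul_inv_cancel₀ hd, c_one]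

theorem exists_c_of_pow_eq {K : Type*} [Field K] (hK : (p : K) = 0) (b : K) (hb : b ^ p = b) :
    ∃ n : ZMod p, b = c p n := by
  have : CharP K p := (CharP.charP_iff_prime_eq_zero hpp.out).mpr hK
  have h1 : b ∈ (⊥ : Subfield K) := (Subfield.mem_bot_iff_pow_eq_self K p).mpr hb
  obtain ⟨z, hz⟩ := (mem_bot_iff_intCast p K).mp h1
  refine ⟨(z : ZMod p), ?_⟩
  rw [← hz, c, ZMod.natCast_val, ZMod.cast_intCast (dvd_refl p)]

end Groth.Agent.Lib.Helper75.ASRing
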