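import Groth.Agent.Lib.Helper75.FlatCx21
import Mathlib

/- helper75: algebra for global sections of flat schemes over Artin local rings (S11468). -/

set_option autoImplicit false
universe u

namespace Groth.Agent.Lib.Helper75.ArtGlob
open TensorProduct IsLocalRing Groth.Agent.Lib.Helper75.FlatCx

section Alg
variable {C : Type u} [CommRing C] [IsLocalRing C] {B : Type u} [AddCommGroup B] [Module C B]
  [Module.Flat C B]

theorem mem_smul_top_of_smul_mem (I' : Ideal C) (e : C)
    (he : ∀ m ∈ maximalIdeal C, m * e ∈ I') (he' : e ∉ I')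
    (b : B) (hb : e • b ∈ I' • (⊤ : Submodule C B)) :
    b ∈ maximalIdeal C • (⊤ : Submodule C B) := by
  let μ₀ : C →ₗ[C] C ⧸ I' := (Submodule.mkQ I') ∘ₗ (LinearMap.toSpanSingleton C C e)
  have hμ₀ : ∀ x, μ₀ x = Ideal.Quotient.mk I' (x * e) := fun x => rfl
  have hle : (maximalIdeal C : Submodule C C) ≤ LinearMap.ker μ₀ := by
    intro m hm
    rw [LinearMap.mem_ker, hμ₀]
    exact Ideal.Quotient.eq_zero_iff_mem.mpr (he m hm)
  let μ : (C ⧸ maximalIdeal C) →ₗ[C] C ⧸ I' := Submodule.liftQ _ μ₀ hle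
  have hinj : Function.Injective μ := by
    rw [← LinearMap.ker_eq_bot]
    apply Submodule.ker_liftQ_eq_bot
    intro x hx
    rw [LinearMap.mem_ker, hμ₀] at hx
    have hx' : x * e ∈ I' := Ideal.Quotient.eq_zero_iff_mem.mp hx
    by_contra hxm
    have hu : IsUnit x := IsLocalRing.notMem_maximalIdeal.mp hxm
    exact he' ((Ideal.unit_mul_mem_iff_mem I' hu).mp hx')
  have hflat : Function.Injective (μ.lTensor B) :=
    Module.Flat.lTensor_preserves_injective_linearMap μ hinj
  rw [← tmul_one_eq_zero_iff]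
  apply hflat
  rw [map_zero, LinearMap.lTensor_tmul]
  have : μ (1 : C ⧸ maximalIdeal C) = e • (1 : C ⧸ I') := by
    change μ₀ 1 = _
    rw [hμ₀, one_mul, Algebra.smul_def, mul_one]; rfl
  rw [this, ← TensorProduct.smul_tmul, tmul_one_eq_zero_iff]
  exact hb

end Alg

section Socle
variable {C : Type u} [CommRing C] [IsLocalRing C] [IsArtinianRing C]

theorem exists_socle_mem (K : Ideal C) (hK : K ≠ ⊥) :
    ∃ e ∈ K, e ≠ 0 ∧ ∀ m ∈ maximalIdeal C, m * e = 0 := by
  classical
  have hnil : IsNilpotent (maximalIdeal C) := by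
    rw [← IsLocalRing.jacobson_eq_maximalIdeal (⊥ : Ideal C) bot_ne_top]
    exact IsArtinianRing.isNilpotent_jacobson_bot
  obtain ⟨N, hN⟩ := hnil
  have hex : ∃ n, maximalIdeal C ^ n * K = ⊥ := ⟨N, by rw [hN]; simp⟩
  have h0 : Nat.find hex ≠ 0 := by
    intro h
    have := Nat.find_spec hex
    rw [h, pow_zero, one_mul] at this
    exact hK this
  obtain ⟨n, hn⟩ := Nat.exists_eq_succ_of_ne_zero h0
  have hne : maximalIdeal C ^ n * K ≠ ⊥ := Nat.find_min hex (by omega)
  have hz : maximalIdeal C * (maximalIdeal C ^ n * K) = ⊥ := by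
    rw [← mul_assoc, ← pow_succ', ← Nat.succ_eq_add_one, ← hn]; exact Nat.find_spec hex
  obtain ⟨e, he, he0⟩ := Submodule.exists_mem_ne_zero_of_ne_bot hne
  refine ⟨e, Ideal.mul_le_right he, he0, fun m hm => ?_⟩
  have : m * e ∈ maximalIdeal C * (maximalIdeal C ^ n * K) := Ideal.mul_mem_mul hm he
  rw [hz] at this
  exact this

/-- a nonzero ideal has a maximal proper subideal with simple quotient -/
theorem exists_max_sub (I : Ideal C) (hI : I ≠ ⊥) :
    ∃ (I' : Ideal C) (e : C), I' < I ∧ e ∉ I' ∧ I = I' ⊔ Ideal.span {e} ∧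
      ∀ m ∈ maximalIdeal C, m * e ∈ I' := by
  classical
  have hne : {J : Ideal C | J < I}.Nonempty := ⟨⊥, bot_lt_iff_ne_bot.mpr hI⟩
  obtain ⟨I', hI'lt, hmax⟩ := (IsNoetherian.wf (inferInstance : IsNoetherian C C)).has_min {J : Ideal C | J < I} hne
  replace hI'lt : I' < I := hI'lt
  obtain ⟨e, heI, heI'⟩ := SetLike.exists_of_lt hI'lt
  have hsup : ∀ J : Ideal C, I' < J → J ≤ I → J = I := by
    intro J h1 h2
    by_contra hJ
    exact hmax J (lt_of_le_of_ne h2 hJ) h1
  refine ⟨I', e, hI'lt, heI', ?_, ?_⟩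
  · symm
    apply hsup
    · apply lt_of_le_of_ne le_sup_left
      intro h
      apply heI'
      rw [h]
      exact Ideal.mem_sup_right (Ideal.subset_span rfl)
    · exact sup_le hI'lt.le ((Ideal.span_singleton_le_iff_mem I).mpr heI)
  · intro m hm
    by_contra hme
    have h1 : I' ⊔ Ideal.span {m * e} = I := by
      apply hsup
      · apply lt_of_le_of_ne le_sup_left
        intro h
        apply hme
        rw [h]
        exact Ideal.mem_sup_right (Ideal.subset_span rfl)
      · exact sup_le hI'lt.le ((Ideal.span_singleton_le_iff_mem I).mpr (I.mul_mem_left m heI))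
    have h2 : e ∈ I' ⊔ Ideal.span {m * e} := h1 ▸ heI
    rw [Submodule.mem_sup] at h2
    obtain ⟨a, ha, b, hb, hab⟩ := h2
    rw [Ideal.mem_span_singleton'] at hb
    obtain ⟨c, rfl⟩ := hb
    have h3 : (1 - c * m) * e = a := by linear_combination (-1 : C) * hab
    have hu : IsUnit (1 - c * m) := by
      have : c * m ∈ maximalIdeal C := Ideal.mul_mem_left _ c hm
      have := IsLocalRing.isUnit_one_sub_self_of_mem_nonunits (c * m) this
      exact this
    exact heI' ((Ideal.unit_mul_mem_iff_mem I' hu).mp (h3 ▸ ha))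

end Socle

end Groth.Agent.Lib.Helper75.ArtGlob
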