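import Groth.Agent.Lib.Helper75.ArtGlob1
import Mathlib

/- helper75: fibre of a scheme over Spec C along C -> C/I: kernel of sections on affine opens (S11468). -/

set_option autoImplicit false
universe u

namespace Groth.Agent.Lib.Helper75.ArtGlob
open AlgebraicGeometry CategoryTheory TopologicalSpace Opposite

section Sch
variable (C : Type u) [CommRing C] {X X₀ : Scheme.{u}} (g : X ⟶ Spec (CommRingCat.of C))
  (i : X₀ ⟶ X) (I : Ideal C) (f₀ : X₀ ⟶ Spec (CommRingCat.of (C ⧸ I)))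

/-- the structure map on global sections -/
noncomputable def gΓ : C →+* Γ(X, ⊤) :=
  ((Scheme.ΓSpecIso (CommRingCat.of C)).inv ≫ g.appTop).hom

/-- the structure map to sections on an open -/
noncomputable def ψ (U : X.Opens) : C →+* Γ(X, U) :=
  (X.presheaf.map (homOfLE (le_top : U ≤ ⊤)).op).hom.comp (gΓ C g)

theorem ψ_apply (U : X.Opens) (c : C) :
    ψ C g U c = X.presheaf.map (homOfLE (le_top : U ≤ ⊤)).op (gΓ C g c) := rfl

theorem map_ψ {U V : X.Opens} (h : V ≤ U) (c : C) :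
    X.presheaf.map (homOfLE h).op (ψ C g U c) = ψ C g V c := by
  rw [ψ_apply, ψ_apply, ← ConcreteCategory.comp_apply, ← Functor.map_comp]
  rfl

variable {C g i I f₀}

theorem appTop_gΓ (hw : i ≫ g = f₀ ≫ Spec.map (CommRingCat.ofHom (Ideal.Quotient.mk I))) (c : C) :
    i.appTop (gΓ C g c) = gΓ (C ⧸ I) f₀ (Ideal.Quotient.mk I c) := by
  have h1 : g.appTop ≫ i.appTop =
      (Spec.map (CommRingCat.ofHom (Ideal.Quotient.mk I))).appTop ≫ f₀.appTop := by
    rw [← Scheme.Hom.comp_appTop, ← Scheme.Hom.comp_appTop, hw]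
  have h2 : (Scheme.ΓSpecIso (CommRingCat.of C)).inv ≫ g.appTop ≫ i.appTop =
      CommRingCat.ofHom (Ideal.Quotient.mk I) ≫
        (Scheme.ΓSpecIso (CommRingCat.of (C ⧸ I))).inv ≫ f₀.appTop := by
    rw [h1, ← Category.assoc, ← Scheme.ΓSpecIso_inv_naturality, Category.assoc]
  exact congrArg (fun φ => φ.hom c) h2

theorem app_ψ (hw : i ≫ g = f₀ ≫ Spec.map (CommRingCat.ofHom (Ideal.Quotient.mk I)))
    (U : X.Opens) (c : C) :
    i.app U (ψ C g U c) = ψ (C ⧸ I) f₀ (i ⁻¹ᵁ U) (Ideal.Quotient.mk I c) := by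
  rw [ψ_apply, ψ_apply, ← appTop_gΓ hw]
  have := congrArg (fun φ => φ.hom (gΓ C g c)) (i.naturality (homOfLE (le_top : U ≤ ⊤)).op)
  exact this

theorem g_eq : g = X.toSpecΓ ≫ Spec.map (CommRingCat.ofHom (gΓ C g)) := by
  have h := Scheme.toSpecΓ_naturality g
  rw [← SpecMap_ΓSpecIso_hom] at h
  have : Spec.map (CommRingCat.ofHom (gΓ C g)) =
      Spec.map g.appTop ≫ Spec.map (Scheme.ΓSpecIso (CommRingCat.of C)).inv := by
    rw [← Spec.map_comp]; rfl
  rw [this, ← Category.assoc, ← h, Category.assoc, ← Spec.map_comp, Iso.inv_hom_id, Spec.map_id,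
    Category.comp_id]

theorem fromSpec_comp_g {U : X.Opens} (hU : IsAffineOpen U) :
    hU.fromSpec ≫ g = Spec.map (CommRingCat.ofHom (ψ C g U)) := by
  conv_lhs => rw [g_eq (g := g)]
  rw [← Category.assoc, hU.fromSpec_toSpecΓ, ← Spec.map_comp]
  rfl

theorem appLE_Spec_fromSpec {U : X.Opens} (hU : IsAffineOpen U) {R : CommRingCat.{u}}
    (φ : Γ(X, U) ⟶ R) (e : ⊤ ≤ (Spec.map φ ≫ hU.fromSpec) ⁻¹ᵁ U) :
    (Spec.map φ ≫ hU.fromSpec).appLE U ⊤ e = φ ≫ (Scheme.ΓSpecIso R).inv := by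
  apply Spec.map_injective
  rw [← cancel_mono hU.fromSpec]
  rw [IsAffineOpen.SpecMap_appLE_fromSpec _ hU (isAffineOpen_top (Spec R)) e,
    IsAffineOpen.fromSpec_top, Scheme.isoSpec_Spec_inv, Spec.map_comp, Category.assoc]

theorem ker_app (hsq : IsPullback i f₀ g (Spec.map (CommRingCat.ofHom (Ideal.Quotient.mk I))))
    {U : X.Opens} (hU : IsAffineOpen U) :
    RingHom.ker (i.app U).hom = Ideal.map (ψ C g U) I := by
  apply le_antisymm
  · intro b hb
    rw [RingHom.mem_ker] at hb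
    let J : Ideal Γ(X, U) := Ideal.map (ψ C g U) I
    let q : Γ(X, U) →+* Γ(X, U) ⧸ J := Ideal.Quotient.mk J
    let φk : (C ⧸ I) →+* (Γ(X, U) ⧸ J) := Ideal.quotientMap J (ψ C g U) Ideal.le_comap_map
    have hφk : φk.comp (Ideal.Quotient.mk I) = q.comp (ψ C g U) := by
      ext c; simp [φk, q]
    let j : Spec (CommRingCat.of (Γ(X, U) ⧸ J)) ⟶ X := Spec.map (CommRingCat.ofHom q) ≫ hU.fromSpec
    have hcond : j ≫ g = Spec.map (CommRingCat.ofHom φk) ≫
        Spec.map (CommRingCat.ofHom (Ideal.Quotient.mk I)) := by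
      rw [Category.assoc, fromSpec_comp_g hU, ← Spec.map_comp, ← Spec.map_comp,
        ← CommRingCat.ofHom_comp, ← CommRingCat.ofHom_comp, hφk]
    let ℓ := hsq.lift j (Spec.map (CommRingCat.ofHom φk)) hcond
    have hℓ : ℓ ≫ i = j := hsq.lift_fst _ _ _
    have e : ⊤ ≤ j ⁻¹ᵁ U := by
      rw [Scheme.Hom.comp_preimage, hU.fromSpec_preimage_self]; exact le_rfl
    have key : ∀ (j' : Spec (CommRingCat.of (Γ(X, U) ⧸ J)) ⟶ X), j' = j → j'.app U b = 0 →
        q b = 0 := by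
      rintro _ rfl h1
      have h2 : j.appLE U ⊤ e b = 0 := by
        rw [Scheme.Hom.appLE, ConcreteCategory.comp_apply, h1, map_zero]
      rw [appLE_Spec_fromSpec hU (CommRingCat.ofHom q) e, ConcreteCategory.comp_apply] at h2
      have hinj : Function.Injective (Scheme.ΓSpecIso (CommRingCat.of (Γ(X, U) ⧸ J))).inv :=
        (ConcreteCategory.bijective_of_isIso _).1
      apply hinj
      rw [map_zero]; exact h2
    have h3 : q b = 0 := by
      apply key (ℓ ≫ i) hℓ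
      have h0 : (ℓ ≫ i).app U b = ℓ.app (i ⁻¹ᵁ U) (i.app U b) := rfl
      have hb' : i.app U b = 0 := hb
      rw [h0, hb', map_zero]
      rfl
    exact Ideal.Quotient.eq_zero_iff_mem.mp h3
  · rw [Ideal.map_le_iff_le_comap]
    intro c hc
    rw [Ideal.mem_comap, RingHom.mem_ker]
    change i.app U (ψ C g U c) = 0
    rw [app_ψ hsq.w, Ideal.Quotient.eq_zero_iff_mem.mpr hc, map_zero]

end Sch

end Groth.Agent.Lib.Helper75.ArtGlob
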