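import Groth.Agent.Lib.Helper75.ArtGlob2
import Mathlib

/- helper75: global sections of a flat scheme over an Artin local ring (S11468): induction over ideals + sheaf gluing on the closed fibre. -/

set_option autoImplicit false
universe u

namespace Groth.Agent.Lib.Helper75.ArtGlob
open AlgebraicGeometry CategoryTheory TopologicalSpace Opposite IsLocalRing

section RingForm
variable {C : Type u} [CommRing C] [IsLocalRing C] {B : Type u} [CommRing B]

theorem mem_map_of_mul_mem (ψ : C →+* B) (hψ : ψ.Flat) (I' : Ideal C) (e : C)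
    (he : ∀ m ∈ maximalIdeal C, m * e ∈ I') (he' : e ∉ I') (b : B)
    (hb : ψ e * b ∈ Ideal.map ψ I') : b ∈ Ideal.map ψ (maximalIdeal C) := by
  let _ : Algebra C B := ψ.toAlgebra
  have hflat : Module.Flat C B := hψ
  have key := mem_smul_top_of_smul_mem (B := B) I' e he he' b (by
    rw [Ideal.smul_top_eq_map, Submodule.restrictScalars_mem, Algebra.smul_def]
    exact hb)
  rw [Ideal.smul_top_eq_map, Submodule.restrictScalars_mem] at key
  exact key

omit [IsLocalRing C] in
theorem mul_mem_map_of_mem (ψ : C →+* B) (I' J : Ideal C) (e : C)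
    (he : ∀ m ∈ J, m * e ∈ I') (b : B) (hb : b ∈ Ideal.map ψ J) :
    ψ e * b ∈ Ideal.map ψ I' := by
  unfold Ideal.map at hb
  induction hb using Submodule.span_induction with
  | mem x hx =>
    obtain ⟨m, hm, rfl⟩ := hx
    rw [← map_mul, mul_comm]; exact Ideal.mem_map_of_mem ψ (he m hm)
  | zero => simp
  | add x y _ _ hx hy => rw [mul_add]; exact Ideal.add_mem _ hx hy
  | smul a x _ hx => rw [smul_eq_mul, mul_left_comm]; exact Ideal.mul_mem_left _ a hx

end RingForm

section Main
variable {C : Type u} [CommRing C] {X X₀ : Scheme.{u}}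
  {g : X ⟶ Spec (CommRingCat.of C)} {i : X₀ ⟶ X}

theorem flat_ψ [Flat g] (U : X.Opens) (hU : IsAffineOpen U) : (ψ C g U).Flat := by
  have h1 : (g.appLE ⊤ U le_top).hom.Flat := g.flat_appLE (isAffineOpen_top _) hU _
  have h2 : ((Scheme.ΓSpecIso (CommRingCat.of C)).inv).hom.Flat :=
    RingHom.Flat.of_bijective (ConcreteCategory.bijective_of_isIso _)
  have h3 : ψ C g U = (g.appLE ⊤ U le_top).hom.comp
      ((Scheme.ΓSpecIso (CommRingCat.of C)).inv).hom := rfl
  rw [h3]
  exact RingHom.Flat.comp h2 h1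

theorem eq_of_affine (s t : Γ(X, ⊤))
    (h : ∀ U : X.affineOpens, X.presheaf.map (homOfLE (le_top : U.1 ≤ ⊤)).op s =
      X.presheaf.map (homOfLE (le_top : U.1 ≤ ⊤)).op t) : s = t := by
  apply X.sheaf.eq_of_locally_eq' (fun U : X.affineOpens => U.1) ⊤ (fun U => homOfLE le_top)
    (by rw [iSup_affineOpens_eq_top])
  intro U
  exact h U

theorem cover_preimage : (⊤ : X₀.Opens) ≤ ⨆ U : X.affineOpens, i ⁻¹ᵁ U.1 := by
  intro z _
  obtain ⟨_, ⟨U, hU, rfl⟩, hzU, -⟩ :=
    X.isBasis_affineOpens.exists_subset_of_mem_open (Set.mem_univ (i z)) isOpen_univ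
  exact Opens.mem_iSup.mpr ⟨⟨U, hU⟩, hzU⟩

theorem res_app {U W : X.Opens} (hWU : W ≤ U) (x : Γ(X, U)) (h' : i ⁻¹ᵁ W ≤ i ⁻¹ᵁ U) :
    X₀.presheaf.map (homOfLE h').op (i.app U x) = i.app W (X.presheaf.map (homOfLE hWU).op x) := by
  have := congrArg (fun φ => φ.hom x) (i.naturality (homOfLE hWU).op)
  exact this.symm

theorem res_res {U W : X.Opens} (hWU : W ≤ U) (s : Γ(X, ⊤)) :
    X.presheaf.map (homOfLE hWU).op (X.presheaf.map (homOfLE (le_top : U ≤ ⊤)).op s) =
      X.presheaf.map (homOfLE (le_top : W ≤ ⊤)).op s := by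
  rw [← ConcreteCategory.comp_apply, ← Functor.map_comp]
  rfl

variable [IsLocalRing C] [IsArtinianRing C] [Flat g]
  {f₀ : X₀ ⟶ Spec (CommRingCat.of (C ⧸ maximalIdeal C))}

theorem surj_aux
    (hsq : IsPullback i f₀ g (Spec.map (CommRingCat.ofHom (Ideal.Quotient.mk (maximalIdeal C)))))
    (h0 : Function.Surjective (gΓ (C ⧸ maximalIdeal C) f₀)) (I : Ideal C) :
    ∀ s : Γ(X, ⊤), (∀ U : X.affineOpens,
      X.presheaf.map (homOfLE (le_top : U.1 ≤ ⊤)).op s ∈ Ideal.map (ψ C g U.1) I) →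
      ∃ c ∈ I, gΓ C g c = s := by
  refine IsArtinian.induction (R := C) (M := C) (P := fun I : Ideal C => ∀ s : Γ(X, ⊤),
    (∀ U : X.affineOpens,
      X.presheaf.map (homOfLE (le_top : U.1 ≤ ⊤)).op s ∈ Ideal.map (ψ C g U.1) I) →
      ∃ c ∈ I, gΓ C g c = s) (fun I ih => ?_) I
  by_cases hI : I = ⊥
  · subst hI
    intro s hs
    refine ⟨0, zero_mem _, ?_⟩
    rw [map_zero]
    apply eq_of_affine
    intro U
    have := hs U
    rw [Ideal.map_bot, Ideal.mem_bot] at this
    rw [this, map_zero]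
  · obtain ⟨I', e, hlt, heI', hsup, hme⟩ := exists_max_sub I hI
    intro s hs
    have hb : ∀ U : X.affineOpens, ∃ b : Γ(X, U.1),
        X.presheaf.map (homOfLE (le_top : U.1 ≤ ⊤)).op s - ψ C g U.1 e * b ∈
          Ideal.map (ψ C g U.1) I' := by
      intro U
      have := hs U
      rw [hsup, Ideal.map_sup, Ideal.map_span, Set.image_singleton, Submodule.mem_sup] at this
      obtain ⟨y, hy, z, hz, hyz⟩ := this
      obtain ⟨b, rfl⟩ := Ideal.mem_span_singleton'.mp hz
      refine ⟨b, ?_⟩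
      rw [← hyz]
      have : y + b * ψ C g U.1 e - ψ C g U.1 e * b = y := by ring
      rw [this]; exact hy
    choose b hb using hb
    -- key comparison
    have hK : ∀ (U W : X.affineOpens) (hWU : W.1 ≤ U.1),
        i.app W.1 (X.presheaf.map (homOfLE hWU).op (b U)) = i.app W.1 (b W) := by
      intro U W hWU
      have hcomp : (X.presheaf.map (homOfLE hWU).op).hom.comp (ψ C g U.1) = ψ C g W.1 := by
        ext c; exact map_ψ C g hWU c
      have h1 := Ideal.mem_map_of_mem (X.presheaf.map (homOfLE hWU).op).hom (hb U)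
      rw [Ideal.map_map, hcomp] at h1
      have h1' : X.presheaf.map (homOfLE (le_top : W.1 ≤ ⊤)).op s -
          ψ C g W.1 e * X.presheaf.map (homOfLE hWU).op (b U) ∈ Ideal.map (ψ C g W.1) I' := by
        have e1 : (X.presheaf.map (homOfLE hWU).op).hom
            (X.presheaf.map (homOfLE (le_top : U.1 ≤ ⊤)).op s - ψ C g U.1 e * b U) =
            X.presheaf.map (homOfLE (le_top : W.1 ≤ ⊤)).op s -
              ψ C g W.1 e * X.presheaf.map (homOfLE hWU).op (b U) := by
          rw [map_sub, map_mul]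
          congr 1
          · exact res_res hWU s
          · congr 1
            exact map_ψ C g hWU e
        rw [← e1]; exact h1
      have h2 := hb W
      have h3 : ψ C g W.1 e * (X.presheaf.map (homOfLE hWU).op (b U) - b W) ∈
          Ideal.map (ψ C g W.1) I' := by
        have := Ideal.sub_mem _ h2 h1'
        convert this using 1; ring
      have h4 := mem_map_of_mul_mem (ψ C g W.1) (flat_ψ W.1 W.2) I' e hme heI' _ h3
      rw [← ker_app hsq W.2, RingHom.mem_ker, map_sub, sub_eq_zero] at h4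
      exact h4
    -- the sections on X₀
    let V : X.affineOpens → X₀.Opens := fun U => i ⁻¹ᵁ U.1
    let sf : ∀ U : X.affineOpens, Γ(X₀, V U) := fun U => i.app U.1 (b U)
    have hcompat : TopCat.Presheaf.IsCompatible X₀.sheaf.1 V sf := by
      intro U U'
      apply X₀.sheaf.eq_of_locally_eq'
        (fun W : {W : X.affineOpens // W.1 ≤ U.1 ⊓ U'.1} => i ⁻¹ᵁ W.1.1) (V U ⊓ V U')
        (fun W => homOfLE (fun z hz => W.2 hz))
      · intro z hz
        have hz' : i z ∈ U.1 ⊓ U'.1 := hz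
        obtain ⟨_, ⟨W, hW, rfl⟩, hzW, hWle⟩ :=
          X.isBasis_affineOpens.exists_subset_of_mem_open hz' (U.1 ⊓ U'.1).isOpen
        exact Opens.mem_iSup.mpr ⟨⟨⟨W, hW⟩, hWle⟩, hzW⟩
      · intro W
        have hWU : W.1.1 ≤ U.1 := W.2.trans inf_le_left
        have hWU' : W.1.1 ≤ U'.1 := W.2.trans inf_le_right
        have hl : X₀.presheaf.map (homOfLE (fun z hz => W.2 hz) :
              i ⁻¹ᵁ W.1.1 ⟶ V U ⊓ V U').op
            (X₀.presheaf.map (Opens.infLELeft (V U) (V U')).op (sf U)) = i.app W.1.1 (b W.1) := by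
          rw [← ConcreteCategory.comp_apply, ← Functor.map_comp]
          exact (res_app hWU (b U) (fun z hz => hWU hz)).trans (hK U W.1 hWU)
        have hr : X₀.presheaf.map (homOfLE (fun z hz => W.2 hz) :
              i ⁻¹ᵁ W.1.1 ⟶ V U ⊓ V U').op
            (X₀.presheaf.map (Opens.infLERight (V U) (V U')).op (sf U')) = i.app W.1.1 (b W.1) := by
          rw [← ConcreteCategory.comp_apply, ← Functor.map_comp]
          exact (res_app hWU' (b U') (fun z hz => hWU' hz)).trans (hK U' W.1 hWU')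
        exact hl.trans hr.symm
    obtain ⟨t, ht, -⟩ := X₀.sheaf.existsUnique_gluing' V ⊤ (fun U => homOfLE le_top)
      cover_preimage sf hcompat
    obtain ⟨cbar, hcbar⟩ := h0 t
    obtain ⟨c, rfl⟩ := Ideal.Quotient.mk_surjective cbar
    have hs' : ∀ U : X.affineOpens,
        X.presheaf.map (homOfLE (le_top : U.1 ≤ ⊤)).op (s - gΓ C g (c * e)) ∈
          Ideal.map (ψ C g U.1) I' := by
      intro U
      have hmem : b U - ψ C g U.1 c ∈ Ideal.map (ψ C g U.1) (maximalIdeal C) := by
        rw [← ker_app hsq U.2, RingHom.mem_ker, map_sub, sub_eq_zero]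
        change i.app U.1 (b U) = i.app U.1 (ψ C g U.1 c)
        rw [app_ψ hsq.w, ψ_apply, hcbar]
        exact (ht U).symm
      have e1 : X.presheaf.map (homOfLE (le_top : U.1 ≤ ⊤)).op (s - gΓ C g (c * e)) =
          (X.presheaf.map (homOfLE (le_top : U.1 ≤ ⊤)).op s - ψ C g U.1 e * b U) +
            ψ C g U.1 e * (b U - ψ C g U.1 c) := by
        rw [map_sub, ← ψ_apply, map_mul]; ring
      rw [e1]
      exact Ideal.add_mem _ (hb U) (mul_mem_map_of_mem (ψ C g U.1) I' (maximalIdeal C) e hme _ hmem)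
    obtain ⟨c', hc', hc's⟩ := ih I' hlt _ hs'
    have heI : e ∈ I := by rw [hsup]; exact Ideal.mem_sup_right (Ideal.subset_span rfl)
    refine ⟨c' + c * e, I.add_mem (hlt.le hc') (Ideal.mul_mem_left I c heI), ?_⟩
    rw [map_add, hc's]; ring

theorem inj_aux
    (hsq : IsPullback i f₀ g (Spec.map (CommRingCat.ofHom (Ideal.Quotient.mk (maximalIdeal C)))))
    (h0 : Function.Injective (gΓ (C ⧸ maximalIdeal C) f₀)) :
    Function.Injective (gΓ C g) := by
  rw [RingHom.injective_iff_ker_eq_bot]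
  by_contra hK
  obtain ⟨e, heK, he0, hme⟩ := exists_socle_mem (RingHom.ker (gΓ C g)) hK
  have h1 : ∀ U : X.affineOpens, (1 : Γ(X, U.1)) ∈ Ideal.map (ψ C g U.1) (maximalIdeal C) := by
    intro U
    apply mem_map_of_mul_mem (ψ C g U.1) (flat_ψ U.1 U.2) ⊥ e
      (fun m hm => by rw [hme m hm]; exact zero_mem _) (by simpa using he0) 1
    rw [mul_one, ψ_apply, RingHom.mem_ker.mp heK, map_zero]
    exact zero_mem _
  have h2 : ∀ U : X.affineOpens, (1 : Γ(X₀, i ⁻¹ᵁ U.1)) = 0 := by
    intro U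
    have := h1 U
    rw [← ker_app hsq U.2, RingHom.mem_ker, map_one] at this
    exact this
  have h3 : (1 : Γ(X₀, ⊤)) = 0 := by
    apply X₀.sheaf.eq_of_locally_eq' (fun U : X.affineOpens => i ⁻¹ᵁ U.1) ⊤
      (fun U => homOfLE le_top) cover_preimage
    intro U
    change X₀.presheaf.map (homOfLE le_top).op 1 = X₀.presheaf.map (homOfLE le_top).op 0
    rw [map_one, map_zero]; exact h2 U
  have : (1 : C ⧸ maximalIdeal C) = 0 := h0 (by rw [map_one, map_zero, h3])
  exact one_ne_zero this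

end Main

end Groth.Agent.Lib.Helper75.ArtGlob
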