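import Groth.Agent.Lib.Helper5.ExtRigid
import Groth.Prelude.Def_TwC


/- helper75: homomorphisms from a quasi-compact group scheme to a torsion-free constant group scheme
`TwC.const S Z` are trivial (`hom_eq_one`); a commutative extension `1 → G → E → P → 1` with `Hom(P, G)`
trivial is rigid (`rigid_of_hom_trivial`).  Built on helper5 `TorsorExact`. -/
set_option autoImplicit false
universe u v

open CategoryTheory CategoryTheory.Limits MonoidalCategory CartesianMonoidalCategory MonObj GrpObj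
  AlgebraicGeometry

namespace Groth.Agent.Lib.Helper75.ConstGrpHom

variable {S : Scheme.{u}} {Z : Type v} [Small.{u} Z]

/-- A morphism to the constant scheme whose image lies in the copy `z` is the constant point. -/
theorem eq_pt_of_range {T : Over S} (t : T ⟶ TwC.const S Z) (z : Z)
    (h : ∀ p : T.left, t.left p ∈ Set.range (Sigma.ι (fun _ : Z => S) z)) :
    t = toUnit T ≫ TwC.pt S Z z := by
  have hr : Set.range t.left ⊆ Set.range (Sigma.ι (fun _ : Z => S) z) := by
    rintro _ ⟨p, rfl⟩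
    exact h p
  let l := IsOpenImmersion.lift (Sigma.ι (fun _ : Z => S) z) t.left hr
  have hl : l ≫ Sigma.ι (fun _ : Z => S) z = t.left := IsOpenImmersion.lift_fac _ _ hr
  have hw := Over.w t
  have hl2 : l = T.hom := by
    rw [← hw, ← hl]
    simp
  ext
  rw [← hl, hl2]
  simp [TwC.pt]

theorem pt_left_apply {T : Over S} (z : Z) (p : T.left) :
    (toUnit T ≫ TwC.pt S Z z).left p ∈ Set.range (Sigma.ι (fun _ : Z => S) z) := by
  refine ⟨T.hom p, ?_⟩
  simp [TwC.pt]

theorem eq_of_mem_range (z w : Z) (x : (∐ fun _ : Z => S : Scheme.{u}))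
    (hz : x ∈ Set.range (Sigma.ι (fun _ : Z => S) z))
    (hw : x ∈ Set.range (Sigma.ι (fun _ : Z => S) w)) : z = w := by
  by_contra hne
  have := disjoint_opensRange_sigmaι (fun _ : Z => S) z w hne
  exact (Set.disjoint_iff.mp ((TopologicalSpace.Opens.coe_disjoint).mpr this)) ⟨hz, hw⟩

theorem exists_mem_range (x : (∐ fun _ : Z => S : Scheme.{u})) :
    ∃ z : Z, x ∈ Set.range (Sigma.ι (fun _ : Z => S) z) := by
  obtain ⟨z, y, hy⟩ := (sigmaOpenCover (fun _ : Z => S)).exists_eq x
  exact ⟨z, y, hy⟩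

variable [Group Z] {G : Over S} [GrpObj G] (e : G ≅ TwC.const S Z) (hG : TwC.IsConstGrp Z G e)

/-- the constant `T`-point of `G` of index `z`. -/
noncomputable def cpt (T : Over S) (z : Z) : T ⟶ G := toUnit T ≫ TwC.pt S Z z ≫ e.inv

include hG in
theorem cpt_mul (T : Over S) (z w : Z) : cpt e T (z * w) = cpt e T z * cpt e T w := by
  unfold cpt
  rw [← hG z w, MonObj.comp_mul]

include hG in
theorem cpt_one (T : Over S) : cpt e T 1 = 1 := by
  have h := cpt_mul e hG T 1 1
  rw [_root_.mul_one] at h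
  exact _root_.left_eq_mul.mp h

include hG in
theorem cpt_pow (T : Over S) (z : Z) (n : ℕ) : cpt e T (z ^ n) = cpt e T z ^ n := by
  induction n with
  | zero => rw [pow_zero, pow_zero, cpt_one e hG]
  | succ n ih => rw [pow_succ, pow_succ, cpt_mul e hG, ih]


theorem comp_pow_hom {P : Over S} [GrpObj P] (c : P ⟶ G) [IsMonHom c] {T : Over S} (x : T ⟶ P)
    (n : ℕ) : (x ^ n) ≫ c = (x ≫ c) ^ n := by
  induction n with
  | zero => rw [pow_zero, pow_zero, MonObj.one_comp]
  | succ n ih => rw [pow_succ, pow_succ, MonObj.mul_comp, ih]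

include hG in
/-- A homomorphism from a quasi-compact group scheme to a torsion-free constant group is trivial. -/
theorem hom_eq_one (hZ : ∀ z : Z, IsOfFinOrder z → z = 1)
    {P : Over S} [GrpObj P] [CompactSpace P.left] (c : P ⟶ G) [IsMonHom c] : c = 1 := by
  let f : P ⟶ TwC.const S Z := c ≫ e.hom
  -- the finite set of components met
  let U : Z → TopologicalSpace.Opens P.left :=
    fun z => f.left ⁻¹ᵁ (Sigma.ι (fun _ : Z => S) z).opensRange
  have hcov : (Set.univ : Set P.left) ⊆ ⋃ z, (U z : Set P.left) := by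
    intro p _
    obtain ⟨z, hz⟩ := exists_mem_range (S := S) (Z := Z) (f.left p)
    exact Set.mem_iUnion.mpr ⟨z, hz⟩
  obtain ⟨F, hF⟩ := isCompact_univ.elim_finite_subcover (fun z => (U z : Set P.left))
    (fun z => (U z).isOpen) hcov
  have key : ∀ (p : P.left) (z : Z), f.left p ∈ Set.range (Sigma.ι (fun _ : Z => S) z) → z = 1 := by
    intro p z hz
    let T : Over S := Over.mk (P.left.fromSpecResidueField p ≫ P.hom)
    let x : T ⟶ P := Over.homMk (P.left.fromSpecResidueField p) rfl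
    have hx : x ≫ f = toUnit T ≫ TwC.pt S Z z := by
      apply eq_pt_of_range
      intro q
      have : (x ≫ f).left q = f.left p := by
        change f.left ((P.left.fromSpecResidueField p) q) = _
        rw [Scheme.fromSpecResidueField_apply]
      rw [this]
      exact hz
    have hxc : x ≫ c = cpt e T z := by
      unfold cpt
      rw [← Category.assoc, ← hx, Category.assoc, Category.assoc, e.hom_inv_id, Category.comp_id]
    have hpow : ∀ n : ℕ, z ^ n ∈ (F : Set Z) := by
      intro n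
      have h1 : (x ^ n) ≫ c = cpt e T (z ^ n) := by
        rw [comp_pow_hom, hxc, cpt_pow e hG]
      have h2 : (x ^ n) ≫ f = toUnit T ≫ TwC.pt S Z (z ^ n) := by
        change (x ^ n) ≫ c ≫ e.hom = _
        rw [← Category.assoc, h1]
        unfold cpt
        simp
      obtain ⟨q⟩ : Nonempty (Spec (P.left.residueField p)) := inferInstance
      let q' : P.left := (x ^ n).left q
      have hq1 : f.left q' ∈ Set.range (Sigma.ι (fun _ : Z => S) (z ^ n)) := by
        have : f.left q' = ((x ^ n) ≫ f).left q := rfl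
        rw [this, h2]
        exact pt_left_apply (T := T) (z ^ n) q
      obtain ⟨w, hw⟩ := Set.mem_iUnion.mp (hF (Set.mem_univ q'))
      obtain ⟨hwF, hw2⟩ := Set.mem_iUnion.mp hw
      have hw3 : f.left q' ∈ Set.range (Sigma.ι (fun _ : Z => S) w) := hw2
      rw [eq_of_mem_range (S := S) (z ^ n) w _ hq1 hw3]
      exact hwF
    have hfin : (Submonoid.powers z : Set Z).Finite := by
      refine Set.Finite.subset F.finite_toSet ?_
      rintro _ ⟨n, rfl⟩
      exact hpow n
    exact hZ z (finite_powers.mp hfin)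
  have hf : f = toUnit P ≫ TwC.pt S Z 1 := by
    apply eq_pt_of_range
    intro p
    obtain ⟨z, hz⟩ := exists_mem_range (S := S) (Z := Z) (f.left p)
    rw [← key p z hz]
    exact hz
  have hc : c = cpt e P 1 := by
    unfold cpt
    rw [← Category.assoc, ← hf, Category.assoc, e.hom_inv_id, Category.comp_id]
  rw [hc, cpt_one e hG]


open Groth.Agent.Lib.Helper5.TorsorExact Groth.Agent.Lib.Helper5.TorsorPush in
/-- An extension `1 → G → E → P → 1` (fpqc-exact) with `E` commutative and `Hom(P, G)` trivial is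
rigid. -/
theorem rigid_of_hom_trivial (P G' E : Over S) [GrpObj P] [GrpObj G'] [GrpObj E] [IsCommMonObj E]
    (u : G' ⟶ E) (v : E ⟶ P) (hex : NonAbH1.IsExactSeq Scheme.fpqcPrecoverage u v)
    (hPG : ∀ (c : P ⟶ G') [IsMonHom c], c = 1)
    (φ : E ⟶ E) [IsMonHom φ] (hφu : u ≫ φ = u) (hφv : φ ≫ v = v) : φ = 𝟙 E := by
  obtain ⟨hu_m, hv_m, huv, hpb, hloc⟩ := hex
  have := hu_m
  have := hv_m
  have hu_inj : ∀ {T : Over S} (a b : T ⟶ G'), a ≫ u = b ≫ u → a = b := by
    intro T a b hab
    have h2 : (a * b⁻¹) ≫ u = 1 := by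
      rw [MonObj.mul_comp, GrpObj.inv_comp, hab, _root_.mul_inv_cancel]
    have h3 := eq_one_of_comp_eq_one u v hpb _ h2
    exact mul_inv_eq_one.mp h3
  let d : ∀ {T : Over S}, (T ⟶ E) → (T ⟶ E) := fun x => (x ≫ φ) * x⁻¹
  have hd_def : ∀ {T : Over S} (x : T ⟶ E), d x = (x ≫ φ) * x⁻¹ := fun _ => rfl
  have hd_v : ∀ {T : Over S} (x : T ⟶ E), d x ≫ v = 1 := by
    intro T x
    rw [hd_def, MonObj.mul_comp _ _ v, GrpObj.inv_comp _ v, Category.assoc, hφv,
      _root_.mul_inv_cancel]
  have hd_comp : ∀ {T T' : Over S} (z : T' ⟶ T) (x : T ⟶ E), z ≫ d x = d (z ≫ x) := by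
    intro T T' z x
    rw [hd_def, hd_def, MonObj.comp_mul, GrpObj.comp_inv, Category.assoc]
  have hd_inv : ∀ {T : Over S} (x : T ⟶ E) (g : T ⟶ G'), d (x * (g ≫ u)) = d x := by
    intro T x g
    rw [hd_def, hd_def, MonObj.mul_comp _ _ φ, Category.assoc, hφu]
    group
  have hd_mul : ∀ {T : Over S} (x y : T ⟶ E), d (x * y) = d x * d y := by
    intro T x y
    rw [hd_def, hd_def, hd_def, MonObj.mul_comp _ _ φ, _root_.mul_inv_rev, mul_comm y⁻¹ x⁻¹,
      _root_.mul_mul_mul_comm]
  obtain ⟨ct, hct, -⟩ := existsUnique_of_ker u v hpb (d (𝟙 E)) (hd_v _)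
  have hct_pt : ∀ {T : Over S} (x : T ⟶ E), (x ≫ ct) ≫ u = d x := by
    intro T x
    rw [Category.assoc, hct, hd_comp, Category.comp_id]
  have hsec : secSieve (Over.mk v.left : Over P.left) ∈ Scheme.fpqcTopology P.left :=
    (isLocallyTrivialFor_iff _).mp hloc
  have hvv : EffectiveEpi (v ⊗ₘ v).left :=
    effectiveEpi_left_of_secSieve _ (secSieve_tensor v v hsec hsec)
  have hve : EffectiveEpi v.left := effectiveEpi_left_of_secSieve _ hsec
  have : Epi v := epi_of_effectiveEpi_left v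
  have : Epi (v ⊗ₘ v) := epi_of_effectiveEpi_left (v ⊗ₘ v)
  obtain ⟨c, hc⟩ := exists_desc_of_effectiveEpi v ct (by
    intro T a₁ a₂ ha
    obtain ⟨g, hg, -⟩ := existsUnique_of_exact u v hpb _ _ ha.symm
    apply hu_inj
    rw [hct_pt, hct_pt, ← hg, hd_inv])
  have h1E : (1 : 𝟙_ (Over S) ⟶ E) = η[E] := by
    rw [Hom.one_def, toUnit_unique (toUnit (𝟙_ (Over S))) (𝟙 _), Category.id_comp]
  have e1 : fst E E * snd E E = μ[E] := by
    rw [Hom.mul_def, lift_fst_snd, Category.id_comp]
  have e2 : (fst E E ≫ (ct ≫ u)) * (snd E E ≫ (ct ≫ u)) = ((ct ≫ u) ⊗ₘ (ct ≫ u)) ≫ μ[E] := by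
    rw [Hom.mul_def, lift_fst_comp_snd_comp]
  have hmul_ct : μ[E] ≫ ct = (ct ⊗ₘ ct) ≫ μ[G'] := by
    apply hu_inj
    rw [hct_pt, ← e1, hd_mul, ← hct_pt, ← hct_pt, Category.assoc, Category.assoc, Category.assoc,
      IsMonHom.mul_hom (f := u), tensorHom_comp_tensorHom_assoc, e2]
  have hcm : IsMonHom c := by
    refine ⟨?_, ?_⟩
    · have h1 : η[E] ≫ v = η[P] := IsMonHom.one_hom v
      rw [← h1, Category.assoc, hc]
      apply hu_inj
      rw [hct_pt, IsMonHom.one_hom u, hd_def, IsMonHom.one_hom φ, _root_.mul_inv_cancel, h1E]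
    · rw [← cancel_epi (v ⊗ₘ v), ← Category.assoc, ← IsMonHom.mul_hom (f := v), Category.assoc, hc,
        tensorHom_comp_tensorHom_assoc, hc, hmul_ct]
  have hc1 : c = 1 := hPG c
  have hct1 : ct = 1 := by
    rw [← hc, hc1, MonObj.comp_one]
  have hfin : d (𝟙 E) = 1 := by
    rw [← hct, hct1, MonObj.one_comp]
  rw [hd_def, Category.id_comp] at hfin
  exact mul_inv_eq_one.mp hfin

end Groth.Agent.Lib.Helper75.ConstGrpHom
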