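import Groth.Agent.Lib.Helper75.ASRing
import Groth.Agent.Lib.Helper75.ConstGrpHom
import Groth.Agent.Lib.Helper15.GaPts
import Groth.Agent.Lib.Helper5.Kummer

/- helper75: the Artin-Schreier sequence `1 → (Z/p)_S → G_a → G_a → 1` (`x ↦ x - x^p`) over a base with
`p = 0` is exact for the fpqc precoverage (`isExactSeq_as`).  Uses helper15 `GaPts`, helper5 `TorsorExact`
and `Kummer` (as a model for the covering), and Helper75 `ConstGrpHom`, `ASRing`. -/

set_option autoImplicit false
universe u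

open CategoryTheory CategoryTheory.Limits MonoidalCategory CartesianMonoidalCategory MonObj GrpObj
  AlgebraicGeometry

namespace Groth.Agent.Lib.Helper75.ArtinSchreier

open Groth.Agent.Lib.Helper15.GaPts Groth.Agent.Lib.Helper75.ASRing
  Groth.Agent.Lib.Helper75.ConstGrpHom Groth.Agent.Lib.Helper5.TorsorExact

variable (p : ℕ) [hpp : Fact p.Prime] {S : Scheme.{u}} (hp : (p : Γ(S, ⊤)) = 0)
  (F : Red.Ga S ⟶ Red.Ga S)
  (hF : ∀ (T : Over S) (x : T ⟶ Red.Ga S), Red.gaFn (x ≫ F) = Red.gaFn x ^ p)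

include hp in
omit hpp in
theorem p_eq_zero (T : Over S) : (p : Γ(T.left, ⊤)) = 0 := by
  have := congrArg T.hom.appTop.hom hp
  simpa using this

include hF in
omit hpp in
theorem gaFn_P {T : Over S} (x : T ⟶ Red.Ga S) :
    Red.gaFn (x ≫ (𝟙 (Red.Ga S) * F⁻¹)) = Red.gaFn x - Red.gaFn x ^ p := by
  rw [MonObj.comp_mul, GrpObj.comp_inv, Category.comp_id, gaFn_mul, gaFn_inv, hF, sub_eq_add_neg]

include hp hF in
theorem isMonHom_P : IsMonHom (𝟙 (Red.Ga S) * F⁻¹) :=
  isMonHom_of_points _ (fun {T} x y => eq_of_gaFn_eq (by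
    rw [gaFn_P p F hF, gaFn_mul, gaFn_mul, gaFn_P p F hF, gaFn_P p F hF,
      add_pow_p p (p_eq_zero p hp T)]
    ring))

theorem gaFn_pow {T : Over S} (y : T ⟶ Red.Ga S) (k : ℕ) : Red.gaFn (y ^ k) = k • Red.gaFn y := by
  induction k with
  | zero => rw [pow_zero, gaFn_one, zero_smul]
  | succ k ih => rw [pow_succ, gaFn_mul, ih, succ_nsmul]

variable {G' : Over S} [GrpObj G'] (e : G' ≅ TwC.const S (Multiplicative (ZMod p)))
  (he : TwC.IsConstGrp (Multiplicative (ZMod p)) G' e)
  (i : G' ⟶ Red.Ga S) [him : IsMonHom i]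
  (hi : Red.gaFn (TwC.pt S (Multiplicative (ZMod p)) (Multiplicative.ofAdd 1) ≫ e.inv ≫ i) = 1)

include he hi him in
theorem gaFn_cpt (T : Over S) (n : ZMod p) :
    Red.gaFn (cpt e T (Multiplicative.ofAdd n) ≫ i) = c p n := by
  have h1 : Multiplicative.ofAdd n = (Multiplicative.ofAdd (1 : ZMod p)) ^ n.val := by
    rw [← ofAdd_nsmul, nsmul_one, ZMod.natCast_zmod_val]
  have h2 : Red.gaFn (cpt e T (Multiplicative.ofAdd (1 : ZMod p)) ≫ i) = 1 := by
    unfold cpt
    rw [Category.assoc, Category.assoc, gaFn_comp, hi, map_one]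
  have h3 := comp_pow_hom i (cpt e T (Multiplicative.ofAdd (1 : ZMod p))) n.val
  rw [h1, cpt_pow e he, h3, gaFn_pow, h2, nsmul_one]
  rfl

omit hpp [GrpObj G'] in
theorem hom_ext_const {X : Over S} (f g : G' ⟶ X)
    (h : ∀ z, cpt e (𝟙_ (Over S)) z ≫ f = cpt e (𝟙_ (Over S)) z ≫ g) : f = g := by
  have h1 : e.inv ≫ f = e.inv ≫ g := by
    ext
    apply Sigma.hom_ext
    intro z
    have h2 := congrArg Over.Hom.left (h z)
    unfold cpt at h2
    rw [toUnit_unique (toUnit (𝟙_ (Over S))) (𝟙 _), Category.id_comp] at h2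
    simpa [TwC.pt] using h2
  exact (cancel_epi e.inv).mp h1

include hp hF he hi him in
theorem i_comp_P : i ≫ (𝟙 (Red.Ga S) * F⁻¹) = 1 := by
  apply hom_ext_const p e
  intro z
  apply eq_of_gaFn_eq
  obtain ⟨n, rfl⟩ : ∃ n, Multiplicative.ofAdd n = z := ⟨z.toAdd, rfl⟩
  rw [← Category.assoc, gaFn_P p F hF, gaFn_cpt p e he i hi, c_pow p (p_eq_zero p hp _), sub_self,
    MonObj.comp_one, gaFn_one]

include hp he hi him in
theorem ker_trivial {T : Over S} (h : T ⟶ G') (hh : h ≫ i = 1) : h = 1 := by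
  let f : T ⟶ TwC.const S (Multiplicative (ZMod p)) := h ≫ e.hom
  have key : ∀ (x : T.left) (z : Multiplicative (ZMod p)),
      f.left x ∈ Set.range (Sigma.ι (fun _ : Multiplicative (ZMod p) => S) z) → z = 1 := by
    intro x z hz
    let Tx : Over S := Over.mk (T.left.fromSpecResidueField x ≫ T.hom)
    let xt : Tx ⟶ T := Over.homMk (T.left.fromSpecResidueField x) rfl
    have hx : xt ≫ f = toUnit Tx ≫ TwC.pt S _ z := by
      apply eq_pt_of_range
      intro q
      have : (xt ≫ f).left q = f.left x := by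
        change f.left ((T.left.fromSpecResidueField x) q) = _
        rw [Scheme.fromSpecResidueField_apply]
      rw [this]
      exact hz
    have hxc : xt ≫ h = cpt e Tx z := by
      unfold cpt
      rw [← Category.assoc, ← hx, Category.assoc, Category.assoc, e.hom_inv_id, Category.comp_id]
    obtain ⟨n, rfl⟩ : ∃ n, Multiplicative.ofAdd n = z := ⟨z.toAdd, rfl⟩
    have h0 : (c p n : Γ(Tx.left, ⊤)) = 0 := by
      rw [← gaFn_cpt p e he i hi Tx n, ← hxc, Category.assoc, hh, MonObj.comp_one, gaFn_one]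
    by_contra hne
    have hn0 : n ≠ 0 := fun h0' => hne (by rw [h0']; rfl)
    have hu := isUnit_c_sub p (p_eq_zero p hp Tx) hn0
    rw [c_zero, sub_zero, h0] at hu
    have : Nontrivial Γ(Tx.left, ⊤) := by
      change Nontrivial Γ(Spec (T.left.residueField x), ⊤)
      infer_instance
    exact not_isUnit_zero hu
  have hf : f = toUnit T ≫ TwC.pt S _ 1 := by
    apply eq_pt_of_range
    intro x
    obtain ⟨z, hz⟩ := exists_mem_range (S := S) (Z := Multiplicative (ZMod p)) (f.left x)
    rw [← key x z hz]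
    exact hz
  have hc : h = cpt e T 1 := by
    unfold cpt
    rw [← Category.assoc, ← hf, Category.assoc, e.hom_inv_id, Category.comp_id]
  rw [hc, cpt_one e he]


section construct

variable {T : Over S} (a : Γ(T.left, ⊤)) (ha : a ^ p = a)

/-- the function cutting out the locus `a = n`. -/
def eN (n : ZMod p) : Γ(T.left, ⊤) := 1 - (a - c p n) ^ (p - 1)

include hp ha in
theorem sub_mul_eN (n : ZMod p) : (a - c p n) * eN p a n = 0 := by
  unfold eN
  have hT := p_eq_zero p hp T
  have h1 : (a - c p n) * (a - c p n) ^ (p - 1) = (a - c p n) ^ p := by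
    rw [← pow_succ', Nat.sub_add_cancel hpp.out.one_le]
  rw [mul_sub, _root_.mul_one, h1, sub_pow_p p hT, ha, c_pow p hT, sub_self]

/-- the open locus `a = n`. -/
def U (n : ZMod p) : T.left.Opens := T.left.basicOpen (eN p a n)

include hp ha in
theorem U_disjoint {n m : ZMod p} (h : n ≠ m) : U p a n ⊓ U p a m = ⊥ := by
  unfold U
  rw [← Scheme.basicOpen_mul]
  have hT := p_eq_zero p hp T
  have h0 : eN p a n * eN p a m = 0 := by
    have hu := isUnit_c_sub p hT h
    have e1 : ((c p n : Γ(T.left, ⊤)) - c p m) * (eN p a n * eN p a m) =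
        eN p a n * ((a - c p m) * eN p a m) - ((a - c p n) * eN p a n) * eN p a m := by ring
    rw [sub_mul_eN p hp a ha, sub_mul_eN p hp a ha, mul_zero, zero_mul, sub_zero] at e1
    exact (hu.mul_right_eq_zero).mp e1
  rw [h0, Scheme.basicOpen_zero]

include hp ha in
theorem U_cover : TopologicalSpace.IsOpenCover (U p a) := by
  apply TopologicalSpace.IsOpenCover.mk
  rw [eq_top_iff]
  intro x _
  rw [TopologicalSpace.Opens.mem_iSup]
  have hT := p_eq_zero p hp T
  let ev := (T.left.Γevaluation x).hom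
  have hK : (p : T.left.residueField x) = 0 := by
    have := congrArg ev hT
    simpa using this
  have hb : (ev a) ^ p = ev a := by
    rw [← map_pow, ha]
  obtain ⟨n, hn⟩ := exists_c_of_pow_eq p hK (ev a) hb
  refine ⟨n, ?_⟩
  unfold U
  apply (T.left.evaluation_ne_zero_iff_mem_basicOpen (U := ⊤) x trivial (eN p a n)).mp
  have h1 : ev (eN p a n) = 1 := by
    unfold eN
    have hcn : ev (c p n) = c p n := by
      unfold c
      exact map_natCast ev _
    rw [map_sub, map_one, map_pow, map_sub, hn, hcn, sub_self,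
      zero_pow (Nat.sub_ne_zero_of_lt hpp.out.one_lt), sub_zero]
  change ev (eN p a n) ≠ 0
  rw [h1]
  exact one_ne_zero


theorem isUnit_of_basicOpen_eq_top {Y : Scheme.{u}} (f : Γ(Y, ⊤)) (h : Y.basicOpen f = ⊤) :
    IsUnit f :=
  Y.toLocallyRingedSpace.toRingedSpace.isUnit_of_isUnit_germ ⊤ f
    (fun x hx => (Y.mem_basicOpen f x hx).mp (by rw [h]; trivial))

include hp ha in
theorem res_eq (n : ZMod p) : (U p a n).ι.appTop a = c p n := by
  have hT := p_eq_zero p hp T
  let r := (U p a n).ι.appTop.hom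
  have hu : IsUnit (r (eN p a n)) := by
    apply isUnit_of_basicOpen_eq_top
    change (U p a n).toScheme.basicOpen ((U p a n).ι.appTop (eN p a n)) = ⊤
    rw [← Scheme.preimage_basicOpen_top]
    exact (U p a n).ι_preimage_self
  have h0 : r (a - c p n) * r (eN p a n) = 0 := by
    rw [← map_mul, sub_mul_eN p hp a ha, map_zero]
  have h1 : r (a - c p n) = 0 := (hu.mul_left_eq_zero).mp h0
  have hcn : r (c p n) = c p n := by
    unfold c
    exact map_natCast r _
  rw [map_sub, hcn, sub_eq_zero] at h1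
  exact h1

/-- the open cover by the loci `a = n`. -/
noncomputable def cov : T.left.OpenCover :=
  T.left.openCoverOfIsOpenCover (U p a) (U_cover p hp a ha)

/-- the local pieces of the point of the constant scheme. -/
noncomputable def fN (n : ZMod p) :
    (U p a n).toScheme ⟶ (∐ fun _ : Multiplicative (ZMod p) => S : Scheme.{u}) :=
  (U p a n).ι ≫ T.hom ≫ Sigma.ι (fun _ : Multiplicative (ZMod p) => S) (Multiplicative.ofAdd n)

include hp ha in
theorem fN_compat (n m : ZMod p) :
    pullback.fst (U p a n).ι (U p a m).ι ≫ fN p a n = pullback.snd _ _ ≫ fN p a m := by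
  by_cases h : n = m
  · subst h
    unfold fN
    rw [← Category.assoc, ← Category.assoc, pullback.condition]
    simp only [Category.assoc]
  · have : IsEmpty ↑(pullback (U p a n).ι (U p a m).ι) := by
      refine ⟨fun z => ?_⟩
      let x : T.left := (pullback.fst (U p a n).ι (U p a m).ι ≫ (U p a n).ι) z
      have h1 : x ∈ U p a n := (pullback.fst (U p a n).ι (U p a m).ι z).2
      have h2 : x ∈ U p a m := by
        have : x = (pullback.snd (U p a n).ι (U p a m).ι ≫ (U p a m).ι) z := by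
          rw [← pullback.condition]
        rw [this]
        exact (pullback.snd (U p a n).ι (U p a m).ι z).2
      have h3 : x ∈ U p a n ⊓ U p a m := ⟨h1, h2⟩
      rw [U_disjoint p hp a ha h] at h3
      exact h3
    exact (isInitialOfIsEmpty).hom_ext _ _

/-- the glued morphism to the constant scheme. -/
noncomputable def glue : T.left ⟶ (∐ fun _ : Multiplicative (ZMod p) => S : Scheme.{u}) :=
  (cov p hp a ha).glueMorphisms (fN p a) (fN_compat p hp a ha)

theorem ι_glue (n : ZMod p) : (U p a n).ι ≫ glue p hp a ha = fN p a n :=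
  (cov p hp a ha).ι_glueMorphisms (fN p a) (fN_compat p hp a ha) n

theorem glue_w : glue p hp a ha ≫ (TwC.const S (Multiplicative (ZMod p))).hom = T.hom := by
  apply Scheme.Cover.hom_ext (cov p hp a ha)
  intro n
  change (U p a n).ι ≫ glue p hp a ha ≫ _ = (U p a n).ι ≫ T.hom
  rw [← Category.assoc, ι_glue]
  unfold fN
  simp


/-- the point of `G'` attached to a solution of `a ^ p = a`. -/
noncomputable def gOf : T ⟶ G' := Over.homMk (glue p hp a ha) (glue_w p hp a ha) ≫ e.inv

/-- the piece `a = n` as an object over `S`. -/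
abbrev Tn (n : ZMod p) : Over S := Over.mk ((U p a n).ι ≫ T.hom)

/-- its inclusion. -/
abbrev jn (n : ZMod p) : Tn p a n ⟶ T := Over.homMk (U p a n).ι rfl

omit [GrpObj G'] in
theorem jn_gOf (n : ZMod p) :
    jn p a n ≫ gOf p hp e a ha = cpt e (Tn p a n) (Multiplicative.ofAdd n) := by
  unfold gOf cpt
  rw [← Category.assoc, ← Category.assoc]
  congr 1
  ext
  change (U p a n).ι ≫ glue p hp a ha = _
  rw [ι_glue]
  unfold fN
  simp [TwC.pt]

include he hi him in
theorem gaFn_gOf : Red.gaFn (gOf p hp e a ha ≫ i) = a := by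
  have key : gOf p hp e a ha ≫ i = ptOfFn a := by
    ext
    apply Scheme.Cover.hom_ext (cov p hp a ha)
    intro n
    have h : jn p a n ≫ gOf p hp e a ha ≫ i = jn p a n ≫ ptOfFn a := by
      apply eq_of_gaFn_eq
      rw [← Category.assoc, jn_gOf, gaFn_cpt p e he i hi, gaFn_comp, gaFn_ptOfFn]
      exact (res_eq p hp a ha n).symm
    exact congrArg Over.Hom.left h
  rw [key, gaFn_ptOfFn]

end construct

include hp hF he hi him in
theorem existsUnique_as {T : Over S} (x₁ x₂ : T ⟶ Red.Ga S)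
    (h : x₁ ≫ (𝟙 (Red.Ga S) * F⁻¹) = x₂ ≫ (𝟙 (Red.Ga S) * F⁻¹)) :
    ∃! g : T ⟶ G', x₁ * (g ≫ i) = x₂ := by
  have hT := p_eq_zero p hp T
  let a : Γ(T.left, ⊤) := Red.gaFn x₂ - Red.gaFn x₁
  have ha : a ^ p = a := by
    have h1 := congrArg (fun y => Red.gaFn y) h
    simp only [gaFn_P p F hF] at h1
    change (Red.gaFn x₂ - Red.gaFn x₁) ^ p = Red.gaFn x₂ - Red.gaFn x₁
    rw [sub_pow_p p hT]
    linear_combination h1
  refine ⟨gOf p hp e a ha, ?_, ?_⟩
  · apply eq_of_gaFn_eq
    rw [gaFn_mul, gaFn_gOf p hp e he i hi a ha]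
    change Red.gaFn x₁ + (Red.gaFn x₂ - Red.gaFn x₁) = _
    ring
  · intro g hg
    have h1 : g ≫ i = gOf p hp e a ha ≫ i := by
      apply eq_of_gaFn_eq
      rw [gaFn_gOf p hp e he i hi a ha]
      have := congrArg (fun y => Red.gaFn y) hg
      simp only [gaFn_mul] at this
      change _ = Red.gaFn x₂ - Red.gaFn x₁
      rw [← this]
      ring
    have h2 : (g * (gOf p hp e a ha)⁻¹) ≫ i = 1 := by
      have e1 := MonObj.mul_comp g (gOf p hp e a ha)⁻¹ i
      have e2 := GrpObj.inv_comp (gOf p hp e a ha) i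
      rw [e1, e2, h1, _root_.mul_inv_cancel]
    exact mul_inv_eq_one.mp (ker_trivial p hp e he i hi _ h2)


include hp hF he hi him in
theorem isPullback_as :
    IsPullback (fst (Red.Ga S) G') ((Red.Ga S ◁ i) ≫ μ[Red.Ga S])
      (𝟙 (Red.Ga S) * F⁻¹) (𝟙 (Red.Ga S) * F⁻¹) := by
  have := isMonHom_P p hp F hF
  exact isPullback_of_existsUnique i (𝟙 (Red.Ga S) * F⁻¹) (i_comp_P p hp F hF e he i hi)
    (existsUnique_as p hp F hF e he i hi)

section cover

/-- `Xᵖ - X + t` over `ℤ[t]`. -/
noncomputable def poly : Polynomial Coord.{u} :=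
  Polynomial.X ^ p + (-Polynomial.X + Polynomial.C gen)

theorem monic_poly : (poly.{u} p).Monic := by
  apply Polynomial.monic_X_pow_add
  have h1 : (-Polynomial.X + Polynomial.C gen : Polynomial Coord.{u}).degree ≤ 1 := by
    refine (Polynomial.degree_add_le _ _).trans (max_le ?_ ?_)
    · rw [Polynomial.degree_neg]
      exact Polynomial.degree_X_le
    · exact Polynomial.degree_C_le.trans zero_le_one
  refine lt_of_le_of_lt h1 ?_
  exact_mod_cast hpp.out.one_lt

/-- `ℤ[t][X]/(Xᵖ - X + t)`. -/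
abbrev B : Type u := AdjoinRoot (poly.{u} p)

instance : Module.Free Coord.{u} (B.{u} p) := (monic_poly p).free_adjoinRoot

instance : Nontrivial (B.{u} p) := by
  refine Ideal.Quotient.nontrivial_iff.mpr ?_
  rw [Ne, Ideal.span_singleton_eq_top, (monic_poly p).isUnit_iff]
  intro h
  have h1 : (poly.{u} p).degree = (p : WithBot ℕ) := by
    have h0 : Nontrivial Coord.{u} := inferInstance
    unfold poly
    rw [Polynomial.degree_add_eq_left_of_degree_lt, Polynomial.degree_X_pow]
    rw [Polynomial.degree_X_pow]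
    have h1 : (-Polynomial.X + Polynomial.C gen : Polynomial Coord.{u}).degree ≤ 1 := by
      refine (Polynomial.degree_add_le _ _).trans (max_le ?_ ?_)
      · rw [Polynomial.degree_neg]
        exact Polynomial.degree_X_le
      · exact Polynomial.degree_C_le.trans zero_le_one
    refine lt_of_le_of_lt h1 ?_
    exact_mod_cast hpp.out.one_lt
  rw [h, Polynomial.degree_one] at h1
  have h2 : (p : WithBot ℕ) = ((0 : ℕ) : WithBot ℕ) := h1.symm
  exact hpp.out.ne_zero (by exact_mod_cast h2)

omit hpp in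
theorem root_eq : AdjoinRoot.root (poly.{u} p) - (AdjoinRoot.root (poly.{u} p)) ^ p =
    algebraMap Coord.{u} (B.{u} p) gen := by
  have h : Polynomial.eval₂ (AdjoinRoot.of (poly.{u} p)) (AdjoinRoot.root (poly.{u} p))
      (Polynomial.X ^ p + (-Polynomial.X + Polynomial.C gen)) = 0 :=
    AdjoinRoot.eval₂_root (poly.{u} p)
  rw [Polynomial.eval₂_add, Polynomial.eval₂_pow, Polynomial.eval₂_X, Polynomial.eval₂_add,
    Polynomial.eval₂_neg, Polynomial.eval₂_X, Polynomial.eval₂_C] at h
  have h2 : (AdjoinRoot.of (poly.{u} p)) gen = algebraMap Coord.{u} (B.{u} p) gen := rfl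
  rw [h2] at h
  linear_combination -h

/-- `Spec B ⟶ Spec ℤ[t]`. -/
noncomputable def qAB : Spec (CommRingCat.of (B.{u} p)) ⟶ Spec (CommRingCat.of Coord.{u}) :=
  Spec.map (CommRingCat.ofHom (algebraMap Coord.{u} (B.{u} p)))

theorem flat_surj_qAB : Flat (qAB.{u} p) ∧ Surjective (qAB.{u} p) := by
  rw [qAB, AlgebraicGeometry.flat_and_surjective_SpecMap_iff]
  show (algebraMap Coord.{u} (B.{u} p)).FaithfullyFlat
  rw [RingHom.faithfullyFlat_algebraMap_iff]
  infer_instance

instance : Flat (qAB.{u} p) := (flat_surj_qAB p).1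
instance : Surjective (qAB.{u} p) := (flat_surj_qAB p).2
instance : QuasiCompact (qAB.{u} p) := by
  unfold qAB
  infer_instance

variable (S)

/-- The projection `G_a ⟶ Spec ℤ[t]`. -/
noncomputable abbrev p₁ : (Red.Ga S).left ⟶ Spec (CommRingCat.of Coord.{u}) :=
  pullback.fst GaZ.hom (GmPts.toBaseZ S)

/-- The Artin-Schreier covering of `G_a`. -/
noncomputable abbrev cov' : pullback (p₁ S) (qAB.{u} p) ⟶ (Red.Ga S).left := pullback.fst (p₁ S) (qAB.{u} p)

/-- The source of the covering as an object over `S`. -/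
noncomputable abbrev covT : Over S := Over.mk (cov' p S ≫ (Red.Ga S).hom)

/-- The tautological point. -/
noncomputable abbrev covPt : covT p S ⟶ Red.Ga S := Over.homMk (cov' p S) rfl

/-- The Artin-Schreier root. -/
noncomputable def rho₀ : Γ((covT p S).left, ⊤) :=
  (pullback.snd (p₁ S) (qAB.{u} p)).appTop
    ((Scheme.ΓSpecIso (CommRingCat.of (B.{u} p))).inv (AdjoinRoot.root (poly.{u} p)))

omit hpp in
theorem rho₀_eq : rho₀ p S - rho₀ p S ^ p = Red.gaFn (covPt p S) := by
  have h1 : specPt (covPt p S) = pullback.snd (p₁ S) (qAB.{u} p) ≫ qAB.{u} p :=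
    pullback.condition
  have h2 : Red.gaFn (covPt p S) = (specPt (covPt p S)).appTop (coordIso.inv gen) := rfl
  rw [h2, h1, GmPts.appTop_comp_apply]
  unfold qAB
  rw [specMap_appTop_coordIso_inv]
  show _ = (pullback.snd (p₁ S) (qAB.{u} p)).appTop
    ((Scheme.ΓSpecIso (CommRingCat.of (B.{u} p))).inv (algebraMap Coord.{u} (B.{u} p) gen))
  rw [← root_eq, map_sub, map_sub, map_pow, map_pow]
  rfl

/-- The section over the covering. -/
noncomputable def covSec : covT p S ⟶ Red.Ga S := ptOfFn (rho₀ p S)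

variable {S}

include hF in
omit hpp in
theorem covSec_P : covSec p S ≫ (𝟙 (Red.Ga S) * F⁻¹) = covPt p S := by
  apply eq_of_gaFn_eq
  rw [gaFn_P p F hF, covSec, gaFn_ptOfFn, rho₀_eq]

include hF in
theorem isLocallyTrivialFor_P :
    NonAbH1.IsLocallyTrivialFor Scheme.fpqcPrecoverage
      (Over.mk (𝟙 (Red.Ga S) * F⁻¹).left : Over (Red.Ga S).left) :=
  ⟨Presieve.singleton (cov' p S), (cov' p S).singleton_mem_fpqcPrecoverage, by
    rintro S' f ⟨⟩
    exact ⟨(covSec p S).left, congrArg Over.Hom.left (covSec_P p F hF)⟩⟩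

end cover

include hp hF he hi him in
theorem isExactSeq_as :
    NonAbH1.IsExactSeq Scheme.fpqcPrecoverage i (𝟙 (Red.Ga S) * F⁻¹) :=
  ⟨him, isMonHom_P p hp F hF, i_comp_P p hp F hF e he i hi, isPullback_as p hp F hF e he i hi,
    isLocallyTrivialFor_P p F hF⟩

end Groth.Agent.Lib.Helper75.ArtinSchreier
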