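import Groth.Agent.Lib.Helper75.DiagConn2

/- helper75: Hopf-algebra level descent for groups of multiplicative type: annihilators of
   `g - 1` (g group-like) are generated by idempotents; group-likes with regular differences are
   linearly independent (towards S2983). -/

set_option autoImplicit false
universe u
open TensorProduct Coalgebra

namespace Groth.Agent.Lib.Helper75.DiagConn

/-- annihilators of `g - 1`, `g` group-like, are generated by idempotents -/
def AnnIdem (S B : Type u) [CommRing S] [CommRing B] [HopfAlgebra S B] : Prop :=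
  ∀ g : B, IsGroupLikeElem S g → AnnIdemElem S (g - 1)

/-- group-likes with pairwise regular differences are linearly independent -/
def Indep (S B : Type u) [CommRing S] [CommRing B] [HopfAlgebra S B] : Prop :=
  ∀ (ι : Type u) (g : ι → B), (∀ i, IsGroupLikeElem S (g i)) →
    (∀ i j, i ≠ j → ∀ r : S, r • (g i - g j) = 0 → r = 0) → LinearIndependent S g

section Diag

variable {S : Type u} [CommRing S] {B : Type u} [CommRing B] [HopfAlgebra S B]

theorem annIdem_of_isDiag (h : SGA3b.IsDiag S B) : AnnIdem S B := by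
  obtain ⟨M, _, ⟨e⟩⟩ := h
  intro g hg
  have hx : IsGroupLikeElem S (e g) := hg.map e
  refine ⟨(e g).coeff 1, coeff_mul_self hx 1, ?_⟩
  ext r
  rw [mem_ann, ← smul_sub_one_eq_zero_iff hx]
  have h1 : e (r • (g - 1)) = r • (e g - 1) := by
    rw [map_smul, map_sub, map_one]
  constructor
  · intro h
    rw [← h1, h, map_zero]
  · intro h
    have hinj : Function.Injective (e : B → MonoidAlgebra S M) := e.injective
    apply hinj
    rw [h1, h, map_zero]

theorem indep_of_isDiag (h : SGA3b.IsDiag S B) : Indep S B := by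
  obtain ⟨M, _, ⟨e⟩⟩ := h
  intro ι g hg hreg
  have h1 : LinearIndependent S (fun i => e (g i)) := by
    apply linearIndependent_of_regular_sub _ (fun i => (hg i).map e)
    intro i j hij r hr
    apply hreg i j hij r
    have hinj : Function.Injective (e : B → MonoidAlgebra S M) := e.injective
    apply hinj
    rw [map_smul, map_sub, hr, map_zero]
  exact LinearIndependent.of_comp ((e : B →ₐc[S] MonoidAlgebra S M) : B →ₗ[S] MonoidAlgebra S M) h1

end Diag

section BaseChange

variable {S : Type u} [CommRing S] {B : Type u} [CommRing B] [HopfAlgebra S B]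
  (S' : Type u) [CommRing S'] [Algebra S S']

theorem isGroupLikeElem_one_tmul {x : B} (hx : IsGroupLikeElem S x) :
    IsGroupLikeElem S' ((1 : S') ⊗ₜ[S] x) where
  counit_eq_one := by
    rw [TensorProduct.counit_tmul, hx.counit_eq_one]
    simp
  comul_eq_tmul_self := by
    rw [TensorProduct.comul_tmul, hx.comul_eq_tmul_self]
    simp

theorem one_tmul_sub_one (g : B) : (1 : S') ⊗ₜ[S] (g - 1) = (1 : S') ⊗ₜ[S] g - 1 := by
  rw [TensorProduct.tmul_sub, Algebra.TensorProduct.one_def]

theorem annIdemElem_bc_of_annIdem (h : AnnIdem S' (S' ⊗[S] B)) {g : B}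
    (hg : IsGroupLikeElem S g) : AnnIdemElem S' ((1 : S') ⊗ₜ[S] (g - 1)) := by
  rw [one_tmul_sub_one]
  exact h _ (isGroupLikeElem_one_tmul S' hg)

theorem annIdem_of_bc [Module.FaithfullyFlat S S'] (h : AnnIdem S' (S' ⊗[S] B)) :
    AnnIdem S B := by
  intro g hg
  exact annIdemElem_of_faithfullyFlat S' _ (annIdemElem_bc_of_annIdem S' h hg)

/-- key transfer step for linear independence -/
theorem algebraMap_eq_zero_of_indep_bc [Module.Flat S S'] (h : Indep S' (S' ⊗[S] B))
    {ι : Type u} (g : ι → B) (hg : ∀ i, IsGroupLikeElem S (g i))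
    (hreg : ∀ i j, i ≠ j → ∀ r : S, r • (g i - g j) = 0 → r = 0)
    (s : Finset ι) (c : ι → S) (hc : ∑ i ∈ s, c i • g i = 0) (i : ι) (hi : i ∈ s) :
    algebraMap S S' (c i) = 0 := by
  have hli : LinearIndependent S' (fun i => (1 : S') ⊗ₜ[S] g i) := by
    apply h ι _ (fun i => isGroupLikeElem_one_tmul S' (hg i))
    intro i j hij r hr
    rw [← TensorProduct.tmul_sub, smul_one_tmul_eq_zero_iff] at hr
    have hbot : ann (R := S) (g i - g j) = ⊥ := by
      rw [eq_bot_iff]
      intro x hx
      exact hreg i j hij x ((mem_ann _ _).mp hx)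
    rw [hbot, Ideal.map_bot] at hr
    exact hr
  rw [linearIndependent_iff'] at hli
  apply hli s (fun i => algebraMap S S' (c i)) _ i hi
  have h1 : ∀ i, algebraMap S S' (c i) • ((1 : S') ⊗ₜ[S] g i) = (1 : S') ⊗ₜ[S] (c i • g i) := by
    intro i
    rw [TensorProduct.smul_tmul', smul_eq_mul, mul_one, Algebra.algebraMap_eq_smul_one,
      TensorProduct.smul_tmul]
  simp only [h1]
  rw [← TensorProduct.tmul_sum, hc, TensorProduct.tmul_zero]

theorem indep_of_bc [Module.FaithfullyFlat S S'] (h : Indep S' (S' ⊗[S] B)) : Indep S B := by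
  intro ι g hg hreg
  rw [linearIndependent_iff']
  intro s c hc i hi
  have h1 := algebraMap_eq_zero_of_indep_bc S' h g hg hreg s c hc i hi
  have hinj : Function.Injective (algebraMap S S') :=
    FaithfulSMul.algebraMap_injective S S'
  exact hinj (by rw [h1, map_zero])

end BaseChange

section Descent

variable {R : Type u} [CommRing R] {B : Type u} [CommRing B] [HopfAlgebra R B]

theorem annIdem_of_isMultTypeConst (h : SGA3b.IsMultTypeConst R B) : AnnIdem R B := by
  obtain ⟨R', _, _, hff, hd⟩ := h
  exact annIdem_of_bc R' (annIdem_of_isDiag hd)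

theorem indep_of_isMultTypeConst (h : SGA3b.IsMultTypeConst R B) : Indep R B := by
  obtain ⟨R', _, _, hff, hd⟩ := h
  exact indep_of_bc R' (indep_of_isDiag hd)

theorem annIdem_of_isMultType (h : SGA3b.IsMultType R B) : AnnIdem R B := by
  obtain ⟨s, hs, hf⟩ := h
  intro g hg
  apply annIdemElem_of_localized_span s hs
  intro f
  exact annIdemElem_bc_of_annIdem (Localization.Away f.1)
    (annIdem_of_isMultTypeConst (hf f.1 f.2)) hg

theorem indep_of_isMultType (h : SGA3b.IsMultType R B) : Indep R B := by
  obtain ⟨s, hs, hf⟩ := h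
  intro ι g hg hreg
  rw [linearIndependent_iff']
  intro t c hc i hi
  have hmem : c i ∈ (⊥ : Ideal R) := by
    apply Submodule.mem_of_span_eq_top_of_smul_pow_mem _ s hs
    intro f
    have h1 := algebraMap_eq_zero_of_indep_bc (Localization.Away f.1)
      (indep_of_isMultTypeConst (hf f.1 f.2)) g hg hreg t c hc i hi
    obtain ⟨⟨fk, k, hk'⟩, hk⟩ :=
      (IsLocalization.map_eq_zero_iff (Submonoid.powers f.1) _ _).mp h1
    simp only at hk hk'
    subst hk'
    exact ⟨k, by rw [smul_eq_mul, hk]; exact Submodule.zero_mem _⟩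
  simpa using hmem

end Descent

end Groth.Agent.Lib.Helper75.DiagConn
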