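import Groth.Agent.Lib.Helper75.DiagConn3

/- helper75: over a connected base, a Hopf algebra of multiplicative type which is spanned by
   group-likes is diagonalisable (S2983). -/

set_option autoImplicit false
universe u
open TensorProduct Coalgebra

namespace Groth.Agent.Lib.Helper75.DiagConn

section Main
variable {R : Type u} [CommRing R] {B : Type u} [CommRing B] [HopfAlgebra R B]

theorem isDiag_of_span_groupLike (hconn : ∀ e : R, IsIdempotentElem e → e = 0 ∨ e = 1)
    (hspan : Submodule.span R {b : B | IsGroupLikeElem R b} = ⊤)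
    (h1 : AnnIdem R B) (h2 : Indep R B) : SGA3b.IsDiag R B := by
  have hreg : ∀ g h : GroupLike R B, g ≠ h → ∀ r : R, r • ((g : B) - (h : B)) = 0 → r = 0 := by
    intro g h hgh r hr
    obtain ⟨e, he, hann⟩ := h1 ((g * h⁻¹ : GroupLike R B) : B) (g * h⁻¹).2
    rcases hconn e he with rfl | rfl
    · have hmem : r ∈ ann (R := R) (((g * h⁻¹ : GroupLike R B) : B) - 1) := by
        rw [mem_ann]
        have h3 : ((g * h⁻¹ : GroupLike R B) : B) - 1 =
            ((g : B) - (h : B)) * ((h⁻¹ : GroupLike R B) : B) := by
          rw [sub_mul, GroupLike.val_mul, ← GroupLike.val_mul h h⁻¹, mul_inv_cancel,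
            GroupLike.val_one]
        rw [h3, ← smul_mul_assoc, hr, zero_mul]
      rw [hann] at hmem
      simpa using hmem
    · exfalso
      have hmem : (1 : R) ∈ ann (R := R) (((g * h⁻¹ : GroupLike R B) : B) - 1) := by
        rw [hann]; exact Ideal.subset_span (Set.mem_singleton _)
      rw [mem_ann, one_smul, sub_eq_zero] at hmem
      have h4 : g * h⁻¹ = 1 := GroupLike.val_injective (by simpa using hmem)
      exact hgh (mul_inv_eq_one.mp h4)
  have hli : LinearIndependent R (fun g : GroupLike R B => (g : B)) :=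
    h2 (GroupLike R B) _ (fun g => g.2) hreg
  let f : MonoidAlgebra R (GroupLike R B) →ₐc[R] B := MonoidAlgebra.liftGroupLikeBialgHom
  have hf : ∀ x : MonoidAlgebra R (GroupLike R B),
      f x = Finsupp.linearCombination R (fun g : GroupLike R B => (g : B)) x.coeff := by
    intro x
    change MonoidAlgebra.lift R B (GroupLike R B) _ x = _
    rw [MonoidAlgebra.lift_apply, Finsupp.linearCombination_apply]
    rfl
  have hbij : Function.Bijective f := by
    constructor
    · intro x y hxy
      have h0 : f (x - y) = 0 := by rw [map_sub, hxy, sub_self]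
      rw [hf] at h0
      have h5 := (linearIndependent_iff.mp hli) _ h0
      have h6 : x - y = 0 := MonoidAlgebra.coeff_injective (by rw [h5]; rfl)
      exact sub_eq_zero.mp h6
    · have hr : LinearMap.range (f : MonoidAlgebra R (GroupLike R B) →ₗ[R] B) = ⊤ := by
        rw [eq_top_iff, ← hspan, Submodule.span_le]
        intro b hb
        refine ⟨MonoidAlgebra.single ⟨b, hb⟩ 1, ?_⟩
        change MonoidAlgebra.lift R B (GroupLike R B) _ _ = _
        rw [MonoidAlgebra.lift_single, one_smul]
        rfl
      intro b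
      have : b ∈ LinearMap.range (f : MonoidAlgebra R (GroupLike R B) →ₗ[R] B) := by
        rw [hr]; exact Submodule.mem_top
      obtain ⟨x, hx⟩ := this
      exact ⟨x, hx⟩
  exact ⟨GroupLike R B, inferInstance, ⟨(BialgEquiv.ofBijective f hbij).symm⟩⟩

end Main

section Quot

variable {R : Type u} [CommRing R] {A : Type u} [CommRing A] [HopfAlgebra R A]

theorem span_groupLike_quotient (hG : SGA3b.IsDiagFT R A) (J : Ideal A) [J.IsHopfIdeal R] :
    Submodule.span R {b : A ⧸ J | IsGroupLikeElem R b} = ⊤ := by
  obtain ⟨M, _, _, ⟨e⟩⟩ := hG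
  let q : MonoidAlgebra R M →ₐc[R] A ⧸ J :=
    (Bialgebra.Quotient.mkBialgHom J).comp (e.symm : MonoidAlgebra R M →ₐc[R] A)
  have hq : Function.Surjective q := by
    intro b
    obtain ⟨a, rfl⟩ := Ideal.Quotient.mk_surjective b
    exact ⟨e a, by change Ideal.Quotient.mk J (e.symm (e a)) = _; rw [e.symm_apply_apply]⟩
  rw [eq_top_iff]
  intro b _
  obtain ⟨x, rfl⟩ := hq b
  have hx : x ∈ Submodule.span R {a : MonoidAlgebra R M | IsGroupLikeElem R a} := by
    rw [MonoidAlgebra.span_isGroupLikeElem]; exact Submodule.mem_top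
  refine Submodule.span_induction (p := fun x _ => q x ∈
    Submodule.span R {b : A ⧸ J | IsGroupLikeElem R b}) ?_ ?_ ?_ ?_ hx
  · intro a ha
    exact Submodule.subset_span (ha.map q)
  · rw [map_zero]; exact Submodule.zero_mem _
  · intro a b _ _ ha hb
    rw [map_add]; exact Submodule.add_mem _ ha hb
  · intro r a _ ha
    rw [map_smul]; exact Submodule.smul_mem _ _ ha

end Quot

end Groth.Agent.Lib.Helper75.DiagConn
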