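import Groth.Agent.Lib.Helper75.TensorComparison
import Mathlib.Algebra.Homology.ShortComplex.ExactFunctor
import Mathlib.Algebra.Homology.ShortComplex.ModuleCat
import Mathlib.LinearAlgebra.TensorProduct.RightExactness
import Mathlib.LinearAlgebra.Finsupp.VectorSpace

set_option autoImplicit false
universe u

namespace Groth.Agent.Lib.Helper75

open CategoryTheory CategoryTheory.Limits

section ladders

variable {A : Type*} [CommRing A]
  {K' L' M' K L M : Type*} [AddCommGroup K'] [AddCommGroup L'] [AddCommGroup M']
  [AddCommGroup K] [AddCommGroup L] [AddCommGroup M]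
  [Module A K'] [Module A L'] [Module A M'] [Module A K] [Module A L] [Module A M]
  (i' : K' →ₗ[A] L') (q' : L' →ₗ[A] M') (i : K →ₗ[A] L) (q : L →ₗ[A] M)
  (tK : K' →ₗ[A] K) (tL : L' →ₗ[A] L) (tM : M' →ₗ[A] M)
  (h1 : i ∘ₗ tK = tL ∘ₗ i') (h2 : q ∘ₗ tL = tM ∘ₗ q')

include h1 h2 in
theorem ladder_injective (hex' : Function.Exact i' q') (hq' : Function.Surjective q')
    (hex : Function.Exact i q) (hK : Function.Surjective tK) (hL : Function.Injective tL) :
    Function.Injective tM := by
  rw [injective_iff_map_eq_zero]
  intro z hz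
  obtain ⟨w, rfl⟩ := hq' z
  have e1 : q (tL w) = 0 := by
    have := congrArg (fun f => f w) h2
    simp only [LinearMap.coe_comp, Function.comp_apply] at this
    rw [this, hz]
  obtain ⟨v, hv⟩ := (hex (tL w)).mp e1
  obtain ⟨u, rfl⟩ := hK v
  have e2 : tL (i' u) = tL w := by
    have := congrArg (fun f => f u) h1
    simp only [LinearMap.coe_comp, Function.comp_apply] at this
    rw [← this, hv]
  have e3 : i' u = w := hL e2
  rw [← e3]
  exact (hex' (i' u)).mpr ⟨u, rfl⟩

include h2 in
theorem ladder_surjective (hq : Function.Surjective q) (hL : Function.Surjective tL) :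
    Function.Surjective tM := by
  intro z
  obtain ⟨w, rfl⟩ := hq z
  obtain ⟨v, rfl⟩ := hL w
  refine ⟨q' v, ?_⟩
  have := congrArg (fun f => f v) h2
  simp only [LinearMap.coe_comp, Function.comp_apply] at this
  exact this.symm

include h1 h2 in
theorem ladder_exact (hex' : Function.Exact i' q') (hzero : q ∘ₗ i = 0)
    (hK : Function.Surjective tK) (hL : Function.Surjective tL) (hM : Function.Injective tM) :
    Function.Exact i q := by
  intro y
  constructor
  · intro hy
    obtain ⟨w, rfl⟩ := hL y
    have e1 : tM (q' w) = 0 := by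
      have := congrArg (fun f => f w) h2
      simp only [LinearMap.coe_comp, Function.comp_apply] at this
      rw [← this, hy]
    have e2 : q' w = 0 := hM (by rw [e1, map_zero])
    obtain ⟨u, rfl⟩ := (hex' w).mp e2
    refine ⟨tK u, ?_⟩
    have := congrArg (fun f => f u) h1
    simp only [LinearMap.coe_comp, Function.comp_apply] at this
    exact this
  · rintro ⟨x, rfl⟩
    have := congrArg (fun f => f x) hzero
    simpa using this

include h2 in
theorem ladder_surjective' (hq' : Function.Surjective q') (hM : Function.Surjective tM) :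
    Function.Surjective q := by
  intro z
  obtain ⟨v, rfl⟩ := hM z
  obtain ⟨w, rfl⟩ := hq' v
  refine ⟨tL w, ?_⟩
  have := congrArg (fun f => f w) h2
  simp only [LinearMap.coe_comp, Function.comp_apply] at this
  exact this

end ladders

section EW

variable {A : Type u} [CommRing A]
  (T : ModuleCat.{u} A ⥤ ModuleCat.{u} A) [T.Additive] [T.Linear A]

theorem map_comp_hom_eq_zero (S : ShortComplex (ModuleCat.{u} A)) :
    (T.map S.g).hom ∘ₗ (T.map S.f).hom = 0 := by
  have h : T.map S.f ≫ T.map S.g = 0 := by rw [← T.map_comp, S.zero, T.map_zero]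
  have h2 := congrArg ModuleCat.Hom.hom h
  rw [ModuleCat.hom_comp] at h2
  exact h2

theorem preservesFiniteColimits_of_bijective (h : ∀ M, Function.Bijective (tMap T M)) :
    PreservesFiniteColimits T := by
  apply ((Functor.preservesFiniteColimits_tfae T).out 3 0 :).mpr
  intro S hS
  have hex : Function.Exact S.f.hom S.g.hom :=
    (ShortComplex.ShortExact.moduleCat_exact_iff_function_exact S).mp hS.exact
  have hsurj : Function.Surjective S.g.hom := (ModuleCat.epi_iff_surjective _).mp hS.epi_g
  have hex' := lTensor_exact (T.obj (ModuleCat.of A A)) hex hsurj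
  have hsurj' := LinearMap.lTensor_surjective (T.obj (ModuleCat.of A A)) hsurj
  constructor
  · apply (ShortComplex.ShortExact.moduleCat_exact_iff_function_exact (S.map T)).mpr
    exact ladder_exact (LinearMap.lTensor _ S.f.hom) (LinearMap.lTensor _ S.g.hom)
      (T.map S.f).hom (T.map S.g).hom (tMap T S.X₁) (tMap T S.X₂) (tMap T S.X₃)
      (tMap_naturality T S.f) (tMap_naturality T S.g) hex' (map_comp_hom_eq_zero T S)
      (h _).2 (h _).2 (h _).1
  · rw [ModuleCat.epi_iff_surjective]
    exact ladder_surjective' (LinearMap.lTensor _ S.g.hom) (T.map S.g).hom (tMap T S.X₂)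
      (tMap T S.X₃) (tMap_naturality T S.g) hsurj' (h _).2

theorem exact_of_preservesFiniteColimits [hT : PreservesFiniteColimits T]
    (S : ShortComplex (ModuleCat.{u} A)) (hS : S.ShortExact) : (S.map T).Exact :=
  (((Functor.preservesFiniteColimits_tfae T).out 3 0 :).mp hT S hS).1

section

variable [∀ J : Type u, PreservesColimitsOfShape (Discrete J) T]

theorem bijective_of_preservesFiniteColimits [hT : PreservesFiniteColimits T] (M : ModuleCat.{u} A) :
    Function.Bijective (tMap T M) := by
  let q : (M →₀ A) →ₗ[A] M := Finsupp.linearCombination A id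
  have hq : Function.Surjective q := Finsupp.linearCombination_id_surjective A M
  let p : (LinearMap.ker q →₀ A) →ₗ[A] (M →₀ A) :=
    (LinearMap.ker q).subtype ∘ₗ Finsupp.linearCombination A id
  have hpq : Function.Exact p q := by
    rw [LinearMap.exact_iff]
    have : LinearMap.range p = LinearMap.ker q := by
      rw [LinearMap.range_comp, LinearMap.range_eq_top.mpr
        (Finsupp.linearCombination_id_surjective A (LinearMap.ker q)), Submodule.map_top,
        Submodule.range_subtype]
    exact this.symm
  let S : ShortComplex (ModuleCat.{u} A) :=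
    ShortComplex.mk (ModuleCat.ofHom p) (ModuleCat.ofHom q) (by
      ext : 1
      rw [ModuleCat.hom_comp, ModuleCat.hom_ofHom, ModuleCat.hom_ofHom]
      exact hpq.linearMap_comp_eq_zero)
  have hS : S.Exact ∧ Epi S.g :=
    ⟨(ShortComplex.ShortExact.moduleCat_exact_iff_function_exact S).mpr hpq,
      (ModuleCat.epi_iff_surjective _).mpr hq⟩
  obtain ⟨hTex, hTepi⟩ := ((Functor.preservesFiniteColimits_tfae T).out 3 1 :).mp hT S hS
  have hTex' : Function.Exact (T.map S.f).hom (T.map S.g).hom :=
    (ShortComplex.ShortExact.moduleCat_exact_iff_function_exact (S.map T)).mp hTex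
  have hTsurj : Function.Surjective (T.map S.g).hom := (ModuleCat.epi_iff_surjective _).mp hTepi
  have hfree1 : Module.Free A S.X₁ := inferInstanceAs (Module.Free A (LinearMap.ker q →₀ A))
  have hfree2 : Module.Free A S.X₂ := inferInstanceAs (Module.Free A (M →₀ A))
  constructor
  · exact ladder_injective (LinearMap.lTensor _ p) (LinearMap.lTensor _ q)
      (T.map S.f).hom (T.map S.g).hom (tMap T S.X₁) (tMap T S.X₂) (tMap T S.X₃)
      (tMap_naturality T S.f) (tMap_naturality T S.g)
      (lTensor_exact _ hpq hq) (LinearMap.lTensor_surjective _ hq) hTex'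
      (tMap_bijective_of_free T S.X₁).2 (tMap_bijective_of_free T S.X₂).1
  · exact ladder_surjective (LinearMap.lTensor _ q) (T.map S.g).hom (tMap T S.X₂) (tMap T S.X₃)
      (tMap_naturality T S.g) hTsurj (tMap_bijective_of_free T S.X₂).2

theorem bijective_of_halfExact_of_surjective
    (hhalf : ∀ S : ShortComplex (ModuleCat.{u} A), S.ShortExact → (S.map T).Exact)
    (hsurj : ∀ M : ModuleCat.{u} A, Function.Surjective (tMap T M)) (M : ModuleCat.{u} A) :
    Function.Bijective (tMap T M) := by
  refine ⟨?_, hsurj M⟩
  let q : (M →₀ A) →ₗ[A] M := Finsupp.linearCombination A id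
  have hq : Function.Surjective q := Finsupp.linearCombination_id_surjective A M
  have hpq : Function.Exact (LinearMap.ker q).subtype q := LinearMap.exact_subtype_ker_map q
  let S : ShortComplex (ModuleCat.{u} A) := q.shortComplexKer
  have hS : S.ShortExact := LinearMap.shortExact_shortComplexKer hq
  have hTex' : Function.Exact (T.map S.f).hom (T.map S.g).hom :=
    (ShortComplex.ShortExact.moduleCat_exact_iff_function_exact (S.map T)).mp (hhalf S hS)
  have hfree2 : Module.Free A S.X₂ := inferInstanceAs (Module.Free A (M →₀ A))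
  exact ladder_injective (LinearMap.lTensor _ (LinearMap.ker q).subtype) (LinearMap.lTensor _ q)
    (T.map S.f).hom (T.map S.g).hom (tMap T S.X₁) (tMap T S.X₂) (tMap T S.X₃)
    (tMap_naturality T S.f) (tMap_naturality T S.g)
    (lTensor_exact _ hpq hq) (LinearMap.lTensor_surjective _ hq) hTex'
    (hsurj S.X₁) (tMap_bijective_of_free T S.X₂).1

end

end EW

end Groth.Agent.Lib.Helper75
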