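/-
Helper75: Euler characteristic of a bounded complex of finite-length modules equals that of its homology.
-/
import Mathlib

set_option autoImplicit false
universe u v

open CategoryTheory CategoryTheory.Limits

namespace Groth.Agent.Lib.Helper75.EulerChar

variable {R : Type u} [Ring R]

lemma length_ker_add_range {M N : Type*} [AddCommGroup M] [Module R M] [AddCommGroup N]
    [Module R N] (f : M →ₗ[R] N) :
    Module.length R M = Module.length R (LinearMap.ker f) + Module.length R (LinearMap.range f) :=
  Module.length_eq_add_of_exact (LinearMap.ker f).subtype f.rangeRestrict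
    (Submodule.subtype_injective _) f.surjective_rangeRestrict (by
      intro x
      constructor
      · intro hx
        exact ⟨⟨x, by simpa [Subtype.ext_iff] using hx⟩, rfl⟩
      · rintro ⟨y, rfl⟩
        exact Subtype.ext y.2)

lemma length_ker_eq (S : ShortComplex (ModuleCat.{v} R)) :
    Module.length R (LinearMap.ker S.g.hom) =
      Module.length R (LinearMap.range S.f.hom) + Module.length R S.homology := by
  have h1 := Module.length_eq_add_of_exact (LinearMap.range S.moduleCatToCycles).subtype
    (LinearMap.range S.moduleCatToCycles).mkQ (Submodule.subtype_injective _)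
    (Submodule.mkQ_surjective _) (LinearMap.exact_subtype_mkQ _)
  rw [h1]
  congr 1
  · have h2 : (LinearMap.range S.moduleCatToCycles).map (LinearMap.ker S.g.hom).subtype =
        LinearMap.range S.f.hom := by
      rw [← LinearMap.range_comp]
      rfl
    exact ((Submodule.equivMapOfInjective _ (Submodule.subtype_injective _) _).trans
      (LinearEquiv.ofEq _ _ h2)).length_eq
  · exact (S.moduleCatHomologyIso.toLinearEquiv).length_eq.symm

lemma toNat_add_of_eq {a b c : ℕ∞} (h : c = a + b) (hc : c ≠ ⊤) :
    (c.toNat : ℤ) = a.toNat + b.toNat := by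
  subst h
  have ha : a ≠ ⊤ := fun h => hc (by rw [h, top_add])
  have hb : b ≠ ⊤ := fun h => hc (by rw [h, add_top])
  rw [ENat.toNat_add ha hb]
  push_cast
  rfl

theorem euler (M : CochainComplex (ModuleCat.{u} R) ℤ) (s : Finset ℤ)
    (hs : ∀ i, i ∉ s → IsZero (M.X i))
    (hfl : ∀ i, IsFiniteLength R (M.X i)) :
    (s.sum fun i => ((i.negOnePow : ℤˣ) : ℤ) * ((Module.length R (M.X i)).toNat : ℤ)) =
      s.sum fun i => ((i.negOnePow : ℤˣ) : ℤ) * ((Module.length R (M.homology i)).toNat : ℤ) := by
  classical
  -- the numbers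
  let z : ℤ → ℕ∞ := fun i => Module.length R (LinearMap.ker (M.d i (i + 1)).hom)
  let β : ℤ → ℕ∞ := fun i => Module.length R (LinearMap.range (M.d i (i + 1)).hom)
  have hm : ∀ i, Module.length R (M.X i) ≠ ⊤ := fun i => Module.length_ne_top_iff.mpr (hfl i)
  have h1 : ∀ i, Module.length R (M.X i) = z i + β i := fun i =>
    length_ker_add_range (M.d i (i + 1)).hom
  have hz : ∀ i, z i ≠ ⊤ := fun i h => hm i (by rw [h1 i, h, top_add])
  have h2 : ∀ i, z i = β (i - 1) + Module.length R (M.homology i) := by
    intro i
    have e := ShortComplex.homologyMapIso (M.isoSc' (i - 1) i (i + 1) (by simp) (by simp))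
    have h3 := length_ker_eq (M.sc' (i - 1) i (i + 1))
    have h4 : Module.length R (M.homology i) = Module.length R (M.sc' (i - 1) i (i + 1)).homology :=
      e.toLinearEquiv.length_eq
    rw [h4]
    have h5 : β (i - 1) = Module.length R (LinearMap.range (M.sc' (i - 1) i (i + 1)).f.hom) := by
      change Module.length R (LinearMap.range (M.d (i - 1) (i - 1 + 1)).hom) =
        Module.length R (LinearMap.range (M.d (i - 1) i).hom)
      have : i - 1 + 1 = i := by ring
      rw [this]
    rw [h5]
    exact h3
  have hβ0 : ∀ i, i ∉ s → β i = 0 := by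
    intro i hi
    have := ModuleCat.subsingleton_of_isZero (hs i hi)
    have : Subsingleton (LinearMap.range (M.d i (i + 1)).hom) := by
      constructor
      rintro ⟨_, x, rfl⟩ ⟨_, y, rfl⟩
      rw [Subsingleton.elim x y]
    exact Module.length_eq_zero
  have hβ0' : ∀ i, i ∉ s → β (i - 1) = 0 := by
    intro i hi
    have := ModuleCat.subsingleton_of_isZero (hs i hi)
    have h6 : Subsingleton (M.X (i - 1 + 1)) := by
      have : i - 1 + 1 = i := by ring
      rw [this]; infer_instance
    exact Module.length_eq_zero
  -- reduce to cancellation of boundaries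
  have key : ∀ i, ((Module.length R (M.X i)).toNat : ℤ) =
      ((Module.length R (M.homology i)).toNat : ℤ) + ((β (i - 1)).toNat + (β i).toNat) := by
    intro i
    rw [toNat_add_of_eq (h1 i) (hm i), toNat_add_of_eq (h2 i) (hz i)]
    ring
  simp_rw [key, mul_add, Finset.sum_add_distrib]
  -- cancellation
  have hcancel : (s.sum fun i => ((i.negOnePow : ℤˣ) : ℤ) * ((β (i - 1)).toNat : ℤ)) +
      (s.sum fun i => ((i.negOnePow : ℤˣ) : ℤ) * ((β i).toNat : ℤ)) = 0 := by
    let g : ℤ → ℤ := fun i => ((i.negOnePow : ℤˣ) : ℤ) * ((β i).toNat : ℤ)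
    have hg : Function.support g ⊆ ↑s := by
      intro i hi
      by_contra his
      apply hi
      simp only [g, hβ0 i his, ENat.toNat_zero, Nat.cast_zero, mul_zero]
    have hg' : Function.support (fun i => g (i - 1)) ⊆ ↑s := by
      intro i hi
      by_contra his
      apply hi
      simp only [g, hβ0' i his, ENat.toNat_zero, Nat.cast_zero, mul_zero]
    have e1 : (s.sum fun i => ((i.negOnePow : ℤˣ) : ℤ) * ((β (i - 1)).toNat : ℤ)) =
        - s.sum fun i => g (i - 1) := by
      rw [← Finset.sum_neg_distrib]
      refine Finset.sum_congr rfl fun i _ => ?_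
      simp only [g, Int.negOnePow_sub, Int.negOnePow_one]
      simp
    rw [e1, ← finsum_eq_sum_of_support_subset _ hg', ← finsum_eq_sum_of_support_subset _ hg]
    have e2 : (∑ᶠ i, g (i - 1)) = ∑ᶠ i, g i :=
      finsum_comp_equiv (Equiv.subRight (1 : ℤ)) (f := g)
    rw [e2]
    ring
  linarith

end Groth.Agent.Lib.Helper75.EulerChar
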