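/-
Helper75: Euler characteristic for complexes of shape `up' a` (e.g. pages of spectral sequences).
-/
import Mathlib
import Groth.Agent.Lib.Helper75.EulerChar

set_option autoImplicit false
universe u v

open CategoryTheory CategoryTheory.Limits

namespace Groth.Agent.Lib.Helper75.EulerChar

variable {R : Type u} [Ring R]

/-- Euler characteristic for complexes of shape `up' a` on an additive commutative group, with a
sign function `ε` alternating along `a`. -/
theorem euler' {κ : Type*} [AddCommGroup κ] (a : κ) (ε : κ → ℤ) (hε : ∀ i, ε (i + a) = - ε i)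
    (M : HomologicalComplex (ModuleCat.{v} R) (ComplexShape.up' a)) (s : Finset κ)
    (hs : ∀ i, i ∉ s → IsZero (M.X i))
    (hfl : ∀ i, IsFiniteLength R (M.X i)) :
    (s.sum fun i => ε i * ((Module.length R (M.X i)).toNat : ℤ)) =
      s.sum fun i => ε i * ((Module.length R (M.homology i)).toNat : ℤ) := by
  classical
  let z : κ → ℕ∞ := fun i => Module.length R (LinearMap.ker (M.d i (i + a)).hom)
  let β : κ → ℕ∞ := fun i => Module.length R (LinearMap.range (M.d i (i + a)).hom)
  have hm : ∀ i, Module.length R (M.X i) ≠ ⊤ := fun i => Module.length_ne_top_iff.mpr (hfl i)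
  have h1 : ∀ i, Module.length R (M.X i) = z i + β i := fun i =>
    length_ker_add_range (M.d i (i + a)).hom
  have hz : ∀ i, z i ≠ ⊤ := fun i h => hm i (by rw [h1 i, h, top_add])
  have h2 : ∀ i, z i = β (i - a) + Module.length R (M.homology i) := by
    intro i
    have e := ShortComplex.homologyMapIso (M.isoSc' (i - a) i (i + a)
      ((ComplexShape.up' a).prev_eq' (sub_add_cancel i a)) ((ComplexShape.up' a).next_eq' rfl))
    have h3 := length_ker_eq (M.sc' (i - a) i (i + a))
    have h4 : Module.length R (M.homology i) = Module.length R (M.sc' (i - a) i (i + a)).homology :=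
      e.toLinearEquiv.length_eq
    rw [h4]
    have h5 : β (i - a) = Module.length R (LinearMap.range (M.sc' (i - a) i (i + a)).f.hom) := by
      change Module.length R (LinearMap.range (M.d (i - a) (i - a + a)).hom) =
        Module.length R (LinearMap.range (M.d (i - a) i).hom)
      have : i - a + a = i := sub_add_cancel i a
      rw [this]
    rw [h5]
    exact h3
  have hβ0 : ∀ i, i ∉ s → β i = 0 := by
    intro i hi
    have := ModuleCat.subsingleton_of_isZero (hs i hi)
    have : Subsingleton (LinearMap.range (M.d i (i + a)).hom) := by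
      constructor
      rintro ⟨_, x, rfl⟩ ⟨_, y, rfl⟩
      rw [Subsingleton.elim x y]
    exact Module.length_eq_zero
  have hβ0' : ∀ i, i ∉ s → β (i - a) = 0 := by
    intro i hi
    have := ModuleCat.subsingleton_of_isZero (hs i hi)
    have h6 : Subsingleton (M.X (i - a + a)) := by
      have : i - a + a = i := sub_add_cancel i a
      rw [this]; infer_instance
    exact Module.length_eq_zero
  have key : ∀ i, ((Module.length R (M.X i)).toNat : ℤ) =
      ((Module.length R (M.homology i)).toNat : ℤ) + ((β (i - a)).toNat + (β i).toNat) := by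
    intro i
    rw [toNat_add_of_eq (h1 i) (hm i), toNat_add_of_eq (h2 i) (hz i)]
    ring
  simp_rw [key, mul_add, Finset.sum_add_distrib]
  have hcancel : (s.sum fun i => ε i * ((β (i - a)).toNat : ℤ)) +
      (s.sum fun i => ε i * ((β i).toNat : ℤ)) = 0 := by
    let g : κ → ℤ := fun i => ε i * ((β i).toNat : ℤ)
    have hg : Function.support g ⊆ ↑s := by
      intro i hi
      by_contra his
      apply hi
      simp only [g, hβ0 i his, ENat.toNat_zero, Nat.cast_zero, mul_zero]
    have hg' : Function.support (fun i => g (i - a)) ⊆ ↑s := by
      intro i hi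
      by_contra his
      apply hi
      simp only [g, hβ0' i his, ENat.toNat_zero, Nat.cast_zero, mul_zero]
    have e1 : (s.sum fun i => ε i * ((β (i - a)).toNat : ℤ)) =
        - s.sum fun i => g (i - a) := by
      rw [← Finset.sum_neg_distrib]
      refine Finset.sum_congr rfl fun i _ => ?_
      have : ε i = - ε (i - a) := by
        have := hε (i - a)
        rw [sub_add_cancel] at this
        exact this
      simp only [g, this]
      ring
    rw [e1, ← finsum_eq_sum_of_support_subset _ hg', ← finsum_eq_sum_of_support_subset _ hg]
    have e2 : (∑ᶠ i, g (i - a)) = ∑ᶠ i, g i :=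
      finsum_comp_equiv (Equiv.subRight a) (f := g)
    rw [e2]
    ring
  linarith

lemma isFiniteLength_homology {ι : Type*} {c : ComplexShape ι}
    (M : HomologicalComplex (ModuleCat.{v} R) c) (i : ι) (h : IsFiniteLength R (M.X i)) :
    IsFiniteLength R (M.homology i) := by
  have h1 : IsFiniteLength R (LinearMap.ker (M.sc i).g.hom) :=
    IsFiniteLength.of_injective h (Submodule.subtype_injective _)
  have h2 : IsFiniteLength R ((M.sc i).moduleCatLeftHomologyData.H) :=
    IsFiniteLength.of_surjective h1 (Submodule.mkQ_surjective _)
  exact (IsFiniteLength.of_injective h2 ((M.sc i).moduleCatHomologyIso.toLinearEquiv.injective))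

lemma isZero_homology {ι : Type*} {c : ComplexShape ι}
    (M : HomologicalComplex (ModuleCat.{v} R) c) (i : ι) (h : IsZero (M.X i)) :
    IsZero (M.homology i) := by
  rw [← HomologicalComplex.exactAt_iff_isZero_homology]
  exact ShortComplex.exact_of_isZero_X₂ _ h

end Groth.Agent.Lib.Helper75.EulerChar
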