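import Groth.Agent.Lib.Helper5.ExtRigid

/- helper75: extensions `1 → G → E → P → 1` of group schemes (fpqc-exact, `G` commutative): if maps
`P × G → G` trivial on the axes are trivial then `G` is central in `E`; if moreover `P` is commutative
and maps `P × P → G` trivial on the axes are trivial then `E` is commutative (SGA7).  Built on helper5's
`TorsorExact` descent lemmas. -/

set_option autoImplicit false
universe u

open CategoryTheory CategoryTheory.Limits MonoidalCategory CartesianMonoidalCategory MonObj GrpObj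
  AlgebraicGeometry

namespace Groth.Agent.Lib.Helper75.ExtCentral

open Groth.Agent.Lib.Helper5.TorsorExact Groth.Agent.Lib.Helper5.TorsorPush

variable {S : Scheme.{u}}

theorem secSieve_id (G : Over S) :
    secSieve (Over.mk (𝟙 G : G ⟶ G).left : Over G.left) ∈ Scheme.fpqcTopology G.left := by
  have : secSieve (Over.mk (𝟙 G : G ⟶ G).left : Over G.left) = ⊤ := by
    ext W f
    simp only [Sieve.top_apply, iff_true]
    exact ⟨f, by simp⟩
  rw [this]
  exact Scheme.fpqcTopology.top_mem _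

/-- In an extension `1 → G → E → P → 1` (fpqc-exact) with `G` commutative such that every morphism
`P × G → G` trivial on the axes is trivial, `G` is central in `E`. -/
theorem central (P G E : Over S) [GrpObj P] [GrpObj G] [GrpObj E] [IsCommMonObj G]
    (u : G ⟶ E) (v : E ⟶ P) (hex : NonAbH1.IsExactSeq Scheme.fpqcPrecoverage u v)
    (hPG : ∀ f : P ⊗ G ⟶ G, lift (𝟙 P) (toUnit P ≫ η[G]) ≫ f = 1 →
      lift (toUnit G ≫ η[P]) (𝟙 G) ≫ f = 1 → f = 1)
    (T : Over S) (g : T ⟶ G) (x : T ⟶ E) : (g ≫ u) * x = x * (g ≫ u) := by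
  obtain ⟨hu_m, hv_m, huv, hpb, hloc⟩ := hex
  have := hu_m
  have := hv_m
  have hu_inj : ∀ {T : Over S} (a b : T ⟶ G), a ≫ u = b ≫ u → a = b := by
    intro T a b hab
    have h2 : (a * b⁻¹) ≫ u = 1 := by
      rw [MonObj.mul_comp, GrpObj.inv_comp, hab, _root_.mul_inv_cancel]
    have h3 := eq_one_of_comp_eq_one u v hpb _ h2
    exact mul_inv_eq_one.mp h3
  have huv1 : ∀ {T : Over S} (a : T ⟶ G), (a ≫ u) ≫ v = 1 := by
    intro T a
    rw [Category.assoc, huv, MonObj.comp_one]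
  -- the defect `d x g = x u(g) x⁻¹ u(g)⁻¹`
  let d : ∀ {T : Over S}, (T ⟶ E) → (T ⟶ G) → (T ⟶ E) :=
    fun x g => x * (g ≫ u) * x⁻¹ * (g ≫ u)⁻¹
  have hd_def : ∀ {T : Over S} (x : T ⟶ E) (g : T ⟶ G),
      d x g = x * (g ≫ u) * x⁻¹ * (g ≫ u)⁻¹ := fun _ _ => rfl
  have hd_v : ∀ {T : Over S} (x : T ⟶ E) (g : T ⟶ G), d x g ≫ v = 1 := by
    intro T x g
    rw [hd_def, MonObj.mul_comp _ _ v, MonObj.mul_comp _ _ v, MonObj.mul_comp _ _ v,
      GrpObj.inv_comp _ v, GrpObj.inv_comp _ v, huv1]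
    group
  have hd_comp : ∀ {T T' : Over S} (z : T' ⟶ T) (x : T ⟶ E) (g : T ⟶ G),
      z ≫ d x g = d (z ≫ x) (z ≫ g) := by
    intro T T' z x g
    rw [hd_def, hd_def, MonObj.comp_mul, MonObj.comp_mul, MonObj.comp_mul, GrpObj.comp_inv,
      GrpObj.comp_inv, Category.assoc]
  have hd_inv : ∀ {T : Over S} (x : T ⟶ E) (g h : T ⟶ G), d (x * (h ≫ u)) g = d x g := by
    intro T x g h
    have e1 : (h ≫ u) * (g ≫ u) = (g ≫ u) * (h ≫ u) := by
      rw [← MonObj.mul_comp, ← MonObj.mul_comp, mul_comm]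
    rw [hd_def, hd_def]
    calc x * (h ≫ u) * (g ≫ u) * (x * (h ≫ u))⁻¹ * (g ≫ u)⁻¹
        = x * ((h ≫ u) * (g ≫ u)) * (h ≫ u)⁻¹ * x⁻¹ * (g ≫ u)⁻¹ := by group
      _ = x * ((g ≫ u) * (h ≫ u)) * (h ≫ u)⁻¹ * x⁻¹ * (g ≫ u)⁻¹ := by rw [e1]
      _ = _ := by group
  obtain ⟨ct, hct, -⟩ := existsUnique_of_ker u v hpb (d (fst E G) (snd E G)) (hd_v _ _)
  have hct_pt : ∀ {T : Over S} (x : T ⟶ E) (g : T ⟶ G), (lift x g ≫ ct) ≫ u = d x g := by
    intro T x g
    rw [Category.assoc, hct, hd_comp, lift_fst, lift_snd]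
  have hsec : secSieve (Over.mk v.left : Over P.left) ∈ Scheme.fpqcTopology P.left :=
    (isLocallyTrivialFor_iff _).mp hloc
  have hvv : EffectiveEpi (v ⊗ₘ (𝟙 G : G ⟶ G)).left :=
    effectiveEpi_left_of_secSieve _ (secSieve_tensor v (𝟙 G) hsec (secSieve_id G))
  have hve : EffectiveEpi v.left := effectiveEpi_left_of_secSieve _ hsec
  have : Epi v := epi_of_effectiveEpi_left v
  obtain ⟨c, hc⟩ := exists_desc_of_effectiveEpi (v ⊗ₘ (𝟙 G : G ⟶ G)) ct (by
    intro T a₁ a₂ ha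
    have hx : (a₁ ≫ fst E G) ≫ v = (a₂ ≫ fst E G) ≫ v := by
      have := congrArg (fun k => k ≫ fst P G) ha
      simpa only [Category.assoc, tensorHom_fst] using this
    have hy : a₁ ≫ snd E G = a₂ ≫ snd E G := by
      have := congrArg (fun k => k ≫ snd P G) ha
      simpa only [Category.assoc, tensorHom_snd, Category.comp_id] using this
    obtain ⟨h, hh, -⟩ := existsUnique_of_exact u v hpb _ _ hx
    apply hu_inj
    rw [Category.assoc, Category.assoc, hct, hd_comp, hd_comp, ← hh, ← hy, hd_inv])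
  have hc1 : c = 1 := by
    apply hPG
    · rw [← cancel_epi v, MonObj.comp_one]
      have e : v ≫ lift (𝟙 P) (toUnit P ≫ η[G]) = lift (𝟙 E) (1 : E ⟶ G) ≫ (v ⊗ₘ (𝟙 G : G ⟶ G)) := by
        rw [lift_map, comp_lift, Category.id_comp, Category.comp_id, Category.comp_id, Hom.one_def,
          ← Category.assoc, toUnit_unique (v ≫ toUnit P) (toUnit E)]
      rw [← Category.assoc, e, Category.assoc, hc]
      apply hu_inj
      rw [hct_pt, hd_def, MonObj.one_comp u]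
      group
    · have e : lift (toUnit G ≫ η[P]) (𝟙 G) = lift (1 : G ⟶ E) (𝟙 G) ≫ (v ⊗ₘ (𝟙 G : G ⟶ G)) := by
        rw [lift_map, Category.comp_id, MonObj.one_comp, Hom.one_def]
      rw [e, Category.assoc, hc]
      apply hu_inj
      rw [hct_pt, hd_def, MonObj.one_comp u]
      group
  have hct1 : ct = 1 := by
    rw [← hc, hc1, MonObj.comp_one]
  have hfin : d x g = 1 := by
    rw [← hct_pt, hct1, MonObj.comp_one, MonObj.one_comp]
  rw [hd_def] at hfin
  have h2 : x * (g ≫ u) = (g ≫ u) * x := by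
    have := mul_inv_eq_one.mp hfin
    exact mul_inv_eq_iff_eq_mul.mp this
  exact h2.symm


/-- If moreover `P` is commutative and every morphism `P × P → G` trivial on the axes is trivial,
then `E` is commutative. -/
theorem comm (P G E : Over S) [GrpObj P] [GrpObj G] [GrpObj E] [IsCommMonObj G]
    (u : G ⟶ E) (v : E ⟶ P) (hex : NonAbH1.IsExactSeq Scheme.fpqcPrecoverage u v)
    (hcen : ∀ (T : Over S) (g : T ⟶ G) (x : T ⟶ E), (g ≫ u) * x = x * (g ≫ u))
    [IsCommMonObj P]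
    (hPP : ∀ f : P ⊗ P ⟶ G, lift (𝟙 P) (toUnit P ≫ η[P]) ≫ f = 1 →
      lift (toUnit P ≫ η[P]) (𝟙 P) ≫ f = 1 → f = 1) : IsCommMonObj E := by
  obtain ⟨hu_m, hv_m, huv, hpb, hloc⟩ := hex
  have := hu_m
  have := hv_m
  have hu_inj : ∀ {T : Over S} (a b : T ⟶ G), a ≫ u = b ≫ u → a = b := by
    intro T a b hab
    have h2 : (a * b⁻¹) ≫ u = 1 := by
      rw [MonObj.mul_comp, GrpObj.inv_comp, hab, _root_.mul_inv_cancel]
    have h3 := eq_one_of_comp_eq_one u v hpb _ h2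
    exact mul_inv_eq_one.mp h3
  let d : ∀ {T : Over S}, (T ⟶ E) → (T ⟶ E) → (T ⟶ E) :=
    fun x y => x * y * x⁻¹ * y⁻¹
  have hd_def : ∀ {T : Over S} (x y : T ⟶ E), d x y = x * y * x⁻¹ * y⁻¹ := fun _ _ => rfl
  have hd_v : ∀ {T : Over S} (x y : T ⟶ E), d x y ≫ v = 1 := by
    intro T x y
    rw [hd_def, MonObj.mul_comp _ _ v, MonObj.mul_comp _ _ v, MonObj.mul_comp _ _ v,
      GrpObj.inv_comp _ v, GrpObj.inv_comp _ v, mul_comm (x ≫ v) (y ≫ v)]
    group
  have hd_comp : ∀ {T T' : Over S} (z : T' ⟶ T) (x y : T ⟶ E),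
      z ≫ d x y = d (z ≫ x) (z ≫ y) := by
    intro T T' z x y
    rw [hd_def, hd_def, MonObj.comp_mul, MonObj.comp_mul, MonObj.comp_mul, GrpObj.comp_inv,
      GrpObj.comp_inv]
  have hd_inv : ∀ {T : Over S} (x y : T ⟶ E) (g h : T ⟶ G),
      d (x * (g ≫ u)) (y * (h ≫ u)) = d x y := by
    intro T x y g h
    have e1 : (g ≫ u) * y = y * (g ≫ u) := hcen T g y
    have e2 : (h ≫ u) * x⁻¹ = x⁻¹ * (h ≫ u) := hcen T h x⁻¹
    have e3 : (g ≫ u) * (h ≫ u) = (h ≫ u) * (g ≫ u) := hcen T g (h ≫ u)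
    have e4 : (g ≫ u)⁻¹ * y⁻¹ = y⁻¹ * (g ≫ u)⁻¹ := by
      rw [← _root_.mul_inv_rev, ← _root_.mul_inv_rev, e1]
    have e5 : (g ≫ u) * x⁻¹ = x⁻¹ * (g ≫ u) := hcen T g x⁻¹
    rw [hd_def, hd_def]
    calc x * (g ≫ u) * (y * (h ≫ u)) * (x * (g ≫ u))⁻¹ * (y * (h ≫ u))⁻¹
        = x * ((g ≫ u) * y) * ((h ≫ u) * (g ≫ u)⁻¹) * x⁻¹ * (h ≫ u)⁻¹ * y⁻¹ := by group
      _ = x * (y * (g ≫ u)) * ((h ≫ u) * (g ≫ u)⁻¹) * x⁻¹ * (h ≫ u)⁻¹ * y⁻¹ := by rw [e1]
      _ = x * y * ((g ≫ u) * (h ≫ u)) * (g ≫ u)⁻¹ * x⁻¹ * (h ≫ u)⁻¹ * y⁻¹ := by group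
      _ = x * y * ((h ≫ u) * (g ≫ u)) * (g ≫ u)⁻¹ * x⁻¹ * (h ≫ u)⁻¹ * y⁻¹ := by rw [e3]
      _ = x * y * ((h ≫ u) * x⁻¹) * (h ≫ u)⁻¹ * y⁻¹ := by group
      _ = x * y * (x⁻¹ * (h ≫ u)) * (h ≫ u)⁻¹ * y⁻¹ := by rw [e2]
      _ = _ := by group
  obtain ⟨ct, hct, -⟩ := existsUnique_of_ker u v hpb (d (fst E E) (snd E E)) (hd_v _ _)
  have hct_pt : ∀ {T : Over S} (x y : T ⟶ E), (lift x y ≫ ct) ≫ u = d x y := by
    intro T x y
    rw [Category.assoc, hct, hd_comp, lift_fst, lift_snd]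
  have hsec : secSieve (Over.mk v.left : Over P.left) ∈ Scheme.fpqcTopology P.left :=
    (isLocallyTrivialFor_iff _).mp hloc
  have hvv : EffectiveEpi (v ⊗ₘ v).left :=
    effectiveEpi_left_of_secSieve _ (secSieve_tensor v v hsec hsec)
  have hve : EffectiveEpi v.left := effectiveEpi_left_of_secSieve _ hsec
  have : Epi v := epi_of_effectiveEpi_left v
  obtain ⟨c, hc⟩ := exists_desc_of_effectiveEpi (v ⊗ₘ v) ct (by
    intro T a₁ a₂ ha
    have hx : (a₁ ≫ fst E E) ≫ v = (a₂ ≫ fst E E) ≫ v := by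
      have := congrArg (fun k => k ≫ fst P P) ha
      simpa only [Category.assoc, tensorHom_fst] using this
    have hy : (a₁ ≫ snd E E) ≫ v = (a₂ ≫ snd E E) ≫ v := by
      have := congrArg (fun k => k ≫ snd P P) ha
      simpa only [Category.assoc, tensorHom_snd] using this
    obtain ⟨g, hg, -⟩ := existsUnique_of_exact u v hpb _ _ hx
    obtain ⟨h, hh, -⟩ := existsUnique_of_exact u v hpb _ _ hy
    apply hu_inj
    rw [Category.assoc, Category.assoc, hct, hd_comp, hd_comp, ← hg, ← hh, hd_inv])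
  have hc1 : c = 1 := by
    apply hPP
    · rw [← cancel_epi v, MonObj.comp_one]
      have e : v ≫ lift (𝟙 P) (toUnit P ≫ η[P]) = lift (𝟙 E) (1 : E ⟶ E) ≫ (v ⊗ₘ v) := by
        rw [lift_map, comp_lift, Category.id_comp, Category.comp_id, MonObj.one_comp, Hom.one_def,
          ← Category.assoc, toUnit_unique (v ≫ toUnit P) (toUnit E)]
      rw [← Category.assoc, e, Category.assoc, hc]
      apply hu_inj
      rw [hct_pt, hd_def, MonObj.one_comp u]
      group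
    · rw [← cancel_epi v, MonObj.comp_one]
      have e : v ≫ lift (toUnit P ≫ η[P]) (𝟙 P) = lift (1 : E ⟶ E) (𝟙 E) ≫ (v ⊗ₘ v) := by
        rw [lift_map, comp_lift, Category.id_comp, Category.comp_id, MonObj.one_comp, Hom.one_def,
          ← Category.assoc, toUnit_unique (v ≫ toUnit P) (toUnit E)]
      rw [← Category.assoc, e, Category.assoc, hc]
      apply hu_inj
      rw [hct_pt, hd_def, MonObj.one_comp u]
      group
  have hct1 : ct = 1 := by
    rw [← hc, hc1, MonObj.comp_one]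
  have hfin : d (fst E E) (snd E E) = 1 := by
    rw [← hct, hct1, MonObj.one_comp]
  rw [hd_def] at hfin
  have h2 : fst E E * snd E E = snd E E * fst E E := by
    have := mul_inv_eq_one.mp hfin
    exact mul_inv_eq_iff_eq_mul.mp this
  refine ⟨?_⟩
  have e1 : fst E E * snd E E = μ[E] := by
    rw [Hom.mul_def, lift_fst_snd, Category.id_comp]
  have e2 : snd E E * fst E E = (β_ E E).hom ≫ μ[E] := by
    rw [Hom.mul_def]
    congr 1
  rw [← e2, ← e1]
  exact h2.symm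

end Groth.Agent.Lib.Helper75.ExtCentral
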