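import Groth.Agent.Lib.Helper75.FPGood

set_option autoImplicit false
universe u
open CategoryTheory CategoryTheory.Limits MvPolynomial

namespace Groth.Agent.Lib.Helper75.FPSys

open Groth.Agent.Lib.Helper75.FPStage

noncomputable section

attribute [local instance] Classical.propDecidable

variable {R B D D' : Type u} [CommRing R] [CommRing B] [CommRing D] [CommRing D']
  [Algebra R B] [Algebra R D] [Algebra R D']

variable (f : B →ₐ[R] D) (i : D' →ₐ[R] D) (lam : B → D')

/-- the index poset -/
def J : Type u := {j : Idx R B D' // ∃ hj : Valid i lam j, Good f hj}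

instance : Preorder (J f i lam) := inferInstanceAs (Preorder {j : Idx R B D' // _})

variable {f i lam}

lemma J.valid (j : J f i lam) : Valid i lam j.1 := j.2.choose

lemma J.good (j : J f i lam) : Good f j.valid := j.2.choose_spec

lemma valid_gen (S : Finset B) (E : Finset D') : Valid i lam (⟨S, E, ∅, ∅, ∅⟩ : Idx R B D') := by
  constructor
  · intro t ht; exact absurd ht (Finset.notMem_empty t)
  · intro t ht; exact absurd ht (Finset.notMem_empty t)
  · intro t ht; exact absurd ht (Finset.notMem_empty t)
  · intro t ht; exact absurd ht (Finset.notMem_empty t)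

section

variable (hlam : ∀ b, i (lam b) = f b) (hnil : ∀ x ∈ RingHom.ker i.toRingHom, IsNilpotent x)

include hlam hnil

lemma J.exists_ge {j : Idx R B D'} (hj : Valid i lam j) : ∃ k : J f i lam, j ≤ k.1 := by
  obtain ⟨j', hj', hle, hg⟩ := exists_good hlam hnil hj
  exact ⟨⟨j', hj', hg⟩, hle⟩

lemma J.nonempty : Nonempty (J f i lam) := by
  obtain ⟨k, -⟩ := J.exists_ge hlam hnil (valid_gen (i := i) (lam := lam) ∅ ∅)
  exact ⟨k⟩

lemma J.directed : IsDirected (J f i lam) (· ≤ ·) := by
  constructor
  intro a b
  obtain ⟨k, hk⟩ := J.exists_ge hlam hnil (Valid.sup i lam a.valid b.valid)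
  exact ⟨k, (Idx.le_sup_left _ _).trans hk, (Idx.le_sup_right _ _).trans hk⟩

lemma J.isFiltered : IsFiltered (J f i lam) := by
  haveI := J.nonempty hlam hnil
  haveI := J.directed hlam hnil
  exact isFiltered_of_directed_le_nonempty _

end

/-! ### objects and functors -/

variable (R) in
/-- the base object -/
abbrev RR : CommRingCat.{u} := CommRingCat.of R

/-- an `R`-algebra as an object under `R` -/
abbrev underOf (A : Type u) [CommRing A] [Algebra R A] : Under (RR R) :=
  Under.mk (CommRingCat.ofHom (R := R) (S := A) (algebraMap R A))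

/-- an algebra hom as a morphism under `R` -/
def underHom {A A' : Type u} [CommRing A] [CommRing A'] [Algebra R A] [Algebra R A']
    (g : A →ₐ[R] A') : underOf (R := R) A ⟶ underOf (R := R) A' :=
  Under.homMk (CommRingCat.ofHom (R := A) (S := A') g.toRingHom) (by
    ext r
    exact g.commutes r)

lemma underHom_right_apply {A A' : Type u} [CommRing A] [CommRing A'] [Algebra R A]
    [Algebra R A'] (g : A →ₐ[R] A') (x : A) : (underHom g).right.hom x = g x := rfl

lemma underHom_ext {A A' : Type u} [CommRing A] [CommRing A'] [Algebra R A]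
    [Algebra R A'] {g g' : underOf (R := R) A ⟶ underOf (R := R) A'}
    (h : ∀ x : A, g.right.hom x = g'.right.hom x) : g = g' := by
  apply Under.UnderMorphism.ext
  apply CommRingCat.hom_ext
  exact RingHom.ext h

variable (f i lam) in
/-- the diagram approximating `B` -/
def DB : J f i lam ⥤ Under (RR R) where
  obj j := underOf (R := R) (Bj j.1)
  map h := underHom (trB (leOfHom h))
  map_id j := underHom_ext (fun x => trB_refl j.1 x)
  map_comp h h' := underHom_ext (fun x => (trB_trans (leOfHom h) (leOfHom h') x).symm)

variable (f i lam) in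
/-- the diagram approximating `D'` -/
def DD' : J f i lam ⥤ Under (RR R) where
  obj j := underOf (R := R) (D'j lam j.1)
  map h := underHom (trD' lam (leOfHom h))
  map_id j := underHom_ext (fun x => trD'_refl j.1 x)
  map_comp h h' := underHom_ext (fun x => (trD'_trans (leOfHom h) (leOfHom h') x).symm)

variable (f i lam) in
/-- the diagram approximating `D` -/
def DD : J f i lam ⥤ Under (RR R) where
  obj j := underOf (R := R) (Dj lam j.1)
  map h := underHom (trD lam (leOfHom h))
  map_id j := underHom_ext (fun x => trD_refl j.1 x)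
  map_comp h h' := underHom_ext (fun x => (trD_trans (leOfHom h) (leOfHom h') x).symm)

variable (f i lam) in
/-- `φ` -/
def phiN : DB f i lam ⟶ DD f i lam where
  app j := underHom (phij j.valid)
  naturality j j' h := underHom_ext (fun x => by
    change phij j'.valid (trB (leOfHom h) x) = trD lam (leOfHom h) (phij j.valid x)
    exact phij_trB j.valid j'.valid (leOfHom h) x)

variable (f i lam) in
/-- `ψ` -/
def psiN : DD' f i lam ⟶ DD f i lam where
  app j := underHom (psij lam j.1)
  naturality j j' h := underHom_ext (fun x => by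
    change psij lam j'.1 (trD' lam (leOfHom h) x) = trD lam (leOfHom h) (psij lam j.1 x)
    exact psij_trD' (leOfHom h) x)

variable (f i lam) in
/-- cocone on `B` -/
def coB : DB f i lam ⟶ (Functor.const (J f i lam)).obj (underOf (R := R) B) where
  app j := underHom (toB j.valid)
  naturality j j' h := underHom_ext (fun x => by
    change toB j'.valid (trB (leOfHom h) x) = toB j.valid x
    exact toB_trB j.valid j'.valid (leOfHom h) x)

variable (f i lam) in
/-- cocone on `D'` -/
def coD' : DD' f i lam ⟶ (Functor.const (J f i lam)).obj (underOf (R := R) D') where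
  app j := underHom (toD' j.valid)
  naturality j j' h := underHom_ext (fun x => by
    change toD' j'.valid (trD' lam (leOfHom h) x) = toD' j.valid x
    exact toD'_trD' j.valid j'.valid (leOfHom h) x)

variable (f i lam) in
/-- cocone on `D` -/
def coD : DD f i lam ⟶ (Functor.const (J f i lam)).obj (underOf (R := R) D) where
  app j := underHom (toD j.valid)
  naturality j j' h := underHom_ext (fun x => by
    change toD j'.valid (trD lam (leOfHom h) x) = toD j.valid x
    exact toD_trD j.valid j'.valid (leOfHom h) x)

/-! ### the fibre products -/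

section Ppart

variable (f i lam)

/-- `φ_j` in `CommRingCat` -/
abbrev phiC (j : J f i lam) : ((DB f i lam).obj j).right ⟶ ((DD f i lam).obj j).right :=
  ((phiN f i lam).app j).right

/-- `ψ_j` in `CommRingCat` -/
abbrev psiC (j : J f i lam) : ((DD' f i lam).obj j).right ⟶ ((DD f i lam).obj j).right :=
  ((psiN f i lam).app j).right

/-- the stage fibre product -/
abbrev Pc (j : J f i lam) : CommRingCat.{u} :=
  (CommRingCat.pullbackCone (phiC f i lam j) (psiC f i lam j)).pt

/-- first projection -/
abbrev fstC (j : J f i lam) : Pc f i lam j ⟶ ((DB f i lam).obj j).right :=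
  (CommRingCat.pullbackCone (phiC f i lam j) (psiC f i lam j)).fst

/-- second projection -/
abbrev sndC (j : J f i lam) : Pc f i lam j ⟶ ((DD' f i lam).obj j).right :=
  (CommRingCat.pullbackCone (phiC f i lam j) (psiC f i lam j)).snd

lemma isPb (j : J f i lam) :
    IsPullback (fstC f i lam j) (sndC f i lam j) (phiC f i lam j) (psiC f i lam j) :=
  IsPullback.of_isLimit (CommRingCat.pullbackConeIsLimit _ _)

variable {f i lam}

lemma Pc_ext {j : J f i lam} {y z : Pc f i lam j} (h1 : (fstC f i lam j).hom y = (fstC f i lam j).hom z)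
    (h2 : (sndC f i lam j).hom y = (sndC f i lam j).hom z) : y = z :=
  Subtype.ext (Prod.ext h1 h2)

lemma Pc_cond {j : J f i lam} (y : Pc f i lam j) :
    (phiC f i lam j).hom ((fstC f i lam j).hom y) = (psiC f i lam j).hom ((sndC f i lam j).hom y) :=
  y.2

/-- constructing elements of the stage fibre product -/
def Pc_mk {j : J f i lam} (a : Bj j.1) (b : D'j lam j.1) (h : phij j.valid a = psij lam j.1 b) :
    Pc f i lam j := ⟨(a, b), h⟩

lemma Pc_mk_fst {j : J f i lam} (a : Bj j.1) (b : D'j lam j.1)
    (h : phij j.valid a = psij lam j.1 b) : (fstC f i lam j).hom (Pc_mk a b h) = a := rfl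

lemma Pc_mk_snd {j : J f i lam} (a : Bj j.1) (b : D'j lam j.1)
    (h : phij j.valid a = psij lam j.1 b) : (sndC f i lam j).hom (Pc_mk a b h) = b := rfl

variable (f i lam)

/-- structure map of the stage fibre product -/
def sP (j : J f i lam) : RR R ⟶ Pc f i lam j :=
  (isPb f i lam j).lift ((DB f i lam).obj j).hom ((DD' f i lam).obj j).hom
    (by rw [Under.w, Under.w])

/-- the stage fibre product under `R` -/
def oP (j : J f i lam) : Under (RR R) := Under.mk (sP f i lam j)

/-- transition maps of the fibre products -/
def mapP {j j' : J f i lam} (h : j ⟶ j') : Pc f i lam j ⟶ Pc f i lam j' :=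
  (isPb f i lam j').lift (fstC f i lam j ≫ ((DB f i lam).map h).right)
    (sndC f i lam j ≫ ((DD' f i lam).map h).right)
    (by
      have h1 := congrArg (fun g => g.right) ((phiN f i lam).naturality h)
      have h2 := congrArg (fun g => g.right) ((psiN f i lam).naturality h)
      simp only [Under.comp_right] at h1 h2
      rw [Category.assoc, Category.assoc, h1, h2, ← Category.assoc, ← Category.assoc,
        (isPb f i lam j).w])

@[reassoc]
lemma mapP_fst {j j' : J f i lam} (h : j ⟶ j') :
    mapP f i lam h ≫ fstC f i lam j' = fstC f i lam j ≫ ((DB f i lam).map h).right :=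
  (isPb f i lam j').lift_fst _ _ _

@[reassoc]
lemma mapP_snd {j j' : J f i lam} (h : j ⟶ j') :
    mapP f i lam h ≫ sndC f i lam j' = sndC f i lam j ≫ ((DD' f i lam).map h).right :=
  (isPb f i lam j').lift_snd _ _ _

@[reassoc]
lemma sP_fst (j : J f i lam) : sP f i lam j ≫ fstC f i lam j = ((DB f i lam).obj j).hom :=
  (isPb f i lam j).lift_fst _ _ _

@[reassoc]
lemma sP_snd (j : J f i lam) : sP f i lam j ≫ sndC f i lam j = ((DD' f i lam).obj j).hom :=
  (isPb f i lam j).lift_snd _ _ _

/-- the diagram of fibre products -/
def DP : J f i lam ⥤ Under (RR R) where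
  obj j := oP f i lam j
  map {j j'} h := Under.homMk (mapP f i lam h) (by
    apply (isPb f i lam j').hom_ext
    · change (sP f i lam j ≫ mapP f i lam h) ≫ fstC f i lam j' = sP f i lam j' ≫ fstC f i lam j'
      rw [Category.assoc, mapP_fst, sP_fst_assoc, sP_fst, Under.w]
    · change (sP f i lam j ≫ mapP f i lam h) ≫ sndC f i lam j' = sP f i lam j' ≫ sndC f i lam j'
      rw [Category.assoc, mapP_snd, sP_snd_assoc, sP_snd, Under.w])
  map_id j := by
    apply Under.UnderMorphism.ext
    apply (isPb f i lam j).hom_ext
    · change mapP f i lam (𝟙 j) ≫ fstC f i lam j = 𝟙 _ ≫ fstC f i lam j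
      rw [mapP_fst, CategoryTheory.Functor.map_id, Under.id_right, Category.comp_id, Category.id_comp]
    · change mapP f i lam (𝟙 j) ≫ sndC f i lam j = 𝟙 _ ≫ sndC f i lam j
      rw [mapP_snd, CategoryTheory.Functor.map_id, Under.id_right, Category.comp_id, Category.id_comp]
  map_comp {j j' j''} h h' := by
    apply Under.UnderMorphism.ext
    apply (isPb f i lam j'').hom_ext
    · change mapP f i lam (h ≫ h') ≫ fstC f i lam j'' =
        (mapP f i lam h ≫ mapP f i lam h') ≫ fstC f i lam j''
      rw [mapP_fst, Category.assoc, mapP_fst, mapP_fst_assoc, CategoryTheory.Functor.map_comp, Under.comp_right]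
    · change mapP f i lam (h ≫ h') ≫ sndC f i lam j'' =
        (mapP f i lam h ≫ mapP f i lam h') ≫ sndC f i lam j''
      rw [mapP_snd, Category.assoc, mapP_snd, mapP_snd_assoc, CategoryTheory.Functor.map_comp, Under.comp_right]

/-- first projection of diagrams -/
def pi1 : DP f i lam ⟶ DB f i lam where
  app j := Under.homMk (fstC f i lam j) (sP_fst f i lam j)
  naturality j j' h := by
    apply Under.UnderMorphism.ext
    exact mapP_fst f i lam h

/-- second projection of diagrams -/
def pi2 : DP f i lam ⟶ DD' f i lam where
  app j := Under.homMk (sndC f i lam j) (sP_snd f i lam j)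
  naturality j j' h := by
    apply Under.UnderMorphism.ext
    exact mapP_snd f i lam h

end Ppart

end

end Groth.Agent.Lib.Helper75.FPSys
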