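import Mathlib

set_option autoImplicit false
universe u
open CategoryTheory CategoryTheory.Limits

namespace Groth.Agent.Lib.Helper75.FPColim

/-- Recognising filtered colimits in `CommRingCat`. -/
theorem isColimit_commRingCat_of {ι : Type u} [SmallCategory ι] [IsFiltered ι]
    {F : ι ⥤ CommRingCat.{u}} (c : Cocone F)
    (hsurj : ∀ x : c.pt, ∃ (j : ι) (y : F.obj j), (c.ι.app j).hom y = x)
    (hinj : ∀ (j : ι) (y z : F.obj j), (c.ι.app j).hom y = (c.ι.app j).hom z →
        ∃ (k : ι) (g : j ⟶ k), (F.map g).hom y = (F.map g).hom z) :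
    Nonempty (IsColimit c) := by
  have : PreservesColimitsOfShape ι (forget CommRingCat.{u}) :=
    PreservesFilteredColimitsOfSize.preserves_filtered_colimits ι
  have : ReflectsColimit F (forget CommRingCat.{u}) :=
    reflectsColimit_of_reflectsIsomorphisms F (forget CommRingCat.{u})
  refine ⟨isColimitOfReflects (forget CommRingCat.{u}) ?_⟩
  refine Types.FilteredColimit.isColimitOf' _ _ ?_ ?_
  · intro x
    obtain ⟨j, y, hy⟩ := hsurj x
    exact ⟨j, y, hy.symm⟩
  · intro j y z h
    obtain ⟨k, g, hg⟩ := hinj j y z h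
    exact ⟨k, g, hg⟩

/-- Recognising filtered colimits in `Under R`. -/
theorem isColimit_under_of {R : CommRingCat.{u}} {ι : Type u} [SmallCategory ι] [IsFiltered ι]
    {F : ι ⥤ Under R} (c : Cocone F)
    (hsurj : ∀ x : c.pt.right, ∃ (j : ι) (y : (F.obj j).right), (c.ι.app j).right.hom y = x)
    (hinj : ∀ (j : ι) (y z : (F.obj j).right),
        (c.ι.app j).right.hom y = (c.ι.app j).right.hom z →
        ∃ (k : ι) (g : j ⟶ k), (F.map g).right.hom y = (F.map g).right.hom z) :
    Nonempty (IsColimit c) := by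
  have : IsConnected ι := IsFiltered.isConnected ι
  obtain ⟨h⟩ := isColimit_commRingCat_of ((Under.forget R).mapCocone c) hsurj hinj
  exact ⟨isColimitOfReflects (Under.forget R) h⟩

end Groth.Agent.Lib.Helper75.FPColim
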