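import Groth.Agent.Lib.Helper75.FPSys

set_option autoImplicit false
universe u
open CategoryTheory CategoryTheory.Limits MvPolynomial

namespace Groth.Agent.Lib.Helper75.FPSys

open Groth.Agent.Lib.Helper75.FPStage

noncomputable section

attribute [local instance] Classical.propDecidable

section gen

variable {R : Type u} [CommRing R] {σ : Type u}

/-- classes of the generators (zero outside `S`) -/
def sgen (S : Set σ) (T : Set (MvPolynomial σ R)) : σ → Stage S T :=
  fun s => if h : s ∈ S then Stage.mk S T (X s) (Stage.X_mem h) else 0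

lemma sgen_of_mem {S : Set σ} {T : Set (MvPolynomial σ R)} {s : σ} (h : s ∈ S) :
    sgen S T s = Stage.mk S T (X s) (Stage.X_mem h) := dif_pos h

lemma mk_eq_aeval {S : Set σ} {T : Set (MvPolynomial σ R)} (p : MvPolynomial σ R)
    (hp : p ∈ supported R S) : Stage.mk S T p hp = aeval (sgen S T) p := by
  induction hp using Algebra.adjoin_induction with
  | mem x hx =>
    obtain ⟨s, hs, rfl⟩ := hx
    rw [aeval_X, sgen_of_mem hs]
  | algebraMap r =>
    rw [AlgHom.commutes]
    rfl
  | add x y hx hy ihx ihy => rw [map_add, ← ihx, ← ihy]; rfl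
  | mul x y hx hy ihx ihy => rw [map_mul, ← ihx, ← ihy]; rfl

end gen

variable {R B D D' : Type u} [CommRing R] [CommRing B] [CommRing D] [CommRing D']
  [Algebra R B] [Algebra R D] [Algebra R D']

variable {f : B →ₐ[R] D} {i : D' →ₐ[R] D} {lam : B → D'}

variable (f) in
/-- the stage has the three optional properties whenever `f` has them -/
def Good {j : Idx R B D'} (hj : Valid i lam j) : Prop :=
  (Function.Surjective f → Function.Surjective (phij hj)) ∧
  (Function.Surjective f → (∀ x ∈ RingHom.ker f.toRingHom, IsNilpotent x) →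
    ∀ x : Bj j, phij hj x = 0 → IsNilpotent x) ∧
  (f.toRingHom.IsIntegral →
    RingHom.IsIntegral (R := Bj j) (A := Dj lam j) (phij hj).toRingHom)

lemma epsD_X (e : D') : epsD R (X e : MvPolynomial D' R) = e := by
  simp [epsD]

lemma epsB_X (b : B) : epsB R (X b : MvPolynomial B R) = b := by
  simp [epsB]

/-- surjective case, first step -/
lemma exists_surj (hlam : ∀ b, i (lam b) = f b)
    (hnil : ∀ x ∈ RingHom.ker i.toRingHom, IsNilpotent x) (hs : Function.Surjective f)
    {j : Idx R B D'} (hj : Valid i lam j) :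
    ∃ (j' : Idx R B D') (_ : Valid i lam j'), j ≤ j' ∧
      ∀ e ∈ j'.E, ∃ b ∈ j'.S, (X e - X (lam b) : MvPolynomial D' R) ∈ j'.M := by
  choose bE hbE using fun e : D' => hs (i e)
  let m : D' → MvPolynomial D' R := fun e => X e - X (lam (bE e))
  have hm0 : ∀ e, i (epsD R (m e)) = 0 := by
    intro e
    simp only [m, map_sub, epsD_X, hlam, hbE, sub_self]
  choose kE hkE using fun e : D' => exists_pow_epsD_eq_zero hnil (m e) (hm0 e)
  let j₀ : Idx R B D' :=
    ⟨j.E.image bE, j.E, ∅, j.E.image (fun e => m e ^ kE e), j.E.image m⟩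
  have hmsup : ∀ e ∈ j.E, m e ∈ supported R (sD lam j₀) := by
    intro e he
    refine sub_mem (Stage.X_mem (mem_sD_of_mem_E lam j₀ he)) (Stage.X_mem ?_)
    exact lam_mem_sD lam j₀ (Finset.mem_image_of_mem bE he)
  have hj₀ : Valid i lam j₀ := by
    constructor
    · intro t ht; exact absurd ht (Finset.notMem_empty t)
    · intro t ht
      obtain ⟨e, he, rfl⟩ := Finset.mem_image.mp ht
      exact ⟨pow_mem (hmsup e he) _, hkE e⟩
    · intro t ht
      obtain ⟨e, he, rfl⟩ := Finset.mem_image.mp ht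
      refine ⟨hmsup e he, hm0 e, kE e, Ideal.subset_span ?_⟩
      exact Finset.mem_coe.mpr (Finset.mem_image_of_mem (fun e => m e ^ kE e) he)
    · intro t ht; exact absurd ht (Finset.notMem_empty t)
  refine ⟨j.sup j₀, Valid.sup i lam hj hj₀, Idx.le_sup_left _ _, ?_⟩
  intro e he
  have he' : e ∈ j.E := by
    simpa [Idx.sup, j₀] using he
  refine ⟨bE e, ?_, ?_⟩
  · simp only [Idx.sup, j₀, Finset.mem_union, Finset.mem_image]
    exact Or.inr ⟨e, he', rfl⟩
  · simp only [Idx.sup, j₀, Finset.mem_union, Finset.mem_image]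
    exact Or.inr ⟨e, he', rfl⟩

lemma surj_of_prop {j : Idx R B D'} (hj : Valid i lam j)
    (h : ∀ e ∈ j.E, ∃ b ∈ j.S, (X e - X (lam b) : MvPolynomial D' R) ∈ j.M) :
    Function.Surjective (phij hj) := by
  apply phij_surjective_of hj
  intro e he
  obtain ⟨b, hb, hm⟩ := h e he
  exact ⟨b, hb, Ideal.subset_span (by
    simp only [Finset.coe_union, Set.mem_union, Finset.mem_coe]
    exact Or.inr hm)⟩

/-- surjective + nil kernel case, second step -/
lemma exists_nil (hlam : ∀ b, i (lam b) = f b)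
    (hkn : ∀ x ∈ RingHom.ker f.toRingHom, IsNilpotent x)
    {j : Idx R B D'} (hj : Valid i lam j)
    (hprop : ∀ e ∈ j.E, ∃ b ∈ j.S, (X e - X (lam b) : MvPolynomial D' R) ∈ j.M) :
    ∃ (j' : Idx R B D') (hj' : Valid i lam j'), j ≤ j' ∧
      (∀ e ∈ j'.E, ∃ b ∈ j'.S, (X e - X (lam b) : MvPolynomial D' R) ∈ j'.M) ∧
      ∀ x : Bj j', phij hj' x = 0 → IsNilpotent x := by
  have surj1 := surj_of_prop hj hprop
  haveI := Bj_fp hj
  haveI := Dj_fp hj
  obtain ⟨G, hG⟩ := Algebra.FinitePresentation.ker_fG_of_surjective (R := R) (A := Bj j)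
    (B := Dj lam j) (phij hj) surj1
  have hGker : ∀ g ∈ G, phij hj g = 0 := by
    intro g hg
    have : g ∈ RingHom.ker (phij hj).toRingHom := by
      rw [← hG]
      exact Ideal.subset_span hg
    exact this
  choose rep hrep hrep' using fun g : Bj j => Stage.exists_mk g
  have hnilg : ∀ g : {g // g ∈ G}, ∃ n : ℕ, 0 < n ∧ epsB R (rep g.1) ^ n = 0 := by
    intro g
    have h1 : f (toB hj g.1) = 0 := by
      rw [← toD_phij f hlam hj, hGker g.1 g.2, map_zero]
    obtain ⟨n, hn⟩ := hkn (toB hj g.1) h1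
    refine ⟨n + 1, Nat.succ_pos n, ?_⟩
    have h2 : toB hj g.1 = epsB R (rep g.1) := by
      conv_lhs => rw [hrep' g.1]
      rfl
    rw [← h2, pow_succ, hn, zero_mul]
  choose n hnpos hn using hnilg
  let s₀ : Idx R B D' :=
    ⟨j.S, j.E, G.attach.image (fun g => rep g.1 ^ n g), j.TD, j.M⟩
  have hLam : ∀ g : {g // g ∈ G}, Lam R lam (rep g.1) ∈
      Ideal.span ((j.TD ∪ j.M : Finset _) : Set (MvPolynomial D' R)) := by
    intro g
    have := hGker g.1 g.2
    conv_lhs at this => rw [hrep' g.1]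
    rw [phij_mk, Stage.mk_eq_zero_iff] at this
    exact this
  have hs₀ : Valid i lam s₀ := by
    constructor
    · intro t ht
      obtain ⟨g, -, rfl⟩ := Finset.mem_image.mp ht
      exact ⟨pow_mem (hrep g.1) _, by rw [map_pow, hn g]⟩
    · exact hj.b
    · exact hj.c
    · intro t ht
      obtain ⟨g, -, rfl⟩ := Finset.mem_image.mp ht
      rw [map_pow]
      exact Ideal.pow_mem_of_mem _ (hLam g) _ (hnpos g)
  have hle : j ≤ j.sup s₀ := Idx.le_sup_left _ _
  refine ⟨j.sup s₀, Valid.sup i lam hj hs₀, hle, ?_, ?_⟩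
  · intro e he
    have he' : e ∈ j.E := by simpa [Idx.sup, s₀] using he
    obtain ⟨b, hb, hm⟩ := hprop e he'
    refine ⟨b, ?_, ?_⟩
    · simp only [Idx.sup, s₀, Finset.union_self]
      exact hb
    · simp only [Idx.sup, s₀, Finset.union_self]
      exact hm
  · intro x hx
    obtain ⟨p, hp, rfl⟩ := Stage.exists_mk x
    have hS : (j.sup s₀).S = j.S := by simp [Idx.sup, s₀]
    have hp1 : p ∈ supported R (j.S : Set B) := by
      rw [hS] at hp
      exact hp
    have hTM : (((j.sup s₀).TD ∪ (j.sup s₀).M : Finset _) : Set (MvPolynomial D' R)) =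
        ((j.TD ∪ j.M : Finset _) : Set (MvPolynomial D' R)) := by
      simp [Idx.sup, s₀]
    rw [phij_mk, Stage.mk_eq_zero_iff, hTM] at hx
    have hy : phij hj (Stage.mk _ _ p hp1) = 0 := by
      rw [phij_mk, Stage.mk_eq_zero_iff]
      exact hx
    have hyker : Stage.mk _ _ p hp1 ∈ Ideal.span (G : Set (Bj j)) := by
      rw [hG]
      exact hy
    have hxy : Stage.mk _ _ p hp = trB hle (Stage.mk _ _ p hp1) := rfl
    rw [hxy]
    have hGle : Ideal.span (G : Set (Bj j)) ≤ (nilradical (Bj (j.sup s₀))).comap (trB hle) := by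
      apply Ideal.span_le.mpr
      intro g hg
      change trB hle g ∈ nilradical _
      rw [mem_nilradical]
      refine ⟨n ⟨g, hg⟩, ?_⟩
      have h3 : trB hle g = Stage.mk _ _ (rep g)
          (supported_mono (Finset.coe_subset.mpr hle.1) (hrep g)) := by
        conv_lhs => rw [hrep' g]
        rfl
      rw [h3, ← Stage.mk_pow, Stage.mk_eq_zero_iff]
      apply Ideal.subset_span
      simp only [Idx.sup, s₀, Finset.coe_union, Set.mem_union, Finset.mem_coe, Finset.mem_image,
        Finset.mem_attach, true_and]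
      exact Or.inr ⟨⟨g, hg⟩, rfl⟩
    have := hGle hyker
    exact mem_nilradical.mp this

/-- an explicit monic relation gives integrality -/
lemma isIntegralElem_of_eq {A C : Type u} [CommRing A] [CommRing C] (φ : A →+* C) (x : C) (n : ℕ)
    (a : ℕ → A) (h : x ^ n + ∑ k ∈ Finset.range n, φ (a k) * x ^ k = 0) : φ.IsIntegralElem x := by
  let P : Polynomial A := Polynomial.X ^ n +
    ∑ k ∈ Finset.range n, Polynomial.C (a k) * Polynomial.X ^ k
  have hP : P.Monic := by
    apply Polynomial.monic_X_pow_add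
    refine lt_of_le_of_lt (Polynomial.degree_sum_le _ _) ?_
    rw [Finset.sup_lt_iff (WithBot.bot_lt_coe _)]
    intro k hk
    refine lt_of_le_of_lt (Polynomial.degree_C_mul_X_pow_le _ _) ?_
    exact_mod_cast Finset.mem_range.mp hk
  refine ⟨P, hP, ?_⟩
  simp only [P, Polynomial.eval₂_add, Polynomial.eval₂_pow, Polynomial.eval₂_X,
    Polynomial.eval₂_finset_sum, Polynomial.eval₂_mul, Polynomial.eval₂_C]
  exact h

/-- integral case -/
lemma exists_int (hlam : ∀ b, i (lam b) = f b)
    (hnil : ∀ x ∈ RingHom.ker i.toRingHom, IsNilpotent x) (hint : f.toRingHom.IsIntegral)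
    {j : Idx R B D'} (hj : Valid i lam j) :
    ∃ (j' : Idx R B D') (hj' : Valid i lam j'), j ≤ j' ∧
      RingHom.IsIntegral (R := Bj j') (A := Dj lam j') (phij hj').toRingHom := by
  choose gE hmonic heval using fun e : D' => hint (i e)
  let m : D' → MvPolynomial D' R := fun e =>
    X e ^ (gE e).natDegree +
      ∑ k ∈ Finset.range (gE e).natDegree, X (lam ((gE e).coeff k)) * X e ^ k
  have hm0 : ∀ e, i (epsD R (m e)) = 0 := by
    intro e
    have h1 := congrArg (Polynomial.eval₂ f.toRingHom (i e)) (hmonic e).as_sum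
    rw [heval e] at h1
    simp only [Polynomial.eval₂_add, Polynomial.eval₂_pow, Polynomial.eval₂_X,
      Polynomial.eval₂_finset_sum, Polynomial.eval₂_mul, Polynomial.eval₂_C] at h1
    simp only [m, map_add, map_pow, map_sum, map_mul, epsD_X, hlam]
    exact h1.symm
  choose kE hkE using fun e : D' => exists_pow_epsD_eq_zero hnil (m e) (hm0 e)
  let j₀ : Idx R B D' :=
    ⟨j.E.biUnion (fun e => (Finset.range (gE e).natDegree).image (fun k => (gE e).coeff k)),
      j.E, ∅, j.E.image (fun e => m e ^ kE e), j.E.image m⟩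
  have hcoef : ∀ e ∈ j.E, ∀ k ∈ Finset.range (gE e).natDegree, (gE e).coeff k ∈ j₀.S := by
    intro e he k hk
    exact Finset.mem_biUnion.mpr ⟨e, he, Finset.mem_image_of_mem _ hk⟩
  have hmsup : ∀ e ∈ j.E, m e ∈ supported R (sD lam j₀) := by
    intro e he
    have hXe : (X e : MvPolynomial D' R) ∈ supported R (sD lam j₀) :=
      Stage.X_mem (mem_sD_of_mem_E lam j₀ he)
    refine add_mem (pow_mem hXe _) (sum_mem fun k hk => mul_mem (Stage.X_mem ?_) (pow_mem hXe _))
    exact lam_mem_sD lam j₀ (hcoef e he k hk)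
  have hj₀ : Valid i lam j₀ := by
    constructor
    · intro t ht; exact absurd ht (Finset.notMem_empty t)
    · intro t ht
      obtain ⟨e, he, rfl⟩ := Finset.mem_image.mp ht
      exact ⟨pow_mem (hmsup e he) _, hkE e⟩
    · intro t ht
      obtain ⟨e, he, rfl⟩ := Finset.mem_image.mp ht
      refine ⟨hmsup e he, hm0 e, kE e, Ideal.subset_span ?_⟩
      exact Finset.mem_coe.mpr (Finset.mem_image_of_mem (fun e => m e ^ kE e) he)
    · intro t ht; exact absurd ht (Finset.notMem_empty t)
  have hj1 := Valid.sup i lam hj hj₀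
  refine ⟨j.sup j₀, hj1, Idx.le_sup_left _ _, ?_⟩
  apply phij_isIntegral_of hj1
  intro e he
  have he' : e ∈ j.E := by simpa [Idx.sup, j₀] using he
  let cB : B → Bj (j.sup j₀) := sgen _ _
  have hcS : ∀ k ∈ Finset.range (gE e).natDegree, (gE e).coeff k ∈ (j.sup j₀).S := by
    intro k hk
    exact (Idx.le_sup_right j j₀).1 (hcoef e he' k hk)
  have hphi : ∀ k ∈ Finset.range (gE e).natDegree,
      (phij hj1) (cB ((gE e).coeff k)) = sgen _ _ (lam ((gE e).coeff k)) := by
    intro k hk
    have h1 : cB ((gE e).coeff k) = Stage.mk _ _ (X ((gE e).coeff k))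
        (Stage.X_mem (Finset.mem_coe.mpr (hcS k hk))) :=
      sgen_of_mem (Finset.mem_coe.mpr (hcS k hk))
    rw [h1, phij_mk, sgen_of_mem (lam_mem_sD lam (j.sup j₀) (hcS k hk))]
    congr 1
    exact rename_X _ _
  have hXe : Stage.mk _ _ (X e) (Stage.X_mem (mem_sD_of_mem_E lam (j.sup j₀) he)) =
      sgen (sD lam (j.sup j₀))
        (↑((j.sup j₀).TD ∪ (j.sup j₀).M) : Set (MvPolynomial D' R)) e :=
    (sgen_of_mem (mem_sD_of_mem_E lam (j.sup j₀) he)).symm
  rw [hXe]
  have hmem : m e ∈ supported R (sD lam (j.sup j₀)) :=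
    supported_mono (sD_mono lam (Idx.le_sup_right j j₀)) (hmsup e he')
  have hzero : Stage.mk (sD lam (j.sup j₀))
      (↑((j.sup j₀).TD ∪ (j.sup j₀).M) : Set (MvPolynomial D' R)) (m e) hmem = 0 := by
    rw [Stage.mk_eq_zero_iff]
    apply Ideal.subset_span
    simp only [Idx.sup, j₀, Finset.coe_union, Set.mem_union, Finset.mem_coe, Finset.mem_image]
    exact Or.inr (Or.inr ⟨e, he', rfl⟩)
  rw [mk_eq_aeval] at hzero
  simp only [m, map_add, map_pow, map_sum, map_mul, aeval_X] at hzero
  refine isIntegralElem_of_eq (A := Bj (j.sup j₀)) (C := Dj lam (j.sup j₀))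
    (phij hj1).toRingHom _ (gE e).natDegree (fun k => cB ((gE e).coeff k)) ?_
  rw [← hzero]
  congr 1
  apply Finset.sum_congr rfl
  intro k hk
  congr 1
  exact hphi k hk

/-- good stages are cofinal -/
theorem exists_good (hlam : ∀ b, i (lam b) = f b)
    (hnil : ∀ x ∈ RingHom.ker i.toRingHom, IsNilpotent x)
    {j : Idx R B D'} (hj : Valid i lam j) :
    ∃ (j' : Idx R B D') (hj' : Valid i lam j'), j ≤ j' ∧ Good f hj' := by
  by_cases hs : Function.Surjective f
  · obtain ⟨j1, hj1, hle1, hprop1⟩ := exists_surj hlam hnil hs hj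
    by_cases hkn : ∀ x ∈ RingHom.ker f.toRingHom, IsNilpotent x
    · obtain ⟨j2, hj2, hle2, hprop2, hnil2⟩ := exists_nil hlam hkn hj1 hprop1
      have surj2 := surj_of_prop hj2 hprop2
      exact ⟨j2, hj2, hle1.trans hle2, fun _ => surj2, fun _ _ => hnil2,
        fun _ => RingHom.isIntegral_of_surjective (R := Bj j2) (S := Dj lam j2)
          (phij hj2).toRingHom surj2⟩
    · have surj1 := surj_of_prop hj1 hprop1
      exact ⟨j1, hj1, hle1, fun _ => surj1, fun _ h => absurd h hkn,
        fun _ => RingHom.isIntegral_of_surjective (R := Bj j1) (S := Dj lam j1)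
          (phij hj1).toRingHom surj1⟩
  · by_cases hint : f.toRingHom.IsIntegral
    · obtain ⟨j1, hj1, hle1, hint1⟩ := exists_int hlam hnil hint hj
      exact ⟨j1, hj1, hle1, fun h => absurd h hs, fun h => absurd h hs, fun _ => hint1⟩
    · exact ⟨j, hj, le_refl j, fun h => absurd h hs, fun h => absurd h hs,
        fun h => absurd h hint⟩

end

end Groth.Agent.Lib.Helper75.FPSys
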