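import Groth.Agent.Lib.Helper75.FPCat

set_option autoImplicit false
universe u
open CategoryTheory CategoryTheory.Limits MvPolynomial

namespace Groth.Agent.Lib.Helper75.FPSys

open Groth.Agent.Lib.Helper75.FPStage

noncomputable section

attribute [local instance] Classical.propDecidable

section pb

variable {A B C P : CommRingCat.{u}} {fst : P ⟶ A} {snd : P ⟶ B} {f : A ⟶ C} {g : B ⟶ C}

lemma pb_exists (h : IsPullback fst snd f g) (a : A) (b : B) (hab : f.hom a = g.hom b) :
    ∃ p : P, fst.hom p = a ∧ snd.hom p = b := by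
  let c := CommRingCat.pullbackCone f g
  let l : c.pt ⟶ P := h.lift c.fst c.snd c.condition
  let z : c.pt := ⟨(a, b), hab⟩
  refine ⟨l.hom z, ?_, ?_⟩
  · have := congrArg (fun m => m.hom z) (h.lift_fst c.fst c.snd c.condition)
    exact this
  · have := congrArg (fun m => m.hom z) (h.lift_snd c.fst c.snd c.condition)
    exact this

lemma pb_inj (h : IsPullback fst snd f g) (x y : P) (h1 : fst.hom x = fst.hom y)
    (h2 : snd.hom x = snd.hom y) : x = y := by
  let c := CommRingCat.pullbackCone f g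
  let hc := CommRingCat.pullbackConeIsLimit f g
  let l : c.pt ⟶ P := h.lift c.fst c.snd c.condition
  let m : P ⟶ c.pt := PullbackCone.IsLimit.lift hc fst snd h.w
  have hm1 : m ≫ c.fst = fst := PullbackCone.IsLimit.lift_fst hc fst snd h.w
  have hm2 : m ≫ c.snd = snd := PullbackCone.IsLimit.lift_snd hc fst snd h.w
  have hml : m ≫ l = 𝟙 P := by
    apply h.hom_ext
    · rw [Category.assoc, h.lift_fst, hm1, Category.id_comp]
    · rw [Category.assoc, h.lift_snd, hm2, Category.id_comp]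
  have hxy : m.hom x = m.hom y := by
    apply Subtype.ext
    apply Prod.ext
    · have e1 := congrArg (fun k => k.hom x) hm1
      have e2 := congrArg (fun k => k.hom y) hm1
      exact e1.trans (h1.trans e2.symm)
    · have e1 := congrArg (fun k => k.hom x) hm2
      have e2 := congrArg (fun k => k.hom y) hm2
      exact e1.trans (h2.trans e2.symm)
  have ex := congrArg (fun k => k.hom x) hml
  have ey := congrArg (fun k => k.hom y) hml
  have ex' : l.hom (m.hom x) = x := ex
  have ey' : l.hom (m.hom y) = y := ey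
  rw [← ex', ← ey', hxy]

end pb

section final

variable {R B D D' P : Type u} [CommRing R] [CommRing B] [CommRing D] [CommRing D'] [CommRing P]
  [Algebra R B] [Algebra R D] [Algebra R D'] [Algebra R P]

variable (f : B →ₐ[R] D) (i : D' →ₐ[R] D) (lam : B → D') (q₁ : P →ₐ[R] B) (q₂ : P →ₐ[R] D')
  (hP : IsPullback (CommRingCat.ofHom q₁.toRingHom) (CommRingCat.ofHom q₂.toRingHom)
      (CommRingCat.ofHom f.toRingHom) (CommRingCat.ofHom i.toRingHom))
  (hlam : ∀ b, i (lam b) = f b)

include hlam in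
lemma coP_comm (j : J f i lam) :
    (fstC f i lam j ≫ ((coB f i lam).app j).right) ≫ CommRingCat.ofHom f.toRingHom =
      (sndC f i lam j ≫ ((coD' f i lam).app j).right) ≫ CommRingCat.ofHom i.toRingHom := by
  apply CommRingCat.hom_ext
  apply RingHom.ext
  intro y
  change f (toB j.valid ((fstC f i lam j).hom y)) = i (toD' j.valid ((sndC f i lam j).hom y))
  rw [← toD_phij f hlam j.valid, ← toD_psij j.valid]
  exact congrArg (toD j.valid) (Pc_cond y)

/-- the map `P_j → P` -/
def coPmap (j : J f i lam) : Pc f i lam j ⟶ CommRingCat.of P :=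
  hP.lift (fstC f i lam j ≫ ((coB f i lam).app j).right)
    (sndC f i lam j ≫ ((coD' f i lam).app j).right) (coP_comm f i lam hlam j)

@[reassoc]
lemma coPmap_fst (j : J f i lam) :
    coPmap f i lam q₁ q₂ hP hlam j ≫ CommRingCat.ofHom q₁.toRingHom =
      fstC f i lam j ≫ ((coB f i lam).app j).right :=
  hP.lift_fst _ _ _

@[reassoc]
lemma coPmap_snd (j : J f i lam) :
    coPmap f i lam q₁ q₂ hP hlam j ≫ CommRingCat.ofHom q₂.toRingHom =
      sndC f i lam j ≫ ((coD' f i lam).app j).right :=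
  hP.lift_snd _ _ _

lemma coPmap_fst_apply (j : J f i lam) (y : Pc f i lam j) :
    q₁ ((coPmap f i lam q₁ q₂ hP hlam j).hom y) = toB j.valid ((fstC f i lam j).hom y) :=
  congrArg (fun k => k.hom y) (coPmap_fst f i lam q₁ q₂ hP hlam j)

lemma coPmap_snd_apply (j : J f i lam) (y : Pc f i lam j) :
    q₂ ((coPmap f i lam q₁ q₂ hP hlam j).hom y) = toD' j.valid ((sndC f i lam j).hom y) :=
  congrArg (fun k => k.hom y) (coPmap_snd f i lam q₁ q₂ hP hlam j)

/-- the cocone on `P` -/
def coP : DP f i lam ⟶ (Functor.const (J f i lam)).obj (underOf (R := R) P) where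
  app j := Under.homMk (coPmap f i lam q₁ q₂ hP hlam j) (by
    apply hP.hom_ext
    · change (sP f i lam j ≫ coPmap f i lam q₁ q₂ hP hlam j) ≫ CommRingCat.ofHom q₁.toRingHom =
        CommRingCat.ofHom (algebraMap R P) ≫ CommRingCat.ofHom q₁.toRingHom
      rw [Category.assoc, coPmap_fst, sP_fst_assoc, Under.w]
      apply CommRingCat.hom_ext
      apply RingHom.ext
      intro r
      exact (q₁.commutes r).symm
    · change (sP f i lam j ≫ coPmap f i lam q₁ q₂ hP hlam j) ≫ CommRingCat.ofHom q₂.toRingHom =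
        CommRingCat.ofHom (algebraMap R P) ≫ CommRingCat.ofHom q₂.toRingHom
      rw [Category.assoc, coPmap_snd, sP_snd_assoc, Under.w]
      apply CommRingCat.hom_ext
      apply RingHom.ext
      intro r
      exact (q₂.commutes r).symm)
  naturality j j' h := by
    apply Under.UnderMorphism.ext
    apply hP.hom_ext
    · change (mapP f i lam h ≫ coPmap f i lam q₁ q₂ hP hlam j') ≫ CommRingCat.ofHom q₁.toRingHom =
        (coPmap f i lam q₁ q₂ hP hlam j ≫ 𝟙 _) ≫ CommRingCat.ofHom q₁.toRingHom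
      rw [Category.assoc, coPmap_fst, mapP_fst_assoc, Category.comp_id, coPmap_fst]
      have := congrArg (fun g => g.right) ((coB f i lam).naturality h)
      simp only [Under.comp_right, Functor.const_obj_map, Under.id_right] at this
      rw [this]
      erw [Category.comp_id]
    · change (mapP f i lam h ≫ coPmap f i lam q₁ q₂ hP hlam j') ≫ CommRingCat.ofHom q₂.toRingHom =
        (coPmap f i lam q₁ q₂ hP hlam j ≫ 𝟙 _) ≫ CommRingCat.ofHom q₂.toRingHom
      rw [Category.assoc, coPmap_snd, mapP_snd_assoc, Category.comp_id, coPmap_snd]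
      have := congrArg (fun g => g.right) ((coD' f i lam).naturality h)
      simp only [Under.comp_right, Functor.const_obj_map, Under.id_right] at this
      rw [this]
      erw [Category.comp_id]

end final

section colim

variable {R B D D' P : Type u} [CommRing R] [CommRing B] [CommRing D] [CommRing D'] [CommRing P]
  [Algebra R B] [Algebra R D] [Algebra R D'] [Algebra R P]

variable {f : B →ₐ[R] D} {i : D' →ₐ[R] D} {lam : B → D'}
  (hlam : ∀ b, i (lam b) = f b) (hnil : ∀ x ∈ RingHom.ker i.toRingHom, IsNilpotent x)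

include hlam hnil

lemma B_surj (b : B) : ∃ (j : J f i lam) (y : Bj j.1), toB j.valid y = b := by
  obtain ⟨k, hk⟩ := J.exists_ge hlam hnil (valid_gen (i := i) (lam := lam) {b} ∅)
  have hb : b ∈ (k.1.S : Set B) := Finset.mem_coe.mpr (hk.1 (Finset.mem_singleton_self b))
  exact ⟨k, Stage.mk _ _ (X b) (Stage.X_mem hb), by rw [toB_mk, epsB_X]⟩

lemma B_inj (j : J f i lam) (y z : Bj j.1) (h : toB j.valid y = toB j.valid z) :
    ∃ (k : J f i lam) (hk : j.1 ≤ k.1), trB hk y = trB hk z := by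
  obtain ⟨p, hp, rfl⟩ := Stage.exists_mk y
  obtain ⟨q, hq, rfl⟩ := Stage.exists_mk z
  rw [toB_mk, toB_mk] at h
  have h0 : epsB R (p - q) = 0 := by rw [map_sub, h, sub_self]
  obtain ⟨j1, hle1, hj1, hmem⟩ := exists_relB hlam hnil j.valid (p - q) (sub_mem hp hq) h0
  obtain ⟨k, hk⟩ := J.exists_ge hlam hnil hj1
  refine ⟨k, hle1.trans hk, ?_⟩
  rw [trB_mk, trB_mk, Stage.mk_eq_mk_iff]
  exact Ideal.subset_span (Finset.mem_coe.mpr (hk.2.2.1 hmem))

lemma D'_surj (d : D') : ∃ (j : J f i lam) (y : D'j lam j.1), toD' j.valid y = d := by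
  obtain ⟨k, hk⟩ := J.exists_ge hlam hnil (valid_gen (i := i) (lam := lam) ∅ {d})
  have hd : d ∈ sD lam k.1 := mem_sD_of_mem_E lam k.1 (hk.2.1 (Finset.mem_singleton_self d))
  exact ⟨k, Stage.mk _ _ (X d) (Stage.X_mem hd), by rw [toD'_mk, epsD_X]⟩

lemma D'_inj (j : J f i lam) (y z : D'j lam j.1) (h : toD' j.valid y = toD' j.valid z) :
    ∃ (k : J f i lam) (hk : j.1 ≤ k.1), trD' lam hk y = trD' lam hk z := by
  obtain ⟨p, hp, rfl⟩ := Stage.exists_mk y
  obtain ⟨q, hq, rfl⟩ := Stage.exists_mk z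
  rw [toD'_mk, toD'_mk] at h
  have h0 : epsD R (p - q) = 0 := by rw [map_sub, h, sub_self]
  obtain ⟨j1, hle1, hj1, hmem⟩ := exists_relD' j.valid (p - q) (sub_mem hp hq) h0
  obtain ⟨k, hk⟩ := J.exists_ge hlam hnil hj1
  refine ⟨k, hle1.trans hk, ?_⟩
  rw [trD'_mk, trD'_mk, Stage.mk_eq_mk_iff]
  exact Ideal.subset_span (Finset.mem_coe.mpr (hk.2.2.2.1 hmem))

lemma D_surj (hi : Function.Surjective i) (d : D) :
    ∃ (j : J f i lam) (y : Dj lam j.1), toD j.valid y = d := by
  obtain ⟨d', rfl⟩ := hi d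
  obtain ⟨k, hk⟩ := J.exists_ge hlam hnil (valid_gen (i := i) (lam := lam) ∅ {d'})
  have hd : d' ∈ sD lam k.1 := mem_sD_of_mem_E lam k.1 (hk.2.1 (Finset.mem_singleton_self d'))
  exact ⟨k, Stage.mk _ _ (X d') (Stage.X_mem hd), by rw [toD_mk, epsD_X]⟩

lemma D_inj (j : J f i lam) (y z : Dj lam j.1) (h : toD j.valid y = toD j.valid z) :
    ∃ (k : J f i lam) (hk : j.1 ≤ k.1), trD lam hk y = trD lam hk z := by
  obtain ⟨p, hp, rfl⟩ := Stage.exists_mk y
  obtain ⟨q, hq, rfl⟩ := Stage.exists_mk z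
  rw [toD_mk, toD_mk] at h
  have h0 : i (epsD R (p - q)) = 0 := by rw [map_sub, map_sub, h, sub_self]
  obtain ⟨j1, hle1, hj1, hmem⟩ := exists_relD hnil j.valid (p - q) (sub_mem hp hq) h0
  obtain ⟨k, hk⟩ := J.exists_ge hlam hnil hj1
  refine ⟨k, hle1.trans hk, ?_⟩
  rw [trD_mk, trD_mk, Stage.mk_eq_mk_iff]
  apply Ideal.subset_span
  simp only [Finset.coe_union, Set.mem_union, Finset.mem_coe]
  exact Or.inr (hk.2.2.2.2 hmem)

variable (q₁ : P →ₐ[R] B) (q₂ : P →ₐ[R] D')
  (hP : IsPullback (CommRingCat.ofHom q₁.toRingHom) (CommRingCat.ofHom q₂.toRingHom)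
      (CommRingCat.ofHom f.toRingHom) (CommRingCat.ofHom i.toRingHom))

lemma P_surj (x : P) :
    ∃ (j : J f i lam) (y : Pc f i lam j), (coPmap f i lam q₁ q₂ hP hlam j).hom y = x := by
  have hbd : f (q₁ x) = i (q₂ x) := congrArg (fun k => k.hom x) hP.w
  let s : Idx R B D' := ⟨{q₁ x}, {q₂ x}, ∅, ∅, ∅⟩
  have hs : Valid i lam s := valid_gen _ _
  let m : MvPolynomial D' R := X (lam (q₁ x)) - X (q₂ x)
  have hm : m ∈ supported R (sD lam s) :=
    sub_mem (Stage.X_mem (lam_mem_sD lam s (Finset.mem_singleton_self _)))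
      (Stage.X_mem (mem_sD_of_mem_E lam s (Finset.mem_singleton_self _)))
  have h0 : i (epsD R m) = 0 := by
    simp only [m, map_sub, epsD_X, hlam, hbd, sub_self]
  obtain ⟨j1, hle1, hj1, hmem⟩ := exists_relD hnil hs m hm h0
  obtain ⟨k, hk⟩ := J.exists_ge hlam hnil hj1
  have hle : s ≤ k.1 := hle1.trans hk
  have hb : q₁ x ∈ (k.1.S : Set B) := Finset.mem_coe.mpr (hle.1 (Finset.mem_singleton_self _))
  have hd : q₂ x ∈ sD lam k.1 :=
    mem_sD_of_mem_E lam k.1 (hle.2.1 (Finset.mem_singleton_self _))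
  let a : Bj k.1 := Stage.mk _ _ (X (q₁ x)) (Stage.X_mem hb)
  let c : D'j lam k.1 := Stage.mk _ _ (X (q₂ x)) (Stage.X_mem hd)
  have hac : phij k.valid a = psij lam k.1 c := by
    rw [phij_mk, psij_mk, Stage.mk_eq_mk_iff]
    have : Lam R lam (X (q₁ x)) = X (lam (q₁ x)) := rename_X _ _
    rw [this]
    apply Ideal.subset_span
    simp only [Finset.coe_union, Set.mem_union, Finset.mem_coe]
    exact Or.inr (hk.2.2.2.2 hmem)
  refine ⟨k, Pc_mk a c hac, ?_⟩
  apply pb_inj hP
  · change q₁ _ = q₁ x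
    rw [coPmap_fst_apply, Pc_mk_fst, toB_mk, epsB_X]
  · change q₂ _ = q₂ x
    rw [coPmap_snd_apply, Pc_mk_snd, toD'_mk, epsD_X]

lemma P_inj (j : J f i lam) (y z : Pc f i lam j)
    (h : (coPmap f i lam q₁ q₂ hP hlam j).hom y = (coPmap f i lam q₁ q₂ hP hlam j).hom z) :
    ∃ (k : J f i lam) (g : j ⟶ k), (mapP f i lam g).hom y = (mapP f i lam g).hom z := by
  have hB : toB j.valid ((fstC f i lam j).hom y) = toB j.valid ((fstC f i lam j).hom z) := by
    have e1 := coPmap_fst_apply f i lam q₁ q₂ hP hlam j y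
    have e2 := coPmap_fst_apply f i lam q₁ q₂ hP hlam j z
    rw [← e1, ← e2, h]
  have hD : toD' j.valid ((sndC f i lam j).hom y) = toD' j.valid ((sndC f i lam j).hom z) := by
    have e1 := coPmap_snd_apply f i lam q₁ q₂ hP hlam j y
    have e2 := coPmap_snd_apply f i lam q₁ q₂ hP hlam j z
    rw [← e1, ← e2, h]
  obtain ⟨k1, hk1, e1⟩ := B_inj hlam hnil j _ _ hB
  obtain ⟨k2, hk2, e2⟩ := D'_inj hlam hnil j _ _ hD
  obtain ⟨k, hk1', hk2'⟩ := (J.directed hlam hnil).directed k1 k2
  have hjk : j ≤ k := le_trans (show j ≤ k1 from hk1) hk1'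
  refine ⟨k, homOfLE hjk, ?_⟩
  apply Pc_ext
  · have e := congrArg (fun m => m.hom y) (mapP_fst f i lam (homOfLE hjk))
    have e' := congrArg (fun m => m.hom z) (mapP_fst f i lam (homOfLE hjk))
    refine e.trans (Eq.trans ?_ e'.symm)
    change trB (show j.1 ≤ k.1 from hjk) ((fstC f i lam j).hom y) =
      trB (show j.1 ≤ k.1 from hjk) ((fstC f i lam j).hom z)
    have t1 := trB_trans hk1 (show k1.1 ≤ k.1 from hk1') ((fstC f i lam j).hom y)
    have t2 := trB_trans hk1 (show k1.1 ≤ k.1 from hk1') ((fstC f i lam j).hom z)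
    exact t1.symm.trans ((congrArg _ e1).trans t2)
  · have e := congrArg (fun m => m.hom y) (mapP_snd f i lam (homOfLE hjk))
    have e' := congrArg (fun m => m.hom z) (mapP_snd f i lam (homOfLE hjk))
    refine e.trans (Eq.trans ?_ e'.symm)
    change trD' lam (show j.1 ≤ k.1 from hjk) ((sndC f i lam j).hom y) =
      trD' lam (show j.1 ≤ k.1 from hjk) ((sndC f i lam j).hom z)
    have t1 := trD'_trans hk2 (show k2.1 ≤ k.1 from hk2') ((sndC f i lam j).hom y)
    have t2 := trD'_trans hk2 (show k2.1 ≤ k.1 from hk2') ((sndC f i lam j).hom z)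
    exact t1.symm.trans ((congrArg _ e2).trans t2)

end colim

section main

open Groth.Agent.Lib.Helper75.FPColim

variable {R B D D' P : Type u} [CommRing R] [CommRing B] [CommRing D] [CommRing D'] [CommRing P]
  [Algebra R B] [Algebra R D] [Algebra R D'] [Algebra R P]

theorem main (f : B →ₐ[R] D) (i : D' →ₐ[R] D) (hi : Function.Surjective i)
    (hnil : ∀ x ∈ RingHom.ker i.toRingHom, IsNilpotent x) (q₁ : P →ₐ[R] B) (q₂ : P →ₐ[R] D')
    (hP : IsPullback (CommRingCat.ofHom q₁.toRingHom) (CommRingCat.ofHom q₂.toRingHom)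
      (CommRingCat.ofHom f.toRingHom) (CommRingCat.ofHom i.toRingHom)) :
    ∃ (ι : Type u) (_ : SmallCategory ι) (_ : IsFiltered ι) (DB DD DD' DP : ι ⥤ Under (CommRingCat.of R))
      (φ : DB ⟶ DD) (ψ : DD' ⟶ DD) (π₁ : DP ⟶ DB) (π₂ : DP ⟶ DD')
      (cB : DB ⟶ (Functor.const ι).obj (Under.mk (CommRingCat.ofHom (algebraMap R B))))
      (cD : DD ⟶ (Functor.const ι).obj (Under.mk (CommRingCat.ofHom (algebraMap R D))))
      (cD' : DD' ⟶ (Functor.const ι).obj (Under.mk (CommRingCat.ofHom (algebraMap R D'))))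
      (cP : DP ⟶ (Functor.const ι).obj (Under.mk (CommRingCat.ofHom (algebraMap R P)))),
      Nonempty (IsColimit (Cocone.mk _ cB)) ∧ Nonempty (IsColimit (Cocone.mk _ cD)) ∧
      Nonempty (IsColimit (Cocone.mk _ cD')) ∧ Nonempty (IsColimit (Cocone.mk _ cP)) ∧
      (∀ j, (φ.app j).right ≫ (cD.app j).right = (cB.app j).right ≫ CommRingCat.ofHom f.toRingHom) ∧
      (∀ j, (ψ.app j).right ≫ (cD.app j).right = (cD'.app j).right ≫ CommRingCat.ofHom i.toRingHom) ∧
      (∀ j, (π₁.app j).right ≫ (cB.app j).right = (cP.app j).right ≫ CommRingCat.ofHom q₁.toRingHom) ∧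
      (∀ j, (π₂.app j).right ≫ (cD'.app j).right = (cP.app j).right ≫ CommRingCat.ofHom q₂.toRingHom) ∧
      (∀ j, (DB.obj j).hom.hom.FinitePresentation ∧ (DD.obj j).hom.hom.FinitePresentation ∧
        (DD'.obj j).hom.hom.FinitePresentation) ∧
      (∀ j, Function.Surjective (ψ.app j).right.hom ∧ ∀ x ∈ RingHom.ker (ψ.app j).right.hom, IsNilpotent x) ∧
      (∀ j, IsPullback (π₁.app j).right (π₂.app j).right (φ.app j).right (ψ.app j).right) ∧
      (Function.Surjective f → ∀ j, Function.Surjective (φ.app j).right.hom) ∧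
      (Function.Surjective f → (∀ x ∈ RingHom.ker f.toRingHom, IsNilpotent x) →
        ∀ j, Function.Surjective (φ.app j).right.hom ∧ ∀ x ∈ RingHom.ker (φ.app j).right.hom, IsNilpotent x) ∧
      (f.toRingHom.IsIntegral → ∀ j, (φ.app j).right.hom.IsIntegral) := by
  let lam : B → D' := fun b => (hi (f b)).choose
  have hlam : ∀ b, i (lam b) = f b := fun b => (hi (f b)).choose_spec
  haveI hfilt : IsFiltered (J f i lam) := J.isFiltered hlam hnil
  refine ⟨J f i lam, inferInstance, hfilt, DB f i lam, DD f i lam, DD' f i lam, DP f i lam,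
    phiN f i lam, psiN f i lam, pi1 f i lam, pi2 f i lam, coB f i lam, coD f i lam, coD' f i lam,
    coP f i lam q₁ q₂ hP hlam, ?_, ?_, ?_, ?_, ?_, ?_, ?_, ?_, ?_, ?_, ?_, ?_, ?_, ?_⟩
  · -- colimit B
    apply isColimit_under_of
    · intro x
      obtain ⟨j, y, hy⟩ := B_surj hlam hnil x
      exact ⟨j, y, hy⟩
    · intro j y z h
      obtain ⟨k, hk, e⟩ := B_inj hlam hnil j y z h
      exact ⟨k, homOfLE hk, e⟩
  · -- colimit D
    apply isColimit_under_of
    · intro x
      obtain ⟨j, y, hy⟩ := D_surj hlam hnil hi x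
      exact ⟨j, y, hy⟩
    · intro j y z h
      obtain ⟨k, hk, e⟩ := D_inj hlam hnil j y z h
      exact ⟨k, homOfLE hk, e⟩
  · -- colimit D'
    apply isColimit_under_of
    · intro x
      obtain ⟨j, y, hy⟩ := D'_surj hlam hnil x
      exact ⟨j, y, hy⟩
    · intro j y z h
      obtain ⟨k, hk, e⟩ := D'_inj hlam hnil j y z h
      exact ⟨k, homOfLE hk, e⟩
  · -- colimit P
    apply isColimit_under_of
    · intro x
      obtain ⟨j, y, hy⟩ := P_surj hlam hnil q₁ q₂ hP x
      exact ⟨j, y, hy⟩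
    · intro j y z h
      obtain ⟨k, g, e⟩ := P_inj hlam hnil q₁ q₂ hP j y z h
      exact ⟨k, g, e⟩
  · intro j
    apply CommRingCat.hom_ext
    apply RingHom.ext
    intro x
    exact toD_phij f hlam j.valid x
  · intro j
    apply CommRingCat.hom_ext
    apply RingHom.ext
    intro x
    exact toD_psij j.valid x
  · intro j
    exact (coPmap_fst f i lam q₁ q₂ hP hlam j).symm
  · intro j
    exact (coPmap_snd f i lam q₁ q₂ hP hlam j).symm
  · intro j
    refine ⟨?_, ?_, ?_⟩
    · exact (RingHom.finitePresentation_algebraMap (A := R) (B := Bj j.1)).mpr (Bj_fp j.valid)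
    · exact (RingHom.finitePresentation_algebraMap (A := R) (B := Dj lam j.1)).mpr (Dj_fp j.valid)
    · exact (RingHom.finitePresentation_algebraMap (A := R) (B := D'j lam j.1)).mpr
        (D'j_fp j.valid)
  · intro j
    refine ⟨psij_surjective j.1, ?_⟩
    intro x hx
    exact psij_ker_nil j.valid x hx
  · intro j
    exact isPb f i lam j
  · intro hf j
    exact j.good.1 hf
  · intro hf hfn j
    refine ⟨j.good.1 hf, ?_⟩
    intro x hx
    exact j.good.2.1 hf hfn x hx
  · intro hf j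
    exact j.good.2.2 hf

end main

end

end Groth.Agent.Lib.Helper75.FPSys
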