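import Mathlib

set_option autoImplicit false
universe u
open CategoryTheory CategoryTheory.Limits MvPolynomial

namespace Groth.Agent.Lib.Helper75.FPStage

noncomputable section

section Stage

variable {R : Type u} [CommRing R] {σ τ : Type u}

/-- the ideal of relations in the supported subalgebra -/
def relIdeal (S : Set σ) (T : Set (MvPolynomial σ R)) : Ideal ↥(supported R S) :=
  (Ideal.span T).comap (supported R S).val

/-- a finitely presented stage: polynomials in the variables `S` modulo the relations `T` -/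
abbrev Stage (S : Set σ) (T : Set (MvPolynomial σ R)) : Type u :=
  ↥(supported R S) ⧸ relIdeal S T

namespace Stage

variable (S : Set σ) (T : Set (MvPolynomial σ R))

/-- class of a supported polynomial -/
def mk (p : MvPolynomial σ R) (hp : p ∈ supported R S) : Stage S T :=
  Ideal.Quotient.mk (relIdeal S T) ⟨p, hp⟩

variable {S T}

lemma mk_eq_zero_iff {p : MvPolynomial σ R} {hp : p ∈ supported R S} :
    mk S T p hp = 0 ↔ p ∈ Ideal.span T := by
  change (Ideal.Quotient.mk (relIdeal S T) ⟨p, hp⟩ : ↥(supported R S) ⧸ relIdeal S T) = 0 ↔ _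
  rw [Ideal.Quotient.eq_zero_iff_mem]
  rfl

lemma exists_mk (x : Stage S T) : ∃ p hp, x = mk S T p hp := by
  obtain ⟨⟨p, hp⟩, rfl⟩ := Ideal.Quotient.mk_surjective x
  exact ⟨p, hp, rfl⟩

lemma mk_add {p q : MvPolynomial σ R} (hp : p ∈ supported R S) (hq : q ∈ supported R S) :
    mk S T (p + q) (add_mem hp hq) = mk S T p hp + mk S T q hq := rfl

lemma mk_sub {p q : MvPolynomial σ R} (hp : p ∈ supported R S) (hq : q ∈ supported R S) :
    mk S T (p - q) (sub_mem hp hq) = mk S T p hp - mk S T q hq := rfl

lemma mk_mul {p q : MvPolynomial σ R} (hp : p ∈ supported R S) (hq : q ∈ supported R S) :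
    mk S T (p * q) (mul_mem hp hq) = mk S T p hp * mk S T q hq := rfl

lemma mk_pow {p : MvPolynomial σ R} (hp : p ∈ supported R S) (n : ℕ) :
    mk S T (p ^ n) (pow_mem hp n) = mk S T p hp ^ n := rfl

lemma mk_algebraMap (r : R) :
    mk S T (algebraMap R _ r) (Subalgebra.algebraMap_mem _ r) = algebraMap R (Stage S T) r := rfl

lemma mk_one : mk S T 1 (one_mem _) = 1 := rfl

lemma mk_eq_mk_iff {p q : MvPolynomial σ R} {hp : p ∈ supported R S} {hq : q ∈ supported R S} :
    mk S T p hp = mk S T q hq ↔ p - q ∈ Ideal.span T := by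
  rw [← sub_eq_zero, ← mk_sub hp hq, mk_eq_zero_iff]

lemma X_mem {s : σ} (hs : s ∈ S) : (X s : MvPolynomial σ R) ∈ supported R S :=
  Algebra.subset_adjoin ⟨s, hs, rfl⟩

/-- induction principle on generators -/
lemma induction {P : Stage S T → Prop} (hX : ∀ s (hs : s ∈ S), P (mk S T (X s) (X_mem hs)))
    (hr : ∀ r, P (algebraMap R _ r)) (hadd : ∀ x y, P x → P y → P (x + y))
    (hmul : ∀ x y, P x → P y → P (x * y)) : ∀ x, P x := by
  intro x
  obtain ⟨p, hp, rfl⟩ := exists_mk x
  induction hp using Algebra.adjoin_induction with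
  | mem x hx =>
    obtain ⟨s, hs, rfl⟩ := hx
    exact hX s hs
  | algebraMap r => exact hr r
  | add x y hx hy ihx ihy => exact hadd _ _ ihx ihy
  | mul x y hx hy ihx ihy => exact hmul _ _ ihx ihy

variable (S T) in
/-- map between stages induced by an algebra hom of polynomial rings -/
def map (g : MvPolynomial σ R →ₐ[R] MvPolynomial τ R) (S' : Set τ) (T' : Set (MvPolynomial τ R))
    (hS : ∀ p ∈ supported R S, g p ∈ supported R S') (hT : ∀ t ∈ T, g t ∈ Ideal.span T') :
    Stage S T →ₐ[R] Stage S' T' :=
  Ideal.quotientMapₐ (relIdeal S' T')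
    ((g.comp (supported R S).val).codRestrict (supported R S') (fun x => hS x.1 x.2))
    (by
      intro x hx
      have hle : Ideal.span T ≤ (Ideal.span T').comap g := Ideal.span_le.mpr hT
      exact hle hx)

lemma map_mk (g : MvPolynomial σ R →ₐ[R] MvPolynomial τ R) (S' : Set τ)
    (T' : Set (MvPolynomial τ R))
    (hS : ∀ p ∈ supported R S, g p ∈ supported R S') (hT : ∀ t ∈ T, g t ∈ Ideal.span T')
    (p : MvPolynomial σ R) (hp : p ∈ supported R S) :
    map S T g S' T' hS hT (mk S T p hp) = mk S' T' (g p) (hS p hp) := rfl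

variable (S T) in
/-- map from a stage to an algebra -/
def lift {A : Type u} [CommRing A] [Algebra R A] (g : MvPolynomial σ R →ₐ[R] A)
    (hT : ∀ t ∈ T, g t = 0) : Stage S T →ₐ[R] A :=
  Ideal.Quotient.liftₐ (relIdeal S T) (g.comp (supported R S).val)
    (by
      intro x hx
      have hle : Ideal.span T ≤ RingHom.ker g.toRingHom := Ideal.span_le.mpr hT
      exact hle hx)

lemma lift_mk {A : Type u} [CommRing A] [Algebra R A] (g : MvPolynomial σ R →ₐ[R] A)
    (hT : ∀ t ∈ T, g t = 0) (p : MvPolynomial σ R) (hp : p ∈ supported R S) :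
    lift S T g hT (mk S T p hp) = g p := rfl

end Stage

section fp

attribute [local instance] Classical.propDecidable

/-- retraction onto the supported subalgebra -/
def retr (S : Set σ) : MvPolynomial σ R →ₐ[R] ↥(supported R S) :=
  aeval (fun b => if h : b ∈ S then (⟨X b, Stage.X_mem h⟩ : ↥(supported R S)) else 0)

lemma retr_apply (S : Set σ) (p : MvPolynomial σ R) (hp : p ∈ supported R S) :
    retr S p = ⟨p, hp⟩ := by
  induction hp using Algebra.adjoin_induction with
  | mem x hx =>
    obtain ⟨s, hs, rfl⟩ := hx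
    unfold retr
    rw [aeval_X, dif_pos hs]
  | algebraMap r =>
    apply Subtype.ext
    rw [AlgHom.commutes]
    rfl
  | add x y hx hy ihx ihy =>
    rw [map_add, ihx, ihy]
    rfl
  | mul x y hx hy ihx ihy =>
    rw [map_mul, ihx, ihy]
    rfl

lemma relIdeal_eq_map (S : Set σ) (T : Set (MvPolynomial σ R))
    (hT : ∀ t ∈ T, t ∈ supported R S) :
    relIdeal S T = (Ideal.span T).map (retr S (R := R)) := by
  apply le_antisymm
  · intro x hx
    have h1 : (x : MvPolynomial σ R) ∈ Ideal.span T := hx
    have h2 := Ideal.mem_map_of_mem (retr S (R := R)) h1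
    rwa [retr_apply S x.1 x.2] at h2
  · rw [Ideal.map_le_iff_le_comap]
    apply Ideal.span_le.mpr
    intro t ht
    change retr S t ∈ relIdeal S T
    rw [retr_apply S t (hT t ht)]
    exact Ideal.subset_span ht

lemma Stage.finitePresentation (S : Finset σ) (T : Finset (MvPolynomial σ R))
    (hT : ∀ t ∈ T, t ∈ supported R (S : Set σ)) :
    Algebra.FinitePresentation R (Stage (S : Set σ) (T : Set (MvPolynomial σ R))) := by
  have h1 : Algebra.FinitePresentation R ↥(supported R (S : Set σ)) :=
    Algebra.FinitePresentation.equiv (supportedEquivMvPolynomial (S : Set σ)).symm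
  have h2 : (relIdeal (S : Set σ) (T : Set (MvPolynomial σ R))).FG := by
    rw [relIdeal_eq_map _ _ (fun t ht => hT t ht)]
    exact Ideal.FG.map ⟨T, rfl⟩ _
  exact Algebra.FinitePresentation.quotient h2

end fp

end Stage

end

end Groth.Agent.Lib.Helper75.FPStage
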