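import Groth.Agent.Lib.Helper75.FPStage
import Groth.Agent.Lib.Helper75.FPColim

set_option autoImplicit false
universe u
open CategoryTheory CategoryTheory.Limits MvPolynomial

namespace Groth.Agent.Lib.Helper75.FPSys

open Groth.Agent.Lib.Helper75.FPStage

noncomputable section

attribute [local instance] Classical.propDecidable

/-- index data: finite sets of generators and relations -/
structure Idx (R B D' : Type u) [CommRing R] where
  S : Finset B
  E : Finset D'
  TB : Finset (MvPolynomial B R)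
  TD : Finset (MvPolynomial D' R)
  M : Finset (MvPolynomial D' R)

variable {R B D D' : Type u} [CommRing R] [CommRing B] [CommRing D] [CommRing D']
  [Algebra R B] [Algebra R D] [Algebra R D']

instance : Preorder (Idx R B D') where
  le j j' := j.S ⊆ j'.S ∧ j.E ⊆ j'.E ∧ j.TB ⊆ j'.TB ∧ j.TD ⊆ j'.TD ∧ j.M ⊆ j'.M
  le_refl j := ⟨subset_rfl, subset_rfl, subset_rfl, subset_rfl, subset_rfl⟩
  le_trans j j' j'' h h' := ⟨h.1.trans h'.1, h.2.1.trans h'.2.1, h.2.2.1.trans h'.2.2.1,
    h.2.2.2.1.trans h'.2.2.2.1, h.2.2.2.2.trans h'.2.2.2.2⟩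

/-- join of index data -/
def Idx.sup (j j' : Idx R B D') : Idx R B D' :=
  ⟨j.S ∪ j'.S, j.E ∪ j'.E, j.TB ∪ j'.TB, j.TD ∪ j'.TD, j.M ∪ j'.M⟩

lemma Idx.le_sup_left (j j' : Idx R B D') : j ≤ j.sup j' :=
  ⟨Finset.subset_union_left, Finset.subset_union_left, Finset.subset_union_left,
    Finset.subset_union_left, Finset.subset_union_left⟩

lemma Idx.le_sup_right (j j' : Idx R B D') : j' ≤ j.sup j' :=
  ⟨Finset.subset_union_right, Finset.subset_union_right, Finset.subset_union_right,
    Finset.subset_union_right, Finset.subset_union_right⟩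

variable (R) in
/-- evaluation of the free algebra on `B` -/
def epsB : MvPolynomial B R →ₐ[R] B := aeval id

variable (R) in
/-- evaluation of the free algebra on `D'` -/
def epsD : MvPolynomial D' R →ₐ[R] D' := aeval id

variable (R) in
/-- the map of free algebras induced by the set-theoretic lift -/
def Lam (lam : B → D') : MvPolynomial B R →ₐ[R] MvPolynomial D' R := rename lam

lemma rename_mem_supported {σ τ : Type u} (g : σ → τ) (S : Set σ) (S' : Set τ)
    (h : ∀ s ∈ S, g s ∈ S') (p : MvPolynomial σ R) (hp : p ∈ supported R S) :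
    rename g p ∈ supported R S' := by
  induction hp using Algebra.adjoin_induction with
  | mem x hx =>
    obtain ⟨s, hs, rfl⟩ := hx
    rw [rename_X]
    exact Stage.X_mem (h s hs)
  | algebraMap r =>
    rw [AlgHom.commutes]
    exact Subalgebra.algebraMap_mem _ r
  | add x y hx hy ihx ihy => rw [map_add]; exact add_mem ihx ihy
  | mul x y hx hy ihx ihy => rw [map_mul]; exact mul_mem ihx ihy

section withData

variable (f : B →ₐ[R] D) (i : D' →ₐ[R] D) (lam : B → D')

lemma comp_eq (hlam : ∀ b, i (lam b) = f b) (p : MvPolynomial B R) :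
    i (epsD R (Lam R lam p)) = f (epsB R p) := by
  have : (i.comp ((epsD R).comp (Lam R lam))) = f.comp (epsB R) := by
    apply MvPolynomial.algHom_ext
    intro b
    simp [epsD, epsB, Lam, hlam]
  exact DFunLike.congr_fun this p

/-- the variables of the `D'`-side -/
def Idx.S' (j : Idx R B D') : Finset D' := j.S.image lam ∪ j.E

/-- the variables of the `D'`-side as a set -/
def sD (j : Idx R B D') : Set D' := ((j.S' lam : Finset D') : Set D')

lemma sD_mono {j j' : Idx R B D'} (h : j ≤ j') : sD lam j ⊆ sD lam j' := by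
  intro d hd
  simp only [sD, Idx.S', Finset.coe_union, Finset.coe_image, Set.mem_union, Set.mem_image,
    Finset.mem_coe] at hd ⊢
  rcases hd with ⟨s, hs, rfl⟩ | hd
  · exact Or.inl ⟨s, h.1 hs, rfl⟩
  · exact Or.inr (h.2.1 hd)

lemma lam_mem_sD (j : Idx R B D') {s : B} (hs : s ∈ j.S) : lam s ∈ sD lam j := by
  simp only [sD, Idx.S', Finset.coe_union, Finset.coe_image, Set.mem_union, Set.mem_image,
    Finset.mem_coe]
  exact Or.inl ⟨s, hs, rfl⟩

lemma mem_sD_of_mem_E (j : Idx R B D') {e : D'} (he : e ∈ j.E) : e ∈ sD lam j := by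
  simp only [sD, Idx.S', Finset.coe_union, Finset.coe_image, Set.mem_union, Set.mem_image,
    Finset.mem_coe]
  exact Or.inr he

lemma mem_sD_iff (j : Idx R B D') {d : D'} :
    d ∈ sD lam j ↔ (∃ s ∈ j.S, lam s = d) ∨ d ∈ j.E := by
  simp only [sD, Idx.S', Finset.coe_union, Finset.coe_image, Set.mem_union, Set.mem_image,
    Finset.mem_coe]

lemma Lam_mem (j : Idx R B D') (p : MvPolynomial B R) (hp : p ∈ supported R (j.S : Set B)) :
    Lam R lam p ∈ supported R (sD lam j) :=
  rename_mem_supported lam _ _ (fun _ hs => lam_mem_sD lam j hs) p hp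

/-- validity of index data -/
structure Valid (j : Idx R B D') : Prop where
  a : ∀ t ∈ j.TB, t ∈ supported R (j.S : Set B) ∧ epsB R t = 0
  b : ∀ t ∈ j.TD, t ∈ supported R (sD lam j) ∧ epsD R t = 0
  c : ∀ m ∈ j.M, m ∈ supported R (sD lam j) ∧ i (epsD R m) = 0 ∧
    ∃ k : ℕ, m ^ k ∈ Ideal.span (j.TD : Set (MvPolynomial D' R))
  d : ∀ t ∈ j.TB, Lam R lam t ∈ Ideal.span ((j.TD ∪ j.M : Finset _) : Set (MvPolynomial D' R))

lemma Valid.sup {j j' : Idx R B D'} (h : Valid i lam j) (h' : Valid i lam j') :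
    Valid i lam (j.sup j') := by
  have m1 := sD_mono lam (Idx.le_sup_left j j')
  have m2 := sD_mono lam (Idx.le_sup_right j j')
  have s1 : (j.S : Set B) ⊆ ((j.sup j').S : Set B) := Finset.coe_subset.mpr Finset.subset_union_left
  have s2 : (j'.S : Set B) ⊆ ((j.sup j').S : Set B) :=
    Finset.coe_subset.mpr Finset.subset_union_right
  have t1 : Ideal.span (j.TD : Set (MvPolynomial D' R)) ≤ Ideal.span ((j.sup j').TD : Set _) :=
    Ideal.span_mono (Finset.coe_subset.mpr Finset.subset_union_left)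
  have t2 : Ideal.span (j'.TD : Set (MvPolynomial D' R)) ≤ Ideal.span ((j.sup j').TD : Set _) :=
    Ideal.span_mono (Finset.coe_subset.mpr Finset.subset_union_right)
  have u1 : Ideal.span ((j.TD ∪ j.M : Finset _) : Set (MvPolynomial D' R)) ≤
      Ideal.span (((j.sup j').TD ∪ (j.sup j').M : Finset _) : Set _) := by
    apply Ideal.span_mono
    intro x hx
    simp only [Idx.sup, Finset.coe_union, Set.mem_union, Finset.mem_coe] at hx ⊢
    tauto
  have u2 : Ideal.span ((j'.TD ∪ j'.M : Finset _) : Set (MvPolynomial D' R)) ≤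
      Ideal.span (((j.sup j').TD ∪ (j.sup j').M : Finset _) : Set _) := by
    apply Ideal.span_mono
    intro x hx
    simp only [Idx.sup, Finset.coe_union, Set.mem_union, Finset.mem_coe] at hx ⊢
    tauto
  constructor
  · intro t ht
    rcases Finset.mem_union.mp ht with ht | ht
    · exact ⟨supported_mono s1 (h.a t ht).1, (h.a t ht).2⟩
    · exact ⟨supported_mono s2 (h'.a t ht).1, (h'.a t ht).2⟩
  · intro t ht
    rcases Finset.mem_union.mp ht with ht | ht
    · exact ⟨supported_mono m1 (h.b t ht).1, (h.b t ht).2⟩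
    · exact ⟨supported_mono m2 (h'.b t ht).1, (h'.b t ht).2⟩
  · intro m hm
    rcases Finset.mem_union.mp hm with hm | hm
    · obtain ⟨c1, c2, k, hk⟩ := h.c m hm
      exact ⟨supported_mono m1 c1, c2, k, t1 hk⟩
    · obtain ⟨c1, c2, k, hk⟩ := h'.c m hm
      exact ⟨supported_mono m2 c1, c2, k, t2 hk⟩
  · intro t ht
    rcases Finset.mem_union.mp ht with ht | ht
    · exact u1 (h.d t ht)
    · exact u2 (h'.d t ht)

end withData

section stages

variable (f : B →ₐ[R] D) (i : D' →ₐ[R] D) (lam : B → D')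

/-- the stage approximating `B` -/
abbrev Bj (j : Idx R B D') : Type u := Stage (R := R) (j.S : Set B) (j.TB : Set (MvPolynomial B R))

/-- the stage approximating `D'` -/
abbrev D'j (j : Idx R B D') : Type u :=
  Stage (R := R) (sD lam j) (j.TD : Set (MvPolynomial D' R))

/-- the stage approximating `D` -/
abbrev Dj (j : Idx R B D') : Type u :=
  Stage (R := R) (sD lam j) ((j.TD ∪ j.M : Finset _) : Set (MvPolynomial D' R))

variable {i lam}

/-- `φ_j : B_j → D_j` -/
def phij {j : Idx R B D'} (hj : Valid i lam j) : Bj j →ₐ[R] Dj lam j :=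
  Stage.map _ _ (Lam R lam) _ _ (Lam_mem lam j) hj.d

variable (lam) in
/-- `ψ_j : D'_j → D_j` -/
def psij (j : Idx R B D') : D'j lam j →ₐ[R] Dj lam j :=
  Stage.map _ _ (AlgHom.id R _) _ _ (fun _ hp => hp)
    (fun t ht => Ideal.subset_span (by
      simp only [Finset.coe_union, Set.mem_union]
      exact Or.inl ht))

/-- `B_j → B` -/
def toB {j : Idx R B D'} (hj : Valid i lam j) : Bj j →ₐ[R] B :=
  Stage.lift _ _ (epsB R) (fun t ht => (hj.a t ht).2)

/-- `D'_j → D'` -/
def toD' {j : Idx R B D'} (hj : Valid i lam j) : D'j lam j →ₐ[R] D' :=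
  Stage.lift _ _ (epsD R) (fun t ht => (hj.b t ht).2)

/-- `D_j → D` -/
def toD {j : Idx R B D'} (hj : Valid i lam j) : Dj lam j →ₐ[R] D :=
  Stage.lift _ _ (i.comp (epsD R)) (fun t ht => by
    simp only [Finset.coe_union, Set.mem_union, Finset.mem_coe] at ht
    rcases ht with ht | ht
    · simp [(hj.b t ht).2]
    · simpa using (hj.c t ht).2.1)

/-- transition maps for `B_j` -/
def trB {j j' : Idx R B D'} (h : j ≤ j') : Bj j →ₐ[R] Bj j' :=
  Stage.map _ _ (AlgHom.id R _) _ _
    (fun _ hp => supported_mono (Finset.coe_subset.mpr h.1) hp)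
    (fun _ ht => Ideal.subset_span (Finset.coe_subset.mpr h.2.2.1 ht))

variable (lam) in
/-- transition maps for `D'_j` -/
def trD' {j j' : Idx R B D'} (h : j ≤ j') : D'j lam j →ₐ[R] D'j lam j' :=
  Stage.map _ _ (AlgHom.id R _) _ _
    (fun _ hp => supported_mono (sD_mono lam h) hp)
    (fun _ ht => Ideal.subset_span (Finset.coe_subset.mpr h.2.2.2.1 ht))

variable (lam) in
/-- transition maps for `D_j` -/
def trD {j j' : Idx R B D'} (h : j ≤ j') : Dj lam j →ₐ[R] Dj lam j' :=
  Stage.map _ _ (AlgHom.id R _) _ _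
    (fun _ hp => supported_mono (sD_mono lam h) hp)
    (fun t ht => Ideal.subset_span (by
      simp only [Finset.coe_union, Set.mem_union, Finset.mem_coe] at ht ⊢
      rcases ht with ht | ht
      · exact Or.inl (h.2.2.2.1 ht)
      · exact Or.inr (h.2.2.2.2 ht)))

lemma trB_mk {j j' : Idx R B D'} (h : j ≤ j') (p : MvPolynomial B R) (hp) :
    trB h (Stage.mk _ _ p hp) =
      Stage.mk _ _ p (supported_mono (Finset.coe_subset.mpr h.1) hp) := rfl

lemma trD'_mk {j j' : Idx R B D'} (h : j ≤ j') (p : MvPolynomial D' R) (hp) :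
    trD' lam h (Stage.mk _ _ p hp) = Stage.mk _ _ p (supported_mono (sD_mono lam h) hp) := rfl

lemma trD_mk {j j' : Idx R B D'} (h : j ≤ j') (p : MvPolynomial D' R) (hp) :
    trD lam h (Stage.mk _ _ p hp) = Stage.mk _ _ p (supported_mono (sD_mono lam h) hp) := rfl

lemma phij_mk {j : Idx R B D'} (hj : Valid i lam j) (p : MvPolynomial B R) (hp) :
    phij hj (Stage.mk _ _ p hp) = Stage.mk _ _ (Lam R lam p) (Lam_mem lam j p hp) := rfl

lemma psij_mk (j : Idx R B D') (p : MvPolynomial D' R) (hp) :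
    psij lam j (Stage.mk _ _ p hp) = Stage.mk _ _ p hp := rfl

lemma toB_mk {j : Idx R B D'} (hj : Valid i lam j) (p : MvPolynomial B R) (hp) :
    toB hj (Stage.mk _ _ p hp) = epsB R p := rfl

lemma toD'_mk {j : Idx R B D'} (hj : Valid i lam j) (p : MvPolynomial D' R) (hp) :
    toD' hj (Stage.mk _ _ p hp) = epsD R p := rfl

lemma toD_mk {j : Idx R B D'} (hj : Valid i lam j) (p : MvPolynomial D' R) (hp) :
    toD hj (Stage.mk _ _ p hp) = i (epsD R p) := rfl

/-- functoriality -/
lemma trB_refl (j : Idx R B D') (x : Bj j) : trB (le_refl j) x = x := by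
  obtain ⟨p, hp, rfl⟩ := Stage.exists_mk x
  rfl

lemma trB_trans {j j' j'' : Idx R B D'} (h : j ≤ j') (h' : j' ≤ j'') (x : Bj j) :
    trB h' (trB h x) = trB (h.trans h') x := by
  obtain ⟨p, hp, rfl⟩ := Stage.exists_mk x
  rfl

lemma trD'_refl (j : Idx R B D') (x : D'j lam j) : trD' lam (le_refl j) x = x := by
  obtain ⟨p, hp, rfl⟩ := Stage.exists_mk x
  rfl

lemma trD'_trans {j j' j'' : Idx R B D'} (h : j ≤ j') (h' : j' ≤ j'') (x : D'j lam j) :
    trD' lam h' (trD' lam h x) = trD' lam (h.trans h') x := by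
  obtain ⟨p, hp, rfl⟩ := Stage.exists_mk x
  rfl

lemma trD_refl (j : Idx R B D') (x : Dj lam j) : trD lam (le_refl j) x = x := by
  obtain ⟨p, hp, rfl⟩ := Stage.exists_mk x
  rfl

lemma trD_trans {j j' j'' : Idx R B D'} (h : j ≤ j') (h' : j' ≤ j'') (x : Dj lam j) :
    trD lam h' (trD lam h x) = trD lam (h.trans h') x := by
  obtain ⟨p, hp, rfl⟩ := Stage.exists_mk x
  rfl

/-- naturality -/
lemma phij_trB {j j' : Idx R B D'} (hj : Valid i lam j) (hj' : Valid i lam j') (h : j ≤ j')
    (x : Bj j) : phij hj' (trB h x) = trD lam h (phij hj x) := by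
  obtain ⟨p, hp, rfl⟩ := Stage.exists_mk x
  rfl

lemma psij_trD' {j j' : Idx R B D'} (h : j ≤ j') (x : D'j lam j) :
    psij lam j' (trD' lam h x) = trD lam h (psij lam j x) := by
  obtain ⟨p, hp, rfl⟩ := Stage.exists_mk x
  rfl

lemma toB_trB {j j' : Idx R B D'} (hj : Valid i lam j) (hj' : Valid i lam j') (h : j ≤ j')
    (x : Bj j) : toB hj' (trB h x) = toB hj x := by
  obtain ⟨p, hp, rfl⟩ := Stage.exists_mk x
  rfl

lemma toD'_trD' {j j' : Idx R B D'} (hj : Valid i lam j) (hj' : Valid i lam j') (h : j ≤ j')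
    (x : D'j lam j) : toD' hj' (trD' lam h x) = toD' hj x := by
  obtain ⟨p, hp, rfl⟩ := Stage.exists_mk x
  rfl

lemma toD_trD {j j' : Idx R B D'} (hj : Valid i lam j) (hj' : Valid i lam j') (h : j ≤ j')
    (x : Dj lam j) : toD hj' (trD lam h x) = toD hj x := by
  obtain ⟨p, hp, rfl⟩ := Stage.exists_mk x
  rfl

lemma toD_phij (hlam : ∀ b, i (lam b) = f b) {j : Idx R B D'} (hj : Valid i lam j) (x : Bj j) :
    toD hj (phij hj x) = f (toB hj x) := by
  obtain ⟨p, hp, rfl⟩ := Stage.exists_mk x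
  rw [phij_mk, toD_mk, toB_mk]
  exact comp_eq f i lam hlam p

lemma toD_psij {j : Idx R B D'} (hj : Valid i lam j) (x : D'j lam j) :
    toD hj (psij lam j x) = i (toD' hj x) := by
  obtain ⟨p, hp, rfl⟩ := Stage.exists_mk x
  rfl

lemma psij_surjective (j : Idx R B D') : Function.Surjective (psij lam j) := by
  intro x
  obtain ⟨p, hp, rfl⟩ := Stage.exists_mk x
  exact ⟨Stage.mk _ _ p hp, rfl⟩

lemma psij_ker_nil {j : Idx R B D'} (hj : Valid i lam j) (x : D'j lam j)
    (hx : psij lam j x = 0) : IsNilpotent x := by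
  obtain ⟨p, hp, rfl⟩ := Stage.exists_mk x
  rw [psij_mk, Stage.mk_eq_zero_iff] at hx
  -- the ideal of polynomials nilpotent modulo `span TD`
  have key : Ideal.span ((j.TD ∪ j.M : Finset _) : Set (MvPolynomial D' R)) ≤
      (Ideal.span (j.TD : Set (MvPolynomial D' R))).radical := by
    apply Ideal.span_le.mpr
    intro t ht
    simp only [Finset.coe_union, Set.mem_union, Finset.mem_coe] at ht
    rcases ht with ht | ht
    · exact Ideal.le_radical (Ideal.subset_span ht)
    · obtain ⟨-, -, k, hk⟩ := hj.c t ht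
      exact ⟨k, hk⟩
  obtain ⟨k, hk⟩ := key hx
  refine ⟨k, ?_⟩
  rw [← Stage.mk_pow, Stage.mk_eq_zero_iff]
  exact hk

lemma Bj_fp {j : Idx R B D'} (hj : Valid i lam j) : Algebra.FinitePresentation R (Bj j) :=
  Stage.finitePresentation j.S j.TB (fun t ht => (hj.a t ht).1)

lemma D'j_fp {j : Idx R B D'} (hj : Valid i lam j) :
    Algebra.FinitePresentation R (D'j lam j) :=
  Stage.finitePresentation (j.S' lam) j.TD (fun t ht => (hj.b t ht).1)

lemma Dj_fp {j : Idx R B D'} (hj : Valid i lam j) :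
    Algebra.FinitePresentation R (Dj lam j) :=
  Stage.finitePresentation (j.S' lam) (j.TD ∪ j.M) (fun t ht => by
    rcases Finset.mem_union.mp ht with ht | ht
    · exact (hj.b t ht).1
    · exact (hj.c t ht).1)

end stages

section refine

variable {f : B →ₐ[R] D} {i : D' →ₐ[R] D} {lam : B → D'}

lemma exists_pow_epsD_eq_zero (hnil : ∀ x ∈ RingHom.ker i.toRingHom, IsNilpotent x)
    (q : MvPolynomial D' R) (hq : i (epsD R q) = 0) : ∃ k : ℕ, epsD R (q ^ k) = 0 := by
  obtain ⟨k, hk⟩ := hnil (epsD R q) hq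
  exact ⟨k, by rw [map_pow, hk]⟩

/-- adding a relation of `B` -/
lemma exists_relB (hlam : ∀ b, i (lam b) = f b)
    (hnil : ∀ x ∈ RingHom.ker i.toRingHom, IsNilpotent x) {j : Idx R B D'}
    (hj : Valid i lam j) (p : MvPolynomial B R) (hp : p ∈ supported R (j.S : Set B))
    (hp0 : epsB R p = 0) : ∃ j', j ≤ j' ∧ Valid i lam j' ∧ p ∈ j'.TB := by
  have h0 : i (epsD R (Lam R lam p)) = 0 := by rw [comp_eq f i lam hlam, hp0, map_zero]
  obtain ⟨k, hk⟩ := exists_pow_epsD_eq_zero hnil _ h0
  let j₀ : Idx R B D' := ⟨j.S, j.E, {p}, {(Lam R lam p) ^ k}, {Lam R lam p}⟩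
  have hj₀ : Valid i lam j₀ := by
    constructor
    · intro t ht
      obtain rfl := Finset.mem_singleton.mp ht
      exact ⟨hp, hp0⟩
    · intro t ht
      obtain rfl := Finset.mem_singleton.mp ht
      exact ⟨pow_mem (Lam_mem lam j p hp) k, hk⟩
    · intro m hm
      obtain rfl := Finset.mem_singleton.mp hm
      exact ⟨Lam_mem lam j p hp, h0, k, Ideal.subset_span (by simp [j₀])⟩
    · intro t ht
      obtain rfl := Finset.mem_singleton.mp ht
      exact Ideal.subset_span (by simp [j₀])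
  exact ⟨j.sup j₀, Idx.le_sup_left _ _, Valid.sup i lam hj hj₀, by simp [Idx.sup, j₀]⟩

/-- adding a relation of `D'` -/
lemma exists_relD' {j : Idx R B D'}
    (hj : Valid i lam j) (q : MvPolynomial D' R) (hq : q ∈ supported R (sD lam j))
    (hq0 : epsD R q = 0) : ∃ j', j ≤ j' ∧ Valid i lam j' ∧ q ∈ j'.TD := by
  let j₀ : Idx R B D' := ⟨j.S, j.E, ∅, {q}, ∅⟩
  have hj₀ : Valid i lam j₀ := by
    constructor
    · intro t ht
      exact absurd ht (Finset.notMem_empty t)
    · intro t ht
      obtain rfl := Finset.mem_singleton.mp ht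
      exact ⟨hq, hq0⟩
    · intro m hm
      exact absurd hm (Finset.notMem_empty m)
    · intro t ht
      exact absurd ht (Finset.notMem_empty t)
  exact ⟨j.sup j₀, Idx.le_sup_left _ _, Valid.sup i lam hj hj₀, by simp [Idx.sup, j₀]⟩

/-- adding a relation of `D` -/
lemma exists_relD (hnil : ∀ x ∈ RingHom.ker i.toRingHom, IsNilpotent x) {j : Idx R B D'}
    (hj : Valid i lam j) (q : MvPolynomial D' R) (hq : q ∈ supported R (sD lam j))
    (hq0 : i (epsD R q) = 0) : ∃ j', j ≤ j' ∧ Valid i lam j' ∧ q ∈ j'.M := by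
  obtain ⟨k, hk⟩ := exists_pow_epsD_eq_zero hnil _ hq0
  let j₀ : Idx R B D' := ⟨j.S, j.E, ∅, {q ^ k}, {q}⟩
  have hj₀ : Valid i lam j₀ := by
    constructor
    · intro t ht
      exact absurd ht (Finset.notMem_empty t)
    · intro t ht
      obtain rfl := Finset.mem_singleton.mp ht
      exact ⟨pow_mem hq k, hk⟩
    · intro m hm
      obtain rfl := Finset.mem_singleton.mp hm
      exact ⟨hq, hq0, k, Ideal.subset_span (by simp [j₀])⟩
    · intro t ht
      exact absurd ht (Finset.notMem_empty t)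
  exact ⟨j.sup j₀, Idx.le_sup_left _ _, Valid.sup i lam hj hj₀, by simp [Idx.sup, j₀]⟩

variable (i lam) in
/-- the stage with a single generator of `B` -/
lemma valid_genB (b : B) : Valid i lam (⟨{b}, ∅, ∅, ∅, ∅⟩ : Idx R B D') := by
  constructor
  · intro t ht; exact absurd ht (Finset.notMem_empty t)
  · intro t ht; exact absurd ht (Finset.notMem_empty t)
  · intro t ht; exact absurd ht (Finset.notMem_empty t)
  · intro t ht; exact absurd ht (Finset.notMem_empty t)

variable (i lam) in
/-- the stage with a single generator of `D'` -/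
lemma valid_genD' (e : D') : Valid i lam (⟨∅, {e}, ∅, ∅, ∅⟩ : Idx R B D') := by
  constructor
  · intro t ht; exact absurd ht (Finset.notMem_empty t)
  · intro t ht; exact absurd ht (Finset.notMem_empty t)
  · intro t ht; exact absurd ht (Finset.notMem_empty t)
  · intro t ht; exact absurd ht (Finset.notMem_empty t)

/-- surjectivity criterion for `φ_j` -/
lemma phij_surjective_of {j : Idx R B D'} (hj : Valid i lam j)
    (h : ∀ e ∈ j.E, ∃ b ∈ j.S, (X e - X (lam b) : MvPolynomial D' R) ∈
      Ideal.span ((j.TD ∪ j.M : Finset _) : Set (MvPolynomial D' R))) :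
    Function.Surjective (phij hj) := by
  intro x
  induction x using Stage.induction with
  | hX d hd =>
    rcases (mem_sD_iff lam j).mp hd with ⟨s, hs, rfl⟩ | he
    · refine ⟨Stage.mk _ _ (X s) (Stage.X_mem (Finset.mem_coe.mpr hs)), ?_⟩
      rw [phij_mk]
      congr 1
      exact rename_X _ _
    · obtain ⟨b, hb, hmem⟩ := h d he
      refine ⟨Stage.mk _ _ (X b) (Stage.X_mem (Finset.mem_coe.mpr hb)), ?_⟩
      rw [phij_mk, eq_comm, Stage.mk_eq_mk_iff]
      have : Lam R lam (X b) = X (lam b) := rename_X _ _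
      rw [this]
      exact hmem
  | hr r => exact ⟨algebraMap R _ r, AlgHom.commutes _ r⟩
  | hadd x y hx hy =>
    obtain ⟨x', rfl⟩ := hx
    obtain ⟨y', rfl⟩ := hy
    exact ⟨x' + y', map_add _ _ _⟩
  | hmul x y hx hy =>
    obtain ⟨x', rfl⟩ := hx
    obtain ⟨y', rfl⟩ := hy
    exact ⟨x' * y', map_mul _ _ _⟩

/-- integrality criterion for `φ_j` -/
lemma phij_isIntegral_of {j : Idx R B D'} (hj : Valid i lam j)
    (h : ∀ e (he : e ∈ j.E), RingHom.IsIntegralElem (R := Bj j) (A := Dj lam j)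
      (phij hj).toRingHom
      (Stage.mk _ _ (X e) (Stage.X_mem (mem_sD_of_mem_E lam j he)))) :
    RingHom.IsIntegral (R := Bj j) (A := Dj lam j) (phij hj).toRingHom := by
  intro x
  induction x using Stage.induction with
  | hX d hd =>
    rcases (mem_sD_iff lam j).mp hd with ⟨s, hs, rfl⟩ | he
    · have : Stage.mk _ _ (X (lam s)) (Stage.X_mem hd) =
          (phij hj).toRingHom (Stage.mk _ _ (X s) (Stage.X_mem (Finset.mem_coe.mpr hs))) := by
        change _ = phij hj _
        rw [phij_mk]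
        congr 1
        exact (rename_X _ _).symm
      rw [this]
      exact RingHom.isIntegralElem_map _
    · exact h d he
  | hr r =>
    have : algebraMap R (Dj lam j) r = (phij hj).toRingHom (algebraMap R _ r) :=
      (AlgHom.commutes _ r).symm
    rw [this]
    exact RingHom.isIntegralElem_map _
  | hadd x y hx hy =>
    exact RingHom.IsIntegralElem.add (R := Bj j) (S := Dj lam j) (phij hj).toRingHom hx hy
  | hmul x y hx hy =>
    exact RingHom.IsIntegralElem.mul (R := Bj j) (S := Dj lam j) (phij hj).toRingHom hx hy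

end refine

end

end Groth.Agent.Lib.Helper75.FPSys
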