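import Groth.Prelude.Def_Fitting
import Mathlib.LinearAlgebra.Matrix.Determinant.Basic
import Mathlib.LinearAlgebra.Finsupp.LinearCombination
import Mathlib.Logic.Equiv.Fin.Basic

set_option autoImplicit false
universe u v

namespace Groth.Agent.Lib.Helper75.Fitting

variable {R : Type u} [CommRing R] {M : Type v} [AddCommGroup M] [Module R M]

/-- `r` is a relation among the family `x` -/
def IsRel {ι : Type*} [Fintype ι] (x : ι → M) (r : ι → R) : Prop := ∑ j, r j • x j = 0

section rel
variable {ι : Type*} [Fintype ι] (x : ι → M)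

theorem isRel_zero : IsRel x (0 : ι → R) := by simp [IsRel]

theorem IsRel.add {r r' : ι → R} (h : IsRel x r) (h' : IsRel x r') : IsRel x (r + r') := by
  unfold IsRel at *
  simp only [Pi.add_apply, add_smul, Finset.sum_add_distrib, h, h', add_zero]

theorem IsRel.smul {r : ι → R} (c : R) (h : IsRel x r) : IsRel x (c • r) := by
  unfold IsRel at *
  simp only [Pi.smul_apply, smul_eq_mul, mul_smul, ← Finset.smul_sum, h, smul_zero]

end rel

/-- the ideal generated by determinants of square matrices with at least `s` relation rows -/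
def G (R : Type u) [CommRing R] {M : Type v} [AddCommGroup M] [Module R M]
    {ι : Type*} [Fintype ι] [DecidableEq ι] (x : ι → M) (s : ℕ) : Ideal R :=
  Ideal.span {d | ∃ (a : Matrix ι ι R) (S : Finset ι), s ≤ S.card ∧ (∀ i ∈ S, IsRel x (a i)) ∧
    d = a.det}

section basic
variable {ι : Type*} [Fintype ι] [DecidableEq ι] (x : ι → M)

theorem det_mem_G {s : ℕ} (a : Matrix ι ι R) (S : Finset ι) (hS : s ≤ S.card)
    (h : ∀ i ∈ S, IsRel x (a i)) : a.det ∈ G R x s :=
  Ideal.subset_span ⟨a, S, hS, h, rfl⟩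

theorem G_zero : G R x 0 = (⊤ : Ideal R) := by
  rw [Ideal.eq_top_iff_one]
  have := det_mem_G x (s := 0) (1 : Matrix ι ι R) ∅ (by simp) (by simp)
  rwa [Matrix.det_one] at this

theorem G_anti {s s' : ℕ} (h : s ≤ s') : G R x s' ≤ G R x s := by
  apply Ideal.span_mono
  rintro d ⟨a, S, hS, hrel, rfl⟩
  exact ⟨a, S, h.trans hS, hrel, rfl⟩

theorem G_le_iff {s : ℕ} {I : Ideal R} :
    G R x s ≤ I ↔ ∀ (a : Matrix ι ι R) (S : Finset ι), s ≤ S.card → (∀ i ∈ S, IsRel x (a i)) →
      a.det ∈ I := by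
  constructor
  · intro h a S hS hrel
    exact h (det_mem_G x a S hS hrel)
  · intro h
    apply Ideal.span_le.mpr
    rintro d ⟨a, S, hS, hrel, rfl⟩
    exact h a S hS hrel

end basic

section equiv
variable {ι κ : Type*} [Fintype ι] [DecidableEq ι] [Fintype κ] [DecidableEq κ]

theorem G_equiv_le (e : ι ≃ κ) (x : κ → M) (s : ℕ) : G R (x ∘ e) s ≤ G R x s := by
  rw [G_le_iff]
  intro a S hS hrel
  have h1 : (Matrix.reindex e e a).det = a.det := Matrix.det_reindex_self e a
  rw [← h1]
  refine det_mem_G x _ (S.map e.toEmbedding) (by simpa using hS) ?_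
  intro i hi
  rw [Finset.mem_map] at hi
  obtain ⟨i', hi', rfl⟩ := hi
  have := hrel i' hi'
  unfold IsRel at this ⊢
  rw [← this]
  rw [← Equiv.sum_comp e]
  simp

theorem G_equiv (e : ι ≃ κ) (x : κ → M) (s : ℕ) : G R (x ∘ e) s = G R x s := by
  apply le_antisymm (G_equiv_le e x s)
  have := G_equiv_le (R := R) e.symm (x ∘ e) s
  have h2 : (x ∘ e) ∘ e.symm = x := by
    funext i
    simp
  rwa [h2] at this

end equiv

end Groth.Agent.Lib.Helper75.Fitting
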