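import Groth.Agent.Lib.Helper75.Fitting0
import Mathlib.LinearAlgebra.Matrix.Determinant.Basic

set_option autoImplicit false
universe u v

namespace Groth.Agent.Lib.Helper75.Fitting

variable {R : Type u} [CommRing R] {M : Type v} [AddCommGroup M] [Module R M]

section snoc
variable {n : ℕ} (x : Fin n → M) (y' : M)

theorem isRel_snoc_iff (r : Fin (n + 1) → R) :
    IsRel (Fin.snoc x y' : Fin (n + 1) → M) r ↔
      ∑ j : Fin n, r j.castSucc • x j + r (Fin.last n) • y' = 0 := by
  unfold IsRel
  rw [Fin.sum_univ_castSucc]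
  simp only [Fin.snoc_castSucc, Fin.snoc_last]

theorem G_le_G_snoc (c : Fin n → R) (hc : ∑ j, c j • x j = y') (s : ℕ) :
    G R x s ≤ G R (Fin.snoc x y' : Fin (n + 1) → M) (s + 1) := by
  rw [G_le_iff]
  intro a S hS hrel
  let a' : Matrix (Fin (n + 1)) (Fin (n + 1)) R :=
    Matrix.of (Fin.snoc (fun i => (Fin.snoc (a i) 0 : Fin (n + 1) → R)) (Fin.snoc c (-1)) :
      Fin (n + 1) → Fin (n + 1) → R)
  have ha'1 : ∀ i j, a' (Fin.castSucc i) (Fin.castSucc j) = a i j := by
    intro i j
    simp [a']
  have ha'2 : ∀ i, a' (Fin.castSucc i) (Fin.last n) = 0 := by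
    intro i
    simp [a']
  have ha'3 : ∀ j, a' (Fin.last n) (Fin.castSucc j) = c j := by
    intro j
    simp [a']
  have ha'4 : a' (Fin.last n) (Fin.last n) = -1 := by
    simp [a']
  have hdet : a'.det = - a.det := by
    rw [Matrix.det_succ_column a' (Fin.last n), Fin.sum_univ_castSucc]
    have h0 : ∀ i : Fin n, (-1 : R) ^ ((Fin.castSucc i : ℕ) + (Fin.last n : ℕ)) *
        a' (Fin.castSucc i) (Fin.last n) *
        (a'.submatrix (Fin.castSucc i).succAbove (Fin.last n).succAbove).det = 0 := by
      intro i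
      rw [ha'2]
      ring
    rw [Finset.sum_eq_zero (fun i _ => h0 i), zero_add, ha'4]
    have hsub : a'.submatrix (Fin.last n).succAbove (Fin.last n).succAbove = a := by
      ext i j
      simp only [Matrix.submatrix_apply, Fin.succAbove_last]
      exact ha'1 i j
    rw [hsub, ← two_mul, pow_mul]
    simp
  have hmem : a'.det ∈ G R (Fin.snoc x y' : Fin (n + 1) → M) (s + 1) := by
    refine det_mem_G _ a' (insert (Fin.last n) (S.map Fin.castSuccEmb)) ?_ ?_
    · rw [Finset.card_insert_of_notMem, Finset.card_map]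
      · omega
      · simp [Fin.castSucc_ne_last]
    · intro i hi
      rw [isRel_snoc_iff]
      rw [Finset.mem_insert] at hi
      rcases hi with rfl | hi
      · simp only [ha'3, ha'4, hc]
        simp
      · rw [Finset.mem_map] at hi
        obtain ⟨i', hi', rfl⟩ := hi
        change ∑ j : Fin n, a' (Fin.castSucc i') j.castSucc • x j + a' (Fin.castSucc i') (Fin.last n) • y' = 0
        simp only [ha'1, ha'2, zero_smul, add_zero]
        exact hrel i' hi'
  rw [hdet] at hmem
  simpa using (G R (Fin.snoc x y' : Fin (n + 1) → M) (s + 1)).neg_mem hmem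

theorem card_filter_succAbove (i : Fin (n + 1)) (S' : Finset (Fin (n + 1))) (s : ℕ)
    (hS' : s + 1 ≤ S'.card) :
    s ≤ (Finset.univ.filter (fun r : Fin n => i.succAbove r ∈ S')).card := by
  have h1 : (Finset.univ.filter (fun r : Fin n => i.succAbove r ∈ S')).image i.succAbove =
      S'.erase i := by
    ext j
    simp only [Finset.mem_image, Finset.mem_filter, Finset.mem_univ, true_and, Finset.mem_erase]
    constructor
    · rintro ⟨r, hr, rfl⟩
      exact ⟨Fin.succAbove_ne i r, hr⟩
    · rintro ⟨hji, hj⟩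
      obtain ⟨r, rfl⟩ := Fin.exists_succAbove_eq hji
      exact ⟨r, hj, rfl⟩
  have h2 := Finset.card_image_of_injective
    (Finset.univ.filter (fun r : Fin n => i.succAbove r ∈ S')) (Fin.succAbove_right_injective (p := i))
  rw [h1] at h2
  have h3 := Finset.pred_card_le_card_erase (s := S') (a := i)
  omega

theorem G_snoc_le (c : Fin n → R) (hc : ∑ j, c j • x j = y') (s : ℕ) :
    G R (Fin.snoc x y' : Fin (n + 1) → M) (s + 1) ≤ G R x s := by
  rw [G_le_iff]
  intro a' S' hS' hrel
  let c' : Fin (n + 1) → R := Fin.snoc c 0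
  let a'' : Matrix (Fin (n + 1)) (Fin (n + 1)) R :=
    Matrix.of fun i j => a' i j + c' j * a' i (Fin.last n)
  have hdet : a''.det = a'.det := by
    rw [← Matrix.det_transpose a'', ← Matrix.det_transpose a']
    apply Matrix.det_eq_of_forall_row_eq_smul_add_const c' (Fin.last n)
    · simp [c']
    · intro i j
      simp [a'']
  rw [← hdet, Matrix.det_succ_column a'' (Fin.last n)]
  apply Submodule.sum_mem
  intro i _
  apply Ideal.mul_mem_left
  refine det_mem_G x _ (Finset.univ.filter (fun r : Fin n => i.succAbove r ∈ S'))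
    (card_filter_succAbove i S' s hS') ?_
  intro r hr
  rw [Finset.mem_filter] at hr
  have h1 := (isRel_snoc_iff x y' _).mp (hrel _ hr.2)
  unfold IsRel
  rw [← h1, ← hc, Finset.smul_sum, ← Finset.sum_add_distrib]
  apply Finset.sum_congr rfl
  intro j _
  simp only [Matrix.submatrix_apply, Fin.succAbove_last, a'', Matrix.of_apply, c',
    Fin.snoc_castSucc, add_smul, mul_smul]
  rw [smul_comm]

theorem G_snoc (hy : y' ∈ Submodule.span R (Set.range x)) (s : ℕ) :
    G R (Fin.snoc x y' : Fin (n + 1) → M) (s + 1) = G R x s := by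
  obtain ⟨c, hc⟩ := (Submodule.mem_span_range_iff_exists_fun R).mp hy
  exact le_antisymm (G_snoc_le x y' c hc s) (G_le_G_snoc x y' c hc s)

end snoc

end Groth.Agent.Lib.Helper75.Fitting
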