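import Groth.Agent.Lib.Helper75.Fitting10
import Mathlib.RingTheory.Spectrum.Prime.FreeLocus
import Mathlib.RingTheory.LocalProperties.Basic
import Mathlib.RingTheory.Grassmannian

set_option autoImplicit false
universe u v

namespace Groth.Agent.Lib.Helper75.Fitting

open TensorProduct

variable {R : Type u} [CommRing R] {M : Type v} [AddCommGroup M] [Module R M]

theorem G_eq_bot_of_linearIndependent {ι : Type*} [Fintype ι] [DecidableEq ι] (x : ι → M)
    (hx : LinearIndependent R x) (s : ℕ) (hs : 0 < s) : G R x s = ⊥ := by
  rw [eq_bot_iff, G_le_iff]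
  intro a S hS hrel
  have hne : S.Nonempty := by
    rw [← Finset.card_pos]
    omega
  obtain ⟨i, hi⟩ := hne
  have h0 : ∀ j, a i j = 0 := Fintype.linearIndependent_iff.mp hx (a i) (hrel i hi)
  rw [Matrix.det_eq_zero_of_row_eq_zero i h0]
  exact Ideal.zero_mem _

/-- low Fitting ideals of a finite free module vanish -/
theorem fitt_free_eq_bot [Module.Free R M] [Module.Finite R M] (j : ℕ)
    (hj : j < Module.finrank R M) : Fitt.ideal R M j = ⊥ := by
  classical
  rcases subsingleton_or_nontrivial R with hR | hR
  · apply Ideal.ext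
    intro a
    rw [Subsingleton.elim a 0]
    simp
  · let b := Module.Free.chooseBasis R M
    rw [fitt_eq_G b b.span_eq j]
    apply G_eq_bot_of_linearIndependent b b.linearIndependent
    rw [← Module.finrank_eq_card_chooseBasisIndex]
    omega

/-- low Fitting ideals of a finite projective module of constant rank vanish -/
theorem fitt_eq_bot_of_rankAtStalk {A : Type u} [CommRing A] {Q : Type v} [AddCommGroup Q]
    [Module A Q] [Module.Finite A Q] [Module.Projective A Q] (k : ℕ)
    (hk : ∀ p, Module.rankAtStalk (R := A) Q p = k) (j : ℕ) (hj : j < k) :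
    Fitt.ideal A Q j = ⊥ := by
  apply ideal_eq_bot_of_localization'
  intro J hJ
  rw [← fitt_baseChange (R' := Localization.AtPrime J) (M := Q) j]
  have : Module.Free (Localization.AtPrime J) (Localization.AtPrime J ⊗[A] Q) :=
    Module.free_of_flat_of_isLocalRing
  apply fitt_free_eq_bot
  have h1 := Module.rankAtStalk_eq_finrank_tensorProduct (M := Q) ⟨J, hJ.isPrime⟩
  rw [hk] at h1
  rw [← h1]
  exact hj

end Groth.Agent.Lib.Helper75.Fitting
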