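import Groth.Agent.Lib.Helper75.Fitting13
import Mathlib.RingTheory.Localization.Away.Basic

set_option autoImplicit false
universe u v w

namespace Groth.Agent.Lib.Helper75.Fitting

open TensorProduct

variable {R : Type u} [CommRing R] {M : Type v} [AddCommGroup M] [Module R M]

theorem span_eq_top_of_equiv {R : Type u} [CommRing R] {M : Type v} [AddCommGroup M] [Module R M]
    {M' : Type w} [AddCommGroup M'] [Module R M']
    (e : M ≃ₗ[R] M') {k : ℕ} (g : Fin k → M) (hg : Submodule.span R (Set.range g) = ⊤) :
    Submodule.span R (Set.range (e ∘ g)) = ⊤ := by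
  rw [Set.range_comp, ← LinearEquiv.coe_coe, ← Submodule.map_span, hg, Submodule.map_top,
    LinearMap.range_eq_top]
  exact e.surjective

/-- criterion (3): generators over a basic open neighbourhood -/
theorem not_fitt_le_iff_away [Module.Finite R M] (k : ℕ) (p : Ideal R) [p.IsPrime] :
    ¬ Fitt.ideal R M k ≤ p ↔ ∃ f : R, f ∉ p ∧
      ∃ g : Fin k → LocalizedModule (Submonoid.powers f) M,
        Submodule.span (Localization.Away f) (Set.range g) = ⊤ := by
  constructor
  · intro h
    -- some generator of the Fitting ideal is outside `p`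
    have : ∃ (n : ℕ) (x : Fin n → M) (a : Matrix (Fin n) (Fin n) R),
        Submodule.span R (Set.range x) = ⊤ ∧
        (∀ i : Fin n, (i : ℕ) < n - k → ∑ j, a i j • x j = 0) ∧ a.det ∉ p := by
      by_contra hcon
      push Not at hcon
      apply h
      apply Ideal.span_le.mpr
      rintro d ⟨n, x, a, hx, ha, rfl⟩
      exact hcon n x a hx ha
    obtain ⟨n, x, a, hx, ha, hdet⟩ := this
    refine ⟨a.det, hdet, ?_⟩
    let Rf := Localization.Away a.det
    let φ : R →+* Rf := algebraMap R Rf
    have hrel : ∀ i : Fin n, (i : ℕ) < n - k →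
        ∑ j, (φ.mapMatrix a) i j • bcTuple R Rf x j = 0 := by
      intro i hi
      exact isRel_bcTuple_of_isRel x (a i) (ha i hi)
    have hunit : IsUnit (φ.mapMatrix a).det := by
      rw [← RingHom.map_det]
      exact IsLocalization.Away.algebraMap_isUnit a.det
    obtain ⟨g, hg⟩ := exists_fin_generating_of_isUnit_det (bcTuple R Rf x) (span_bcTuple x hx) k
      (φ.mapMatrix a) hrel hunit
    exact ⟨_, span_eq_top_of_equiv
      (LocalizedModule.equivTensorProduct (Submonoid.powers a.det) M).symm g hg⟩
  · rintro ⟨f, hf, g, hg⟩ hle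
    have h1 : Fitt.ideal (Localization.Away f) (LocalizedModule (Submonoid.powers f) M) k = ⊤ :=
      fitt_eq_top g hg
    rw [fitt_localizedModule] at h1
    have h2 := (IsLocalization.map_algebraMap_ne_top_iff_disjoint (Submonoid.powers f)
      (Localization.Away f) (Fitt.ideal R M k)).not
    rw [ne_eq, not_not] at h2
    have h3 := h2.mp h1
    rw [Set.not_disjoint_iff] at h3
    obtain ⟨y, ⟨N, rfl⟩, hy⟩ := h3
    exact hf (Ideal.IsPrime.mem_of_pow_mem inferInstance N (hle hy))

end Groth.Agent.Lib.Helper75.Fitting
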