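import Groth.Agent.Lib.Helper75.Fitting16

set_option autoImplicit false
universe u v w

namespace Groth.Agent.Lib.Helper75.Fitting

variable {R : Type u} [CommRing R] {M : Type v} [AddCommGroup M] [Module R M]

/-- in a local ring, a principal ideal generated by a set is generated by one element of the set -/
theorem exists_unit_mul_of_span_eq [IsLocalRing R] (E : Set R) (f : R)
    (h : Ideal.span E = Ideal.span {f}) (hE : E.Nonempty) :
    ∃ d ∈ E, ∃ u : R, IsUnit u ∧ d = u * f := by
  by_contra hcon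
  push Not at hcon
  have hq : ∀ d ∈ E, ∃ q ∈ IsLocalRing.maximalIdeal R, d = q * f := by
    intro d hd
    have : d ∈ Ideal.span {f} := h ▸ Ideal.subset_span hd
    obtain ⟨q, hq⟩ := Ideal.mem_span_singleton'.mp this
    refine ⟨q, ?_, hq.symm⟩
    rw [IsLocalRing.mem_maximalIdeal, mem_nonunits_iff]
    intro hu
    exact hcon d hd q hu hq.symm
  have hall : ∀ y ∈ Ideal.span E, ∃ q ∈ IsLocalRing.maximalIdeal R, y = q * f := by
    intro y hy
    induction hy using Submodule.span_induction with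
    | mem d hd => exact hq d hd
    | zero => exact ⟨0, Ideal.zero_mem _, by simp⟩
    | add v w _ _ hv hw =>
      obtain ⟨q₁, hq₁, rfl⟩ := hv
      obtain ⟨q₂, hq₂, rfl⟩ := hw
      exact ⟨q₁ + q₂, Ideal.add_mem _ hq₁ hq₂, by ring⟩
    | smul c v _ hv =>
      obtain ⟨q₁, hq₁, rfl⟩ := hv
      exact ⟨c * q₁, Ideal.mul_mem_left _ _ hq₁, by simp [mul_assoc]⟩
  have hf : f ∈ Ideal.span E := h ▸ Ideal.mem_span_singleton_self f
  obtain ⟨q, hq1, hq2⟩ := hall f hf
  have hunit : IsUnit (1 - q) := by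
    have := IsLocalRing.isUnit_one_sub_self_of_mem_nonunits q
      ((IsLocalRing.mem_maximalIdeal q).mp hq1)
    exact this
  have hf0 : f = 0 := by
    have h1 : (1 - q) * f = 0 := by
      rw [sub_mul, one_mul, ← hq2, sub_self]
    exact (hunit.mul_right_eq_zero).mp h1
  obtain ⟨d₀, hd₀⟩ := hE
  obtain ⟨q₀, -, hq₀⟩ := hq d₀ hd₀
  exact hcon d₀ hd₀ 1 isUnit_one (by rw [hq₀, hf0]; simp)

/-- `Fin s ⊕ (complement of the range of e) ≃ Fin n` -/
noncomputable def sumComplEquiv {s n : ℕ} (e : Fin s → Fin n) (he : Function.Injective e) :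
    Fin s ⊕ {j : Fin n // j ∉ Set.range e} ≃ Fin n :=
  Equiv.ofBijective (Sum.elim e Subtype.val) (by
    constructor
    · rintro (a | a) (b | b) h
      · exact congrArg _ (he h)
      · exact absurd ⟨a, h⟩ b.2
      · exact absurd ⟨b, h.symm⟩ a.2
      · exact congrArg _ (Subtype.ext h)
    · intro j
      by_cases hj : j ∈ Set.range e
      · obtain ⟨a, rfl⟩ := hj
        exact ⟨Sum.inl a, rfl⟩
      · exact ⟨Sum.inr ⟨j, hj⟩, rfl⟩)

theorem sumComplEquiv_inl {s n : ℕ} (e : Fin s → Fin n) (he : Function.Injective e) (a : Fin s) :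
    sumComplEquiv e he (Sum.inl a) = e a := rfl

theorem sumComplEquiv_inr {s n : ℕ} (e : Fin s → Fin n) (he : Function.Injective e)
    (c : {j : Fin n // j ∉ Set.range e}) : sumComplEquiv e he (Sum.inr c) = c.1 := rfl

theorem card_compl_range {s n : ℕ} (e : Fin s → Fin n) (he : Function.Injective e) :
    Fintype.card {j : Fin n // j ∉ Set.range e} = n - s := by
  have h := Fintype.card_congr (sumComplEquiv e he)
  rw [Fintype.card_sum, Fintype.card_fin, Fintype.card_fin] at h
  omega

end Groth.Agent.Lib.Helper75.Fitting
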