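import Groth.Agent.Lib.Helper75.Fitting17

set_option autoImplicit false
universe u v w

namespace Groth.Agent.Lib.Helper75.Fitting

variable {R : Type u} [CommRing R] {M : Type v} [AddCommGroup M] [Module R M]

theorem exists_generators_quot_ker_aux {n s : ℕ} (x : Fin n → M)
    (hx : Submodule.span R (Set.range x) = ⊤) (f u : R) (hu : IsUnit u)
    (hJ : J R x s = Ideal.span {f})
    (z : Fin s → (Fin n → R)) (e : Fin s → Fin n) (he : Function.Injective e)
    (hz : ∀ j, ∑ i, z j i • x i = 0)
    (hdet : (Matrix.of fun a b => z b (e a)).det = u * f) :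
    Submodule.span R (Set.range (fun c : {j : Fin n // j ∉ Set.range e} =>
      (LinearMap.ker (f • (LinearMap.id : M →ₗ[R] M))).mkQ (x c.1))) = ⊤ := by
  set N := LinearMap.ker (f • (LinearMap.id : M →ₗ[R] M)) with hN
  set T := Submodule.span R (Set.range (fun c : {j : Fin n // j ∉ Set.range e} => N.mkQ (x c.1)))
    with hT
  let Z₁ : Matrix (Fin s) (Fin s) R := Matrix.of fun b a => z b (e a)
  have hdet1 : Z₁.det = u * f := by
    rw [← hdet, ← Matrix.det_transpose]
    rfl
  -- the coefficients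
  let m : Fin s → Fin n → R := fun a₀ c => ∑ b, Z₁.adjugate a₀ b * z b c
  have hm_rel : ∀ a₀, ∑ c, m a₀ c • x c = 0 := by
    intro a₀
    simp only [m, Finset.sum_smul, mul_smul]
    rw [Finset.sum_comm]
    apply Finset.sum_eq_zero
    intro b _
    rw [← Finset.smul_sum, hz b, smul_zero]
  have hm_e : ∀ a₀ a, m a₀ (e a) = if a₀ = a then u * f else 0 := by
    intro a₀ a
    have h1 : m a₀ (e a) = (Z₁.adjugate * Z₁) a₀ a := by
      simp [m, Matrix.mul_apply, Z₁]
    rw [h1, Matrix.adjugate_mul, hdet1, Matrix.smul_apply, Matrix.one_apply]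
    split_ifs <;> simp
  have hm_mem : ∀ a₀ c, m a₀ c ∈ Ideal.span {f} := by
    intro a₀ c
    have h1 : m a₀ c = (Z₁.updateCol a₀ (fun b => z b c)).det := by
      rw [← Matrix.cramer_apply, Matrix.cramer_eq_adjugate_mulVec]
      rfl
    rw [h1, ← hJ, ← Matrix.det_transpose]
    apply Ideal.subset_span
    refine ⟨z, Function.update e a₀ c, hz, ?_⟩
    congr 1
    ext a b
    simp only [Matrix.transpose_apply, Matrix.updateCol_apply, Matrix.of_apply, Z₁,
      Function.update_apply]
    split_ifs <;> rfl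
  choose γ hγ using fun a₀ c => Ideal.mem_span_singleton'.mp (hm_mem a₀ c)
  -- each `x (e a₀)` lies in `T` modulo `N`
  have hkey : ∀ a₀, N.mkQ (x (e a₀)) ∈ T := by
    intro a₀
    have h1 := hm_rel a₀
    rw [← Equiv.sum_comp (sumComplEquiv e he), Fintype.sum_sum_type] at h1
    simp only [sumComplEquiv_inl, sumComplEquiv_inr, hm_e] at h1
    rw [Finset.sum_eq_single a₀ (by intro b _ hb; rw [if_neg (Ne.symm hb), zero_smul])
      (by intro h; exact absurd (Finset.mem_univ _) h), if_pos rfl] at h1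
    -- rewrite as `f • (...) = 0`
    have h2 : f • (u • x (e a₀) + ∑ c : {j : Fin n // j ∉ Set.range e}, γ a₀ c.1 • x c.1) = 0 := by
      rw [← h1, smul_add, Finset.smul_sum, smul_smul, mul_comm f u]
      congr 1
      apply Finset.sum_congr rfl
      intro c _
      rw [smul_smul, mul_comm f, hγ]
    have h3 : (u • x (e a₀) + ∑ c : {j : Fin n // j ∉ Set.range e}, γ a₀ c.1 • x c.1) ∈ N := by
      rw [hN, LinearMap.mem_ker]
      simpa using h2
    have h4 : N.mkQ (u • x (e a₀) + ∑ c : {j : Fin n // j ∉ Set.range e}, γ a₀ c.1 • x c.1) = 0 := by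
      rw [Submodule.mkQ_apply, Submodule.Quotient.mk_eq_zero]
      exact h3
    rw [map_add, map_smul, map_sum] at h4
    have h5 : u • N.mkQ (x (e a₀)) ∈ T := by
      rw [eq_neg_of_add_eq_zero_left h4]
      apply Submodule.neg_mem
      apply Submodule.sum_mem
      intro c _
      rw [map_smul]
      exact Submodule.smul_mem _ _ (Submodule.subset_span ⟨c, rfl⟩)
    obtain ⟨u', hu'⟩ := hu
    have h6 : N.mkQ (x (e a₀)) = (↑u'⁻¹ : R) • (u • N.mkQ (x (e a₀))) := by
      rw [smul_smul, ← hu', Units.inv_mul, one_smul]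
    rw [h6]
    exact Submodule.smul_mem _ _ h5
  rw [eq_top_iff]
  rintro v -
  obtain ⟨w, rfl⟩ := N.mkQ_surjective v
  have hw : w ∈ Submodule.span R (Set.range x) := by rw [hx]; trivial
  induction hw using Submodule.span_induction with
  | mem y hy =>
    obtain ⟨c, rfl⟩ := hy
    by_cases hc : c ∈ Set.range e
    · obtain ⟨a₀, rfl⟩ := hc
      exact hkey a₀
    · exact Submodule.subset_span ⟨⟨c, hc⟩, rfl⟩
  | zero => rw [map_zero]; exact Submodule.zero_mem _
  | add y y' _ _ h1 h2 => rw [map_add]; exact Submodule.add_mem _ h1 h2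
  | smul c y _ h1 => rw [map_smul]; exact Submodule.smul_mem _ _ h1

end Groth.Agent.Lib.Helper75.Fitting
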