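import Groth.Agent.Lib.Helper75.Fitting18

set_option autoImplicit false
universe u v w

namespace Groth.Agent.Lib.Helper75.Fitting

variable {R : Type u} [CommRing R] {M : Type v} [AddCommGroup M] [Module R M]

theorem exists_fin_generating_of_fintype {T : Type*} [Fintype T] (y : T → M)
    (hy : Submodule.span R (Set.range y) = ⊤) (k : ℕ) (hk : Fintype.card T ≤ k) :
    ∃ g : Fin k → M, Submodule.span R (Set.range g) = ⊤ := by
  obtain ⟨ι⟩ := Function.Embedding.nonempty_of_card_le (α := T) (β := Fin k) (by simpa using hk)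
  refine ⟨Function.extend ι y 0, ?_⟩
  rw [eq_top_iff, ← hy]
  apply Submodule.span_mono
  rintro _ ⟨t, rfl⟩
  exact ⟨ι t, ι.injective.extend_apply y 0 t⟩

/-- Stacks 07ZB-type statement -/
theorem exists_generators_quot_ker [IsLocalRing R] [Module.Finite R M] (k : ℕ) (f : R)
    (hf : Fitt.ideal R M k = Ideal.span {f}) :
    ∃ g : Fin k → M ⧸ LinearMap.ker (f • (LinearMap.id : M →ₗ[R] M)),
      Submodule.span R (Set.range g) = ⊤ := by
  by_cases hf0 : f = 0
  · refine ⟨0, ?_⟩
    rw [eq_top_iff]
    rintro v -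
    obtain ⟨w, rfl⟩ := (LinearMap.ker (f • (LinearMap.id : M →ₗ[R] M))).mkQ_surjective v
    have : (LinearMap.ker (f • (LinearMap.id : M →ₗ[R] M))).mkQ w = 0 := by
      rw [Submodule.mkQ_apply, Submodule.Quotient.mk_eq_zero, LinearMap.mem_ker]
      simp [hf0]
    rw [this]
    exact Submodule.zero_mem _
  · obtain ⟨n, x, hx⟩ := Module.Finite.exists_fin (R := R) (M := M)
    have hJ : J R x (n - k) = Ideal.span {f} := by rw [← hf, fitt_eq_J x hx k]
    have hE : ∃ d ∈ {d | ∃ (z : Fin (n - k) → (Fin n → R)) (e : Fin (n - k) → Fin n),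
        (∀ j, ∑ i, z j i • x i = 0) ∧ d = (Matrix.of fun a b => z b (e a)).det},
        ∃ u : R, IsUnit u ∧ d = u * f := by
      by_contra hcon
      push Not at hcon
      -- then `f = 0`
      apply hf0
      have hq : ∀ y ∈ J R x (n - k), ∃ q ∈ IsLocalRing.maximalIdeal R, y = q * f := by
        intro y hy
        induction hy using Submodule.span_induction with
        | mem d hd =>
          have : d ∈ Ideal.span {f} := hJ ▸ Ideal.subset_span hd
          obtain ⟨q, hq⟩ := Ideal.mem_span_singleton'.mp this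
          refine ⟨q, ?_, hq.symm⟩
          rw [IsLocalRing.mem_maximalIdeal, mem_nonunits_iff]
          intro hu
          exact hcon d hd q hu hq.symm
        | zero => exact ⟨0, Ideal.zero_mem _, by simp⟩
        | add v w _ _ hv hw =>
          obtain ⟨q₁, hq₁, rfl⟩ := hv
          obtain ⟨q₂, hq₂, rfl⟩ := hw
          exact ⟨q₁ + q₂, Ideal.add_mem _ hq₁ hq₂, by ring⟩
        | smul c v _ hv =>
          obtain ⟨q₁, hq₁, rfl⟩ := hv
          exact ⟨c * q₁, Ideal.mul_mem_left _ _ hq₁, by simp [mul_assoc]⟩
      obtain ⟨q, hq1, hq2⟩ := hq f (hJ ▸ Ideal.mem_span_singleton_self f)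
      have hunit : IsUnit (1 - q) :=
        IsLocalRing.isUnit_one_sub_self_of_mem_nonunits q ((IsLocalRing.mem_maximalIdeal q).mp hq1)
      have h1 : (1 - q) * f = 0 := by
        rw [sub_mul, one_mul, ← hq2, sub_self]
      exact (hunit.mul_right_eq_zero).mp h1
    obtain ⟨d, ⟨z, e, hz, rfl⟩, u, hu, hdet⟩ := hE
    have he : Function.Injective e := by
      by_contra hne
      have : ∃ a₁ a₂, e a₁ = e a₂ ∧ a₁ ≠ a₂ := by
        unfold Function.Injective at hne
        push Not at hne
        exact hne
      obtain ⟨a₁, a₂, h12, hne'⟩ := this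
      have h0 : (Matrix.of fun a b => z b (e a)).det = 0 := by
        apply Matrix.det_zero_of_row_eq hne'
        funext b
        simp [h12]
      rw [h0] at hdet
      exact hf0 ((hu.mul_right_eq_zero).mp hdet.symm)
    have hspan := exists_generators_quot_ker_aux x hx f u hu hJ z e he hz hdet
    apply exists_fin_generating_of_fintype _ hspan k
    rw [card_compl_range e he]
    omega

end Groth.Agent.Lib.Helper75.Fitting
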