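import Groth.Agent.Lib.Helper75.Fitting1
import Mathlib.Logic.Equiv.Fintype

set_option autoImplicit false
universe u v

namespace Groth.Agent.Lib.Helper75.Fitting

variable {R : Type u} [CommRing R] {M : Type v} [AddCommGroup M] [Module R M]

/-- the `k`-th Fitting ideal computed from the tuple `x` -/
def H (R : Type u) [CommRing R] {M : Type v} [AddCommGroup M] [Module R M]
    {n : ℕ} (x : Fin n → M) (k : ℕ) : Ideal R := G R x (n - k)

theorem H_snoc {n : ℕ} (x : Fin n → M) (y' : M) (hy : y' ∈ Submodule.span R (Set.range x))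
    (k : ℕ) : H R (Fin.snoc x y' : Fin (n + 1) → M) k = H R x k := by
  unfold H
  by_cases hk : k ≤ n
  · have h1 : n + 1 - k = (n - k) + 1 := by omega
    rw [h1]
    exact G_snoc x y' hy _
  · have h1 : n + 1 - k = 0 := by omega
    have h2 : n - k = 0 := by omega
    rw [h1, h2, G_zero, G_zero]

theorem H_cast {n n' : ℕ} (h : n' = n) (x : Fin n → M) (k : ℕ) :
    H R (x ∘ Fin.cast h) k = H R x k := by
  subst h
  rfl

theorem H_append {m : ℕ} (y : Fin m → M) (k : ℕ) :
    ∀ (n : ℕ) (x : Fin n → M), (∀ j, x j ∈ Submodule.span R (Set.range y)) →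
      H R (Fin.append y x) k = H R y k := by
  intro n
  induction n with
  | zero =>
    intro x _
    rw [Fin.append_right_nil y x rfl]
    exact H_cast _ y k
  | succ n ih =>
    intro x hx
    have hx' : x = Fin.snoc (Fin.init x) (x (Fin.last n)) := (Fin.snoc_init_self x).symm
    rw [hx', Fin.append_snoc]
    have hmem : x (Fin.last n) ∈ Submodule.span R (Set.range (Fin.append y (Fin.init x))) := by
      refine Submodule.span_mono ?_ (hx (Fin.last n))
      rintro _ ⟨j, rfl⟩
      exact ⟨Fin.castAdd n j, Fin.append_left y _ j⟩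
    have h1 := H_snoc (R := R) (Fin.append y (Fin.init x)) (x (Fin.last n)) hmem k
    rw [h1]
    exact ih (Fin.init x) (fun j => hx _)

theorem H_append_comm {m n : ℕ} (y : Fin m → M) (x : Fin n → M) (k : ℕ) :
    H R (Fin.append y x) k = H R (Fin.append x y) k := by
  have h1 : Fin.append y x = Fin.append x y ∘ (finAddFlip : Fin (m + n) ≃ Fin (n + m)) := by
    funext i
    refine Fin.addCases (fun l => ?_) (fun r => ?_) i
    · simp
    · simp
  unfold H
  rw [h1, G_equiv, add_comm m n]

/-- independence of the generating tuple -/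
theorem H_eq_of_span_eq_top {m n : ℕ} (x : Fin n → M) (y : Fin m → M)
    (hx : Submodule.span R (Set.range x) = ⊤) (hy : Submodule.span R (Set.range y) = ⊤) (k : ℕ) :
    H R x k = H R y k := by
  rw [← H_append x k m y (fun j => by rw [hx]; trivial), H_append_comm,
    H_append y k n x (fun j => by rw [hy]; trivial)]

end Groth.Agent.Lib.Helper75.Fitting
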