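import Groth.Agent.Lib.Helper75.Fitting19
import Groth.Prelude.Def_FlatCA
import Mathlib.Algebra.Module.Torsion.Basic

set_option autoImplicit false
universe u v w

namespace Groth.Agent.Lib.Helper75.Fitting

variable {S : Type u} [CommRing S] {P : Type u} [AddCommGroup P] [Module S P]

theorem mem_powTorsion_iff (a : S) (y : P) :
    y ∈ FlatCA.powTorsion S a P ↔ ∃ n : ℕ, a ^ n • y = 0 := by
  unfold FlatCA.powTorsion
  rw [Submodule.mem_iSup_of_directed]
  · simp only [Submodule.mem_torsionBy_iff]
  · intro n m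
    refine ⟨n + m, ?_, ?_⟩
    · intro y hy
      rw [Submodule.mem_torsionBy_iff] at hy ⊢
      rw [pow_add, mul_comm, mul_smul, hy, smul_zero]
    · intro y hy
      rw [Submodule.mem_torsionBy_iff] at hy ⊢
      rw [pow_add, mul_smul, hy, smul_zero]

/-- Fitting ideals of the quotient by power torsion are contained in the saturation -/
theorem exists_pow_mul_mem_fitt_of_mem_fitt_quot [Module.Finite S P] (a : S) (j : ℕ) (d : S)
    (hd : d ∈ Fitt.ideal S (P ⧸ FlatCA.powTorsion S a P) j) :
    ∃ N : ℕ, a ^ N * d ∈ Fitt.ideal S P j := by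
  classical
  obtain ⟨n, x, hx⟩ := Module.Finite.exists_fin (R := S) (M := P)
  set T := FlatCA.powTorsion S a P with hT
  have hxbar : Submodule.span S (Set.range (T.mkQ ∘ x)) = ⊤ := by
    rw [Set.range_comp, ← Submodule.map_span, hx, Submodule.map_top, LinearMap.range_eq_top]
    exact T.mkQ_surjective
  rw [fitt_eq_H (T.mkQ ∘ x) hxbar j] at hd
  unfold H G at hd
  induction hd using Submodule.span_induction with
  | mem d hd =>
    obtain ⟨a', S₀, hS₀, hrel, rfl⟩ := hd
    -- each relation row of the quotient becomes a relation after multiplying by a power of `a`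
    have h1 : ∀ i ∈ S₀, ∃ N : ℕ, a ^ N • ∑ l, a' i l • x l = 0 := by
      intro i hi
      have := hrel i hi
      unfold IsRel at this
      simp only [Function.comp_apply, ← map_smul, ← map_sum] at this
      rw [Submodule.mkQ_apply, Submodule.Quotient.mk_eq_zero, hT, mem_powTorsion_iff] at this
      exact this
    choose! Nf hNf using h1
    let N := S₀.sup Nf
    have h2 : ∀ i ∈ S₀, a ^ N • ∑ l, a' i l • x l = 0 := by
      intro i hi
      have hle : Nf i ≤ N := Finset.le_sup hi
      obtain ⟨t, ht⟩ := Nat.exists_eq_add_of_le hle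
      rw [ht, pow_add, mul_comm, mul_smul, hNf i hi, smul_zero]
    let v : Fin n → S := fun i => if i ∈ S₀ then a ^ N else 1
    let a'' : Matrix (Fin n) (Fin n) S := Matrix.of fun i l => v i * a' i l
    have hdet : a''.det = (∏ i, v i) * a'.det := Matrix.det_mul_column v a'
    have hprod : ∏ i, v i = a ^ (N * S₀.card) := by
      simp only [v]
      rw [Finset.prod_ite, Finset.prod_const_one, mul_one, Finset.prod_const, ← pow_mul]
      congr 2
      rw [Finset.filter_mem_eq_inter, Finset.univ_inter]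
    refine ⟨N * S₀.card, ?_⟩
    rw [← hprod, ← hdet, fitt_eq_H x hx j]
    refine det_mem_G x a'' S₀ hS₀ ?_
    intro i hi
    unfold IsRel
    simp only [a'', Matrix.of_apply, v, if_pos hi, mul_smul]
    rw [← Finset.smul_sum]
    exact h2 i hi
  | zero => exact ⟨0, by simp⟩
  | add y w _ _ hy hw =>
    obtain ⟨N₁, h1⟩ := hy
    obtain ⟨N₂, h2⟩ := hw
    refine ⟨N₁ + N₂, ?_⟩
    have : a ^ (N₁ + N₂) * (y + w) = a ^ N₂ * (a ^ N₁ * y) + a ^ N₁ * (a ^ N₂ * w) := by ring
    rw [this]
    exact Ideal.add_mem _ (Ideal.mul_mem_left _ _ h1) (Ideal.mul_mem_left _ _ h2)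
  | smul c y _ hy =>
    obtain ⟨N₁, h1⟩ := hy
    refine ⟨N₁, ?_⟩
    have : a ^ N₁ * (c • y) = c * (a ^ N₁ * y) := by simp only [smul_eq_mul]; ring
    rw [this]
    exact Ideal.mul_mem_left _ _ h1

end Groth.Agent.Lib.Helper75.Fitting
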