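import Groth.Agent.Lib.Helper75.Fitting20
import Groth.Prelude.Def_BlowUp2

set_option autoImplicit false
universe u v w

namespace Groth.Agent.Lib.Helper75.Fitting

section blowup
variable {R : Type u} [CommRing R] (I : Ideal R) (a : R)
  {R₁ : Type u} [CommRing R₁] [Algebra R R₁] (e : R₁ ≃ₐ[R] ↥(BlowUp.affineAlgebra R I a))

include e in
theorem blowup_map_le_span : I.map (algebraMap R R₁) ≤ Ideal.span {algebraMap R R₁ a} := by
  rw [Ideal.map_le_iff_le_comap]
  intro x hx
  rw [Ideal.mem_comap, Ideal.mem_span_singleton']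
  let q : Localization.Away a :=
    IsLocalization.mk' (Localization.Away a) x ⟨a, Submonoid.mem_powers a⟩
  have hq : q ∈ BlowUp.affineAlgebra R I a := Algebra.subset_adjoin ⟨x, hx, rfl⟩
  let qB : ↥(BlowUp.affineAlgebra R I a) := ⟨q, hq⟩
  refine ⟨e.symm qB, ?_⟩
  have h1 : qB * algebraMap R ↥(BlowUp.affineAlgebra R I a) a =
      algebraMap R ↥(BlowUp.affineAlgebra R I a) x := by
    apply Subtype.ext
    change q * algebraMap R (Localization.Away a) a = algebraMap R (Localization.Away a) x
    exact IsLocalization.mk'_spec (Localization.Away a) x ⟨a, Submonoid.mem_powers a⟩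
  have h2 := congrArg e.symm h1
  rw [map_mul, AlgEquiv.commutes, AlgEquiv.commutes] at h2
  exact h2

include e in
theorem blowup_mem_nonZeroDivisors : algebraMap R R₁ a ∈ nonZeroDivisors R₁ := by
  rw [mem_nonZeroDivisors_iff_right]
  intro y hy
  have h1 := congrArg e hy
  rw [map_mul, AlgEquiv.commutes, map_zero] at h1
  have h2 : (e y : Localization.Away a) * algebraMap R (Localization.Away a) a = 0 :=
    congrArg Subtype.val h1
  have hu : IsUnit (algebraMap R (Localization.Away a) a) :=
    IsLocalization.Away.algebraMap_isUnit a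
  have h3 : (e y : Localization.Away a) = 0 := (hu.mul_left_eq_zero).mp h2
  have h4 : e y = 0 := Subtype.ext h3
  exact (EmbeddingLike.map_eq_zero_iff (f := e)).mp h4

end blowup

end Groth.Agent.Lib.Helper75.Fitting
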