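import Groth.Agent.Lib.Helper75.Fitting22

set_option autoImplicit false
universe u v w

namespace Groth.Agent.Lib.Helper75.Fitting

open TensorProduct

variable {R : Type u} [CommRing R] {M : Type u} [AddCommGroup M] [Module R M]

/-- elements of low Fitting ideals are killed by powers of `a` when `M` is free of rank `k`
away from `V(Fit_k)` -/
theorem exists_pow_mul_eq_zero_of_free [Module.Finite R M] (k : ℕ)
    (hfree : ∀ (p : Ideal R) [p.IsPrime], ¬ Fitt.ideal R M k ≤ p →
      Module.Free (Localization.AtPrime p) (LocalizedModule p.primeCompl M) ∧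
        Module.finrank (Localization.AtPrime p) (LocalizedModule p.primeCompl M) = k)
    (a : R) (ha : a ∈ Fitt.ideal R M k) (j : ℕ) (hj : j < k) (y : R)
    (hy : y ∈ Fitt.ideal R M j) : ∃ N : ℕ, a ^ N * y = 0 := by
  have hrad : a ∈ ((Ideal.span {y}).annihilator).radical := by
    rw [Ideal.radical_eq_sInf, Ideal.mem_sInf]
    rintro p ⟨hJp, hp⟩
    by_contra hap
    have hnot : ¬ Fitt.ideal R M k ≤ p := fun hle => hap (hle ha)
    obtain ⟨hfr, hrank⟩ := hfree p hnot
    have h1 : Fitt.ideal (Localization.AtPrime p) (LocalizedModule p.primeCompl M) j = ⊥ :=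
      fitt_free_eq_bot j (by rw [hrank]; exact hj)
    rw [fitt_localizedModule] at h1
    have h2 : algebraMap R (Localization.AtPrime p) y = 0 := by
      have := Ideal.mem_map_of_mem (algebraMap R (Localization.AtPrime p)) hy
      rw [h1] at this
      exact this
    rw [IsLocalization.map_eq_zero_iff p.primeCompl] at h2
    obtain ⟨t, ht⟩ := h2
    have h3 : (t : R) ∈ (Ideal.span {y}).annihilator := by
      rw [Submodule.mem_annihilator_span_singleton]
      exact ht
    exact t.2 (hJp h3)
  obtain ⟨N, hN⟩ := hrad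
  refine ⟨N, ?_⟩
  rw [Submodule.mem_annihilator_span_singleton] at hN
  exact hN

/-- strict transform is locally free (S6915) -/
theorem strictTransform_locallyFree [Module.Finite R M] (k : ℕ)
    (hfree : ∀ (p : Ideal R) [p.IsPrime], ¬ Fitt.ideal R M k ≤ p →
      Module.Free (Localization.AtPrime p) (LocalizedModule p.primeCompl M) ∧
        Module.finrank (Localization.AtPrime p) (LocalizedModule p.primeCompl M) = k)
    (a : R) (ha : a ∈ Fitt.ideal R M k) (R₁ : Type u) [CommRing R₁] [Algebra R R₁]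
    (e : R₁ ≃ₐ[R] ↥(BlowUp.affineAlgebra R (Fitt.ideal R M k) a)) :
    (∀ j, j < k → Fitt.ideal R₁ ((R₁ ⊗[R] M) ⧸
        FlatCA.powTorsion R₁ (algebraMap R R₁ a) (R₁ ⊗[R] M)) j = ⊥) ∧
    (∀ j, k ≤ j → Fitt.ideal R₁ ((R₁ ⊗[R] M) ⧸
        FlatCA.powTorsion R₁ (algebraMap R R₁ a) (R₁ ⊗[R] M)) j = ⊤) := by
  have hk : Fitt.ideal R₁ ((R₁ ⊗[R] M) ⧸
      FlatCA.powTorsion R₁ (algebraMap R R₁ a) (R₁ ⊗[R] M)) k = ⊤ := by
    apply fitt_quot_powTorsion_eq_top
    rw [fitt_baseChange]
    apply le_antisymm (blowup_map_le_span _ a e)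
    rw [Ideal.span_singleton_le_iff_mem]
    exact Ideal.mem_map_of_mem _ ha
  have hnzd := blowup_mem_nonZeroDivisors _ a e
  constructor
  · intro j hj
    rw [eq_bot_iff]
    intro d hd
    rw [Ideal.mem_bot]
    obtain ⟨N, hN⟩ := exists_pow_mul_mem_fitt_of_mem_fitt_quot _ j d hd
    rw [fitt_baseChange] at hN
    have hzero : ∀ z ∈ (Fitt.ideal R M j).map (algebraMap R R₁), z = 0 := by
      intro z hz
      unfold Ideal.map at hz
      induction hz using Submodule.span_induction with
      | mem w hw =>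
        obtain ⟨y, hy, rfl⟩ := hw
        obtain ⟨N', hN'⟩ := exists_pow_mul_eq_zero_of_free k hfree a ha j hj y hy
        have h1 := congrArg (algebraMap R R₁) hN'
        rw [map_mul, map_pow, map_zero] at h1
        exact (mul_left_mem_nonZeroDivisors_eq_zero_iff (pow_mem hnzd N')).mp h1
      | zero => rfl
      | add v w _ _ hv hw => rw [hv, hw, add_zero]
      | smul c v _ hv => rw [hv, smul_zero]
    have h2 := hzero _ hN
    exact (mul_left_mem_nonZeroDivisors_eq_zero_iff (pow_mem hnzd N)).mp h2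
  · intro j hj
    exact top_le_iff.mp (hk ▸ fitt_mono hj)

end Groth.Agent.Lib.Helper75.Fitting
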