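import Groth.Agent.Lib.Helper75.Fitting23

/- helper75: consequences of "locally free of rank r on D(f)" for Fitting ideals (f in rad Fit_r, lower Fitting ideals f-power torsion). Used for S6924. -/

set_option autoImplicit false
universe u v w

namespace Groth.Agent.Lib.Helper75.Fitting

open TensorProduct

section A

variable {R : Type u} [CommRing R] (M : Type u) [AddCommGroup M] [Module R M] [Module.Finite R M]
  (f : R) (r : ℕ)
  (hf : ∀ (p : Ideal R) [p.IsPrime], f ∉ p → ∃ g : R, g ∉ p ∧ g ∈ (Ideal.span {f}).radical ∧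
      Module.Free (Localization.Away g) (LocalizedModule (Submonoid.powers g) M) ∧
        Module.finrank (Localization.Away g) (LocalizedModule (Submonoid.powers g) M) = r)

include hf in
theorem mem_radical_fitt_of_locallyFree_away : f ∈ (Fitt.ideal R M r).radical := by
  rw [Ideal.radical_eq_sInf, Ideal.mem_sInf]
  rintro p ⟨hJp, hp⟩
  by_contra hfp
  obtain ⟨g, hgp, -, hfree, hrank⟩ := hf p hfp
  refine (not_fitt_le_iff_away (M := M) r p).mpr ⟨g, hgp, ?_⟩ hJp
  haveI := nontrivial_away_of_notMem p g hgp
  let b := Module.finBasisOfFinrankEq (Localization.Away g)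
    (LocalizedModule (Submonoid.powers g) M) hrank
  exact ⟨b, b.span_eq⟩

include hf in
theorem exists_pow_mul_eq_zero_of_locallyFree_away (j : ℕ) (hj : j < r) (y : R)
    (hy : y ∈ Fitt.ideal R M j) : ∃ N : ℕ, f ^ N * y = 0 := by
  have hrad : f ∈ ((Ideal.span {y}).annihilator).radical := by
    rw [Ideal.radical_eq_sInf, Ideal.mem_sInf]
    rintro p ⟨hJp, hp⟩
    by_contra hfp
    obtain ⟨g, hgp, -, hfree, hrank⟩ := hf p hfp
    have h1 : Fitt.ideal (Localization.Away g) (LocalizedModule (Submonoid.powers g) M) j = ⊥ :=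
      fitt_free_eq_bot j (by rw [hrank]; exact hj)
    have h1' : (Fitt.ideal R M j).map (algebraMap R (Localization.Away g)) = ⊥ := by
      rw [← h1]
      exact (fitt_localizedModule (Submonoid.powers g) j).symm
    have h2 : algebraMap R (Localization.Away g) y = 0 := by
      have := Ideal.mem_map_of_mem (algebraMap R (Localization.Away g)) hy
      rw [h1'] at this
      exact this
    rw [IsLocalization.map_eq_zero_iff (Submonoid.powers g)] at h2
    obtain ⟨⟨t, n, rfl⟩, ht⟩ := h2
    have h3 : g ^ n ∈ (Ideal.span {y}).annihilator := by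
      rw [Submodule.mem_annihilator_span_singleton]
      exact ht
    exact hgp (Ideal.IsPrime.mem_of_pow_mem hp n (hJp h3))
  obtain ⟨N, hN⟩ := hrad
  refine ⟨N, ?_⟩
  rw [Submodule.mem_annihilator_span_singleton] at hN
  exact hN

end A

end Groth.Agent.Lib.Helper75.Fitting
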