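import Groth.Agent.Lib.Helper75.Fitting24

/- helper75: finitely presented cover of a finite module keeping a given element in Fit_k. Used for S6924. -/

set_option autoImplicit false
universe u v w

namespace Groth.Agent.Lib.Helper75.Fitting

open TensorProduct

section B

variable {R : Type u} [CommRing R] (M : Type u) [AddCommGroup M] [Module R M] [Module.Finite R M]

/-- a finitely presented module surjecting onto `M` whose `k`-th Fitting ideal still contains `c` -/
theorem exists_fp_cover (k : ℕ) (c : R) (hc : c ∈ Fitt.ideal R M k) :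
    ∃ (M₁ : Type u) (_ : AddCommGroup M₁) (_ : Module R M₁) (_ : Module.FinitePresentation R M₁)
      (φ : M₁ →ₗ[R] M), Function.Surjective φ ∧ c ∈ Fitt.ideal R M₁ k := by
  classical
  obtain ⟨n, x, hx⟩ := Module.Finite.exists_fin (R := R) (M := M)
  rw [fitt_eq_H x hx k] at hc
  unfold H G at hc
  obtain ⟨T, hT, hcT⟩ := Submodule.mem_span_finite_of_mem_span hc
  have hch : ∀ d : T, ∃ (a : Matrix (Fin n) (Fin n) R) (S : Finset (Fin n)), n - k ≤ S.card ∧
      (∀ i ∈ S, IsRel x (a i)) ∧ (d : R) = a.det := fun d => hT d.2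
  choose a S hS hrel hdet using hch
  let gen : T × Fin n → (Fin n → R) := fun p => if p.2 ∈ S p.1 then a p.1 p.2 else 0
  let K : Submodule R (Fin n → R) := Submodule.span R (Set.range gen)
  have hKfg : K.FG := Submodule.fg_span (Set.finite_range gen)
  have hKrel : ∀ ρ ∈ K, IsRel x ρ := by
    intro ρ hρ
    induction hρ using Submodule.span_induction with
    | mem v hv =>
      obtain ⟨p, rfl⟩ := hv
      change IsRel x (if p.2 ∈ S p.1 then a p.1 p.2 else 0)
      split_ifs with h
      · exact hrel p.1 p.2 h
      · exact isRel_zero x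
    | zero => exact isRel_zero x
    | add v w _ _ hv hw => exact hv.add x hw
    | smul t v _ hv => exact hv.smul x t
  have hKle : K ≤ LinearMap.ker (Fintype.linearCombination R x) := by
    intro ρ hρ
    rw [LinearMap.mem_ker, Fintype.linearCombination_apply]
    exact hKrel ρ hρ
  have hfp : Module.FinitePresentation R ((Fin n → R) ⧸ K) :=
    Module.finitePresentation_of_free_of_surjective K.mkQ K.mkQ_surjective
      (by rw [Submodule.ker_mkQ]; exact hKfg)
  refine ⟨(Fin n → R) ⧸ K, inferInstance, inferInstance, hfp,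
    K.liftQ (Fintype.linearCombination R x) hKle, ?_, ?_⟩
  · intro m
    have hsurj : Function.Surjective (Fintype.linearCombination R x) := by
      rw [← LinearMap.range_eq_top, Fintype.range_linearCombination]
      exact hx
    obtain ⟨v, rfl⟩ := hsurj m
    exact ⟨K.mkQ v, by simp⟩
  · let x₁ : Fin n → (Fin n → R) ⧸ K := fun i => K.mkQ (Pi.single i 1)
    have hx₁ : Submodule.span R (Set.range x₁) = ⊤ := by
      rw [eq_top_iff]
      rintro v -
      obtain ⟨w, rfl⟩ := K.mkQ_surjective v
      have hw : w = ∑ i, w i • (Pi.single i 1 : Fin n → R) := by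
        funext j
        simp [Finset.sum_apply, Pi.single_apply]
      rw [hw, map_sum]
      refine Submodule.sum_mem _ fun i _ => ?_
      rw [map_smul]
      exact Submodule.smul_mem _ _ (Submodule.subset_span ⟨i, rfl⟩)
    have hrel₁ : ∀ ρ ∈ K, IsRel x₁ ρ := by
      intro ρ hρ
      unfold IsRel
      have hw : ρ = ∑ i, ρ i • (Pi.single i 1 : Fin n → R) := by
        funext j
        simp [Finset.sum_apply, Pi.single_apply]
      have : ∑ j, ρ j • x₁ j = K.mkQ ρ := by
        conv_rhs => rw [hw]
        rw [map_sum]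
        refine Finset.sum_congr rfl fun i _ => ?_
        rw [map_smul]
      rw [this, Submodule.mkQ_apply, Submodule.Quotient.mk_eq_zero]
      exact hρ
    rw [fitt_eq_H x₁ hx₁ k]
    unfold H
    refine Submodule.span_le.mpr ?_ hcT
    intro d hd
    have hd' : d = (a ⟨d, hd⟩).det := hdet ⟨d, hd⟩
    rw [SetLike.mem_coe, hd']
    refine det_mem_G x₁ (a ⟨d, hd⟩) (S ⟨d, hd⟩) (hS ⟨d, hd⟩) ?_
    intro i hi
    apply hrel₁
    refine Submodule.subset_span ⟨(⟨d, hd⟩, i), ?_⟩
    change (if i ∈ S ⟨d, hd⟩ then a ⟨d, hd⟩ i else 0) = _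
    rw [if_pos hi]

end B

end Groth.Agent.Lib.Helper75.Fitting
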