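import Groth.Agent.Lib.Helper75.Fitting25

/- helper75: strict transform after blowing up I = f * Fit_r(M1) has Fit_j = bot (j<r), top (j>=r). Core of S6924. -/

set_option autoImplicit false
universe u v w

namespace Groth.Agent.Lib.Helper75.Fitting

open TensorProduct

section C

variable {R : Type u} [CommRing R] (M : Type u) [AddCommGroup M] [Module R M] [Module.Finite R M]
  (f : R) (r : ℕ)
  (hf : ∀ (p : Ideal R) [p.IsPrime], f ∉ p → ∃ g : R, g ∉ p ∧ g ∈ (Ideal.span {f}).radical ∧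
      Module.Free (Localization.Away g) (LocalizedModule (Submonoid.powers g) M) ∧
        Module.finrank (Localization.Away g) (LocalizedModule (Submonoid.powers g) M) = r)

include hf in
theorem strictTransform_fitt_of_locallyFree_away :
    ∃ I : Ideal R, I.FG ∧ I.radical = (Ideal.span {f}).radical ∧ ∀ a ∈ I, ∀ (R₁ : Type u)
      [CommRing R₁] [Algebra R R₁] (_ : R₁ ≃ₐ[R] ↥(BlowUp.affineAlgebra R I a)),
      (∀ j, j < r → Fitt.ideal R₁ ((R₁ ⊗[R] M) ⧸
        FlatCA.powTorsion R₁ (algebraMap R R₁ a) (R₁ ⊗[R] M)) j = ⊥) ∧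
      (∀ j, r ≤ j → Fitt.ideal R₁ ((R₁ ⊗[R] M) ⧸
        FlatCA.powTorsion R₁ (algebraMap R R₁ a) (R₁ ⊗[R] M)) j = ⊤) := by
  obtain ⟨N, hN⟩ := mem_radical_fitt_of_locallyFree_away M f r hf
  obtain ⟨M₁, _, _, _, φ, hφ, hN₁⟩ := exists_fp_cover M r (f ^ N) hN
  set J : Ideal R := Fitt.ideal R M₁ r with hJ
  have hJfg : J.FG := fitt_fg r
  refine ⟨Ideal.span {f} * J, Ideal.FG.mul ⟨{f}, by simp⟩ hJfg, ?_, ?_⟩
  · rw [Ideal.radical_mul, inf_eq_left, Ideal.radical_le_radical_iff,
      Ideal.span_singleton_le_iff_mem]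
    exact ⟨N, hN₁⟩
  intro a ha R₁ _ _ e
  obtain ⟨b, hbJ, hab⟩ := Ideal.mem_span_singleton_mul.mp ha
  have hnzd_a := blowup_mem_nonZeroDivisors (Ideal.span {f} * J) a e
  have hab' : algebraMap R R₁ a = algebraMap R R₁ f * algebraMap R R₁ b := by
    rw [← map_mul, hab]
  rw [hab', mul_mem_nonZeroDivisors] at hnzd_a
  obtain ⟨hnzd_f, hnzd_b⟩ := hnzd_a
  have hnzd_a : algebraMap R R₁ a ∈ nonZeroDivisors R₁ := by
    rw [hab']
    exact mul_mem hnzd_f hnzd_b
  -- `J R₁ = (b)`
  have hJmap : J.map (algebraMap R R₁) = Ideal.span {algebraMap R R₁ b} := by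
    apply le_antisymm
    · rw [Ideal.map_le_iff_le_comap]
      intro j hj
      rw [Ideal.mem_comap]
      have h1 : f * j ∈ Ideal.span {f} * J :=
        Ideal.mul_mem_mul (Ideal.mem_span_singleton_self f) hj
      have h2 := blowup_map_le_span (Ideal.span {f} * J) a e
        (Ideal.mem_map_of_mem (algebraMap R R₁) h1)
      obtain ⟨q, hq⟩ := Ideal.mem_span_singleton'.mp h2
      rw [Ideal.mem_span_singleton']
      refine ⟨q, ?_⟩
      have h3 : algebraMap R R₁ f * (q * algebraMap R R₁ b) =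
          algebraMap R R₁ f * algebraMap R R₁ j := by
        rw [← map_mul (algebraMap R R₁) f j, ← hq, hab']
        ring
      exact (mul_cancel_left_mem_nonZeroDivisors hnzd_f).mp h3
    · rw [Ideal.span_singleton_le_iff_mem]
      exact Ideal.mem_map_of_mem _ hbJ
  -- strict transform of `M₁` w.r.t. `b`
  have hQ₁ : Fitt.ideal R₁ ((R₁ ⊗[R] M₁) ⧸
      FlatCA.powTorsion R₁ (algebraMap R R₁ b) (R₁ ⊗[R] M₁)) r = ⊤ := by
    apply fitt_quot_powTorsion_eq_top
    rw [fitt_baseChange, ← hJ, hJmap]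
  -- surjection onto the strict transform of `M` w.r.t. `a`
  have hle : FlatCA.powTorsion R₁ (algebraMap R R₁ b) (R₁ ⊗[R] M₁) ≤
      (FlatCA.powTorsion R₁ (algebraMap R R₁ a) (R₁ ⊗[R] M)).comap (φ.baseChange R₁) := by
    intro m hm
    rw [mem_powTorsion_iff] at hm
    obtain ⟨n, hn⟩ := hm
    rw [Submodule.mem_comap, mem_powTorsion_iff]
    refine ⟨n, ?_⟩
    rw [hab', mul_pow, mul_smul, ← map_smul, hn, map_zero, smul_zero]
  have hr : Fitt.ideal R₁ ((R₁ ⊗[R] M) ⧸
      FlatCA.powTorsion R₁ (algebraMap R R₁ a) (R₁ ⊗[R] M)) r = ⊤ := by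
    rw [← top_le_iff, ← hQ₁]
    refine fitt_le_of_surjective (Submodule.mapQ _ _ (φ.baseChange R₁) hle) ?_ r
    intro y
    obtain ⟨y', rfl⟩ := Submodule.mkQ_surjective _ y
    obtain ⟨z, rfl⟩ := LinearMap.baseChange_surjective R₁ hφ y'
    exact ⟨Submodule.mkQ _ z, by simp⟩
  constructor
  · intro j hj
    rw [eq_bot_iff]
    intro d hd
    rw [Ideal.mem_bot]
    obtain ⟨N', hN'⟩ := exists_pow_mul_mem_fitt_of_mem_fitt_quot _ j d hd
    rw [fitt_baseChange] at hN'
    have hzero : ∀ z ∈ (Fitt.ideal R M j).map (algebraMap R R₁), z = 0 := by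
      intro z hz
      induction hz using Submodule.span_induction with
      | mem v hv =>
        obtain ⟨y, hy, rfl⟩ := hv
        obtain ⟨N'', hN''⟩ := exists_pow_mul_eq_zero_of_locallyFree_away M f r hf j hj y hy
        have h1 := congrArg (algebraMap R R₁) hN''
        rw [map_mul, map_pow, map_zero] at h1
        exact (mul_left_mem_nonZeroDivisors_eq_zero_iff (pow_mem hnzd_f N'')).mp h1
      | zero => rfl
      | add v w _ _ hv hw => rw [hv, hw, add_zero]
      | smul c v _ hv => rw [hv, smul_zero]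
    have h2 := hzero _ hN'
    exact (mul_left_mem_nonZeroDivisors_eq_zero_iff (pow_mem hnzd_a N')).mp h2
  · intro j hj
    exact top_le_iff.mp (hr ▸ fitt_mono hj)

end C

end Groth.Agent.Lib.Helper75.Fitting
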