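import Groth.Agent.Lib.Helper75.Fitting23

/- helper75: Cramer rule for rows, division of linear maps by a nonzerodivisor. Used for S6897. -/

set_option autoImplicit false
universe u v w

namespace Groth.Agent.Lib.Helper75.Fitting

open TensorProduct

section Cramer

variable {R : Type u} [CommRing R]

/-- Cramer's rule for rows -/
theorem cramer_rows {n : ℕ} (a : Matrix (Fin n) (Fin n) R) (v : Fin n → R) :
    a.det • v = ∑ i, (a.updateRow i v).det • a i := by
  have h1 := Matrix.mulVec_cramer a.transpose v
  rw [Matrix.det_transpose] at h1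
  rw [← h1]
  funext j
  simp only [Matrix.mulVec, dotProduct, Matrix.transpose_apply, Finset.sum_apply, Pi.smul_apply,
    smul_eq_mul]
  refine Finset.sum_congr rfl fun i _ => ?_
  rw [Matrix.cramer_apply, Matrix.updateCol_transpose, Matrix.det_transpose, mul_comm]

theorem cramer_transpose_apply {n : ℕ} (a : Matrix (Fin n) (Fin n) R) (v : Fin n → R) (i : Fin n) :
    Matrix.cramer a.transpose v i = (a.updateRow i v).det := by
  rw [Matrix.cramer_apply, Matrix.updateCol_transpose, Matrix.det_transpose]

/-- division by a nonzerodivisor of a linear map with values in `(f)` -/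
theorem exists_div_linear {N : Type v} [AddCommGroup N] [Module R N] (f : R)
    (hf0 : f ∈ nonZeroDivisors R) (φ : N →ₗ[R] R) (hφ : ∀ v, φ v ∈ Ideal.span {f}) :
    ∃ ψ : N →ₗ[R] R, ∀ v, f * ψ v = φ v := by
  choose q hq using fun v => Ideal.mem_span_singleton'.mp (hφ v)
  refine ⟨{ toFun := q, map_add' := ?_, map_smul' := ?_ }, fun v => ?_⟩
  · intro v w
    apply (mul_cancel_right_mem_nonZeroDivisors hf0).mp
    rw [add_mul, hq, hq, hq, map_add]
  · intro c v
    apply (mul_cancel_right_mem_nonZeroDivisors hf0).mp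
    rw [RingHom.id_apply, smul_eq_mul, mul_assoc, hq, hq, map_smul, smul_eq_mul]
  · change f * q v = φ v
    rw [mul_comm, hq]

theorem exists_div_linear_pi {N : Type v} [AddCommGroup N] [Module R N] {n : ℕ} (f : R)
    (hf0 : f ∈ nonZeroDivisors R) (φ : N →ₗ[R] (Fin n → R))
    (hφ : ∀ v i, φ v i ∈ Ideal.span {f}) :
    ∃ ψ : N →ₗ[R] (Fin n → R), ∀ v, f • ψ v = φ v := by
  choose ψ hψ using fun i => exists_div_linear f hf0 ((LinearMap.proj i).comp φ) (fun v => hφ v i)
  refine ⟨LinearMap.pi ψ, fun v => ?_⟩
  funext i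
  simp only [Pi.smul_apply, LinearMap.pi_apply, smul_eq_mul]
  exact hψ i v

theorem smul_cancel_pi {n : ℕ} (f : R) (hf0 : f ∈ nonZeroDivisors R) (u w : Fin n → R)
    (h : f • u = f • w) : u = w := by
  funext i
  have := congrFun h i
  simp only [Pi.smul_apply, smul_eq_mul] at this
  exact (mul_cancel_left_mem_nonZeroDivisors hf0).mp this

end Cramer

end Groth.Agent.Lib.Helper75.Fitting
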