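import Groth.Agent.Lib.Helper75.Fitting27

/- helper75: setup for Fit_k(M) = (f), Fit_{k-1}(M) = 0: determinants with updated rows, decomposition of f. Used for S6897. -/

set_option autoImplicit false
universe u v w

namespace Groth.Agent.Lib.Helper75.Fitting

open TensorProduct

section Setup

variable {R : Type u} [CommRing R] {M : Type v} [AddCommGroup M] [Module R M]
  {n : ℕ} (x : Fin n → M) (k : ℕ) (f : R)

theorem isRel_iff_mem_ker (v : Fin n → R) :
    IsRel x v ↔ v ∈ LinearMap.ker (Fintype.linearCombination R x) := by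
  rw [LinearMap.mem_ker, Fintype.linearCombination_apply]
  rfl

/-- vanishing of determinants with too many relation rows, from the hypothesis on `Fit_{k-1}` -/
theorem det_eq_zero_of_card [Module.Finite R M] (hx : Submodule.span R (Set.range x) = ⊤)
    (hk : k = 0 ∨ Fitt.ideal R M (k - 1) = ⊥)
    (a : Matrix (Fin n) (Fin n) R) (S : Finset (Fin n)) (hS : n - k + 1 ≤ S.card)
    (hrel : ∀ i ∈ S, IsRel x (a i)) : a.det = 0 := by
  have hcard : S.card ≤ n := by
    have := Finset.card_le_univ S
    simpa using this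
  rcases Nat.eq_zero_or_pos k with h0 | hpos
  · subst h0
    omega
  · rcases hk with h0 | hk
    · omega
    · have h1 : a.det ∈ Fitt.ideal R M (k - 1) := by
        rw [fitt_eq_H x hx (k - 1)]
        unfold H
        exact det_mem_G x a S (by omega) hrel
      rw [hk] at h1
      exact h1

variable (hfit : G R x (n - k) = Ideal.span {f})
  (hlow : ∀ (a : Matrix (Fin n) (Fin n) R) (S : Finset (Fin n)), n - k + 1 ≤ S.card →
    (∀ i ∈ S, IsRel x (a i)) → a.det = 0)

include hlow in
theorem det_updateRow_eq_zero (a : Matrix (Fin n) (Fin n) R) (S : Finset (Fin n))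
    (hS : n - k ≤ S.card) (hrel : ∀ i ∈ S, IsRel x (a i)) (v : Fin n → R) (hv : IsRel x v)
    (i : Fin n) (hi : i ∉ S) : (a.updateRow i v).det = 0 := by
  refine hlow _ (insert i S) ?_ ?_
  · rw [Finset.card_insert_of_notMem hi]
    omega
  · intro j hj
    rw [Finset.mem_insert] at hj
    rcases hj with rfl | hj
    · rw [Matrix.updateRow_self]
      exact hv
    · have hne : j ≠ i := fun h => hi (h ▸ hj)
      rw [Matrix.updateRow_ne hne]
      exact hrel j hj

include hfit hlow in
theorem det_updateRow_mem (a : Matrix (Fin n) (Fin n) R) (S : Finset (Fin n))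
    (hS : n - k ≤ S.card) (hrel : ∀ i ∈ S, IsRel x (a i)) (v : Fin n → R) (hv : IsRel x v)
    (i : Fin n) : (a.updateRow i v).det ∈ Ideal.span {f} := by
  by_cases hi : i ∈ S
  · rw [← hfit]
    refine det_mem_G x _ S hS ?_
    intro j hj
    by_cases hji : j = i
    · subst hji
      rw [Matrix.updateRow_self]
      exact hv
    · rw [Matrix.updateRow_ne hji]
      exact hrel j hj
  · rw [det_updateRow_eq_zero x k hlow a S hS hrel v hv i hi]
    exact Ideal.zero_mem _

include hfit in
/-- decomposition of `f` -/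
theorem exists_decomp (hf0 : f ∈ nonZeroDivisors R) :
    ∃ (T : Finset R) (a : T → Matrix (Fin n) (Fin n) R) (S : T → Finset (Fin n)) (c s : T → R),
      (∀ d, n - k ≤ (S d).card) ∧ (∀ d, ∀ i ∈ S d, IsRel x (a d i)) ∧
      (∀ d, (a d).det = s d * f) ∧ ∑ d, c d * s d = 1 := by
  classical
  have hf : f ∈ G R x (n - k) := hfit ▸ Ideal.mem_span_singleton_self f
  unfold G at hf
  obtain ⟨T, hT, hfT⟩ := Submodule.mem_span_finite_of_mem_span hf
  have hch : ∀ d : T, ∃ (a : Matrix (Fin n) (Fin n) R) (S : Finset (Fin n)), n - k ≤ S.card ∧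
      (∀ i ∈ S, IsRel x (a i)) ∧ (d : R) = a.det := fun d => hT d.2
  choose a S hS hrel hdet using hch
  have hs : ∀ d : T, ∃ s : R, s * f = (d : R) := by
    intro d
    have : (d : R) ∈ G R x (n - k) := Ideal.subset_span (hT d.2)
    rw [hfit] at this
    exact Ideal.mem_span_singleton'.mp this
  choose s hs using hs
  obtain ⟨c, -, hc⟩ := Submodule.mem_span_finset.mp hfT
  refine ⟨T, a, S, fun d => c d, s, hS, hrel, fun d => by rw [← hdet, hs], ?_⟩
  have h1 : (∑ d : T, c d * s d) * f = 1 * f := by
    have h2 : (∑ d : T, c d * s d) * f = ∑ d : T, c (d : R) • (d : R) := by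
      rw [Finset.sum_mul]
      refine Finset.sum_congr rfl fun d _ => ?_
      rw [mul_assoc, hs, smul_eq_mul]
    rw [h2, one_mul, Finset.sum_coe_sort T (fun a => c a • a)]
    exact hc
  exact (mul_cancel_right_mem_nonZeroDivisors hf0).mp h1

end Setup

end Groth.Agent.Lib.Helper75.Fitting
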