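import Groth.Agent.Lib.Helper75.Fitting28

/- helper75: Fit_k = (f) nzd, Fit_{k-1} = 0: kernel of a presentation is projective (Cramer retraction); f-power torsion = f-torsion. Used for S6897. -/

set_option autoImplicit false
universe u v w

namespace Groth.Agent.Lib.Helper75.Fitting

open TensorProduct

section Proj

variable {R : Type u} [CommRing R] {M : Type v} [AddCommGroup M] [Module R M]
  {n : ℕ} (x : Fin n → M) (k : ℕ) (f : R)
  (hfit : G R x (n - k) = Ideal.span {f})
  (hlow : ∀ (a : Matrix (Fin n) (Fin n) R) (S : Finset (Fin n)), n - k + 1 ≤ S.card →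
    (∀ i ∈ S, IsRel x (a i)) → a.det = 0)

local notation "KK" => LinearMap.ker (Fintype.linearCombination R x)

/-- a combination of relation rows is a relation -/
theorem sum_rows_mem_ker (a : Matrix (Fin n) (Fin n) R) (S : Finset (Fin n))
    (hrel : ∀ i ∈ S, IsRel x (a i)) (c : Fin n → R) (hc : ∀ i, i ∉ S → c i = 0) :
    ∑ i, c i • a i ∈ KK := by
  refine Submodule.sum_mem _ fun i _ => ?_
  by_cases hi : i ∈ S
  · exact Submodule.smul_mem _ _ ((isRel_iff_mem_ker x _).mp (hrel i hi))
  · rw [hc i hi, zero_smul]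
    exact Submodule.zero_mem _

include hfit hlow in
theorem ker_projective (hf0 : f ∈ nonZeroDivisors R) : Module.Projective R KK := by
  classical
  obtain ⟨T, a, S, c, s, hS, hrel, hdet, hsum⟩ := exists_decomp x k f hfit hf0
  -- the Cramer coefficient maps, divided by `f`
  have hψ : ∀ d : T, ∃ ψ : KK →ₗ[R] (Fin n → R), ∀ v : KK,
      f • ψ v = Matrix.cramer (a d).transpose (v : Fin n → R) := by
    intro d
    refine exists_div_linear_pi f hf0
      ((Matrix.cramer (a d).transpose).comp (Submodule.subtype _)) ?_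
    intro v i
    change Matrix.cramer (a d).transpose (v : Fin n → R) i ∈ _
    rw [cramer_transpose_apply]
    exact det_updateRow_mem x k f hfit hlow (a d) (S d) (hS d) (hrel d) _
      ((isRel_iff_mem_ker x _).mpr v.2) i
  choose ψ hψ using hψ
  have hψ0 : ∀ (d : T) (v : KK) (i : Fin n), i ∉ S d → ψ d v i = 0 := by
    intro d v i hi
    have h1 := congrFun (hψ d v) i
    rw [cramer_transpose_apply, det_updateRow_eq_zero x k hlow (a d) (S d) (hS d) (hrel d) _
      ((isRel_iff_mem_ker x _).mpr v.2) i hi] at h1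
    simp only [Pi.smul_apply, smul_eq_mul] at h1
    exact (mul_left_mem_nonZeroDivisors_eq_zero_iff hf0).mp h1
  -- the maps back
  let τ : T → (Fin n → R) →ₗ[R] (Fin n → R) := fun d =>
    ∑ i ∈ S d, (LinearMap.proj i : (Fin n → R) →ₗ[R] R).smulRight (a d i)
  have hτ : ∀ (d : T) (u : Fin n → R), τ d u = ∑ i ∈ S d, u i • a d i := by
    intro d u
    simp [τ, LinearMap.sum_apply]
  have hτmem : ∀ (d : T) (u : Fin n → R), τ d u ∈ KK := by
    intro d u
    rw [hτ]
    exact Submodule.sum_mem _ fun i hi =>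
      Submodule.smul_mem _ _ ((isRel_iff_mem_ker x _).mp (hrel d i hi))
  let τ' : T → (Fin n → R) →ₗ[R] KK := fun d => (τ d).codRestrict _ (hτmem d)
  -- key identity
  have hkey : ∀ (d : T) (v : KK), τ d (ψ d v) = s d • (v : Fin n → R) := by
    intro d v
    apply smul_cancel_pi f hf0
    rw [hτ, Finset.smul_sum]
    have h1 : ∑ i ∈ S d, f • (ψ d v i • a d i) =
        ∑ i, ((a d).updateRow i (v : Fin n → R)).det • a d i := by
      rw [← Finset.sum_subset (Finset.subset_univ (S d))]
      · refine Finset.sum_congr rfl fun i _ => ?_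
        rw [smul_smul, ← cramer_transpose_apply, ← hψ d v]
        rfl
      · intro i _ hi
        rw [det_updateRow_eq_zero x k hlow (a d) (S d) (hS d) (hrel d) _
          ((isRel_iff_mem_ker x _).mpr v.2) i hi, zero_smul]
    rw [h1, ← cramer_rows, hdet, smul_smul, mul_comm]
  let ι : KK →ₗ[R] (T → Fin n → R) := LinearMap.pi ψ
  let ρ : (T → Fin n → R) →ₗ[R] KK := ∑ d : T, c d • (τ' d).comp (LinearMap.proj d)
  refine Module.Projective.of_split ι ρ ?_
  ext v : 1
  apply Subtype.ext
  change ((ρ (ι v) : KK) : Fin n → R) = v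
  have h2 : ((ρ (ι v) : KK) : Fin n → R) = ∑ d : T, c d • τ d (ψ d v) := by
    simp only [ρ, ι, LinearMap.sum_apply, LinearMap.smul_apply, LinearMap.comp_apply,
      LinearMap.proj_apply, LinearMap.pi_apply]
    rw [Submodule.coe_sum]
    rfl
  rw [h2]
  calc ∑ d : T, c d • τ d (ψ d v) = ∑ d : T, (c d * s d) • (v : Fin n → R) := by
        refine Finset.sum_congr rfl fun d _ => ?_
        rw [hkey, smul_smul]
    _ = (v : Fin n → R) := by rw [← Finset.sum_smul, hsum, one_smul]

include hfit hlow in
/-- `f`-power torsion is `f`-torsion (on the level of the presentation) -/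
theorem smul_mem_ker_of_pow_smul_mem (hf0 : f ∈ nonZeroDivisors R) (v : Fin n → R) (m : ℕ)
    (hv : f ^ m • v ∈ KK) : f • v ∈ KK := by
  classical
  obtain ⟨T, a, S, c, s, hS, hrel, hdet, hsum⟩ := exists_decomp x k f hfit hf0
  have hfm : f ^ m ∈ nonZeroDivisors R := pow_mem hf0 m
  have hw : IsRel x (f ^ m • v) := (isRel_iff_mem_ker x _).mpr hv
  -- for each `d`, `(s d * f) • v ∈ K`
  have h1 : ∀ d : T, (s d * f) • v ∈ KK := by
    intro d
    have h2 : (s d * f) • v = ∑ i, ((a d).updateRow i v).det • a d i := by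
      rw [← hdet, cramer_rows]
    rw [h2]
    refine sum_rows_mem_ker x (a d) (S d) (hrel d) _ ?_
    intro i hi
    have h3 := det_updateRow_eq_zero x k hlow (a d) (S d) (hS d) (hrel d) _ hw i hi
    rw [Matrix.det_updateRow_smul] at h3
    exact (mul_left_mem_nonZeroDivisors_eq_zero_iff hfm).mp h3
  have h4 : f • v = ∑ d : T, c d • ((s d * f) • v) := by
    simp_rw [smul_smul, ← mul_assoc]
    rw [← Finset.sum_smul, ← Finset.sum_mul, hsum, one_mul]
  rw [h4]
  exact Submodule.sum_mem _ fun d _ => Submodule.smul_mem _ _ (h1 d)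

end Proj

end Groth.Agent.Lib.Helper75.Fitting
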