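import Groth.Agent.Lib.Helper75.Fitting2
import Mathlib.Data.Fintype.Fin

set_option autoImplicit false
universe u v

namespace Groth.Agent.Lib.Helper75.Fitting

variable {R : Type u} [CommRing R] {M : Type v} [AddCommGroup M] [Module R M]

/-- the Prelude-style generating set for one tuple -/
theorem H_eq_span_prelude {n : ℕ} (x : Fin n → M) (k : ℕ) :
    H R x k = Ideal.span {d | ∃ a : Matrix (Fin n) (Fin n) R,
      (∀ i : Fin n, (i : ℕ) < n - k → ∑ j, a i j • x j = 0) ∧ d = a.det} := by
  apply le_antisymm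
  · unfold H
    rw [G_le_iff]
    intro a S hS hrel
    -- the set of the first `n - k` indices
    let T : Finset (Fin n) := Finset.univ.filter (fun i : Fin n => (i : ℕ) < n - k)
    have hT : T.card = n - k := by
      rw [Fin.card_filter_val_lt]
      omega
    obtain ⟨S₀, hS₀, hS₀card⟩ := Finset.exists_subset_card_eq hS
    have hcard : Fintype.card {i // i ∈ T} = Fintype.card {i // i ∈ S₀} := by
      simp [hT, hS₀card]
    let e : {i // i ∈ T} ≃ {i // i ∈ S₀} := Fintype.equivOfCardEq hcard
    let σ : Equiv.Perm (Fin n) := e.extendSubtype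
    have hσ : ∀ i ∈ T, σ i ∈ S₀ := fun i hi => e.extendSubtype_mem i hi
    have hdet : (a.submatrix σ id).det = Equiv.Perm.sign σ * a.det := Matrix.det_permute σ a
    have hmem : (a.submatrix σ id).det ∈ Ideal.span {d | ∃ a : Matrix (Fin n) (Fin n) R,
        (∀ i : Fin n, (i : ℕ) < n - k → ∑ j, a i j • x j = 0) ∧ d = a.det} := by
      apply Ideal.subset_span
      refine ⟨a.submatrix σ id, ?_, rfl⟩
      intro i hi
      have h1 : i ∈ T := by simp [T, hi]
      exact hrel (σ i) (hS₀ (hσ i h1))
    rw [hdet] at hmem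
    have h2 := Ideal.mul_mem_left _ ((Equiv.Perm.sign σ : ℤ) : R) hmem
    rw [← mul_assoc, ← Int.cast_mul] at h2
    have h3 : ((Equiv.Perm.sign σ : ℤ) * (Equiv.Perm.sign σ : ℤ) : ℤ) = 1 := by
      rw [← Units.val_mul, Int.units_mul_self]
      rfl
    rw [h3] at h2
    simpa using h2
  · apply Ideal.span_le.mpr
    rintro d ⟨a, ha, rfl⟩
    refine det_mem_G x a (Finset.univ.filter (fun i : Fin n => (i : ℕ) < n - k)) ?_ ?_
    · rw [Fin.card_filter_val_lt]
      omega
    · intro i hi
      rw [Finset.mem_filter] at hi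
      exact ha i hi.2

/-- the Prelude Fitting ideal is computed by any generating tuple -/
theorem fitt_eq_H {n : ℕ} (x : Fin n → M) (hx : Submodule.span R (Set.range x) = ⊤) (k : ℕ) :
    Fitt.ideal R M k = H R x k := by
  apply le_antisymm
  · apply Ideal.span_le.mpr
    rintro d ⟨n', x', a, hx', ha, rfl⟩
    rw [H_eq_of_span_eq_top x x' hx hx' k, H_eq_span_prelude]
    exact Ideal.subset_span ⟨a, ha, rfl⟩
  · rw [H_eq_span_prelude]
    apply Ideal.span_mono
    rintro d ⟨a, ha, rfl⟩
    exact ⟨n, x, a, hx, ha, rfl⟩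

/-- general finite index type -/
theorem fitt_eq_G {ι : Type*} [Fintype ι] [DecidableEq ι] (x : ι → M)
    (hx : Submodule.span R (Set.range x) = ⊤) (k : ℕ) :
    Fitt.ideal R M k = G R x (Fintype.card ι - k) := by
  let e := Fintype.equivFin ι
  have hx₀ : Submodule.span R (Set.range (x ∘ e.symm)) = ⊤ := by
    rw [Set.range_comp, e.symm.surjective.range_eq, Set.image_univ]
    exact hx
  rw [fitt_eq_H (x ∘ e.symm) hx₀ k]
  unfold H
  rw [← G_equiv e (x ∘ e.symm)]
  congr 2
  funext i
  simp

end Groth.Agent.Lib.Helper75.Fitting
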