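import Groth.Agent.Lib.Helper75.Fitting29

import Mathlib.RingTheory.LocalProperties.FinitePresentation
import Mathlib.RingTheory.Flat.Localization
import Mathlib.RingTheory.Flat.EquationalCriterion

/- helper75: finite module, locally free on basic opens => projective. Used for S6897. -/

set_option autoImplicit false
universe u v w

namespace Groth.Agent.Lib.Helper75.Fitting

open TensorProduct

section LocFree

variable {R : Type u} [CommRing R] (Q : Type v) [AddCommGroup Q] [Module R Q] [Module.Finite R Q]

theorem projective_of_locallyFree
    (h : ∀ (p : Ideal R) [p.IsPrime], ∃ g : R, g ∉ p ∧
      Module.Free (Localization.Away g) (LocalizedModule (Submonoid.powers g) Q)) :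
    Module.Projective R Q := by
  let s : Set R := {g | Module.Free (Localization.Away g) (LocalizedModule (Submonoid.powers g) Q)}
  have hs : Ideal.span s = ⊤ := by
    by_contra hne
    obtain ⟨p, hp, hle⟩ := Ideal.exists_le_maximal _ hne
    have := hp.isPrime
    obtain ⟨g, hgp, hfree⟩ := h p
    exact hgp (hle (Ideal.subset_span hfree))
  have hfp : Module.FinitePresentation R Q := by
    refine Module.FinitePresentation.of_localizationSpan s hs fun g => ?_
    have : Module.Free (Localization.Away g.1) (LocalizedModule (Submonoid.powers g.1) Q) := g.2
    exact Module.finitePresentation_of_projective _ _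
  have hflat : Module.Flat R Q := by
    refine Module.flat_of_localized_span R Q s hs fun g => ?_
    have : Module.Free (Localization.Away g.1) (LocalizedModule (Submonoid.powers g.1) Q) := g.2
    exact Module.Flat.trans R (Localization.Away g.1) _
  exact Module.Flat.projective_of_finitePresentation

end LocFree

end Groth.Agent.Lib.Helper75.Fitting
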