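import Groth.Agent.Lib.Helper75.Fitting30
import Mathlib.Algebra.Category.ModuleCat.ProjectiveDimension

/- helper75: Fit_k(M) = (f) nzd, Fit_{k-1} = 0: pd M <= 1, f-power torsion = f-torsion, Fitting ideals of M/torsion. Used for S6897. -/

set_option autoImplicit false
universe u v w

namespace Groth.Agent.Lib.Helper75.Fitting

open TensorProduct CategoryTheory

section Main

variable {R : Type u} [CommRing R] (M : Type u) [AddCommGroup M] [Module R M]
  [Module.Finite R M] (k : ℕ) (f : R) (hf0 : f ∈ nonZeroDivisors R)
  (hf : Fitt.ideal R M k = Ideal.span {f}) (hk : k = 0 ∨ Fitt.ideal R M (k - 1) = ⊥)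

include hf0 hf hk in
theorem pd_lt_two_of_fitt_principal : HasProjectiveDimensionLT (ModuleCat.of R M) 2 := by
  obtain ⟨n, x, hx⟩ := Module.Finite.exists_fin (R := R) (M := M)
  have hfit : G R x (n - k) = Ideal.span {f} := by
    rw [← hf, fitt_eq_H x hx k]
    rfl
  have hlow := fun a S hS hrel => det_eq_zero_of_card x k hx hk a S hS hrel
  have hproj := ker_projective x k f hfit hlow hf0
  have hsurj : Function.Surjective (Fintype.linearCombination R x) := by
    rw [← LinearMap.range_eq_top, Fintype.range_linearCombination]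
    exact hx
  have hS := LinearMap.shortExact_shortComplexKer hsurj
  have h1 : Projective (Fintype.linearCombination R x).shortComplexKer.X₁ := by
    change Projective (ModuleCat.of R (LinearMap.ker (Fintype.linearCombination R x)))
    rw [← IsProjective.iff_projective]
    exact hproj
  have h2 : Projective (Fintype.linearCombination R x).shortComplexKer.X₂ := by
    change Projective (ModuleCat.of R (Fin n → R))
    rw [← IsProjective.iff_projective]
    infer_instance
  exact hS.hasProjectiveDimensionLT_X₃ 1 inferInstance inferInstance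

include hf0 hf hk in
theorem pow_torsion_iff_of_fitt_principal (m : M) : (∃ N : ℕ, f ^ N • m = 0) ↔ f • m = 0 := by
  constructor
  · rintro ⟨N, hN⟩
    obtain ⟨n, x, hx⟩ := Module.Finite.exists_fin (R := R) (M := M)
    have hfit : G R x (n - k) = Ideal.span {f} := by
      rw [← hf, fitt_eq_H x hx k]
      rfl
    have hlow := fun a S hS hrel => det_eq_zero_of_card x k hx hk a S hS hrel
    have hsurj : Function.Surjective (Fintype.linearCombination R x) := by
      rw [← LinearMap.range_eq_top, Fintype.range_linearCombination]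
      exact hx
    obtain ⟨v, rfl⟩ := hsurj m
    have h1 : f ^ N • v ∈ LinearMap.ker (Fintype.linearCombination R x) := by
      rw [LinearMap.mem_ker, map_smul]
      exact hN
    have h2 := smul_mem_ker_of_pow_smul_mem x k f hfit hlow hf0 v N h1
    rw [LinearMap.mem_ker, map_smul] at h2
    exact h2
  · intro h
    exact ⟨1, by rw [pow_one]; exact h⟩

include hf0 hf hk in
theorem ker_smul_eq_powTorsion :
    LinearMap.ker (f • (LinearMap.id : M →ₗ[R] M)) = FlatCA.powTorsion R f M := by
  ext m
  rw [mem_powTorsion_iff, pow_torsion_iff_of_fitt_principal M k f hf0 hf hk, LinearMap.mem_ker]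
  rfl

include hf0 hf hk in
theorem fitt_quot_powTorsion_of_fitt_principal :
    (∀ j, j < k → Fitt.ideal R (M ⧸ FlatCA.powTorsion R f M) j = ⊥) ∧
    (∀ j, k ≤ j → Fitt.ideal R (M ⧸ FlatCA.powTorsion R f M) j = ⊤) := by
  have hk' : Fitt.ideal R (M ⧸ FlatCA.powTorsion R f M) k = ⊤ :=
    fitt_quot_powTorsion_eq_top f k hf
  constructor
  · intro j hj
    rw [eq_bot_iff]
    intro d hd
    rw [Ideal.mem_bot]
    obtain ⟨N, hN⟩ := exists_pow_mul_mem_fitt_of_mem_fitt_quot f j d hd
    have hbot : Fitt.ideal R M (k - 1) = ⊥ := by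
      rcases hk with h0 | h
      · omega
      · exact h
    have h1 : f ^ N * d ∈ Fitt.ideal R M (k - 1) := fitt_mono (by omega) hN
    rw [hbot, Ideal.mem_bot] at h1
    exact (mul_left_mem_nonZeroDivisors_eq_zero_iff (pow_mem hf0 N)).mp h1
  · intro j hj
    exact top_le_iff.mp (hk' ▸ fitt_mono hj)

end Main

end Groth.Agent.Lib.Helper75.Fitting
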