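import Groth.Agent.Lib.Helper75.Fitting31

/- helper75: submodule with projective quotient: splitting, retraction, projective dimension of the submodule. Used for S6897. -/

set_option autoImplicit false
universe u v w

namespace Groth.Agent.Lib.Helper75.Fitting

open TensorProduct CategoryTheory

section Split

variable {R : Type u} [CommRing R] {M : Type u} [AddCommGroup M] [Module R M] (N : Submodule R M)

/-- splitting data for a submodule with projective quotient -/
theorem exists_retraction_of_projective_quotient [Module.Projective R (M ⧸ N)] :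
    ∃ (s : (M ⧸ N) →ₗ[R] M) (r : M →ₗ[R] N), N.mkQ ∘ₗ s = LinearMap.id ∧
      (∀ m, (r m : M) = m - s (N.mkQ m)) := by
  obtain ⟨s, hs⟩ := Module.projective_lifting_property N.mkQ LinearMap.id N.mkQ_surjective
  have hmem : ∀ m, ((LinearMap.id : M →ₗ[R] M) - s ∘ₗ N.mkQ) m ∈ N := by
    intro m
    rw [← Submodule.Quotient.mk_eq_zero, ← Submodule.mkQ_apply]
    have h1 : N.mkQ (s (N.mkQ m)) = N.mkQ m := congrArg (fun g => g (N.mkQ m)) hs
    simp only [LinearMap.sub_apply, LinearMap.id_apply, LinearMap.comp_apply, map_sub, h1,
      sub_self]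
  exact ⟨s, ((LinearMap.id : M →ₗ[R] M) - s ∘ₗ N.mkQ).codRestrict N hmem, hs, fun m => rfl⟩

theorem nonempty_equiv_prod_of_projective_quotient [Module.Projective R (M ⧸ N)] :
    Nonempty (M ≃ₗ[R] (M ⧸ N) × N) := by
  obtain ⟨s, r, hs, hr⟩ := exists_retraction_of_projective_quotient N
  have hs' : ∀ q, N.mkQ (s q) = q := fun q => congrArg (fun g => g q) hs
  have hN0 : ∀ t : N, N.mkQ (t : M) = 0 := by
    intro t
    rw [Submodule.mkQ_apply, Submodule.Quotient.mk_eq_zero]
    exact t.2
  refine ⟨{ toLinearMap := N.mkQ.prod r
            invFun := fun p => s p.1 + (p.2 : M)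
            left_inv := ?_
            right_inv := ?_ }⟩
  · intro m
    change s (N.mkQ m) + ((r m : N) : M) = m
    rw [hr]
    abel
  · rintro ⟨q, t⟩
    have h1 : N.mkQ (s q + (t : M)) = q := by
      rw [map_add, hs', hN0, add_zero]
    refine Prod.ext h1 (Subtype.ext ?_)
    change ((r (s q + (t : M)) : N) : M) = t
    rw [hr, h1]
    abel

theorem pd_submodule_of_projective_quotient [Module.Projective R (M ⧸ N)] (n : ℕ)
    [HasProjectiveDimensionLT (ModuleCat.of R M) n] :
    HasProjectiveDimensionLT (ModuleCat.of R N) n := by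
  obtain ⟨s, r, hs, hr⟩ := exists_retraction_of_projective_quotient N
  let h : Retract (ModuleCat.of R N) (ModuleCat.of R M) :=
    { i := ModuleCat.ofHom N.subtype
      r := ModuleCat.ofHom r
      retract := by
        ext t
        change (r (t : M) : M) = t
        rw [hr]
        have : N.mkQ (t : M) = 0 := by
          rw [Submodule.mkQ_apply, Submodule.Quotient.mk_eq_zero]
          exact t.2
        rw [this, map_zero, sub_zero] }
  exact h.hasProjectiveDimensionLT n

end Split

end Groth.Agent.Lib.Helper75.Fitting
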