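import Groth.Agent.Lib.Helper75.Fitting3
import Mathlib.LinearAlgebra.Matrix.Block

set_option autoImplicit false
universe u v

namespace Groth.Agent.Lib.Helper75.Fitting

variable {R : Type u} [CommRing R] {M : Type v} [AddCommGroup M] [Module R M]

/-- the ideal of `s × s` minors of matrices of relations -/
def J (R : Type u) [CommRing R] {M : Type v} [AddCommGroup M] [Module R M]
    {n : ℕ} (x : Fin n → M) (s : ℕ) : Ideal R :=
  Ideal.span {d | ∃ (z : Fin s → (Fin n → R)) (e : Fin s → Fin n),
    (∀ j, ∑ i, z j i • x i = 0) ∧ d = (Matrix.of fun a b => z b (e a)).det}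

variable {n : ℕ} (x : Fin n → M)

theorem card_filter_succAbove_eq {N : ℕ} (i : Fin (N + 1)) (S : Finset (Fin (N + 1)))
    (hi : i ∉ S) :
    (Finset.univ.filter (fun r : Fin N => i.succAbove r ∈ S)).card = S.card := by
  have h1 : (Finset.univ.filter (fun r : Fin N => i.succAbove r ∈ S)).image i.succAbove = S := by
    ext j
    simp only [Finset.mem_image, Finset.mem_filter, Finset.mem_univ, true_and]
    constructor
    · rintro ⟨r, hr, rfl⟩
      exact hr
    · intro hj
      have hji : j ≠ i := fun h => hi (h ▸ hj)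
      obtain ⟨r, rfl⟩ := Fin.exists_succAbove_eq hji
      exact ⟨r, hj, rfl⟩
  have h2 := Finset.card_image_of_injective
    (Finset.univ.filter (fun r : Fin N => i.succAbove r ∈ S)) (Fin.succAbove_right_injective (p := i))
  rw [h1] at h2
  exact h2.symm

theorem det_mem_J (s : ℕ) : ∀ (N : ℕ) (a : Matrix (Fin N) (Fin N) R) (e : Fin N → Fin n)
    (S : Finset (Fin N)), S.card = s →
    (∀ i ∈ S, ∃ z : Fin n → R, IsRel x z ∧ ∀ j, a i j = z (e j)) → a.det ∈ J R x s := by
  intro N
  induction N with
  | zero =>
    intro a e S hS _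
    have hs : s = 0 := by
      rw [← hS]
      simp [Finset.eq_empty_of_isEmpty S]
    subst hs
    apply Ideal.subset_span
    refine ⟨Fin.elim0, Fin.elim0, fun j => j.elim0, ?_⟩
    simp
  | succ N ih =>
    intro a e S hS hrel
    by_cases hSu : S = Finset.univ
    · have hs : s = N + 1 := by
        rw [← hS, hSu]
        simp
      subst hs
      choose z hz using fun i => hrel i (by rw [hSu]; exact Finset.mem_univ i)
      apply Ideal.subset_span
      refine ⟨z, e, fun j => (hz j).1, ?_⟩
      rw [← Matrix.det_transpose]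
      congr 1
      ext i j
      simp [(hz j).2 i]
    · obtain ⟨i₀, hi₀⟩ : ∃ i₀, i₀ ∉ S := by
        by_contra h
        push Not at h
        exact hSu (Finset.eq_univ_iff_forall.mpr h)
      rw [Matrix.det_succ_row a i₀]
      apply Submodule.sum_mem
      intro j _
      apply Ideal.mul_mem_left
      apply ih _ (e ∘ j.succAbove) (Finset.univ.filter (fun r : Fin N => i₀.succAbove r ∈ S))
      · rw [card_filter_succAbove_eq i₀ S hi₀, hS]
      · intro r hr
        rw [Finset.mem_filter] at hr
        obtain ⟨z, hz1, hz2⟩ := hrel _ hr.2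
        exact ⟨z, hz1, fun c => hz2 _⟩

theorem G_le_J (s : ℕ) : G R x s ≤ J R x s := by
  rw [G_le_iff]
  intro a S hS hrel
  obtain ⟨S₀, hS₀, hS₀card⟩ := Finset.exists_subset_card_eq hS
  exact det_mem_J x s n a id S₀ hS₀card (fun i hi => ⟨a i, hrel i (hS₀ hi), fun j => rfl⟩)

end Groth.Agent.Lib.Helper75.Fitting
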