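import Groth.Agent.Lib.Helper75.Fitting4

set_option autoImplicit false
universe u v

namespace Groth.Agent.Lib.Helper75.Fitting

variable {R : Type u} [CommRing R] {M : Type v} [AddCommGroup M] [Module R M]
variable {n : ℕ} (x : Fin n → M)

theorem J_le_G (s : ℕ) : J R x s ≤ G R x s := by
  apply Ideal.span_le.mpr
  rintro d ⟨z, e, hz, rfl⟩
  by_cases he : Function.Injective e
  · -- the index type `Fin s ⊕ (complement of the range of e)`
    let σf : Fin s ⊕ {j : Fin n // j ∉ Set.range e} → Fin n := Sum.elim e Subtype.val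
    have hσ : Function.Bijective σf := by
      constructor
      · rintro (a | a) (b | b) h
        · exact congrArg _ (he h)
        · exact absurd ⟨a, h⟩ b.2
        · exact absurd ⟨b, h.symm⟩ a.2
        · exact congrArg _ (Subtype.ext h)
      · intro j
        by_cases hj : j ∈ Set.range e
        · obtain ⟨a, rfl⟩ := hj
          exact ⟨Sum.inl a, rfl⟩
        · exact ⟨Sum.inr ⟨j, hj⟩, rfl⟩
    let σ : Fin s ⊕ {j : Fin n // j ∉ Set.range e} ≃ Fin n := Equiv.ofBijective σf hσ
    let Z₁ : Matrix (Fin s) (Fin s) R := Matrix.of fun b a => z b (e a)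
    let Z₂ : Matrix (Fin s) {j : Fin n // j ∉ Set.range e} R := Matrix.of fun b c => z b c
    let A : Matrix (Fin s ⊕ {j : Fin n // j ∉ Set.range e})
      (Fin s ⊕ {j : Fin n // j ∉ Set.range e}) R := Matrix.fromBlocks Z₁ Z₂ 0 1
    have hA : ∀ b t, A (Sum.inl b) t = z b (σ t) := by
      intro b t
      rcases t with t | t <;> rfl
    have hdet : A.det = (Matrix.of fun a b => z b (e a)).det := by
      rw [Matrix.det_fromBlocks_zero₂₁, Matrix.det_one, mul_one, ← Matrix.det_transpose]
      rfl
    rw [← hdet, ← G_equiv σ x s]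
    refine det_mem_G _ A (Finset.univ.map ⟨Sum.inl, Sum.inl_injective⟩) (by simp) ?_
    intro i hi
    rw [Finset.mem_map] at hi
    obtain ⟨b, -, rfl⟩ := hi
    unfold IsRel
    simp only [Function.Embedding.coeFn_mk, hA, Function.comp_apply]
    rw [Equiv.sum_comp σ (fun j => z b j • x j)]
    exact hz b
  · -- two equal rows
    have : ∃ a₁ a₂, e a₁ = e a₂ ∧ a₁ ≠ a₂ := by
      unfold Function.Injective at he
      push Not at he
      exact he
    obtain ⟨a₁, a₂, h12, hne⟩ := this
    have h0 : (Matrix.of fun a b => z b (e a)).det = 0 := by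
      apply Matrix.det_zero_of_row_eq hne
      funext b
      simp [h12]
    rw [h0]
    exact Ideal.zero_mem _

theorem J_eq_G (s : ℕ) : J R x s = G R x s := le_antisymm (J_le_G x s) (G_le_J x s)

/-- minors description of the Prelude Fitting ideal (any generating tuple) -/
theorem fitt_eq_J (hx : Submodule.span R (Set.range x) = ⊤) (k : ℕ) :
    Fitt.ideal R M k = J R x (n - k) := by
  rw [fitt_eq_H x hx k, J_eq_G]
  rfl

end Groth.Agent.Lib.Helper75.Fitting
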