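import Groth.Agent.Lib.Helper75.Fitting8
import Mathlib.LinearAlgebra.TensorProduct.Pi
import Mathlib.LinearAlgebra.TensorProduct.RightExactness
import Mathlib.RingTheory.Ideal.Maps

set_option autoImplicit false
universe u u' v

namespace Groth.Agent.Lib.Helper75.Fitting

open TensorProduct

variable {R : Type u} {R' : Type u'} [CommRing R] [CommRing R'] [Algebra R R']
variable {M : Type v} [AddCommGroup M] [Module R M]

section baseChange
variable {n : ℕ} (x : Fin n → M)

/-- base-changed tuple -/
def bcTuple (R : Type u) (R' : Type u') [CommRing R] [CommRing R'] [Algebra R R']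
    {M : Type v} [AddCommGroup M] [Module R M] {n : ℕ} (x : Fin n → M) : Fin n → R' ⊗[R] M :=
  fun i => (1 : R') ⊗ₜ[R] x i

theorem algebraMap_smul_one_tmul (c : R) (m : M) :
    (algebraMap R R' c) • ((1 : R') ⊗ₜ[R] m) = (1 : R') ⊗ₜ[R] (c • m) := by
  rw [TensorProduct.smul_tmul', smul_eq_mul, mul_one, Algebra.algebraMap_eq_smul_one,
    TensorProduct.smul_tmul]

theorem span_bcTuple (hx : Submodule.span R (Set.range x) = ⊤) :
    Submodule.span R' (Set.range (bcTuple R R' x)) = ⊤ := by
  rw [eq_top_iff]
  rintro t -
  induction t using TensorProduct.induction_on with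
  | zero => exact Submodule.zero_mem _
  | tmul r' m =>
    have h1 : r' ⊗ₜ[R] m = r' • ((1 : R') ⊗ₜ[R] m) := by
      rw [TensorProduct.smul_tmul', smul_eq_mul, mul_one]
    rw [h1]
    clear h1
    apply Submodule.smul_mem
    have hm : m ∈ Submodule.span R (Set.range x) := by rw [hx]; trivial
    induction hm using Submodule.span_induction with
    | mem v hv =>
      obtain ⟨i, rfl⟩ := hv
      exact Submodule.subset_span ⟨i, rfl⟩
    | zero => rw [TensorProduct.tmul_zero]; exact Submodule.zero_mem _
    | add v w _ _ hv hw => rw [TensorProduct.tmul_add]; exact Submodule.add_mem _ hv hw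
    | smul c v _ hv =>
      rw [← algebraMap_smul_one_tmul]
      exact Submodule.smul_mem _ _ hv
  | add a b ha hb => exact Submodule.add_mem _ ha hb

theorem isRel_bcTuple_of_isRel (r : Fin n → R) (hr : IsRel x r) :
    IsRel (bcTuple R R' x) (fun i => algebraMap R R' (r i)) := by
  unfold IsRel at *
  unfold bcTuple
  simp_rw [algebraMap_smul_one_tmul, ← TensorProduct.tmul_sum, hr, TensorProduct.tmul_zero]

end baseChange

end Groth.Agent.Lib.Helper75.Fitting
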