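import Mathlib
import Groth.Prelude.Def_Red2
import Groth.Prelude.Def_Pi1
import Groth.Agent.Lib.Lead.GaTorsor
import Groth.Agent.Lib.Helper50.CurveReg
import Groth.Agent.Lib.Helper32.FixPtT1

/-!
# T2 for helper71's S15592: extension of a `k[X, X⁻¹]`-point of a proper `k`-scheme to a `k[X]`-point
-/

set_option autoImplicit false
universe u
open CategoryTheory CategoryTheory.Limits MonoidalCategory CartesianMonoidalCategory MonObj AlgebraicGeometry Polynomial
open Groth.Agent.Lib.Lead.GaTorsor (ov ovMap smul)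

namespace Groth.Agent.Lib.Helper75.FixPtT2

theorem exists_extension (k : Type u) [Field k] (Y : Over (Spec (CommRingCat.of k))) [IsProper Y.hom] (L : Type u) [CommRing L] [Algebra k L] [Algebra k[X] L] [IsScalarTower k k[X] L] [IsLocalization.Away (X : k[X]) L] (g : ov (CommRingCat.of k) (𝟙 _) L ⟶ Y) : ∃ c : ov (CommRingCat.of k) (𝟙 _) k[X] ⟶ Y, ovMap (CommRingCat.of k) (𝟙 _) (IsScalarTower.toAlgHom k k[X] L) ≫ c = g := by
  obtain ⟨hcurve, hnorm⟩ := Groth.Agent.Lib.Helper32.FixPtT1.curve_facts k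
  -- the open immersion
  let j : Spec (CommRingCat.of L) ⟶ Spec (CommRingCat.of k[X]) :=
    Spec.map (CommRingCat.ofHom (algebraMap k[X] L))
  have hj : IsOpenImmersion j := IsOpenImmersion.of_isLocalization (X : k[X])
  have hjleft : (ovMap (CommRingCat.of k) (𝟙 _) (IsScalarTower.toAlgHom k k[X] L)).left = j := rfl
  -- nonempty source
  have hinj : Function.Injective (algebraMap k[X] L) :=
    IsLocalization.injective L (M := Submonoid.powers (X : k[X]))
      (powers_le_nonZeroDivisors_of_noZeroDivisors X_ne_zero)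
  have : Nontrivial L := hinj.nontrivial
  -- density
  have hdense : Dense (j.opensRange : Set (Spec (CommRingCat.of k[X]))) := by
    have : IsIntegral (Spec (CommRingCat.of k[X])) := inferInstance
    refine IsOpen.dense j.opensRange.2 ?_
    obtain ⟨y⟩ : Nonempty (Spec (CommRingCat.of L)) := inferInstance
    exact ⟨j y, y, rfl⟩
  -- the map on the open
  let gl : Spec (CommRingCat.of L) ⟶ Y.left := g.left
  let q : Spec (CommRingCat.of k[X]) ⟶ Spec (CommRingCat.of k) :=
    (ov (CommRingCat.of k) (𝟙 _) k[X]).hom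
  have hw : gl ≫ Y.hom = j ≫ q := by
    have h1 : gl ≫ Y.hom = (ov (CommRingCat.of k) (𝟙 _) L).hom := Over.w g
    rw [h1]
    change Spec.map _ ≫ 𝟙 _ = Spec.map _ ≫ Spec.map _ ≫ 𝟙 _
    rw [← Category.assoc, ← Spec.map_comp, ← CommRingCat.ofHom_comp,
      ← IsScalarTower.algebraMap_eq]
  have hg : (j.isoOpensRange.inv ≫ gl) ≫ Y.hom = j.opensRange.ι ≫ q := by
    rw [Category.assoc, hw, ← Category.assoc, Scheme.Hom.isoOpensRange_inv_comp]
  obtain ⟨c', ⟨hc1, hc2⟩, -⟩ := Groth.Agent.Lib.Helper50.existsUnique_extension_of_normal_curve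
    (X := Spec (CommRingCat.of k[X])) Y.hom q hcurve hnorm j.opensRange hdense
    (j.isoOpensRange.inv ≫ gl) hg
  refine ⟨Over.homMk c' hc2, ?_⟩
  apply Over.OverMorphism.ext
  change j ≫ c' = gl
  rw [← Scheme.Hom.isoOpensRange_hom_ι j, Category.assoc, hc1, Iso.hom_inv_id_assoc]

end Groth.Agent.Lib.Helper75.FixPtT2
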