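import Groth.Agent.Lib.Helper75.FlatCx9
import Mathlib.RingTheory.Artinian.Module
import Mathlib.RingTheory.Artinian.Ring
import Mathlib.RingTheory.SimpleModule.Basic
import Mathlib.RingTheory.Length

set_option autoImplicit false
universe u

namespace Groth.Agent.Lib.Helper75.FlatCx

open CategoryTheory CategoryTheory.Limits MonoidalCategory TensorProduct

variable {A : Type u} [CommRing A]

section Ext

variable {B' Q : Type u} [AddCommGroup B'] [Module A B'] [AddCommGroup Q] [Module A Q]
  (i : B' →ₗ[A] Q)

/-- the class of modules `N` with `i ⊗ N` injective is closed under extensions (for `Q` flat) -/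
theorem rTensor_injective_of_exact [Module.Flat A Q] {N' N N'' : Type u} [AddCommGroup N']
    [Module A N'] [AddCommGroup N] [Module A N] [AddCommGroup N''] [Module A N'']
    (j : N' →ₗ[A] N) (g : N →ₗ[A] N'') (hj : Function.Injective j) (hjg : Function.Exact j g)
    (hg : Function.Surjective g) (h' : Function.Injective (i.rTensor N'))
    (h'' : Function.Injective (i.rTensor N'')) : Function.Injective (i.rTensor N) := by
  rw [injective_iff_map_eq_zero]
  intro x hx
  have h1 : (g.lTensor B') x = 0 := by
    apply h''
    rw [map_zero, sq, hx, map_zero]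
  obtain ⟨x', rfl⟩ := (lTensor_exact B' hjg hg _).mp h1
  have hQ : Function.Injective (j.lTensor Q) :=
    Module.Flat.lTensor_preserves_injective_linearMap _ hj
  have h2 : (i.rTensor N') x' = 0 := by
    apply hQ
    rw [map_zero, ← sq, hx]
  have h3 : x' = 0 := by
    apply h'
    rw [h2, map_zero]
  rw [h3, map_zero]

theorem rTensor_injective_of_equiv {N N' : Type u} [AddCommGroup N'] [Module A N']
    [AddCommGroup N] [Module A N] (e : N ≃ₗ[A] N') (h' : Function.Injective (i.rTensor N')) :
    Function.Injective (i.rTensor N) := by
  intro x y hxy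
  have h1 : Function.Injective (e.toLinearMap.lTensor B') := by
    have : Function.LeftInverse (e.symm.toLinearMap.lTensor B') (e.toLinearMap.lTensor B') := by
      intro z
      rw [← LinearMap.comp_apply, ← LinearMap.lTensor_comp]
      simp
    exact this.injective
  apply h1
  apply h'
  rw [sq, sq, hxy]

end Ext

section Artin

variable [IsLocalRing A] {B' Q : Type u} [AddCommGroup B'] [Module A B'] [AddCommGroup Q]
  [Module A Q] [Module.Flat A Q] (i : B' →ₗ[A] Q)
  (hk : Function.Injective (i.rTensor (IsLocalRing.ResidueField A)))
include hk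

theorem rTensor_injective_of_length :
    ∀ n : ℕ, ∀ (N : Type u) [AddCommGroup N] [Module A N], Module.length A N = n →
      Function.Injective (i.rTensor N) := by
  intro n
  induction n using Nat.strong_induction_on with
  | _ n ih =>
    intro N _ _ hN
    by_cases hsub : Subsingleton N
    · intro x y _
      exact Subsingleton.elim _ _
    · rw [not_subsingleton_iff_nontrivial] at hsub
      have hfin : IsFiniteLength A N :=
        Module.length_ne_top_iff.mp (by rw [hN]; exact ENat.natCast_ne_top n)
      obtain ⟨hNoeth, hArt⟩ := isFiniteLength_iff_isNoetherian_isArtinian.mp hfin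
      obtain ⟨N₀, hN₀⟩ := IsAtomic.exists_atom (Submodule A N)
      have hsimple : IsSimpleModule A N₀ := isSimpleModule_iff_isAtom.mpr hN₀
      obtain ⟨I, hI, ⟨e⟩⟩ := isSimpleModule_iff_quot_maximal.mp hsimple
      have hIm : I = IsLocalRing.maximalIdeal A := IsLocalRing.eq_maximalIdeal hI
      subst hIm
      have hlt : Module.length A (N ⧸ N₀) < Module.length A N :=
        Submodule.length_quotient_lt N₀ hN₀.1
      obtain ⟨m, hm⟩ := ENat.ne_top_iff_exists.mp (ne_top_of_lt hlt)
      have hmn : m < n := by
        rw [← hm, hN] at hlt
        exact_mod_cast hlt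
      have h1 := ih m hmn (N ⧸ N₀) hm.symm
      have h2 : Function.Injective (i.rTensor N₀) := rTensor_injective_of_equiv i e hk
      exact rTensor_injective_of_exact i N₀.subtype N₀.mkQ (Submodule.subtype_injective _)
        (LinearMap.exact_subtype_mkQ N₀) (Submodule.mkQ_surjective N₀) h2 h1

theorem flat_of_artinian [IsArtinianRing A] {V : Type u} [AddCommGroup V] [Module A V]
    (v : Q →ₗ[A] V) (hex : Function.Exact i v) (hv : Function.Surjective v) : Module.Flat A V := by
  rw [Module.Flat.iff_rTensor_injective]
  intro I _
  rw [← LinearMap.lTensor_inj_iff_rTensor_inj]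
  have hfin : IsFiniteLength A (A ⧸ I) :=
    isFiniteLength_iff_isNoetherian_isArtinian.mpr ⟨inferInstance, inferInstance⟩
  obtain ⟨n, hn⟩ := ENat.ne_top_iff_exists.mp (Module.length_ne_top_iff.mpr hfin)
  have h1 := rTensor_injective_of_length i hk n (A ⧸ I) hn.symm
  exact lTensor_injective_of_exact_of_exact_of_rTensor_injective hex hv
    (LinearMap.exact_subtype_mkQ I) (Submodule.mkQ_surjective I) h1
    (Module.Flat.lTensor_preserves_injective_linearMap _ (Submodule.subtype_injective _))

end Artin

end Groth.Agent.Lib.Helper75.FlatCx
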