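import Groth.Agent.Lib.Helper75.FlatCx10

set_option autoImplicit false
universe u

namespace Groth.Agent.Lib.Helper75.FlatCx

open CategoryTheory CategoryTheory.Limits MonoidalCategory TensorProduct

variable {A : Type u} [CommRing A]

namespace KerModel

variable {T : ModuleCat.{u} A ⥤ ModuleCat.{u} A} {W Q : Type u} [AddCommGroup W]
    [Module A W] [AddCommGroup Q] [Module A Q] {f : W →ₗ[A] Q} (m : KerModel T f)
include m

/-- half exactness -/
theorem exact_map [Module.Flat A Q] {X₁ X₂ X₃ : ModuleCat.{u} A} (a : X₁ ⟶ X₂) (b : X₂ ⟶ X₃)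
    (ha : Function.Injective a.hom) (hab : Function.Exact a.hom b.hom)
    (hb : Function.Surjective b.hom) :
    Function.Exact (T.map a).hom (T.map b).hom := by
  have hzero : a ≫ b = 0 := by
    ext x
    exact hab.apply_apply_eq_zero x
  intro x
  constructor
  · intro hx
    have h1 : (b.hom.lTensor W) (m.ι X₂ x) = 0 := by
      rw [← m.nat, hx, map_zero]
    obtain ⟨w', hw'⟩ := (lTensor_exact W hab hb _).mp h1
    have hQ : Function.Injective (a.hom.lTensor Q) :=
      Module.Flat.lTensor_preserves_injective_linearMap _ ha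
    have h2 : (f.rTensor X₁) w' = 0 := by
      apply hQ
      rw [map_zero, ← sq, hw']
      exact (m.exact X₂ _).mpr ⟨x, rfl⟩
    obtain ⟨x', rfl⟩ := (m.exact X₁ _).mp h2
    refine ⟨x', ?_⟩
    apply m.inj
    rw [m.nat, hw']
  · rintro ⟨x', rfl⟩
    have hadd : T.Additive := m.additive
    have h : T.map a ≫ T.map b = 0 := by
      rw [← T.map_comp, hzero]
      exact Functor.map_zero T _ _
    have h2 := congrArg (fun φ => φ.hom x') h
    exact h2

theorem halfExact [Module.Flat A Q] [T.Additive] (S : ShortComplex (ModuleCat.{u} A)) (hS : S.ShortExact) :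
    (S.map T).Exact := by
  rw [ShortComplex.ShortExact.moduleCat_exact_iff_function_exact]
  exact m.exact_map S.f S.g hS.moduleCat_injective_f
    ((ShortComplex.ShortExact.moduleCat_exact_iff_function_exact S).mp hS.exact)
    hS.moduleCat_surjective_g

/-- flatness of `W` from injectivity on ideals -/
theorem flat_of_injective_on_ideals [Module.Flat A Q]
    (h : ∀ I : Ideal A, Function.Injective
      (T.map (ModuleCat.ofHom I.subtype : ModuleCat.of A I ⟶ ModuleCat.of A A)).hom) :
    Module.Flat A W := by
  rw [Module.Flat.iff_lTensor_injective']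
  intro I
  have hQ : Function.Injective (I.subtype.lTensor Q) :=
    Module.Flat.lTensor_preserves_injective_linearMap _ (Submodule.subtype_injective _)
  rw [injective_iff_map_eq_zero]
  intro x hx
  have h1 : (f.rTensor I) x = 0 := by
    apply hQ
    rw [map_zero, ← sq, hx, map_zero]
  obtain ⟨t, rfl⟩ := (m.exact (ModuleCat.of A I) x).mp h1
  have h2 : (T.map (ModuleCat.ofHom I.subtype : ModuleCat.of A I ⟶ ModuleCat.of A A)).hom t = 0 := by
    apply m.inj
    rw [m.nat, map_zero]
    exact hx
  have h3 : t = 0 := by
    apply h I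
    rw [h2, map_zero]
  rw [h3, map_zero]

end KerModel

end Groth.Agent.Lib.Helper75.FlatCx
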