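import Groth.Agent.Lib.Helper75.FlatCx11
import Groth.Agent.S4492

set_option autoImplicit false
universe u

namespace Groth.Agent.Lib.Helper75.FlatCx

open CategoryTheory CategoryTheory.Limits MonoidalCategory TensorProduct

variable {A : Type u} [CommRing A]

section Length

variable [IsLocalRing A] (T : ModuleCat.{u} A ⥤ ModuleCat.{u} A) [T.Additive]
  (hT : ∀ S : ShortComplex (ModuleCat.{u} A), S.ShortExact → (S.map T).Exact)

/-- the short exact sequence attached to a submodule -/
noncomputable def subSC {M : ModuleCat.{u} A} (N₀ : Submodule A M) : ShortComplex (ModuleCat.{u} A) :=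
  ShortComplex.mk (ModuleCat.ofHom N₀.subtype) (ModuleCat.ofHom N₀.mkQ) (by ext; simp)

theorem subSC_shortExact {M : ModuleCat.{u} A} (N₀ : Submodule A M) : (subSC N₀).ShortExact :=
  ModuleCat.shortComplex_shortExact _ (LinearMap.exact_subtype_mkQ N₀)
    (Submodule.subtype_injective N₀) (Submodule.mkQ_surjective N₀)

theorem length_map_iso {M N : ModuleCat.{u} A} (e : M ≅ N) :
    Module.length A (T.obj M) = Module.length A (T.obj N) :=
  (T.mapIso e).toLinearEquiv.length_eq

theorem length_simple_obj {M : ModuleCat.{u} A} (N₀ : Submodule A M) (hN₀ : IsAtom N₀) :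
    Module.length A (T.obj (ModuleCat.of A N₀)) =
      Module.length A (T.obj (ModuleCat.of A (IsLocalRing.ResidueField A))) := by
  have hsimple : IsSimpleModule A N₀ := isSimpleModule_iff_isAtom.mpr hN₀
  obtain ⟨I, hI, ⟨e⟩⟩ := isSimpleModule_iff_quot_maximal.mp hsimple
  have hIm : I = IsLocalRing.maximalIdeal A := IsLocalRing.eq_maximalIdeal hI
  subst hIm
  exact length_map_iso T e.toModuleIso

theorem length_atom {M : ModuleCat.{u} A} (N₀ : Submodule A M) (hN₀ : IsAtom N₀) :
    Module.length A M = 1 + Module.length A (M ⧸ N₀) := by
  have hsimple : IsSimpleModule A N₀ := isSimpleModule_iff_isAtom.mpr hN₀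
  rw [Module.length_eq_add_of_exact N₀.subtype N₀.mkQ (Submodule.subtype_injective N₀)
    (Submodule.mkQ_surjective N₀) (LinearMap.exact_subtype_mkQ N₀),
    Module.length_eq_one A N₀]

include hT in
theorem length_le_mul :
    ∀ n : ℕ, ∀ M : ModuleCat.{u} A, Module.length A M = n →
      Module.length A (T.obj M) ≤
        Module.length A (T.obj (ModuleCat.of A (IsLocalRing.ResidueField A))) * n := by
  intro n
  induction n using Nat.strong_induction_on with
  | _ n ih =>
    intro M hM
    by_cases hsub : Subsingleton M
    · have h1 : IsZero M := ModuleCat.isZero_of_subsingleton M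
      have h2 : IsZero (T.obj M) := T.map_isZero h1
      have h3 := ModuleCat.subsingleton_of_isZero h2
      rw [Module.length_eq_zero]
      exact zero_le
    · rw [not_subsingleton_iff_nontrivial] at hsub
      have hfin : IsFiniteLength A M :=
        Module.length_ne_top_iff.mp (by rw [hM]; exact ENat.natCast_ne_top n)
      obtain ⟨hNoeth, hArt⟩ := isFiniteLength_iff_isNoetherian_isArtinian.mp hfin
      obtain ⟨N₀, hN₀⟩ := IsAtomic.exists_atom (Submodule A M)
      have hlen := length_atom N₀ hN₀
      have hlt : Module.length A (M ⧸ N₀) < Module.length A M :=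
        Submodule.length_quotient_lt N₀ hN₀.1
      obtain ⟨m, hm⟩ := ENat.ne_top_iff_exists.mp (ne_top_of_lt hlt)
      have hmn : m < n := by
        rw [← hm, hM] at hlt
        exact_mod_cast hlt
      have h1 := ih m hmn (ModuleCat.of A (M ⧸ N₀)) hm.symm
      have h3 := Groth.Agent.S4492.length_le_add (T.map (subSC N₀).f).hom (T.map (subSC N₀).g).hom
        (Groth.Agent.S4492.exact_map T hT _ (subSC_shortExact N₀))
      have hn : (n : ℕ∞) = 1 + m := by rw [← hM, hlen, hm]
      calc Module.length A (T.obj M) ≤ Module.length A (T.obj (ModuleCat.of A N₀)) +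
            Module.length A (T.obj (ModuleCat.of A (M ⧸ N₀))) := h3
        _ ≤ Module.length A (T.obj (ModuleCat.of A (IsLocalRing.ResidueField A))) +
            Module.length A (T.obj (ModuleCat.of A (IsLocalRing.ResidueField A))) * m := by
          rw [length_simple_obj T N₀ hN₀]
          exact add_le_add_right h1 _
        _ = Module.length A (T.obj (ModuleCat.of A (IsLocalRing.ResidueField A))) * n := by
          rw [hn, mul_add, mul_one]

include hT in
theorem length_le_mul' (M : ModuleCat.{u} A) (hM : Module.length A M ≠ ⊤) :
    Module.length A (T.obj M) ≤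
      Module.length A (T.obj (ModuleCat.of A (IsLocalRing.ResidueField A))) * Module.length A M := by
  obtain ⟨n, hn⟩ := ENat.ne_top_iff_exists.mp hM
  rw [← hn]
  exact length_le_mul T hT n M hn.symm

include hT in
theorem shortExact_of_length_eq
    (hd : Module.length A (T.obj (ModuleCat.of A (IsLocalRing.ResidueField A))) ≠ ⊤)
    (S : ShortComplex (ModuleCat.{u} A)) (hS : S.ShortExact) (hfin : Module.length A S.X₂ ≠ ⊤)
    (heq : Module.length A (T.obj S.X₂) =
      Module.length A (T.obj (ModuleCat.of A (IsLocalRing.ResidueField A))) * Module.length A S.X₂) :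
    (S.map T).ShortExact := by
  have hex := (ShortComplex.ShortExact.moduleCat_exact_iff_function_exact S).mp hS.exact
  have hadd : Module.length A S.X₂ = Module.length A S.X₁ + Module.length A S.X₃ :=
    Module.length_eq_add_of_exact S.f.hom S.g.hom hS.moduleCat_injective_f
      hS.moduleCat_surjective_g hex
  have h1fin : Module.length A S.X₁ ≠ ⊤ := by
    intro h; rw [h, top_add] at hadd; exact hfin hadd
  have h3fin : Module.length A S.X₃ ≠ ⊤ := by
    intro h; rw [h, add_top] at hadd; exact hfin hadd
  have hTex := Groth.Agent.S4492.exact_map T hT S hS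
  have hle := Groth.Agent.S4492.length_le_add _ _ hTex
  have h1 := length_le_mul' T hT S.X₁ h1fin
  have h3 := length_le_mul' T hT S.X₃ h3fin
  have hTfin : Module.length A (T.obj S.X₂) ≠ ⊤ := by
    rw [heq]; exact WithTop.mul_ne_top hd hfin
  have heq2 : Module.length A (T.obj S.X₂) =
      Module.length A (T.obj S.X₁) + Module.length A (T.obj S.X₃) := by
    apply le_antisymm hle
    calc Module.length A (T.obj S.X₁) + Module.length A (T.obj S.X₃)
        ≤ Module.length A (T.obj (ModuleCat.of A (IsLocalRing.ResidueField A))) *
            Module.length A S.X₁ +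
          Module.length A (T.obj (ModuleCat.of A (IsLocalRing.ResidueField A))) *
            Module.length A S.X₃ := add_le_add h1 h3
      _ = Module.length A (T.obj S.X₂) := by rw [heq, hadd, mul_add]
  obtain ⟨hi, hs⟩ := (Groth.Agent.S4492.length_eq_add_iff _ _ hTex hTfin).mp heq2
  exact ModuleCat.shortComplex_shortExact (S.map T) hTex hi hs

include hT in
theorem length_eq_mul_of_exact (hm : T.PreservesMonomorphisms) (he : T.PreservesEpimorphisms) :
    ∀ n : ℕ, ∀ M : ModuleCat.{u} A, Module.length A M = n →
      Module.length A (T.obj M) =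
        Module.length A (T.obj (ModuleCat.of A (IsLocalRing.ResidueField A))) * n := by
  intro n
  induction n using Nat.strong_induction_on with
  | _ n ih =>
    intro M hM
    by_cases hsub : Subsingleton M
    · have h1 : IsZero M := ModuleCat.isZero_of_subsingleton M
      have h2 : IsZero (T.obj M) := T.map_isZero h1
      have h3 := ModuleCat.subsingleton_of_isZero h2
      have h4 : Module.length A M = 0 := Module.length_eq_zero
      rw [hM] at h4
      rw [Module.length_eq_zero, h4, mul_zero]
    · rw [not_subsingleton_iff_nontrivial] at hsub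
      have hfin : IsFiniteLength A M :=
        Module.length_ne_top_iff.mp (by rw [hM]; exact ENat.natCast_ne_top n)
      obtain ⟨hNoeth, hArt⟩ := isFiniteLength_iff_isNoetherian_isArtinian.mp hfin
      obtain ⟨N₀, hN₀⟩ := IsAtomic.exists_atom (Submodule A M)
      have hlen := length_atom N₀ hN₀
      have hlt : Module.length A (M ⧸ N₀) < Module.length A M :=
        Submodule.length_quotient_lt N₀ hN₀.1
      obtain ⟨m, hm'⟩ := ENat.ne_top_iff_exists.mp (ne_top_of_lt hlt)
      have hmn : m < n := by
        rw [← hm', hM] at hlt
        exact_mod_cast hlt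
      have h1 := ih m hmn (ModuleCat.of A (M ⧸ N₀)) hm'.symm
      have hSE := subSC_shortExact N₀
      have hTex := Groth.Agent.S4492.exact_map T hT _ hSE
      have hmono : Mono (subSC N₀).f := hSE.mono_f
      have hepi : Epi (subSC N₀).g := hSE.epi_g
      have hinj : Function.Injective (T.map (subSC N₀).f).hom :=
        (ModuleCat.mono_iff_injective _).mp (hm.preserves _)
      have hsurj : Function.Surjective (T.map (subSC N₀).g).hom :=
        (ModuleCat.epi_iff_surjective _).mp (he.preserves _)
      have h3 := Module.length_eq_add_of_exact _ _ hinj hsurj hTex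
      have hn : (n : ℕ∞) = 1 + m := by rw [← hM, hlen, hm']
      change Module.length A (T.obj M) = _ at h3
      rw [h3, hn, mul_add, mul_one]
      change Module.length A (T.obj (ModuleCat.of A N₀)) +
        Module.length A (T.obj (ModuleCat.of A (M ⧸ N₀))) = _
      rw [length_simple_obj T N₀ hN₀, h1]

end Length

section Artinian

variable [IsLocalRing A] [IsArtinianRing A] {ι : Type} {c : ComplexShape ι}
  (P : HomologicalComplex (ModuleCat.{u} A) c) (p : ι) (hP : ∀ i, Module.Flat A (P.X i))
include hP

theorem preservesEpi_iff_surjective_residueField_artinian (j : ι) (h : c.Rel p j) :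
    (CohIII.TFun P p).PreservesEpimorphisms ↔
      Function.Surjective ((CohIII.TFun P p).map
        (ModuleCat.ofHom (Algebra.linearMap A (IsLocalRing.ResidueField A)))).hom := by
  have hsurj : Function.Surjective (Algebra.linearMap A (IsLocalRing.ResidueField A)) :=
    Ideal.Quotient.mk_surjective
  constructor
  · intro hT
    have hepi : Epi (ModuleCat.ofHom (Algebra.linearMap A (IsLocalRing.ResidueField A))) :=
      (ModuleCat.epi_iff_surjective _).mpr hsurj
    exact (ModuleCat.epi_iff_surjective _).mp (hT.preserves _)
  · intro hs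
    have := hP j
    rw [preservesEpi_iff_flat_opcycles P p hP j h]
    have hinj := ((kerModel P p j (c.next_eq' h)).map_surjective_iff _ hsurj).mp hs
    exact flat_of_artinian _ hinj (P.pOpcycles j).hom
      (KerModel.exact_range_subtype _ (fromOpcycles_pOpcycles_exact P p j (c.prev_eq' h)))
      (pOpcycles_surjective P j)

theorem halfExact_TFun (S : ShortComplex (ModuleCat.{u} A)) (hS : S.ShortExact) :
    (S.map (CohIII.TFun P p)).Exact :=
  haveI := hP (c.next p)
  (kerModel P p (c.next p) rfl).halfExact S hS

theorem length_self_ne_top : Module.length A A ≠ ⊤ :=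
  Module.length_ne_top_iff.mpr
    (isFiniteLength_iff_isNoetherian_isArtinian.mpr ⟨inferInstance, inferInstance⟩)

theorem surjective_and_flat_of_length_eq (j : ι) (h : c.Rel p j)
    (hd : Module.length A (CohIII.T P p (ModuleCat.of A (IsLocalRing.ResidueField A))) ≠ ⊤)
    (hj : Module.length A (CohIII.T P p (ModuleCat.of A A)) =
      Module.length A (CohIII.T P p (ModuleCat.of A (IsLocalRing.ResidueField A))) *
        Module.length A A) :
    Function.Surjective ((CohIII.TFun P p).map
        (ModuleCat.ofHom (Algebra.linearMap A (IsLocalRing.ResidueField A)))).hom ∧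
      Module.Flat A (CohIII.T P p (ModuleCat.of A A)) := by
  have hT := halfExact_TFun P p hP
  have key : ∀ I : Ideal A, ((subSC (M := ModuleCat.of A A) I).map (CohIII.TFun P p)).ShortExact :=
    fun I => shortExact_of_length_eq (CohIII.TFun P p) hT hd _ (subSC_shortExact _)
      (length_self_ne_top P hP) hj
  have hs : Function.Surjective ((CohIII.TFun P p).map
        (ModuleCat.ofHom (Algebra.linearMap A (IsLocalRing.ResidueField A)))).hom :=
    (key (IsLocalRing.maximalIdeal A)).moduleCat_surjective_g
  refine ⟨hs, ?_⟩
  have he := (preservesEpi_iff_surjective_residueField_artinian P p hP j h).mpr hs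
  have := hP j
  have hW : Module.Flat A (P.opcycles p) :=
    (kerModel P p j (c.next_eq' h)).flat_of_injective_on_ideals
      (fun I => (key I).moduleCat_injective_f)
  have hm := (preservesMono_iff_flat_opcycles P p hP j h).mpr hW
  exact flat_of_exact P p hP j h hm he

theorem exact_of_length_eq (j : ι) (h : c.Rel p j)
    (hd : Module.length A (CohIII.T P p (ModuleCat.of A (IsLocalRing.ResidueField A))) ≠ ⊤)
    (hj : Module.length A (CohIII.T P p (ModuleCat.of A A)) =
      Module.length A (CohIII.T P p (ModuleCat.of A (IsLocalRing.ResidueField A))) *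
        Module.length A A) :
    (CohIII.TFun P p).PreservesMonomorphisms ∧ (CohIII.TFun P p).PreservesEpimorphisms := by
  obtain ⟨hs, hflat⟩ := surjective_and_flat_of_length_eq P p hP j h hd hj
  have he := (preservesEpi_iff_surjective_residueField_artinian P p hP j h).mpr hs
  exact ⟨preservesMono_of_preservesEpi_of_flat P p hP j h he hflat, he⟩

theorem length_eq_of_exact (hm : (CohIII.TFun P p).PreservesMonomorphisms)
    (he : (CohIII.TFun P p).PreservesEpimorphisms) (M : ModuleCat.{u} A)
    (hM : Module.length A M ≠ ⊤) :
    Module.length A (CohIII.T P p M) =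
      Module.length A (CohIII.T P p (ModuleCat.of A (IsLocalRing.ResidueField A))) *
        Module.length A M := by
  obtain ⟨n, hn⟩ := ENat.ne_top_iff_exists.mp hM
  rw [← hn]
  exact length_eq_mul_of_exact (CohIII.TFun P p) (halfExact_TFun P p hP) hm he n M hn.symm

end Artinian

end Groth.Agent.Lib.Helper75.FlatCx
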