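import Groth.Agent.Lib.Helper75.FlatCx13

set_option autoImplicit false
universe u

namespace Groth.Agent.Lib.Helper75.FlatCx

open CategoryTheory CategoryTheory.Limits MonoidalCategory TensorProduct

variable {A : Type u} [CommRing A] {ι : Type} {c : ComplexShape ι}
  (P : HomologicalComplex (ModuleCat.{u} A) c) (p : ι)

/-- `wRank` is eventually `≤` its value -/
theorem eventually_wRank_le [Module.Finite A (P.X p)] (x : PrimeSpectrum A) :
    ∀ᶠ x' in nhds x, wRank P p x' ≤ wRank P p x :=
  (isOpen_wRank_le P p _).mem_nhds (le_refl (wRank P p x))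

/-- monotonicity under specialization -/
theorem wRank_le_of_le [Module.Finite A (P.X p)] {x y : PrimeSpectrum A} (h : x ≤ y) :
    wRank P p x ≤ wRank P p y := by
  have h1 : ¬ Fitt.ideal A (P.opcycles p) (wRank P p y) ≤ y.asIdeal :=
    (Fitting.not_fitt_le_iff_finrank _ y.asIdeal).mpr le_rfl
  have h2 : ¬ Fitt.ideal A (P.opcycles p) (wRank P p y) ≤ x.asIdeal := fun h' => h1 (h'.trans h)
  exact (Fitting.not_fitt_le_iff_finrank _ x.asIdeal).mp h2

/-- if the sum of two `wRank`s is eventually constant then so is each -/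
theorem eventually_wRank_eq_of_add (q : ι) [Module.Finite A (P.X p)] [Module.Finite A (P.X q)]
    (x : PrimeSpectrum A)
    (h : ∀ᶠ x' in nhds x, wRank P p x' + wRank P q x' = wRank P p x + wRank P q x) :
    (∀ᶠ x' in nhds x, wRank P p x' = wRank P p x) ∧
      (∀ᶠ x' in nhds x, wRank P q x' = wRank P q x) := by
  constructor
  · filter_upwards [h, eventually_wRank_le P p x, eventually_wRank_le P q x] with x' h1 h2 h3
    omega
  · filter_upwards [h, eventually_wRank_le P p x, eventually_wRank_le P q x] with x' h1 h2 h3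
    omega

theorem eventually_xRank_eq [IsNoetherianRing A] [Module.Finite A (P.X p)] [Module.Flat A (P.X p)]
    (x : PrimeSpectrum A) : ∀ᶠ x' in nhds x, xRank P p x' = xRank P p x :=
  ((isLocallyConstant_xRank P p).isOpen_fiber _).mem_nhds rfl

end Groth.Agent.Lib.Helper75.FlatCx
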