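import Groth.Agent.Lib.Helper75.FlatCx14
import Groth.Agent.Lib.Helper75.Fitting15
import Mathlib.RingTheory.LocalProperties.Reduced
import Mathlib.RingTheory.Flat.Localization

set_option autoImplicit false
universe u

namespace Groth.Agent.Lib.Helper75.FlatCx

open CategoryTheory CategoryTheory.Limits MonoidalCategory TensorProduct

variable {A : Type u} [CommRing A]

section Reduced

variable {W : Type u} [AddCommGroup W] [Module A W] [Module.Finite A W]

/-- fibre rank of a module -/
noncomputable def fRank (W : Type u) [AddCommGroup W] [Module A W] (x : PrimeSpectrum A) : ℕ :=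
  Module.finrank x.asIdeal.ResidueField (x.asIdeal.ResidueField ⊗[A] W)

theorem fitt_le_of_lt_fRank {k : ℕ} {x : PrimeSpectrum A} (h : k < fRank W x) :
    Fitt.ideal A W k ≤ x.asIdeal := by
  by_contra hn
  have := (Fitting.not_fitt_le_iff_finrank k x.asIdeal).mp hn
  unfold fRank at h
  omega

theorem not_fitt_fRank_le (x : PrimeSpectrum A) : ¬ Fitt.ideal A W (fRank W x) ≤ x.asIdeal :=
  (Fitting.not_fitt_le_iff_finrank _ x.asIdeal).mpr le_rfl

theorem fRank_le_of_le {x y : PrimeSpectrum A} (h : x ≤ y) : fRank W x ≤ fRank W y := by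
  have h2 : ¬ Fitt.ideal A W (fRank W y) ≤ x.asIdeal := fun h' => not_fitt_fRank_le y (h'.trans h)
  exact (Fitting.not_fitt_le_iff_finrank _ x.asIdeal).mp h2

theorem free_localization_of_fRank_const [IsReduced A] (𝔭 : PrimeSpectrum A)
    (hconst : ∀ q : PrimeSpectrum A, q ≤ 𝔭 → fRank W q = fRank W 𝔭) :
    Module.Free (Localization.AtPrime 𝔭.asIdeal) (LocalizedModule 𝔭.asIdeal.primeCompl W) := by
  set r := fRank W 𝔭 with hr
  have h1 : Fitt.ideal (Localization.AtPrime 𝔭.asIdeal)
      (LocalizedModule 𝔭.asIdeal.primeCompl W) r = ⊤ := by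
    rw [Fitting.fitt_localizedModule, Fitting.map_atPrime_eq_top_iff]
    exact not_fitt_fRank_le 𝔭
  obtain ⟨g, hg⟩ := (Fitting.fitt_eq_top_iff_of_isLocalRing r).mp h1
  have h3 : ∀ k, k < r → Fitt.ideal (Localization.AtPrime 𝔭.asIdeal)
      (LocalizedModule 𝔭.asIdeal.primeCompl W) k = ⊥ := by
    intro k hk
    rw [Fitting.fitt_localizedModule, eq_bot_iff, Ideal.map_le_iff_le_comap]
    intro a ha
    rw [Ideal.mem_comap, Ideal.mem_bot]
    apply IsReduced.eq_zero
    rw [nilpotent_iff_mem_prime]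
    intro Q hQ
    let q : PrimeSpectrum A := ⟨Q.comap (algebraMap A (Localization.AtPrime 𝔭.asIdeal)),
      Ideal.IsPrime.comap _⟩
    have hq : q ≤ 𝔭 := by
      change Q.comap _ ≤ 𝔭.asIdeal
      have hQm : Q ≤ IsLocalRing.maximalIdeal (Localization.AtPrime 𝔭.asIdeal) :=
        IsLocalRing.le_maximalIdeal hQ.ne_top
      calc Q.comap _ ≤ (IsLocalRing.maximalIdeal (Localization.AtPrime 𝔭.asIdeal)).comap _ :=
            Ideal.comap_mono hQm
        _ = 𝔭.asIdeal := Localization.AtPrime.under_maximalIdeal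
    have h4 : Fitt.ideal A W k ≤ q.asIdeal := fitt_le_of_lt_fRank (by rw [hconst q hq]; exact hk)
    exact h4 ha
  exact (Fitting.free_of_fitt g hg h3).1

theorem flat_of_fRank_const [IsReduced A]
    (hconst : ∀ q 𝔭 : PrimeSpectrum A, q ≤ 𝔭 → fRank W q = fRank W 𝔭) : Module.Flat A W := by
  apply Module.flat_of_localized_maximal
  intro 𝔪 h𝔪
  have := free_localization_of_fRank_const (W := W) ⟨𝔪, h𝔪.isPrime⟩
    (fun q hq => hconst q _ hq)
  exact Module.Flat.trans A (Localization.AtPrime 𝔪) _

end Reduced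

section Apply

variable {ι : Type} {c : ComplexShape ι} (P : HomologicalComplex (ModuleCat.{u} A) c) (p : ι)

theorem eq_of_le_of_eventually {f : PrimeSpectrum A → ℕ} {x y : PrimeSpectrum A} (h : x ≤ y)
    (hf : ∀ᶠ z in nhds y, f z = f y) : f x = f y := by
  have hs : x ⤳ y := (PrimeSpectrum.le_iff_specializes x y).mp h
  have h2 : ∀ᶠ z in nhds x, f z = f y := hs hf
  exact h2.self_of_nhds

theorem exact_of_wRank_const [IsReduced A]
    (hP : ∀ i, Module.Finite A (P.X i) ∧ Module.Flat A (P.X i)) (j : ι) (h : c.Rel p j)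
    (h1 : ∀ q 𝔭 : PrimeSpectrum A, q ≤ 𝔭 → wRank P p q = wRank P p 𝔭)
    (h2 : ∀ q 𝔭 : PrimeSpectrum A, q ≤ 𝔭 → wRank P j q = wRank P j 𝔭) :
    (CohIII.TFun P p).PreservesMonomorphisms ∧ (CohIII.TFun P p).PreservesEpimorphisms := by
  have := (hP p).1
  have := (hP j).1
  have hflat : ∀ i, Module.Flat A (P.X i) := fun i => (hP i).2
  rw [preservesMono_iff_flat_opcycles P p hflat j h, preservesEpi_iff_flat_opcycles P p hflat j h]
  exact ⟨flat_of_fRank_const h1, flat_of_fRank_const h2⟩

theorem wRank_eq_rankAtStalk [Module.Finite A (P.X p)] [Module.Flat A (P.opcycles p)]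
    (x : PrimeSpectrum A) : wRank P p x = Module.rankAtStalk (P.opcycles p) x :=
  (Module.rankAtStalk_eq x).symm

theorem isLocallyConstant_wRank [IsNoetherianRing A] [Module.Finite A (P.X p)]
    [Module.Flat A (P.opcycles p)] : IsLocallyConstant (wRank P p) := by
  have : wRank P p = Module.rankAtStalk (P.opcycles p) := funext (wRank_eq_rankAtStalk P p)
  rw [this]
  have : Module.FinitePresentation A (P.opcycles p) := Module.finitePresentation_of_finite A _
  exact Module.isLocallyConstant_rankAtStalk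

theorem isLocallyConstant_dRank_of_exact [IsNoetherianRing A]
    (hP : ∀ i, Module.Finite A (P.X i) ∧ Module.Flat A (P.X i)) (j : ι) (h : c.Rel p j)
    (hm : (CohIII.TFun P p).PreservesMonomorphisms) (he : (CohIII.TFun P p).PreservesEpimorphisms) :
    IsLocallyConstant (CohIII.dRank P p) := by
  have := (hP p).1
  have := (hP j).1
  have := (hP j).2
  have hflat : ∀ i, Module.Flat A (P.X i) := fun i => (hP i).2
  have := (preservesMono_iff_flat_opcycles P p hflat j h).mp hm
  have := (preservesEpi_iff_flat_opcycles P p hflat j h).mp he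
  rw [IsLocallyConstant.iff_eventually_eq]
  intro x
  have e1 : ∀ᶠ x' in nhds x, wRank P p x' = wRank P p x :=
    ((isLocallyConstant_wRank P p).isOpen_fiber _).mem_nhds rfl
  have e2 : ∀ᶠ x' in nhds x, wRank P j x' = wRank P j x :=
    ((isLocallyConstant_wRank P j).isOpen_fiber _).mem_nhds rfl
  filter_upwards [e1, e2, eventually_xRank_eq P j x] with x' hx1 hx2 hx3
  have := dRank_add P p j h x
  have := dRank_add P p j h x'
  omega

theorem exact_of_isLocallyConstant_dRank [IsNoetherianRing A] [IsReduced A]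
    (hP : ∀ i, Module.Finite A (P.X i) ∧ Module.Flat A (P.X i)) (j : ι) (h : c.Rel p j)
    (hd : IsLocallyConstant (CohIII.dRank P p)) :
    (CohIII.TFun P p).PreservesMonomorphisms ∧ (CohIII.TFun P p).PreservesEpimorphisms := by
  have := (hP p).1
  have := (hP j).1
  have := (hP j).2
  have key : ∀ x : PrimeSpectrum A, (∀ᶠ x' in nhds x, wRank P p x' = wRank P p x) ∧
      (∀ᶠ x' in nhds x, wRank P j x' = wRank P j x) := by
    intro x
    apply eventually_wRank_eq_of_add
    have e1 : ∀ᶠ x' in nhds x, CohIII.dRank P p x' = CohIII.dRank P p x :=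
      (hd.isOpen_fiber _).mem_nhds rfl
    filter_upwards [e1, eventually_xRank_eq P j x] with x' hx1 hx3
    have := dRank_add P p j h x
    have := dRank_add P p j h x'
    omega
  exact exact_of_wRank_const P p hP j h
    (fun q 𝔭 hq => eq_of_le_of_eventually hq (key 𝔭).1)
    (fun q 𝔭 hq => eq_of_le_of_eventually hq (key 𝔭).2)

end Apply

end Groth.Agent.Lib.Helper75.FlatCx
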