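import Groth.Agent.Lib.Helper75.FlatCx15

set_option autoImplicit false
universe u

namespace Groth.Agent.Lib.Helper75.FlatCx

open CategoryTheory CategoryTheory.Limits MonoidalCategory TensorProduct

variable {A : Type u} [CommRing A] {ι : Type} {c : ComplexShape ι}
  (P : HomologicalComplex (ModuleCat.{u} A) c) (p : ι)

theorem flat_opcycles_bcCx_atPrime_iff [Module.Finite A (P.X p)] (y : PrimeSpectrum A) :
    Module.Flat (Localization.AtPrime y.asIdeal)
      ((CohIII.bcCx (algebraMap A (Localization.AtPrime y.asIdeal)) P).opcycles p) ↔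
      y ∈ Module.freeLocus A (P.opcycles p) := by
  rw [Module.mem_freeLocus_iff_tensor y (Localization.AtPrime y.asIdeal)]
  let e : (CohIII.bcCx (algebraMap A (Localization.AtPrime y.asIdeal)) P).opcycles p
      ≃ₗ[Localization.AtPrime y.asIdeal] Localization.AtPrime y.asIdeal ⊗[A] P.opcycles p :=
    (opcyclesBcIso (B := Localization.AtPrime y.asIdeal) P p).toLinearEquiv ≪≫ₗ extEquiv _
  rw [Module.Flat.equiv_iff e]
  constructor
  · intro h
    exact Module.free_of_flat_of_isLocalRing
  · intro h
    exact Module.Flat.of_free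

variable (hP : ∀ i, Module.Finite A (P.X i) ∧ Module.Flat A (P.X i))
include hP

theorem preservesEpi_bcCx_atPrime_iff (j : ι) (h : c.Rel p j) (y : PrimeSpectrum A) :
    (CohIII.TFun (CohIII.bcCx (algebraMap A (Localization.AtPrime y.asIdeal)) P) p).PreservesEpimorphisms
      ↔ y ∈ Module.freeLocus A (P.opcycles j) := by
  have := (hP j).1
  rw [preservesEpi_iff_flat_opcycles _ p (flat_bcCx_X P (fun i => (hP i).2)) j h]
  exact flat_opcycles_bcCx_atPrime_iff P j y

theorem preservesMono_bcCx_atPrime_iff (j : ι) (h : c.Rel p j) (y : PrimeSpectrum A) :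
    (CohIII.TFun (CohIII.bcCx (algebraMap A (Localization.AtPrime y.asIdeal)) P) p).PreservesMonomorphisms
      ↔ y ∈ Module.freeLocus A (P.opcycles p) := by
  have := (hP p).1
  rw [preservesMono_iff_flat_opcycles _ p (flat_bcCx_X P (fun i => (hP i).2)) j h]
  exact flat_opcycles_bcCx_atPrime_iff P p y

end Groth.Agent.Lib.Helper75.FlatCx
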