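import Groth.Agent.Lib.Helper75.FlatCx16

set_option autoImplicit false
universe u

namespace Groth.Agent.Lib.Helper75.FlatCx

open CategoryTheory CategoryTheory.Limits MonoidalCategory TensorProduct

variable {A B : Type u} [CommRing A] [CommRing B] [Algebra A B] {ι : Type} {c : ComplexShape ι}
  (P : HomologicalComplex (ModuleCat.{u} A) c) (p : ι)

/-- `opcycles` of the base change, as a base change -/
noncomputable def opcyclesBcEquiv :
    (CohIII.bcCx (algebraMap A B) P).opcycles p ≃ₗ[B] B ⊗[A] P.opcycles p :=
  (opcyclesBcIso (B := B) P p).toLinearEquiv ≪≫ₗ extEquiv _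

/-- terms of the base change -/
noncomputable def xBcEquiv (j : ι) : (CohIII.bcCx (algebraMap A B) P).X j ≃ₗ[B] B ⊗[A] P.X j :=
  extEquiv _

theorem xBcEquiv_fromOpcycles (j : ι) (z : (CohIII.bcCx (algebraMap A B) P).opcycles p) :
    xBcEquiv (B := B) P j (((CohIII.bcCx (algebraMap A B) P).fromOpcycles p j).hom z) =
      ((P.fromOpcycles p j).hom.baseChange B) (opcyclesBcEquiv (B := B) P p z) := by
  have h := opcyclesMapIso_hom_fromOpcycles (ModuleCat.extendScalars (algebraMap A B)) P p j
  have h2 := congrArg (fun φ => φ.hom z) h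
  simp only [ModuleCat.hom_comp, LinearMap.coe_comp, Function.comp_apply] at h2
  unfold xBcEquiv opcyclesBcEquiv
  rw [LinearEquiv.trans_apply, ← extEquiv_naturality]
  exact congrArg _ h2.symm

/-- homology of the base change as a kernel -/
noncomputable def homologyBcEquiv (j : ι) (hj : c.next p = j) :
    (CohIII.bcCx (algebraMap A B) P).homology p ≃ₗ[B]
      LinearMap.ker ((P.fromOpcycles p j).hom.baseChange B) := by
  let K := CohIII.bcCx (algebraMap A B) P
  have hinj : Function.Injective (K.homologyι p).hom :=
    (ModuleCat.mono_iff_injective _).mp inferInstance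
  have hex : Function.Exact (K.homologyι p).hom (K.fromOpcycles p j).hom := by
    let S1 : ShortComplex (ModuleCat.{u} B) :=
      ShortComplex.mk (K.homologyι p) (K.fromOpcycles p j) (K.homologyι_comp_fromOpcycles p j)
    have hS1 : S1.Exact := ShortComplex.exact_of_f_is_kernel _ (K.homologyIsKernel p j hj)
    exact (ShortComplex.ShortExact.moduleCat_exact_iff_function_exact S1).mp hS1
  have hmap : (LinearMap.ker (K.fromOpcycles p j).hom).map
      (opcyclesBcEquiv (B := B) P p).toLinearMap =
      LinearMap.ker ((P.fromOpcycles p j).hom.baseChange B) := by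
    ext z
    constructor
    · rintro ⟨w, hw, rfl⟩
      rw [SetLike.mem_coe, LinearMap.mem_ker] at hw
      rw [LinearMap.mem_ker]
      change ((P.fromOpcycles p j).hom.baseChange B) (opcyclesBcEquiv (B := B) P p w) = 0
      rw [← xBcEquiv_fromOpcycles, hw, map_zero]
    · intro hz
      refine ⟨(opcyclesBcEquiv (B := B) P p).symm z, ?_, by simp⟩
      rw [SetLike.mem_coe, LinearMap.mem_ker]
      apply (xBcEquiv (B := B) P j).injective
      rw [xBcEquiv_fromOpcycles, LinearEquiv.apply_symm_apply, map_zero]
      exact hz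
  exact (LinearEquiv.ofInjective _ hinj) ≪≫ₗ (LinearEquiv.ofEq _ _ hex.linearMap_ker_eq.symm) ≪≫ₗ
    ((opcyclesBcEquiv (B := B) P p).submoduleMap _) ≪≫ₗ (LinearEquiv.ofEq _ _ hmap)

section KerBc

variable {W Q V : Type u} [AddCommGroup W] [Module A W] [AddCommGroup Q] [Module A Q]
  [AddCommGroup V] [Module A V] (f : W →ₗ[A] Q) (v : Q →ₗ[A] V)

theorem baseChange_range_subtype_injective [Module.Flat A V] (hex : Function.Exact f v)
    (hv : Function.Surjective v) :
    Function.Injective ((LinearMap.range f).subtype.baseChange B) := by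
  rw [LinearMap.baseChange_eq_ltensor]
  exact LinearMap.lTensor_injective_of_exact_of_flat v hv _ (Submodule.subtype_injective _)
    (KerModel.exact_range_subtype v hex) B

theorem baseChange_ker_subtype_injective [Module.Flat A Q] [Module.Flat A V]
    (hex : Function.Exact f v) (hv : Function.Surjective v) :
    Function.Injective ((LinearMap.ker f).subtype.baseChange B) := by
  have := KerModel.flat_range v hex hv
  rw [LinearMap.baseChange_eq_ltensor]
  exact LinearMap.lTensor_injective_of_exact_of_flat f.rangeRestrict f.surjective_rangeRestrict _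
    (Submodule.subtype_injective _) KerModel.exact_ker_rangeRestrict B

theorem ker_baseChange_eq_range [Module.Flat A V] (hex : Function.Exact f v)
    (hv : Function.Surjective v) :
    LinearMap.ker (f.baseChange B) = LinearMap.range ((LinearMap.ker f).subtype.baseChange B) := by
  have h1 := lTensor_exact B (KerModel.exact_ker_rangeRestrict (f := f)) f.surjective_rangeRestrict
  have h2 := baseChange_range_subtype_injective (B := B) f v hex hv
  ext x
  rw [LinearMap.mem_ker, LinearMap.mem_range]
  have hx : f.baseChange B x =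
      (LinearMap.range f).subtype.baseChange B (f.rangeRestrict.baseChange B x) := by
    rw [← LinearMap.comp_apply, ← LinearMap.baseChange_comp]
    rfl
  rw [hx]
  constructor
  · intro h
    have h3 : f.rangeRestrict.lTensor B x = 0 := by
      have : f.rangeRestrict.baseChange B x = 0 := h2 (by rw [h, map_zero])
      rw [← this, LinearMap.baseChange_eq_ltensor]
    obtain ⟨y, hy⟩ := (h1 x).mp h3
    exact ⟨y, by rw [LinearMap.baseChange_eq_ltensor]; exact hy⟩
  · rintro ⟨y, rfl⟩
    have h3 : f.rangeRestrict.lTensor B ((LinearMap.ker f).subtype.lTensor B y) = 0 :=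
      (h1 _).mpr ⟨y, rfl⟩
    have h4 : f.rangeRestrict.baseChange B ((LinearMap.ker f).subtype.baseChange B y) = 0 := by
      rw [LinearMap.baseChange_eq_ltensor, LinearMap.baseChange_eq_ltensor]
      exact h3
    rw [h4, map_zero]

/-- `B ⊗ ker f ≃ ker (B ⊗ f)` when `coker f` is flat. -/
noncomputable def kerBcEquiv [Module.Flat A Q] [Module.Flat A V] (hex : Function.Exact f v)
    (hv : Function.Surjective v) :
    B ⊗[A] LinearMap.ker f ≃ₗ[B] LinearMap.ker (f.baseChange B) :=
  (LinearEquiv.ofInjective _ (baseChange_ker_subtype_injective (B := B) f v hex hv)) ≪≫ₗ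
    (LinearEquiv.ofEq _ _ (ker_baseChange_eq_range (B := B) f v hex hv).symm)

end KerBc

/-- when `T_p` is right exact, homology commutes with base change -/
noncomputable def homologyBcEquivOfFlat (hP : ∀ i, Module.Flat A (P.X i)) (j : ι) (h : c.Rel p j)
    [Module.Flat A (P.opcycles j)] :
    (CohIII.bcCx (algebraMap A B) P).homology p ≃ₗ[B]
      B ⊗[A] LinearMap.ker (P.fromOpcycles p j).hom :=
  haveI := hP j
  (homologyBcEquiv (B := B) P p j (c.next_eq' h)) ≪≫ₗ
    (kerBcEquiv (B := B) (P.fromOpcycles p j).hom (P.pOpcycles j).hom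
      (fromOpcycles_pOpcycles_exact P p j (c.prev_eq' h)) (pOpcycles_surjective P j)).symm

section dRankFlat

variable {A : Type u} [CommRing A] {ι : Type} {c : ComplexShape ι}
  (P : HomologicalComplex (ModuleCat.{u} A) c) (p : ι) (hP : ∀ i, Module.Flat A (P.X i))
include hP

/-- `ker (W_p → P_j) ≃ T_p(A)` when `T_p` is right exact -/
noncomputable def kerEquivT (j : ι) (h : c.Rel p j) [Module.Flat A (P.opcycles j)] :
    LinearMap.ker (P.fromOpcycles p j).hom ≃ₗ[A] CohIII.T P p (ModuleCat.of A A) :=
  haveI := hP j
  (TensorProduct.rid A _).symm ≪≫ₗ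
    (kerModel P p j (c.next_eq' h)).tensorEquiv (P.pOpcycles j).hom
      (fromOpcycles_pOpcycles_exact P p j (c.prev_eq' h)) (pOpcycles_surjective P j)
      (ModuleCat.of A A)

theorem dRank_eq_fRank_ker (j : ι) (h : c.Rel p j) [Module.Flat A (P.opcycles j)]
    (x : PrimeSpectrum A) :
    CohIII.dRank P p x = fRank (LinearMap.ker (P.fromOpcycles p j).hom) x :=
  (homologyBcEquivOfFlat (B := x.asIdeal.ResidueField) P p hP j h).finrank_eq

theorem dRank_eq_fRank_T (j : ι) (h : c.Rel p j) (he : (CohIII.TFun P p).PreservesEpimorphisms)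
    (x : PrimeSpectrum A) :
    CohIII.dRank P p x = fRank (CohIII.T P p (ModuleCat.of A A)) x := by
  have := (preservesEpi_iff_flat_opcycles P p hP j h).mp he
  rw [dRank_eq_fRank_ker P p hP j h x]
  exact ((kerEquivT P p hP j h).baseChange A x.asIdeal.ResidueField _ _).finrank_eq

theorem isLocallyConstant_dRank_of_exact_of_fp (j : ι) (h : c.Rel p j)
    (hm : (CohIII.TFun P p).PreservesMonomorphisms) (he : (CohIII.TFun P p).PreservesEpimorphisms)
    (hfp : Module.FinitePresentation A (CohIII.T P p (ModuleCat.of A A))) :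
    IsLocallyConstant (CohIII.dRank P p) := by
  have hflat : Module.Flat A (CohIII.T P p (ModuleCat.of A A)) := flat_of_exact P p hP j h hm he
  have : CohIII.dRank P p = Module.rankAtStalk (CohIII.T P p (ModuleCat.of A A)) := by
    funext x
    rw [dRank_eq_fRank_T P p hP j h he x]
    exact (Module.rankAtStalk_eq x).symm
  rw [this]
  exact Module.isLocallyConstant_rankAtStalk

end dRankFlat

end Groth.Agent.Lib.Helper75.FlatCx
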