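import Groth.Agent.Lib.Helper75.FlatCx17
import Mathlib.RingTheory.Flat.Equalizer

set_option autoImplicit false
universe u

namespace Groth.Agent.Lib.Helper75.FlatCx

open CategoryTheory CategoryTheory.Limits MonoidalCategory TensorProduct

section Tower

variable {A A' K : Type u} [CommRing A] [CommRing A'] [CommRing K] [Algebra A A'] [Algebra A' K]
  [Algebra A K] [IsScalarTower A A' K]
  {W Q : Type u} [AddCommGroup W] [Module A W] [AddCommGroup Q] [Module A Q] (f : W →ₗ[A] Q)

theorem cancelBaseChange_naturality (x : K ⊗[A'] (A' ⊗[A] W)) :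
    (AlgebraTensorModule.cancelBaseChange A A' K K Q) (((f.baseChange A').baseChange K) x) =
      (f.baseChange K) ((AlgebraTensorModule.cancelBaseChange A A' K K W) x) := by
  induction x using TensorProduct.induction_on with
  | zero => simp
  | tmul k y =>
    induction y using TensorProduct.induction_on with
    | zero => simp
    | tmul a w => simp
    | add y z hy hz => simp only [tmul_add, map_add, hy, hz]
  | add x y hx hy => simp only [map_add, hx, hy]

/-- kernels of iterated base change -/
noncomputable def kerTowerEquiv :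
    LinearMap.ker ((f.baseChange A').baseChange K) ≃ₗ[K] LinearMap.ker (f.baseChange K) :=
  ((AlgebraTensorModule.cancelBaseChange A A' K K W).submoduleMap _) ≪≫ₗ
    (LinearEquiv.ofEq _ _ (by
      ext z
      constructor
      · rintro ⟨w, hw, rfl⟩
        rw [SetLike.mem_coe, LinearMap.mem_ker] at hw
        rw [LinearMap.mem_ker]
        change (f.baseChange K) ((AlgebraTensorModule.cancelBaseChange A A' K K W) w) = 0
        rw [← cancelBaseChange_naturality, hw, map_zero]
      · intro hz
        rw [LinearMap.mem_ker] at hz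
        refine ⟨(AlgebraTensorModule.cancelBaseChange A A' K K W).symm z, ?_, by simp⟩
        rw [SetLike.mem_coe, LinearMap.mem_ker]
        apply (AlgebraTensorModule.cancelBaseChange A A' K K Q).injective
        rw [cancelBaseChange_naturality, LinearEquiv.apply_symm_apply, map_zero]
        exact hz))

end Tower

section Congr

variable {R K : Type u} [CommRing R] [CommRing K] [Algebra R K]
  {W Q W' Q' : Type u} [AddCommGroup W] [Module R W] [AddCommGroup Q] [Module R Q]
  [AddCommGroup W'] [Module R W'] [AddCommGroup Q'] [Module R Q']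
  (f : W →ₗ[R] Q) (g : W' →ₗ[R] Q') (e1 : W ≃ₗ[R] W') (e3 : Q ≃ₗ[R] Q')
  (hcomm : ∀ w, e3 (f w) = g (e1 w))

include hcomm in
theorem baseChange_congr_apply (x : K ⊗[R] W) :
    (e3.baseChange R K Q Q') ((f.baseChange K) x) = (g.baseChange K) ((e1.baseChange R K W W') x) := by
  induction x using TensorProduct.induction_on with
  | zero => simp
  | tmul k w => simp [hcomm]
  | add x y hx hy => simp only [map_add, hx, hy]

/-- kernels of base changes of conjugate maps -/
noncomputable def kerBcCongr : LinearMap.ker (f.baseChange K) ≃ₗ[K] LinearMap.ker (g.baseChange K) :=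
  ((e1.baseChange R K W W').submoduleMap _) ≪≫ₗ
    (LinearEquiv.ofEq _ _ (by
      ext z
      constructor
      · rintro ⟨w, hw, rfl⟩
        rw [SetLike.mem_coe, LinearMap.mem_ker] at hw
        rw [LinearMap.mem_ker]
        change (g.baseChange K) ((e1.baseChange R K W W') w) = 0
        rw [← baseChange_congr_apply f g e1 e3 hcomm, hw, map_zero]
      · intro hz
        rw [LinearMap.mem_ker] at hz
        refine ⟨(e1.baseChange R K W W').symm z, ?_,
          (e1.baseChange R K W W').apply_symm_apply z⟩
        rw [SetLike.mem_coe, LinearMap.mem_ker]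
        apply (e3.baseChange R K Q Q').injective
        rw [baseChange_congr_apply f g e1 e3 hcomm, LinearEquiv.apply_symm_apply, map_zero]
        exact hz))

end Congr

section FieldExt

variable {κ κ' : Type u} [Field κ] [Field κ'] [Algebra κ κ'] {V₁ V₂ : Type u} [AddCommGroup V₁]
  [Module κ V₁] [AddCommGroup V₂] [Module κ V₂] (g : V₁ →ₗ[κ] V₂)

theorem finrank_ker_baseChange :
    Module.finrank κ' (LinearMap.ker (g.baseChange κ')) = Module.finrank κ (LinearMap.ker g) := by
  have e : κ' ⊗[κ] LinearMap.ker g ≃ₗ[κ'] LinearMap.ker (g.baseChange κ') :=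
    LinearMap.tensorKerEquiv κ' κ' g
  rw [← e.finrank_eq, Module.finrank_baseChange]

end FieldExt

section dRankBC

variable {A A' : Type u} [CommRing A] [CommRing A'] [Algebra A A'] {ι : Type} {c : ComplexShape ι}
  (P : HomologicalComplex (ModuleCat.{u} A) c) (p : ι)

theorem dRank_eq_finrank_ker (j : ι) (hj : c.next p = j) (x : PrimeSpectrum A) :
    CohIII.dRank P p x = Module.finrank x.asIdeal.ResidueField
      (LinearMap.ker ((P.fromOpcycles p j).hom.baseChange x.asIdeal.ResidueField)) :=
  (homologyBcEquiv (B := x.asIdeal.ResidueField) P p j hj).finrank_eq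

theorem dRank_bcCx (j : ι) (hj : c.next p = j) (x' : PrimeSpectrum A') :
    CohIII.dRank (CohIII.bcCx (algebraMap A A') P) p x' =
      CohIII.dRank P p (PrimeSpectrum.comap (algebraMap A A') x') := by
  let x := PrimeSpectrum.comap (algebraMap A A') x'
  let κ := x.asIdeal.ResidueField
  let κ' := x'.asIdeal.ResidueField
  let ψ : κ →+* κ' := Ideal.ResidueField.map x.asIdeal x'.asIdeal (algebraMap A A') rfl
  let _ : Algebra κ κ' := ψ.toAlgebra
  have : IsScalarTower A κ κ' := IsScalarTower.of_algebraMap_eq (fun a => by
    rw [RingHom.algebraMap_toAlgebra]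
    change _ = ψ (algebraMap A κ a)
    rw [Ideal.ResidueField.map_algebraMap, ← IsScalarTower.algebraMap_apply])
  rw [dRank_eq_finrank_ker _ p j hj, dRank_eq_finrank_ker P p j hj]
  let f := (P.fromOpcycles p j).hom
  let f' := ((CohIII.bcCx (algebraMap A A') P).fromOpcycles p j).hom
  have e1 : LinearMap.ker (f'.baseChange κ') ≃ₗ[κ'] LinearMap.ker ((f.baseChange A').baseChange κ') :=
    kerBcCongr f' (f.baseChange A') (opcyclesBcEquiv (B := A') P p) (xBcEquiv (B := A') P j)
      (xBcEquiv_fromOpcycles (B := A') P p j)
  have e2 : LinearMap.ker ((f.baseChange A').baseChange κ') ≃ₗ[κ'] LinearMap.ker (f.baseChange κ') :=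
    kerTowerEquiv f
  have e3 : LinearMap.ker ((f.baseChange κ).baseChange κ') ≃ₗ[κ'] LinearMap.ker (f.baseChange κ') :=
    kerTowerEquiv f
  rw [e1.finrank_eq, e2.finrank_eq, ← e3.finrank_eq]
  exact finrank_ker_baseChange (f.baseChange κ)

end dRankBC

end Groth.Agent.Lib.Helper75.FlatCx
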