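import Groth.Agent.Lib.Helper75.FlatCx18
import Mathlib.Topology.Constructible
import Mathlib.RingTheory.Spectrum.Prime.Noetherian

set_option autoImplicit false
universe u

namespace Groth.Agent.Lib.Helper75.FlatCx

open CategoryTheory CategoryTheory.Limits MonoidalCategory TensorProduct Topology

variable {A : Type u} [CommRing A]

theorem exists_fRank_le (W : Type u) [AddCommGroup W] [Module A W] [Module.Finite A W] :
    ∃ N : ℕ, ∀ x : PrimeSpectrum A, fRank W x ≤ N := by
  obtain ⟨n, g, hg⟩ := Module.Finite.exists_fin (R := A) (M := W)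
  refine ⟨n, fun x => ?_⟩
  have h1 : Fitt.ideal A W n = ⊤ := Fitting.fitt_eq_top g hg
  have h2 : ¬ Fitt.ideal A W n ≤ x.asIdeal := by
    rw [h1, top_le_iff]
    exact x.2.ne_top
  exact (Fitting.not_fitt_le_iff_finrank n x.asIdeal).mp h2

theorem isOpen_fRank_le (W : Type u) [AddCommGroup W] [Module A W] [Module.Finite A W] (n : ℕ) :
    IsOpen {x : PrimeSpectrum A | fRank W x ≤ n} := by
  have : {x : PrimeSpectrum A | fRank W x ≤ n} =
      (PrimeSpectrum.zeroLocus (Fitt.ideal A W n : Set A))ᶜ := by
    ext x
    simp only [Set.mem_ofPred_eq, Set.mem_compl_iff, PrimeSpectrum.mem_zeroLocus,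
      SetLike.coe_subset_coe]
    exact (Fitting.not_fitt_le_iff_finrank n x.asIdeal).symm
  rw [this]
  exact (PrimeSpectrum.isClosed_zeroLocus _).isOpen_compl

theorem isConstructible_of_isOpen [IsNoetherianRing A] {U : Set (PrimeSpectrum A)}
    (hU : IsOpen U) : IsConstructible U :=
  (TopologicalSpace.NoetherianSpace.isCompact U).isConstructible hU

theorem isConstructible_fRank_eq [IsNoetherianRing A] (W : Type u) [AddCommGroup W] [Module A W]
    [Module.Finite A W] (n : ℕ) : IsConstructible {x : PrimeSpectrum A | fRank W x = n} := by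
  cases n with
  | zero =>
    have : {x : PrimeSpectrum A | fRank W x = 0} = {x | fRank W x ≤ 0} := by
      ext x; simp
    rw [this]
    exact isConstructible_of_isOpen (isOpen_fRank_le W 0)
  | succ n =>
    have : {x : PrimeSpectrum A | fRank W x = n + 1} =
        {x | fRank W x ≤ n + 1} \ {x | fRank W x ≤ n} := by
      ext x
      simp only [Set.mem_ofPred_eq, Set.mem_sdiff]
      omega
    rw [this]
    exact (isConstructible_of_isOpen (isOpen_fRank_le W _)).sdiff
      (isConstructible_of_isOpen (isOpen_fRank_le W _))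

variable {ι : Type} {c : ComplexShape ι} (P : HomologicalComplex (ModuleCat.{u} A) c) (p : ι)

theorem dRank_constructible [IsNoetherianRing A]
    (hP : ∀ i, Module.Finite A (P.X i) ∧ Module.Flat A (P.X i)) (j : ι) (h : c.Rel p j) :
    (Set.range (CohIII.dRank P p)).Finite ∧
      ∀ n : ℕ, IsConstructible {x : PrimeSpectrum A | CohIII.dRank P p x = n} := by
  have := (hP p).1
  have := (hP j).1
  have := (hP j).2
  obtain ⟨N1, hN1⟩ := exists_fRank_le (A := A) (P.opcycles p)
  obtain ⟨N2, hN2⟩ := exists_fRank_le (A := A) (P.opcycles j)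
  have hadd := dRank_add P p j h
  constructor
  · apply (Set.finite_Iic (N1 + N2)).subset
    rintro _ ⟨x, rfl⟩
    have := hadd x
    have := hN1 x
    have := hN2 x
    simp only [Set.mem_Iic]
    unfold wRank at *
    unfold fRank at *
    omega
  · intro n
    have hset : {x : PrimeSpectrum A | CohIII.dRank P p x = n} =
        ⋃ a ∈ (Finset.range (N1 + 1) : Set ℕ), ⋃ b ∈ (Finset.range (N2 + 1) : Set ℕ),
          ({x | fRank (P.opcycles p) x = a} ∩ {x | fRank (P.opcycles j) x = b} ∩
            (xRank P j) ⁻¹' {m | a + b = n + m}) := by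
      ext x
      simp only [Set.mem_ofPred_eq, Finset.coe_range, Set.mem_Iio, Set.mem_iUnion, Set.mem_inter_iff,
        Set.mem_preimage, exists_prop]
      have e1 := hadd x
      have e2 := hN1 x
      have e3 := hN2 x
      unfold wRank at e1
      constructor
      · intro hx
        refine ⟨fRank (P.opcycles p) x, by omega, fRank (P.opcycles j) x, by omega, ⟨rfl, rfl⟩, ?_⟩
        unfold fRank
        omega
      · rintro ⟨a, _, b, _, ⟨ha, hb⟩, hm⟩
        unfold fRank at ha hb
        omega
    rw [hset]
    apply IsConstructible.biUnion (Finset.finite_toSet _)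
    intro a _
    apply IsConstructible.biUnion (Finset.finite_toSet _)
    intro b _
    exact ((isConstructible_fRank_eq _ a).inter (isConstructible_fRank_eq _ b)).inter
      (isConstructible_of_isOpen ((isLocallyConstant_xRank P j) _))

end Groth.Agent.Lib.Helper75.FlatCx
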