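import Groth.Agent.Lib.Helper75.FlatCx19

set_option autoImplicit false
universe u

namespace Groth.Agent.Lib.Helper75.FlatCx

open CategoryTheory CategoryTheory.Limits MonoidalCategory TensorProduct

variable {A : Type u} [CommRing A]

section Zero

variable {ι : Type} {c : ComplexShape ι} (P : HomologicalComplex (ModuleCat.{u} A) c)

theorem xRank_eq_zero_of_isZero (i : ι) (h : IsZero (P.X i)) (x : PrimeSpectrum A) :
    xRank P i x = 0 := by
  have := ModuleCat.subsingleton_of_isZero h
  unfold xRank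
  exact Module.finrank_zero_of_subsingleton

theorem wRank_eq_zero_of_isZero (i : ι) (h : IsZero (P.X i)) (x : PrimeSpectrum A) :
    wRank P i x = 0 := by
  have := ModuleCat.subsingleton_of_isZero h
  have : Subsingleton (P.opcycles i) := (pOpcycles_surjective P i).subsingleton
  unfold wRank
  exact Module.finrank_zero_of_subsingleton

theorem wRank_eq_xRank_of_isZero (i j : ι) (hij : c.prev j = i) (h : IsZero (P.X i))
    (x : PrimeSpectrum A) : wRank P j x = xRank P j x := by
  have hd : P.d i j = 0 := h.eq_of_src _ _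
  let e : P.X j ≃ₗ[A] P.opcycles j := (P.pOpcyclesIso i j hij hd).toLinearEquiv
  unfold wRank xRank
  exact (e.baseChange A x.asIdeal.ResidueField _ _).finrank_eq.symm

end Zero

section Euler

variable (P : ChainComplex (ModuleCat.{u} A) ℤ)
  (hP : ∀ i, Module.Finite A (P.X i) ∧ Module.Projective A (P.X i))
  (s : Finset ℤ) (hs : ∀ i, i ∉ s → IsZero (P.X i))
include hP hs

theorem euler_dRank (x : PrimeSpectrum A) :
    (s.sum fun i => ((i.negOnePow : ℤˣ) : ℤ) * (CohIII.dRank P i x : ℤ)) =
      s.sum fun i => ((i.negOnePow : ℤˣ) : ℤ) * (xRank P i x : ℤ) := by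
  have hfin : ∀ i, Module.Finite A (P.X i) := fun i => (hP i).1
  -- ρ_i = r_i - w_i
  let ρ : ℤ → ℤ := fun i => (xRank P i x : ℤ) - (wRank P i x : ℤ)
  have hρ1 : ∀ i, i ∉ s → ρ i = 0 := by
    intro i hi
    simp only [ρ]
    rw [xRank_eq_zero_of_isZero P i (hs i hi), wRank_eq_zero_of_isZero P i (hs i hi)]
    simp
  have hρ2 : ∀ i, i + 1 ∉ s → ρ i = 0 := by
    intro i hi
    simp only [ρ]
    rw [wRank_eq_xRank_of_isZero P (i + 1) i (by simp) (hs _ hi)]
    simp
  have hd : ∀ i, (CohIII.dRank P i x : ℤ) = (xRank P i x : ℤ) - ρ i - ρ (i - 1) := by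
    intro i
    have := dRank_add P i (i - 1) (by simp) x
    simp only [ρ]
    omega
  let g : ℤ → ℤ := fun k => ((k.negOnePow : ℤˣ) : ℤ) * ρ k
  have hg1 : ∀ k, k ∉ s → g k = 0 := fun k hk => by simp only [g, hρ1 k hk, mul_zero]
  have hg2 : ∀ k, k + 1 ∉ s → g k = 0 := fun k hk => by simp only [g, hρ2 k hk, mul_zero]
  have hshift : (s.sum fun i => ((i.negOnePow : ℤˣ) : ℤ) * ρ (i - 1)) = - s.sum g := by
    have h1 : (s.sum fun i => ((i.negOnePow : ℤˣ) : ℤ) * ρ (i - 1)) =
        - (s.sum fun i => g (i - 1)) := by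
      rw [← Finset.sum_neg_distrib]
      apply Finset.sum_congr rfl
      intro i _
      simp only [g]
      rw [Int.negOnePow_sub, Int.negOnePow_one]
      simp
    rw [h1]
    congr 1
    let t : Finset ℤ := s.image (fun i => i - 1)
    have h2 : (s.sum fun i => g (i - 1)) = t.sum g := by
      rw [Finset.sum_image]
      intro a _ b _ hab
      simpa using hab
    rw [h2]
    have h3 : t.sum g = (s ∪ t).sum g := by
      apply Finset.sum_subset Finset.subset_union_right
      intro k _ hk
      apply hg2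
      intro hk1
      exact hk (Finset.mem_image.mpr ⟨k + 1, hk1, by ring⟩)
    have h4 : s.sum g = (s ∪ t).sum g := by
      apply Finset.sum_subset Finset.subset_union_left
      intro k _ hk
      exact hg1 k hk
    rw [h3, h4]
  calc (s.sum fun i => ((i.negOnePow : ℤˣ) : ℤ) * (CohIII.dRank P i x : ℤ))
      = s.sum fun i => (((i.negOnePow : ℤˣ) : ℤ) * (xRank P i x : ℤ) - g i -
          ((i.negOnePow : ℤˣ) : ℤ) * ρ (i - 1)) := by
        apply Finset.sum_congr rfl
        intro i _
        rw [hd i]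
        simp only [g]
        ring
    _ = (s.sum fun i => ((i.negOnePow : ℤˣ) : ℤ) * (xRank P i x : ℤ)) - s.sum g -
          (s.sum fun i => ((i.negOnePow : ℤˣ) : ℤ) * ρ (i - 1)) := by
        rw [Finset.sum_sub_distrib, Finset.sum_sub_distrib]
    _ = s.sum fun i => ((i.negOnePow : ℤˣ) : ℤ) * (xRank P i x : ℤ) := by
        rw [hshift]
        ring

end Euler

end Groth.Agent.Lib.Helper75.FlatCx
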