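import Groth.Agent.Lib.Helper75.FlatCx20
import Mathlib.RingTheory.Filtration

set_option autoImplicit false
universe u

namespace Groth.Agent.Lib.Helper75.FlatCx

open CategoryTheory CategoryTheory.Limits MonoidalCategory TensorProduct

variable {A : Type u} [CommRing A]

section TmulOne

variable {Q : Type u} [AddCommGroup Q] [Module A Q] (I : Ideal A)

theorem tmul_one_eq_zero_iff (q : Q) :
    (q ⊗ₜ[A] (1 : A ⧸ I) = 0) ↔ q ∈ I • (⊤ : Submodule A Q) := by
  rw [← LinearMap.ker_tensorProductMk (Q := Q) (I := I), LinearMap.mem_ker]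
  constructor
  · intro h
    have := congrArg (TensorProduct.comm A Q (A ⧸ I)) h
    simpa using this
  · intro h
    have := congrArg (TensorProduct.comm A (A ⧸ I) Q) h
    simpa using this

theorem exists_tmul_one_eq (z : Q ⊗[A] (A ⧸ I)) : ∃ q : Q, z = q ⊗ₜ[A] (1 : A ⧸ I) := by
  obtain ⟨z₀, rfl⟩ := LinearMap.lTensor_surjective Q (Submodule.mkQ_surjective I) z
  refine ⟨TensorProduct.rid A Q z₀, ?_⟩
  induction z₀ using TensorProduct.induction_on with
  | zero => simp
  | tmul q a =>
    simp only [LinearMap.lTensor_tmul, Submodule.mkQ_apply, TensorProduct.rid_tmul]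
    rw [TensorProduct.smul_tmul]
    congr 1
    change Ideal.Quotient.mk I a = a • (1 : A ⧸ I)
    rw [Algebra.smul_def, mul_one]
    rfl
  | add x y hx hy => rw [map_add, map_add, TensorProduct.add_tmul, hx, hy]

end TmulOne

namespace KerModel

variable {T : ModuleCat.{u} A ⥤ ModuleCat.{u} A} {W Q : Type u} [AddCommGroup W]
    [Module A W] [AddCommGroup Q] [Module A Q] {f : W →ₗ[A] Q} (m : KerModel T f)
include m

/-- Artin–Rees argument: if `T(A/I^{n+1}) → T(A/I)` is surjective for all large `n`, then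
`range f ⊗ A/I → Q ⊗ A/I` is injective. -/
theorem rTensor_injective_of_surjective_pow [IsNoetherianRing A] [Module.Finite A Q]
    (I : Ideal A) (n₀ : ℕ)
    (hs : ∀ n : ℕ, n₀ ≤ n → Function.Surjective (T.map (ModuleCat.ofHom
        (Ideal.Quotient.factorₐ A (Ideal.pow_le_self (I := I)
          (Nat.succ_ne_zero n))).toLinearMap :
        ModuleCat.of A (A ⧸ I ^ (n + 1)) ⟶ ModuleCat.of A (A ⧸ I))).hom) :
    Function.Injective ((LinearMap.range f).subtype.rTensor (A ⧸ I)) := by
  have hf : ∀ (M : Type u) [AddCommGroup M] [Module A M] (x : W ⊗[A] M),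
      f.rTensor M x = (LinearMap.range f).subtype.rTensor M (f.rangeRestrict.rTensor M x) := by
    intro M _ _ x
    rw [← LinearMap.comp_apply, ← LinearMap.rTensor_comp]
    rfl
  obtain ⟨c, hc⟩ := Ideal.exists_pow_inf_eq_pow_smul I (LinearMap.range f)
  rw [injective_iff_map_eq_zero]
  intro y hy
  obtain ⟨x, rfl⟩ := LinearMap.rTensor_surjective (A ⧸ I) f.surjective_rangeRestrict y
  rw [← hf] at hy
  obtain ⟨t, ht⟩ := (m.exact (ModuleCat.of A (A ⧸ I)) x).mp hy
  set n := max n₀ c with hn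
  obtain ⟨s, rfl⟩ := hs n (le_max_left _ _) t
  set π : (A ⧸ I ^ (n + 1)) →ₗ[A] (A ⧸ I) := (Ideal.Quotient.factorₐ A (Ideal.pow_le_self (I := I)
          (Nat.succ_ne_zero n))).toLinearMap with hπ
  have hnat := m.nat (ModuleCat.ofHom π) s
  rw [ModuleCat.hom_ofHom] at hnat
  rw [← ht, hnat, sq]
  -- z = (f' ⊗ A_n)(ι s)
  set z := f.rangeRestrict.rTensor (A ⧸ I ^ (n + 1)) (m.ι (ModuleCat.of A (A ⧸ I ^ (n + 1))) s)
    with hz
  have hz0 : (LinearMap.range f).subtype.rTensor (A ⧸ I ^ (n + 1)) z = 0 := by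
    rw [hz, ← hf]
    exact (m.exact (ModuleCat.of A (A ⧸ I ^ (n + 1))) _).mpr ⟨s, rfl⟩
  obtain ⟨b, hb⟩ := exists_tmul_one_eq (I ^ (n + 1)) z
  rw [hb, LinearMap.rTensor_tmul, Submodule.subtype_apply, tmul_one_eq_zero_iff] at hz0
  -- b ∈ I^{n+1} Q ∩ range f = I^{n+1-c} (I^c Q ∩ range f) ≤ I • range f
  have hmem : (b : Q) ∈ I ^ (n + 1) • (⊤ : Submodule A Q) ⊓ LinearMap.range f := ⟨hz0, b.2⟩
  rw [hc (n + 1) (by omega)] at hmem
  have hle : I ^ (n + 1 - c) • (I ^ c • (⊤ : Submodule A Q) ⊓ LinearMap.range f) ≤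
      I • LinearMap.range f := by
    have h1 : n + 1 - c = (n - c) + 1 := by omega
    rw [h1, pow_succ', mul_smul]
    exact Submodule.smul_mono le_rfl ((Submodule.smul_le_right).trans inf_le_right)
  have hb' : b ∈ I • (⊤ : Submodule A (LinearMap.range f)) := by
    exact (Submodule.mem_smul_top_iff I (LinearMap.range f) b).mpr (hle hmem)
  rw [hb, LinearMap.lTensor_tmul]
  have h1 : π 1 = 1 := by
    rw [hπ]
    exact map_one (Ideal.Quotient.factorₐ A (Ideal.pow_le_self (I := I) (Nat.succ_ne_zero n)))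
  rw [h1, tmul_one_eq_zero_iff]
  exact hb'

end KerModel

section Local

variable {ι : Type} {c : ComplexShape ι} (P : HomologicalComplex (ModuleCat.{u} A) c) (p : ι)

variable [IsLocalRing A] [IsNoetherianRing A]
  (hP : ∀ i, Module.Finite A (P.X i) ∧ Module.Flat A (P.X i))
include hP

theorem preservesEpi_iff_surjective_pow (j : ι) (h : c.Rel p j) :
    (CohIII.TFun P p).PreservesEpimorphisms ↔
      ∃ n₀ : ℕ, ∀ n : ℕ, n₀ ≤ n → Function.Surjective ((CohIII.TFun P p).map (ModuleCat.ofHom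
        (Ideal.Quotient.factorₐ A (Ideal.pow_le_self (I := IsLocalRing.maximalIdeal A)
          (Nat.succ_ne_zero n))).toLinearMap :
        ModuleCat.of A (A ⧸ IsLocalRing.maximalIdeal A ^ (n + 1)) ⟶
          ModuleCat.of A (A ⧸ IsLocalRing.maximalIdeal A))).hom := by
  constructor
  · intro hT
    refine ⟨0, fun n _ => ?_⟩
    have hepi : Epi (ModuleCat.ofHom
        (Ideal.Quotient.factorₐ A (Ideal.pow_le_self (I := IsLocalRing.maximalIdeal A)
          (Nat.succ_ne_zero n))).toLinearMap :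
        ModuleCat.of A (A ⧸ IsLocalRing.maximalIdeal A ^ (n + 1)) ⟶
          ModuleCat.of A (A ⧸ IsLocalRing.maximalIdeal A)) :=
      (ModuleCat.epi_iff_surjective _).mpr (Ideal.Quotient.factor_surjective
        (Ideal.pow_le_self (I := IsLocalRing.maximalIdeal A) (Nat.succ_ne_zero n)))
    exact (ModuleCat.epi_iff_surjective _).mp (hT.preserves _)
  · rintro ⟨n₀, hs⟩
    have := (hP p).1
    have := (hP j).1
    have := (hP j).2
    rw [preservesEpi_iff_flat_opcycles P p (fun i => (hP i).2) j h]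
    have hinj := (kerModel P p j (c.next_eq' h)).rTensor_injective_of_surjective_pow
      (IsLocalRing.maximalIdeal A) n₀ hs
    exact flat_of_rTensor_residueField_injective _ (P.pOpcycles j).hom
      (KerModel.exact_range_subtype _ (fromOpcycles_pOpcycles_exact P p j (c.prev_eq' h)))
      (pOpcycles_surjective P j) hinj

end Local

end Groth.Agent.Lib.Helper75.FlatCx
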