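import Groth.Agent.Lib.Helper75.FlatCx21
import Mathlib.RingTheory.Flat.TorsionFree

set_option autoImplicit false
universe u

namespace Groth.Agent.Lib.Helper75.FlatCx

open CategoryTheory CategoryTheory.Limits MonoidalCategory TensorProduct

variable {A : Type u} [CommRing A]

section Ext

variable {M' M M'' : Type u} [AddCommGroup M'] [Module A M'] [AddCommGroup M] [Module A M]
  [AddCommGroup M''] [Module A M'']

/-- An extension of flat modules is flat. -/
theorem flat_of_ext [Module.Flat A M'] [Module.Flat A M''] (i : M' →ₗ[A] M) (v : M →ₗ[A] M'')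
    (hi : Function.Injective i) (hex : Function.Exact i v) (hv : Function.Surjective v) :
    Module.Flat A M := by
  rw [Module.Flat.iff_lTensor_preserves_injective_linearMap'.{u, u, u}]
  intro N N' _ _ _ _ g hg
  rw [injective_iff_map_eq_zero]
  intro x hx
  -- image of x in M'' ⊗ N is zero
  have h1 : v.rTensor N x = 0 := by
    have hinj : Function.Injective (g.lTensor M'') :=
      Module.Flat.lTensor_preserves_injective_linearMap _ hg
    apply hinj
    rw [map_zero, ← sq, hx, map_zero]
  obtain ⟨y, rfl⟩ := (rTensor_exact N hex hv x).mp h1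
  have h2 : i.rTensor N' (g.lTensor M' y) = 0 := by
    rw [sq, hx]
  have h3 : g.lTensor M' y = 0 := by
    apply rTensor_injective_of_flat_quot i v hi hex hv N'
    rw [h2, map_zero]
  have h4 : y = 0 := by
    apply Module.Flat.lTensor_preserves_injective_linearMap (M := M') _ hg
    rw [h3, map_zero]
  rw [h4, map_zero]

end Ext

section Dedekind

theorem flat_submodule_of_dedekind [IsDedekindDomain A] {M : Type u} [AddCommGroup M] [Module A M]
    [Module.Flat A M] (N : Submodule A M) : Module.Flat A N := by
  have h1 : Submodule.torsion A M = ⊥ := Module.Flat.torsion_eq_bot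
  rw [IsDedekindDomain.flat_iff_torsion_eq_bot]
  rw [eq_bot_iff] at h1 ⊢
  rintro ⟨x, hx⟩ ⟨a, ha⟩
  have : x ∈ Submodule.torsion A M := ⟨a, congrArg Subtype.val ha⟩
  have := h1 this
  rw [Submodule.mem_bot] at this ⊢
  exact Subtype.ext this

end Dedekind

section Homology

variable {ι : Type} {c : ComplexShape ι} (P : HomologicalComplex (ModuleCat.{u} A) c) (p : ι)

/-- `H_p(P) ≃ ker (W_p → P_j)`. -/
noncomputable def homologyEquivKer (j : ι) (hj : c.next p = j) :
    P.homology p ≃ₗ[A] LinearMap.ker (P.fromOpcycles p j).hom := by
  have hinj : Function.Injective (P.homologyι p).hom :=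
    (ModuleCat.mono_iff_injective _).mp inferInstance
  have hex : Function.Exact (P.homologyι p).hom (P.fromOpcycles p j).hom := by
    let S1 : ShortComplex (ModuleCat.{u} A) :=
      ShortComplex.mk (P.homologyι p) (P.fromOpcycles p j) (P.homologyι_comp_fromOpcycles p j)
    have hS1 : S1.Exact := ShortComplex.exact_of_f_is_kernel _ (P.homologyIsKernel p j hj)
    exact (ShortComplex.ShortExact.moduleCat_exact_iff_function_exact S1).mp hS1
  exact (LinearEquiv.ofInjective _ hinj) ≪≫ₗ (LinearEquiv.ofEq _ _ hex.linearMap_ker_eq.symm)

theorem homologyEquivKer_apply (j : ι) (hj : c.next p = j) (x : P.homology p) :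
    ((homologyEquivKer P p j hj x : LinearMap.ker (P.fromOpcycles p j).hom) : P.opcycles p) =
      (P.homologyι p).hom x := rfl

variable (hP : ∀ i, Module.Flat A (P.X i))
include hP

/-- over a Dedekind domain, `W_p` is flat iff `H_p(P)` is flat -/
theorem flat_opcycles_iff_flat_homology_of_dedekind [IsDedekindDomain A] (j : ι) (h : c.Rel p j) :
    Module.Flat A (P.opcycles p) ↔ Module.Flat A (P.homology p) := by
  have := hP j
  constructor
  · intro hW
    have : Module.Flat A (LinearMap.ker (P.fromOpcycles p j).hom) := flat_submodule_of_dedekind _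
    exact Module.Flat.of_linearEquiv (homologyEquivKer P p j (c.next_eq' h))
  · intro hH
    have h1 : Module.Flat A (LinearMap.ker (P.fromOpcycles p j).hom) :=
      Module.Flat.of_linearEquiv (homologyEquivKer P p j (c.next_eq' h)).symm
    have h2 : Module.Flat A (LinearMap.range (P.fromOpcycles p j).hom) :=
      flat_submodule_of_dedekind _
    exact flat_of_ext (LinearMap.ker (P.fromOpcycles p j).hom).subtype
      (P.fromOpcycles p j).hom.rangeRestrict (Submodule.subtype_injective _)
      KerModel.exact_ker_rangeRestrict (LinearMap.surjective_rangeRestrict _)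

theorem preservesMono_iff_flat_homology_of_dedekind [IsDedekindDomain A] (j : ι) (h : c.Rel p j) :
    (CohIII.TFun P p).PreservesMonomorphisms ↔ Module.Flat A (P.homology p) :=
  (preservesMono_iff_flat_opcycles P p hP j h).trans
    (flat_opcycles_iff_flat_homology_of_dedekind P p hP j h)

end Homology

end Groth.Agent.Lib.Helper75.FlatCx
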