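import Groth.Agent.Lib.Helper75.FlatCx22
import Groth.Agent.S4499

set_option autoImplicit false
universe u

namespace Groth.Agent.Lib.Helper75.FlatCx

open CategoryTheory CategoryTheory.Limits MonoidalCategory TensorProduct

variable {A : Type u} [CommRing A]

section TorLES

open Groth.Agent.S8710 Groth.Agent.S4499

/-- `Tor_1(X₁, S') ≃ Tor_1(X₂, S')` when `X₃` is flat. -/
theorem tor_one_iso_of_flat (S' : ModuleCat.{u} A) (T : ShortComplex (ModuleCat.{u} A))
    (hT : T.ShortExact) [Module.Flat A T.X₃] :
    Nonempty ((((Tor (ModuleCat.{u} A) 1).obj T.X₁).obj S' : ModuleCat.{u} A) ≅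
      (((Tor (ModuleCat.{u} A) 1).obj T.X₂).obj S' : ModuleCat.{u} A)) := by
  let Q : ProjectiveResolution S' := ProjectiveResolution.of S'
  have hS := cxFunctor_shortExact Q.complex (flat_of_res S' Q) T hT
  have h2 : IsZero (((cxFunctor Q.complex).obj T.X₃).homology 2) := isZero_F_of_flat S' Q T.X₃ 1
  have h1 : IsZero (((cxFunctor Q.complex).obj T.X₃).homology 1) := isZero_F_of_flat S' Q T.X₃ 0
  have hex1 := hS.homology_exact₁ 2 1 rfl
  have hex2 := hS.homology_exact₂ 1
  have hmono : Mono (HomologicalComplex.homologyMap ((cxFunctor Q.complex).map T.f) 1) :=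
    hex1.mono_g (h2.eq_of_src _ _)
  have hepi : Epi (HomologicalComplex.homologyMap ((cxFunctor Q.complex).map T.f) 1) :=
    hex2.epi_f (h1.eq_of_tgt _ _)
  have hiso : IsIso (HomologicalComplex.homologyMap ((cxFunctor Q.complex).map T.f) 1) :=
    isIso_of_mono_of_epi _
  exact ⟨torIso S' Q T.X₁ 1 ≪≫ asIso (HomologicalComplex.homologyMap
    ((cxFunctor Q.complex).map T.f) 1) ≪≫ (torIso S' Q T.X₂ 1).symm⟩

end TorLES

section UCT

variable {W Q : Type u} [AddCommGroup W] [Module A W] [AddCommGroup Q] [Module A Q]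
  (f : W →ₗ[A] Q) (N : Type u) [AddCommGroup N] [Module A N]

theorem rTensor_eq_range_comp (x : W ⊗[A] N) :
    f.rTensor N x = (LinearMap.range f).subtype.rTensor N (f.rangeRestrict.rTensor N x) := by
  rw [← LinearMap.comp_apply, ← LinearMap.rTensor_comp]
  rfl

/-- `ker f ⊗ N → ker (f ⊗ N)` -/
noncomputable def uctA : (LinearMap.ker f) ⊗[A] N →ₗ[A] LinearMap.ker (f.rTensor N) :=
  LinearMap.codRestrict _ ((LinearMap.ker f).subtype.rTensor N) (fun x => by
    rw [LinearMap.mem_ker, ← LinearMap.comp_apply, ← LinearMap.rTensor_comp]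
    have : f ∘ₗ (LinearMap.ker f).subtype = 0 := by
      ext w
      exact w.2
    rw [this, LinearMap.rTensor_zero, LinearMap.zero_apply])

/-- `ker (f ⊗ N) → ker (range f ⊗ N → Q ⊗ N)` -/
noncomputable def uctB : LinearMap.ker (f.rTensor N) →ₗ[A]
    LinearMap.ker ((LinearMap.range f).subtype.rTensor N) :=
  LinearMap.codRestrict _ ((f.rangeRestrict.rTensor N) ∘ₗ (LinearMap.ker (f.rTensor N)).subtype)
    (fun x => by
      rw [LinearMap.mem_ker, LinearMap.comp_apply, ← rTensor_eq_range_comp]
      exact x.2)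

theorem uctA_injective [Module.Flat A (LinearMap.range f)] : Function.Injective (uctA f N) := by
  intro x y hxy
  have := congrArg Subtype.val hxy
  exact rTensor_injective_of_flat_quot (LinearMap.ker f).subtype f.rangeRestrict
    (Submodule.subtype_injective _) KerModel.exact_ker_rangeRestrict
    (LinearMap.surjective_rangeRestrict _) N this

theorem uctB_surjective : Function.Surjective (uctB f N) := by
  rintro ⟨y, hy⟩
  obtain ⟨x, rfl⟩ := LinearMap.rTensor_surjective N f.surjective_rangeRestrict y
  rw [LinearMap.mem_ker, ← rTensor_eq_range_comp] at hy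
  exact ⟨⟨x, hy⟩, rfl⟩

theorem uct_exact : Function.Exact (uctA f N) (uctB f N) := by
  intro x
  constructor
  · intro hx
    have h1 : f.rangeRestrict.rTensor N x.1 = 0 := congrArg Subtype.val hx
    obtain ⟨z, hz⟩ := (rTensor_exact N (KerModel.exact_ker_rangeRestrict (f := f))
      f.surjective_rangeRestrict _).mp h1
    exact ⟨z, Subtype.ext hz⟩
  · rintro ⟨z, rfl⟩
    apply Subtype.ext
    change f.rangeRestrict.rTensor N ((LinearMap.ker f).subtype.rTensor N z) = 0
    exact (rTensor_exact N (KerModel.exact_ker_rangeRestrict (f := f))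
      f.surjective_rangeRestrict _).mpr ⟨z, rfl⟩

/-- the short exact sequence `0 → ker f ⊗ N → ker (f ⊗ N) → ker (range f ⊗ N → Q ⊗ N) → 0` -/
noncomputable def uctSC : ShortComplex (ModuleCat.{u} A) :=
  ShortComplex.mk (X₁ := ModuleCat.of A ((LinearMap.ker f) ⊗[A] N))
    (X₂ := ModuleCat.of A (LinearMap.ker (f.rTensor N)))
    (X₃ := ModuleCat.of A (LinearMap.ker ((LinearMap.range f).subtype.rTensor N)))
    (ModuleCat.ofHom (uctA f N)) (ModuleCat.ofHom (uctB f N)) (by
    rw [← ModuleCat.ofHom_comp]
    have : uctB f N ∘ₗ uctA f N = 0 := LinearMap.ext (uct_exact f N).apply_apply_eq_zero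
    rw [this]
    rfl)

theorem uctSC_shortExact [Module.Flat A (LinearMap.range f)] : (uctSC f N).ShortExact :=
  ModuleCat.shortComplex_shortExact _ (uct_exact f N) (uctA_injective f N) (uctB_surjective f N)

end UCT

section Main

/-- `T(M) ≃ ker (f ⊗ M)` for a kernel model. -/
noncomputable def KerModel.equivKer {T : ModuleCat.{u} A ⥤ ModuleCat.{u} A} {W Q : Type u}
    [AddCommGroup W] [Module A W] [AddCommGroup Q] [Module A Q] {f : W →ₗ[A] Q}
    (m : KerModel T f) (M : ModuleCat.{u} A) : T.obj M ≃ₗ[A] LinearMap.ker (f.rTensor M) :=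
  (LinearEquiv.ofInjective _ (m.inj M)) ≪≫ₗ LinearEquiv.ofEq _ _ (m.exact M).linearMap_ker_eq.symm

variable {ι : Type} {c : ComplexShape ι} (P : HomologicalComplex (ModuleCat.{u} A) c)
  (hP : ∀ i, Module.Flat A (P.X i))
include hP

open Groth.Agent.S4499 in
theorem uct_of_dedekind [IsDedekindDomain A] (p q r : ι) (hpq : c.Rel p q) (hqr : c.Rel q r)
    (M : Type u) [AddCommGroup M] [Module A M] :
    ∃ S : ShortComplex (ModuleCat.{u} A), S.ShortExact ∧
      Nonempty (S.X₁ ≅ ModuleCat.of A (TensorProduct A (P.homology p) M)) ∧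
      Nonempty (S.X₂ ≅ CohIII.T P p (ModuleCat.of A M)) ∧
      Nonempty (S.X₃ ≅ ModuleCat.of A (DRing.Tor A 1 (P.homology q) M)) := by
  have := hP q
  have := hP r
  let f := (P.fromOpcycles p q).hom
  let fq := (P.fromOpcycles q r).hom
  have hflat : Module.Flat A (LinearMap.range f) := flat_submodule_of_dedekind _
  have hflatq : Module.Flat A (LinearMap.range fq) := flat_submodule_of_dedekind _
  refine ⟨uctSC f M, uctSC_shortExact f M, ?_, ?_, ?_⟩
  · exact ⟨(LinearEquiv.rTensor M (homologyEquivKer P p q (c.next_eq' hpq)).symm).toModuleIso⟩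
  · exact ⟨((kerModel P p q (c.next_eq' hpq)).equivKer (ModuleCat.of A M)).symm.toModuleIso⟩
  · -- Tor computation
    let S' : ModuleCat.{u} A := ModuleCat.of A M
    let Ta : ShortComplex (ModuleCat.{u} A) :=
      ShortComplex.mk (X₁ := ModuleCat.of A (LinearMap.range f))
        (ModuleCat.ofHom (LinearMap.range f).subtype) (P.pOpcycles q) (by
        ext x
        exact (KerModel.exact_range_subtype _
          (fromOpcycles_pOpcycles_exact P p q (c.prev_eq' hpq))).apply_apply_eq_zero x)
    have hTa : Ta.ShortExact := ModuleCat.shortComplex_shortExact Ta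
      (KerModel.exact_range_subtype _ (fromOpcycles_pOpcycles_exact P p q (c.prev_eq' hpq)))
      (Submodule.subtype_injective _) (pOpcycles_surjective P q)
    have hfa : Module.Flat A Ta.X₂ := hP q
    obtain ⟨e1⟩ := L1 S' Ta hTa
    have hexq : Function.Exact (P.homologyι q).hom fq := by
      let S1 : ShortComplex (ModuleCat.{u} A) :=
        ShortComplex.mk (P.homologyι q) (P.fromOpcycles q r) (P.homologyι_comp_fromOpcycles q r)
      have hS1 : S1.Exact :=
        ShortComplex.exact_of_f_is_kernel _ (P.homologyIsKernel q r (c.next_eq' hqr))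
      exact (ShortComplex.ShortExact.moduleCat_exact_iff_function_exact S1).mp hS1
    have hexq' : Function.Exact (P.homologyι q).hom fq.rangeRestrict := by
      intro x
      rw [← hexq x]
      constructor
      · intro h
        exact congrArg Subtype.val h
      · intro h
        exact Subtype.ext h
    let Tb : ShortComplex (ModuleCat.{u} A) :=
      ShortComplex.mk (X₃ := ModuleCat.of A (LinearMap.range fq))
        (P.homologyι q) (ModuleCat.ofHom fq.rangeRestrict) (by
        ext x
        exact congrArg Subtype.val (hexq'.apply_apply_eq_zero x))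
    have hTb : Tb.ShortExact := ModuleCat.shortComplex_shortExact Tb hexq'
      ((ModuleCat.mono_iff_injective _).mp inferInstance) (LinearMap.surjective_rangeRestrict _)
    have hfb : Module.Flat A Tb.X₃ := hflatq
    obtain ⟨e2⟩ := tor_one_iso_of_flat S' Tb hTb
    exact ⟨e1.symm.toModuleIso ≪≫ e2.symm⟩

end Main

end Groth.Agent.Lib.Helper75.FlatCx
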