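import Groth.Agent.Lib.Helper75.FlatCx23

set_option autoImplicit false
universe u

namespace Groth.Agent.Lib.Helper75.FlatCx

open CategoryTheory CategoryTheory.Limits MonoidalCategory TensorProduct

variable {A : Type u} [CommRing A]

section BcUCT

variable (B : Type u) [CommRing B] [Algebra A B]
  {W Q : Type u} [AddCommGroup W] [Module A W] [AddCommGroup Q] [Module A Q] (f : W →ₗ[A] Q)

theorem baseChange_eq_range_comp (x : B ⊗[A] W) :
    f.baseChange B x =
      (LinearMap.range f).subtype.baseChange B (f.rangeRestrict.baseChange B x) := by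
  rw [← LinearMap.comp_apply, ← LinearMap.baseChange_comp]
  rfl

/-- `B ⊗ ker f → ker (B ⊗ f)` -/
noncomputable def bcA : B ⊗[A] (LinearMap.ker f) →ₗ[B] LinearMap.ker (f.baseChange B) :=
  LinearMap.codRestrict _ ((LinearMap.ker f).subtype.baseChange B) (fun x => by
    rw [LinearMap.mem_ker, ← LinearMap.comp_apply, ← LinearMap.baseChange_comp]
    have : f ∘ₗ (LinearMap.ker f).subtype = 0 := by
      ext w
      exact w.2
    rw [this, LinearMap.baseChange_zero, LinearMap.zero_apply])

/-- `ker (B ⊗ f) → ker (B ⊗ range f → B ⊗ Q)` -/
noncomputable def bcB : LinearMap.ker (f.baseChange B) →ₗ[B]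
    LinearMap.ker ((LinearMap.range f).subtype.baseChange B) :=
  LinearMap.codRestrict _
    ((f.rangeRestrict.baseChange B) ∘ₗ (LinearMap.ker (f.baseChange B)).subtype)
    (fun x => by
      rw [LinearMap.mem_ker, LinearMap.comp_apply, ← baseChange_eq_range_comp]
      exact x.2)

theorem bcA_injective [Module.Flat A (LinearMap.range f)] : Function.Injective (bcA B f) := by
  intro x y hxy
  have h := congrArg Subtype.val hxy
  have hinj : Function.Injective ((LinearMap.ker f).subtype.lTensor B) :=
    LinearMap.lTensor_injective_of_exact_of_flat f.rangeRestrict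
      (LinearMap.surjective_rangeRestrict _) (LinearMap.ker f).subtype
      (Submodule.subtype_injective _) KerModel.exact_ker_rangeRestrict B
  exact hinj h

theorem bcB_surjective : Function.Surjective (bcB B f) := by
  rintro ⟨y, hy⟩
  obtain ⟨x, rfl⟩ := LinearMap.lTensor_surjective B f.surjective_rangeRestrict y
  have hx : f.baseChange B x = 0 := by
    rw [baseChange_eq_range_comp]
    exact hy
  exact ⟨⟨x, hx⟩, rfl⟩

theorem bc_exact : Function.Exact (bcA B f) (bcB B f) := by
  intro x
  constructor
  · intro hx
    have h1 : f.rangeRestrict.lTensor B x.1 = 0 := congrArg Subtype.val hx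
    obtain ⟨z, hz⟩ := (lTensor_exact B (KerModel.exact_ker_rangeRestrict (f := f))
      f.surjective_rangeRestrict _).mp h1
    exact ⟨z, Subtype.ext hz⟩
  · rintro ⟨z, rfl⟩
    apply Subtype.ext
    change f.rangeRestrict.lTensor B ((LinearMap.ker f).subtype.lTensor B z) = 0
    exact (lTensor_exact B (KerModel.exact_ker_rangeRestrict (f := f))
      f.surjective_rangeRestrict _).mpr ⟨z, rfl⟩

/-- for flat `B`, `B ⊗ ker f ≃ ker (B ⊗ f)`. -/
noncomputable def bcAEquivOfFlat [Module.Flat A B] [Module.Flat A (LinearMap.range f)] :
    B ⊗[A] (LinearMap.ker f) ≃ₗ[B] LinearMap.ker (f.baseChange B) :=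
  LinearEquiv.ofBijective (bcA B f) ⟨bcA_injective B f, by
    intro y
    have h0 : bcB B f y = 0 := by
      apply Subtype.ext
      have hinj : Function.Injective ((LinearMap.range f).subtype.lTensor B) :=
        Module.Flat.lTensor_preserves_injective_linearMap _ (Submodule.subtype_injective _)
      apply hinj
      rw [Submodule.coe_zero, map_zero]
      exact (bcB B f y).2
    exact (bc_exact B f y).mp h0⟩

end BcUCT

section FinrankAdd

variable (κ : Type u) [Field κ] [Algebra A κ]
  {W Q : Type u} [AddCommGroup W] [Module A W] [AddCommGroup Q] [Module A Q] (f : W →ₗ[A] Q)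

theorem finite_ker_baseChange [Module.Finite κ (κ ⊗[A] LinearMap.ker f)]
    [Module.Finite κ (LinearMap.ker ((LinearMap.range f).subtype.baseChange κ))] :
    Module.Finite κ (LinearMap.ker (f.baseChange κ)) := by
  have h := Module.Finite.of_exact (R := κ) (M := κ ⊗[A] LinearMap.ker f)
    (N := LinearMap.ker (f.baseChange κ))
    (P := LinearMap.ker ((LinearMap.range f).subtype.baseChange κ))
    (f := bcA κ f) (g := bcB κ f) (bc_exact κ f) (bcB_surjective κ f)
  exact h

theorem finrank_ker_baseChange_eq_add [Module.Flat A (LinearMap.range f)]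
    [Module.Finite κ (κ ⊗[A] LinearMap.ker f)]
    [Module.Finite κ (LinearMap.ker ((LinearMap.range f).subtype.baseChange κ))] :
    Module.finrank κ (LinearMap.ker (f.baseChange κ)) =
      Module.finrank κ (κ ⊗[A] LinearMap.ker f) +
        Module.finrank κ (LinearMap.ker ((LinearMap.range f).subtype.baseChange κ)) := by
  have := finite_ker_baseChange κ f
  have h1 : Module.finrank κ (LinearMap.range (bcB κ f)) +
      Module.finrank κ (LinearMap.ker (bcB κ f)) =
      Module.finrank κ (LinearMap.ker (f.baseChange κ)) := by
    have h := @LinearMap.finrank_range_add_finrank_ker κ (LinearMap.ker (f.baseChange κ)) _ _ _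
      (LinearMap.ker ((LinearMap.range f).subtype.baseChange κ)) _ _ _ (bcB κ f)
    exact h
  have h2 : Module.finrank κ (LinearMap.range (bcB κ f)) =
      Module.finrank κ (LinearMap.ker ((LinearMap.range f).subtype.baseChange κ)) := by
    rw [LinearMap.range_eq_top.mpr (bcB_surjective κ f), finrank_top]
  have h3 : Module.finrank κ (LinearMap.ker (bcB κ f)) =
      Module.finrank κ (κ ⊗[A] LinearMap.ker f) := by
    rw [(LinearMap.exact_iff.mp (bc_exact κ f))]
    exact LinearMap.finrank_range_of_inj (bcA_injective κ f)
  omega

end FinrankAdd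

section LocalDomain

theorem exists_one_tmul_eq {B : Type u} [CommRing B] [Algebra A B]
    (hB : Function.Surjective (algebraMap A B)) {M : Type u} [AddCommGroup M] [Module A M]
    (z : B ⊗[A] M) : ∃ m : M, z = (1 : B) ⊗ₜ[A] m := by
  induction z using TensorProduct.induction_on with
  | zero => exact ⟨0, by simp⟩
  | tmul b m =>
    obtain ⟨a, rfl⟩ := hB b
    refine ⟨a • m, ?_⟩
    rw [TensorProduct.tmul_smul, TensorProduct.smul_tmul', Algebra.smul_def, mul_one]
  | add x y hx hy =>
    obtain ⟨m, rfl⟩ := hx
    obtain ⟨n, rfl⟩ := hy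
    exact ⟨m + n, by rw [TensorProduct.tmul_add]⟩

variable [IsLocalRing A] (M : Type u) [AddCommGroup M] [Module A M] [Module.Finite A M]

/-- Nakayama: `M` is generated by `dim_k (k ⊗ M)` elements. -/
theorem exists_surjective_fin_of_local :
    ∃ d : ℕ, d = Module.finrank (IsLocalRing.ResidueField A)
      ((IsLocalRing.ResidueField A) ⊗[A] M) ∧
      ∃ g : (Fin d → A) →ₗ[A] M, Function.Surjective g := by
  refine ⟨_, rfl, ?_⟩
  let b := Module.finBasis (IsLocalRing.ResidueField A) ((IsLocalRing.ResidueField A) ⊗[A] M)
  have hsurj : Function.Surjective (algebraMap A (IsLocalRing.ResidueField A)) :=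
    Ideal.Quotient.mk_surjective
  choose m hm using fun i => exists_one_tmul_eq hsurj (b i)
  have hspan := IsLocalRing.span_eq_top_of_tmul_eq_basis m b (fun i => (hm i).symm)
  refine ⟨Fintype.linearCombination A m, ?_⟩
  rw [← LinearMap.range_eq_top, Fintype.range_linearCombination]
  exact hspan

variable [IsDomain A]

theorem finrank_fractionRing_le_finrank_residueField :
    Module.finrank (FractionRing A) ((FractionRing A) ⊗[A] M) ≤
      Module.finrank (IsLocalRing.ResidueField A) ((IsLocalRing.ResidueField A) ⊗[A] M) := by
  obtain ⟨d, hd, g, hg⟩ := exists_surjective_fin_of_local (A := A) M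
  have h1 : Function.Surjective (g.baseChange (FractionRing A)) := by
    rw [LinearMap.baseChange_eq_ltensor]
    exact LinearMap.lTensor_surjective _ hg
  have h2 := LinearMap.finrank_range_le (g.baseChange (FractionRing A))
  have h3 : Module.finrank (FractionRing A) ((FractionRing A) ⊗[A] (Fin d → A)) = d := by
    rw [Module.finrank_baseChange, Module.finrank_fin_fun]
  rw [LinearMap.range_eq_top.mpr h1, finrank_top, h3] at h2
  rw [← hd]
  exact h2

theorem free_of_finrank_fractionRing_eq
    (h : Module.finrank (FractionRing A) ((FractionRing A) ⊗[A] M) =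
      Module.finrank (IsLocalRing.ResidueField A) ((IsLocalRing.ResidueField A) ⊗[A] M)) :
    Module.Free A M := by
  obtain ⟨d, hd, g, hg⟩ := exists_surjective_fin_of_local (A := A) M
  have h1 : Function.Surjective (g.baseChange (FractionRing A)) := by
    rw [LinearMap.baseChange_eq_ltensor]
    exact LinearMap.lTensor_surjective _ hg
  have hdim : Module.finrank (FractionRing A) ((FractionRing A) ⊗[A] (Fin d → A)) =
      Module.finrank (FractionRing A) ((FractionRing A) ⊗[A] M) := by
    rw [Module.finrank_baseChange, Module.finrank_fin_fun, h, hd]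
  have h2 : Function.Injective (g.baseChange (FractionRing A)) :=
    (LinearMap.injective_iff_surjective_of_finrank_eq_finrank hdim).mpr h1
  have hinj0 : Function.Injective (TensorProduct.mk A (FractionRing A) (Fin d → A) 1) := by
    have h3 : Function.Injective
        ((Algebra.linearMap A (FractionRing A)).rTensor (Fin d → A)) :=
      Module.Flat.rTensor_preserves_injective_linearMap _
        (IsFractionRing.injective A (FractionRing A))
    intro x y hxy
    apply (TensorProduct.lid A (Fin d → A)).symm.injective
    apply h3
    simpa using hxy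
  have hginj : Function.Injective g := by
    rw [injective_iff_map_eq_zero]
    intro x hx
    apply hinj0
    apply h2
    rw [TensorProduct.mk_apply, LinearMap.baseChange_tmul, hx, map_zero, TensorProduct.tmul_zero,
      map_zero]
  exact Module.Free.of_equiv (LinearEquiv.ofBijective g ⟨hginj, hg⟩)

omit [Module.Finite A M] [IsDomain A] in
theorem finrank_fractionRing_eq_of_free [Module.Free A M] :
    Module.finrank (FractionRing A) ((FractionRing A) ⊗[A] M) =
      Module.finrank (IsLocalRing.ResidueField A) ((IsLocalRing.ResidueField A) ⊗[A] M) := by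
  rw [Module.finrank_baseChange, Module.finrank_baseChange]

end LocalDomain

section TorCriterion

open Groth.Agent.S8710 Groth.Agent.S4499

variable [IsNoetherianRing A] (H : Type u) [AddCommGroup H] [Module A H] [Module.Finite A H]

theorem exists_presentation_tor_one (S' : ModuleCat.{u} A) :
    ∃ (n : ℕ) (g : (Fin n → A) →ₗ[A] H), Function.Surjective g ∧
      Nonempty ((((Tor (ModuleCat.{u} A) 1).obj (ModuleCat.of A H)).obj S' : ModuleCat.{u} A) ≃ₗ[A]
        LinearMap.ker ((LinearMap.ker g).subtype.rTensor S')) := by
  obtain ⟨n, g, hg⟩ := Module.Finite.exists_fin' A H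
  refine ⟨n, g, hg, ?_⟩
  let T : ShortComplex (ModuleCat.{u} A) :=
    ShortComplex.mk (X₁ := ModuleCat.of A (LinearMap.ker g)) (X₂ := ModuleCat.of A (Fin n → A))
      (X₃ := ModuleCat.of A H)
      (ModuleCat.ofHom (LinearMap.ker g).subtype) (ModuleCat.ofHom g) (by
        ext x
        exact x.2)
  have hT : T.ShortExact := ModuleCat.shortComplex_shortExact T
    (LinearMap.exact_subtype_ker_map g) (Submodule.subtype_injective _) hg
  have hf : Module.Flat A T.X₂ := inferInstanceAs (Module.Flat A (Fin n → A))
  exact L1 S' T hT

theorem finite_tor_one (N : Type u) [AddCommGroup N] [Module A N] [Module.Finite A N] :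
    Module.Finite A (DRing.Tor A 1 H N) := by
  obtain ⟨n, g, hg, ⟨e⟩⟩ := exists_presentation_tor_one H (ModuleCat.of A N)
  have h1 : IsNoetherian A ((LinearMap.ker g) ⊗[A] N) := by
    have := isNoetherian_of_isNoetherianRing_of_finite A ((LinearMap.ker g) ⊗[A] N)
    exact this
  exact Module.Finite.equiv e.symm

theorem subsingleton_tor_one_residueField_iff [IsLocalRing A] :
    Subsingleton (DRing.Tor A 1 H (IsLocalRing.ResidueField A)) ↔ Module.Free A H := by
  constructor
  · intro hsub
    obtain ⟨n, g, hg, ⟨e⟩⟩ :=
      exists_presentation_tor_one H (ModuleCat.of A (IsLocalRing.ResidueField A))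
    have hsub' : Subsingleton (LinearMap.ker
        ((LinearMap.ker g).subtype.rTensor (IsLocalRing.ResidueField A))) :=
      e.symm.toEquiv.subsingleton
    have hinj : Function.Injective
        ((LinearMap.ker g).subtype.rTensor (IsLocalRing.ResidueField A)) := by
      rw [injective_iff_map_eq_zero]
      intro x hx
      have h0 : (⟨x, hx⟩ : LinearMap.ker
          ((LinearMap.ker g).subtype.rTensor (IsLocalRing.ResidueField A))) = 0 :=
        Subsingleton.elim _ _
      exact congrArg Subtype.val h0
    have hflat : Module.Flat A H :=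
      flat_of_rTensor_residueField_injective (LinearMap.ker g).subtype g
        (LinearMap.exact_subtype_ker_map g) hg hinj
    exact Module.free_of_flat_of_isLocalRing
  · intro hfree
    have : Module.Flat A (ModuleCat.of A H) := inferInstanceAs (Module.Flat A H)
    have h := tor_flat (ModuleCat.of A (IsLocalRing.ResidueField A)) (ModuleCat.of A H) 0
    exact (ModuleCat.isZero_iff_subsingleton.mp h)

end TorCriterion

end Groth.Agent.Lib.Helper75.FlatCx
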