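import Groth.Agent.Lib.Helper75.FlatCx24

set_option autoImplicit false
universe u

namespace Groth.Agent.Lib.Helper75.FlatCx

open CategoryTheory CategoryTheory.Limits MonoidalCategory TensorProduct

variable {A : Type u} [CommRing A]

theorem finrank_submodule_zero_iff {κ V : Type*} [Field κ] [AddCommGroup V] [Module κ V]
    (S : Submodule κ V) [Module.Finite κ S] : Module.finrank κ S = 0 ↔ Subsingleton S :=
  Module.finrank_zero_iff

section KerComm

variable (B : Type u) [CommRing B] [Algebra A B]
  {X Y : Type u} [AddCommGroup X] [Module A X] [AddCommGroup Y] [Module A Y] (g : X →ₗ[A] Y)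

/-- `ker (B ⊗ g)` (left form, a `B`-submodule) vs `ker (g ⊗ B)` (right form), `A`-linearly. -/
theorem nonempty_ker_baseChange_equiv_ker_rTensor :
    Nonempty (LinearMap.ker (g.baseChange B) ≃ₗ[A] LinearMap.ker (g.rTensor B)) := by
  obtain ⟨e⟩ := Groth.Agent.S4499.kerCongr (g.lTensor B) (g.rTensor B)
    (TensorProduct.comm A B X) (TensorProduct.comm A B Y) (fun x => by
      induction x using TensorProduct.induction_on with
      | zero => simp
      | tmul b x => simp
      | add x y hx hy => simp only [map_add, hx, hy])
  have e0 : LinearMap.ker (g.baseChange B) ≃ₗ[A] LinearMap.ker (g.lTensor B) :=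
    { toFun := fun x => ⟨x.1, by
        have := x.2
        rw [LinearMap.mem_ker] at this ⊢
        exact this⟩
      map_add' := fun x y => rfl
      map_smul' := fun a x => rfl
      invFun := fun x => ⟨x.1, by
        have := x.2
        rw [LinearMap.mem_ker] at this ⊢
        exact this⟩
      left_inv := fun x => rfl
      right_inv := fun x => rfl }
  exact ⟨e0.trans e⟩

end KerComm

section TorKer

variable {ι : Type} {c : ComplexShape ι} (P : HomologicalComplex (ModuleCat.{u} A) c)
  (hP : ∀ i, Module.Flat A (P.X i))
include hP

open Groth.Agent.S4499 in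
/-- over a Dedekind domain, `ker (B_q ⊗ M → P_q ⊗ M) ≃ Tor_1(H_q(P), M)`. -/
theorem nonempty_ker_range_rTensor_equiv_tor [IsDedekindDomain A] (p q r : ι) (hpq : c.Rel p q)
    (hqr : c.Rel q r) (M : Type u) [AddCommGroup M] [Module A M] :
    Nonempty (LinearMap.ker ((LinearMap.range (P.fromOpcycles p q).hom).subtype.rTensor M) ≃ₗ[A]
      DRing.Tor A 1 (P.homology q) M) := by
  have := hP q
  have := hP r
  let f := (P.fromOpcycles p q).hom
  let fq := (P.fromOpcycles q r).hom
  have hflatq : Module.Flat A (LinearMap.range fq) := flat_submodule_of_dedekind _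
  let S' : ModuleCat.{u} A := ModuleCat.of A M
  let Ta : ShortComplex (ModuleCat.{u} A) :=
    ShortComplex.mk (X₁ := ModuleCat.of A (LinearMap.range f))
      (ModuleCat.ofHom (LinearMap.range f).subtype) (P.pOpcycles q) (by
      ext x
      exact (KerModel.exact_range_subtype _
        (fromOpcycles_pOpcycles_exact P p q (c.prev_eq' hpq))).apply_apply_eq_zero x)
  have hTa : Ta.ShortExact := ModuleCat.shortComplex_shortExact Ta
    (KerModel.exact_range_subtype _ (fromOpcycles_pOpcycles_exact P p q (c.prev_eq' hpq)))
    (Submodule.subtype_injective _) (pOpcycles_surjective P q)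
  have hfa : Module.Flat A Ta.X₂ := hP q
  obtain ⟨e1⟩ := L1 S' Ta hTa
  have hexq : Function.Exact (P.homologyι q).hom fq := by
    let S1 : ShortComplex (ModuleCat.{u} A) :=
      ShortComplex.mk (P.homologyι q) (P.fromOpcycles q r) (P.homologyι_comp_fromOpcycles q r)
    have hS1 : S1.Exact :=
      ShortComplex.exact_of_f_is_kernel _ (P.homologyIsKernel q r (c.next_eq' hqr))
    exact (ShortComplex.ShortExact.moduleCat_exact_iff_function_exact S1).mp hS1
  have hexq' : Function.Exact (P.homologyι q).hom fq.rangeRestrict := by
    intro x
    rw [← hexq x]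
    constructor
    · intro h
      exact congrArg Subtype.val h
    · intro h
      exact Subtype.ext h
  let Tb : ShortComplex (ModuleCat.{u} A) :=
    ShortComplex.mk (X₃ := ModuleCat.of A (LinearMap.range fq))
      (P.homologyι q) (ModuleCat.ofHom fq.rangeRestrict) (by
      ext x
      exact congrArg Subtype.val (hexq'.apply_apply_eq_zero x))
  have hTb : Tb.ShortExact := ModuleCat.shortComplex_shortExact Tb hexq'
    ((ModuleCat.mono_iff_injective _).mp inferInstance) (LinearMap.surjective_rangeRestrict _)
  have hfb : Module.Flat A Tb.X₃ := hflatq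
  obtain ⟨e2⟩ := tor_one_iso_of_flat S' Tb hTb
  exact ⟨e1.symm.trans e2.symm.toLinearEquiv⟩

end TorKer

section DVR

variable [IsDomain A] [IsDiscreteValuationRing A]
  {ι : Type} {c : ComplexShape ι} (P : HomologicalComplex (ModuleCat.{u} A) c)
  (hP : ∀ i, Module.Flat A (P.X i)) (p q r : ι) (hpq : c.Rel p q) (hqr : c.Rel q r)
include hP hpq

theorem finrank_homology_bcCx_fractionRing :
    Module.finrank (FractionRing A)
        ((CohIII.bcCx (algebraMap A (FractionRing A)) P).homology p) =
      Module.finrank (FractionRing A) ((FractionRing A) ⊗[A] P.homology p) := by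
  have := hP q
  have hflat : Module.Flat A (LinearMap.range (P.fromOpcycles p q).hom) :=
    flat_submodule_of_dedekind _
  rw [(homologyBcEquiv (B := FractionRing A) P p q (c.next_eq' hpq)).finrank_eq,
    ← (bcAEquivOfFlat (FractionRing A) (P.fromOpcycles p q).hom).finrank_eq]
  exact ((homologyEquivKer P p q (c.next_eq' hpq)).baseChange A (FractionRing A) _ _).symm.finrank_eq

include hqr in
theorem finite_X3_residueField [Module.Finite A (P.homology q)] :
    Module.Finite (IsLocalRing.ResidueField A) (LinearMap.ker
      ((LinearMap.range (P.fromOpcycles p q).hom).subtype.baseChange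
        (IsLocalRing.ResidueField A))) := by
  obtain ⟨e1⟩ := nonempty_ker_baseChange_equiv_ker_rTensor (IsLocalRing.ResidueField A)
    (LinearMap.range (P.fromOpcycles p q).hom).subtype
  obtain ⟨e2⟩ := nonempty_ker_range_rTensor_equiv_tor P hP p q r hpq hqr
    (IsLocalRing.ResidueField A)
  have h1 : Module.Finite A (DRing.Tor A 1 (P.homology q) (IsLocalRing.ResidueField A)) :=
    finite_tor_one _ _
  have h2 : Module.Finite A (LinearMap.ker
      ((LinearMap.range (P.fromOpcycles p q).hom).subtype.baseChange
        (IsLocalRing.ResidueField A))) := Module.Finite.equiv (e1.trans e2).symm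
  exact Module.Finite.of_restrictScalars_finite A _ _

include hqr in
theorem finrank_X3_eq_zero_iff [Module.Finite A (P.homology q)] :
    Module.finrank (IsLocalRing.ResidueField A) (LinearMap.ker
      ((LinearMap.range (P.fromOpcycles p q).hom).subtype.baseChange
        (IsLocalRing.ResidueField A))) = 0 ↔ Module.Free A (P.homology q) := by
  have := finite_X3_residueField P hP p q r hpq hqr
  obtain ⟨e1⟩ := nonempty_ker_baseChange_equiv_ker_rTensor (IsLocalRing.ResidueField A)
    (LinearMap.range (P.fromOpcycles p q).hom).subtype
  obtain ⟨e2⟩ := nonempty_ker_range_rTensor_equiv_tor P hP p q r hpq hqr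
    (IsLocalRing.ResidueField A)
  have h0 : Module.finrank (IsLocalRing.ResidueField A) (LinearMap.ker
      ((LinearMap.range (P.fromOpcycles p q).hom).subtype.baseChange
        (IsLocalRing.ResidueField A))) = 0 ↔ Subsingleton (LinearMap.ker
      ((LinearMap.range (P.fromOpcycles p q).hom).subtype.baseChange
        (IsLocalRing.ResidueField A))) := finrank_submodule_zero_iff _
  rw [h0, ← subsingleton_tor_one_residueField_iff]
  exact (e1.trans e2).toEquiv.subsingleton_congr

theorem finrank_homology_bcCx_residueField [Module.Finite A (P.homology p)]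
    [Module.Finite (IsLocalRing.ResidueField A) (LinearMap.ker
      ((LinearMap.range (P.fromOpcycles p q).hom).subtype.baseChange
        (IsLocalRing.ResidueField A)))] :
    Module.finrank (IsLocalRing.ResidueField A)
        ((CohIII.bcCx (algebraMap A (IsLocalRing.ResidueField A)) P).homology p) =
      Module.finrank (IsLocalRing.ResidueField A)
          ((IsLocalRing.ResidueField A) ⊗[A] P.homology p) +
        Module.finrank (IsLocalRing.ResidueField A) (LinearMap.ker
          ((LinearMap.range (P.fromOpcycles p q).hom).subtype.baseChange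
            (IsLocalRing.ResidueField A))) := by
  have := hP q
  have hflat : Module.Flat A (LinearMap.range (P.fromOpcycles p q).hom) :=
    flat_submodule_of_dedekind _
  have hfin : Module.Finite A (LinearMap.ker (P.fromOpcycles p q).hom) :=
    Module.Finite.equiv (homologyEquivKer P p q (c.next_eq' hpq))
  rw [(homologyBcEquiv (B := IsLocalRing.ResidueField A) P p q (c.next_eq' hpq)).finrank_eq,
    finrank_ker_baseChange_eq_add (IsLocalRing.ResidueField A) (P.fromOpcycles p q).hom]
  congr 1
  exact ((homologyEquivKer P p q (c.next_eq' hpq)).baseChange A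
    (IsLocalRing.ResidueField A) _ _).symm.finrank_eq

include hqr in
theorem rank_inequalities_dvr [Module.Finite A (P.homology p)] [Module.Finite A (P.homology q)] :
    Module.finrank (FractionRing A)
        ((CohIII.bcCx (algebraMap A (FractionRing A)) P).homology p) ≤
        Module.finrank (IsLocalRing.ResidueField A)
          ((IsLocalRing.ResidueField A) ⊗[A] (P.homology p)) ∧
      Module.finrank (IsLocalRing.ResidueField A)
          ((IsLocalRing.ResidueField A) ⊗[A] (P.homology p)) ≤
        Module.finrank (IsLocalRing.ResidueField A)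
          ((CohIII.bcCx (algebraMap A (IsLocalRing.ResidueField A)) P).homology p) := by
  have := finite_X3_residueField P hP p q r hpq hqr
  rw [finrank_homology_bcCx_fractionRing P hP p q hpq,
    finrank_homology_bcCx_residueField P hP p q hpq]
  exact ⟨finrank_fractionRing_le_finrank_residueField _, Nat.le_add_right _ _⟩

include hqr in
theorem rank_ineq_dvr [Module.Finite A (P.homology p)] [Module.Finite A (P.homology q)] :
    Module.finrank (FractionRing A)
        ((CohIII.bcCx (algebraMap A (FractionRing A)) P).homology p) ≤
        Module.finrank (IsLocalRing.ResidueField A)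
          ((CohIII.bcCx (algebraMap A (IsLocalRing.ResidueField A)) P).homology p) ∧
      (Module.finrank (FractionRing A)
          ((CohIII.bcCx (algebraMap A (FractionRing A)) P).homology p) =
          Module.finrank (IsLocalRing.ResidueField A)
            ((CohIII.bcCx (algebraMap A (IsLocalRing.ResidueField A)) P).homology p) ↔
        Module.Free A (P.homology p) ∧ Module.Free A (P.homology q)) := by
  have := finite_X3_residueField P hP p q r hpq hqr
  have h3 := finrank_X3_eq_zero_iff P hP p q r hpq hqr
  rw [finrank_homology_bcCx_fractionRing P hP p q hpq,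
    finrank_homology_bcCx_residueField P hP p q hpq]
  have h1 := finrank_fractionRing_le_finrank_residueField (A := A) (P.homology p)
  refine ⟨h1.trans (Nat.le_add_right _ _), ?_⟩
  constructor
  · intro h
    have h4 : Module.finrank (FractionRing A) ((FractionRing A) ⊗[A] P.homology p) =
        Module.finrank (IsLocalRing.ResidueField A)
          ((IsLocalRing.ResidueField A) ⊗[A] (P.homology p)) := by omega
    refine ⟨free_of_finrank_fractionRing_eq _ h4, h3.mp (by omega)⟩
  · rintro ⟨hp, hq⟩
    rw [h3.mpr hq, finrank_fractionRing_eq_of_free (A := A) (P.homology p), add_zero]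

end DVR

end Groth.Agent.Lib.Helper75.FlatCx
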