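import Groth.Agent.Lib.Helper75.FlatCx25
import Mathlib.RingTheory.Spectrum.Prime.FreeLocus

set_option autoImplicit false
universe u

namespace Groth.Agent.Lib.Helper75.FlatCx

open CategoryTheory CategoryTheory.Limits MonoidalCategory TensorProduct

variable {A : Type u} [CommRing A]

/-- opcycles of a zero term vanish -/
theorem isZero_opcycles_of_isZero {ι : Type} {c : ComplexShape ι}
    (P : HomologicalComplex (ModuleCat.{u} A) c) (q : ι) (h : IsZero (P.X q)) :
    IsZero (P.opcycles q) := by
  rw [IsZero.iff_id_eq_zero, ← cancel_epi (P.pOpcycles q)]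
  exact h.eq_of_src _ _

section BoundedBelow

variable (P : ChainComplex (ModuleCat.{u} A) ℤ) (hP : ∀ i, Module.Flat A (P.X i))
include hP

/-- If `P` is bounded below with flat terms and `H_q(P)` is flat for `q ≤ N`, then the
`W_q = coker (P_{q+1} → P_q)` are flat for `q ≤ N`. -/
theorem flat_opcycles_of_flat_homology (i₀ : ℤ) (hb : ∀ i < i₀, IsZero (P.X i)) (N : ℤ)
    (hH : ∀ q ≤ N, Module.Flat A (P.homology q)) :
    ∀ q ≤ N, Module.Flat A (P.opcycles q) := by
  have key : ∀ n : ℕ, ∀ q : ℤ, q ≤ N → q < i₀ + n → Module.Flat A (P.opcycles q) := by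
    intro n
    induction n with
    | zero =>
      intro q _ hq
      have hz : IsZero (P.opcycles q) := isZero_opcycles_of_isZero P q (hb q (by simpa using hq))
      have : Subsingleton (P.opcycles q) := ModuleCat.isZero_iff_subsingleton.mp hz
      infer_instance
    | succ n ih =>
      intro q hqN hq
      have hW : Module.Flat A (P.opcycles (q - 1)) := ih (q - 1) (by omega) (by push_cast at hq; omega)
      have := hP (q - 1)
      have hrel : (ComplexShape.down ℤ).Rel q (q - 1) := by simp
      -- range of fromOpcycles is flat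
      have hB : Module.Flat A (LinearMap.range (P.fromOpcycles q (q - 1)).hom) :=
        KerModel.flat_range (P.pOpcycles (q - 1)).hom
          (fromOpcycles_pOpcycles_exact P q (q - 1) ((ComplexShape.down ℤ).prev_eq' hrel))
          (pOpcycles_surjective P (q - 1))
      have hHq := hH q hqN
      have hK : Module.Flat A (LinearMap.ker (P.fromOpcycles q (q - 1)).hom) :=
        Module.Flat.of_linearEquiv
          (homologyEquivKer P q (q - 1) ((ComplexShape.down ℤ).next_eq' hrel)).symm
      exact flat_of_ext (LinearMap.ker (P.fromOpcycles q (q - 1)).hom).subtype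
        (P.fromOpcycles q (q - 1)).hom.rangeRestrict (Submodule.subtype_injective _)
        KerModel.exact_ker_rangeRestrict (LinearMap.surjective_rangeRestrict _)
  intro q hq
  exact key (q - i₀ + 1).toNat q hq (by omega)

/-- bounded below, flat homology up to `N` ⟹ `T_p` exact for `p ≤ N` -/
theorem exact_of_flat_homology (i₀ : ℤ) (hb : ∀ i < i₀, IsZero (P.X i)) (N : ℤ)
    (hH : ∀ q ≤ N, Module.Flat A (P.homology q)) :
    ∀ p ≤ N, (CohIII.TFun P p).PreservesMonomorphisms ∧ (CohIII.TFun P p).PreservesEpimorphisms := by
  intro p hp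
  have hW := flat_opcycles_of_flat_homology P hP i₀ hb N hH
  have hrel : (ComplexShape.down ℤ).Rel p (p - 1) := by simp
  exact ⟨(preservesMono_iff_flat_opcycles P p hP (p - 1) hrel).mpr (hW p hp),
    (preservesEpi_iff_flat_opcycles P p hP (p - 1) hrel).mpr (hW (p - 1) (by omega))⟩

end BoundedBelow

section FlatAlg

variable (B : Type u) [CommRing B] [Algebra A B] [Module.Flat A B]
  {W Q : Type u} [AddCommGroup W] [Module A W] [AddCommGroup Q] [Module A Q] (f : W →ₗ[A] Q)

/-- for flat `B`, `B ⊗ ker f ≃ ker (B ⊗ f)` (no hypothesis on `f`). -/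
noncomputable def bcAEquivOfFlatAlg :
    B ⊗[A] (LinearMap.ker f) ≃ₗ[B] LinearMap.ker (f.baseChange B) :=
  LinearEquiv.ofBijective (bcA B f) ⟨by
    intro x y hxy
    have h := congrArg Subtype.val hxy
    have hinj : Function.Injective ((LinearMap.ker f).subtype.lTensor B) :=
      Module.Flat.lTensor_preserves_injective_linearMap _ (Submodule.subtype_injective _)
    exact hinj h, by
    intro y
    have h0 : bcB B f y = 0 := by
      apply Subtype.ext
      have hinj : Function.Injective ((LinearMap.range f).subtype.lTensor B) :=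
        Module.Flat.lTensor_preserves_injective_linearMap _ (Submodule.subtype_injective _)
      apply hinj
      rw [Submodule.coe_zero, map_zero]
      exact (bcB B f y).2
    exact (bc_exact B f y).mp h0⟩

variable {ι : Type} {c : ComplexShape ι} (P : HomologicalComplex (ModuleCat.{u} A) c) (p : ι)

/-- flat base change for homology -/
noncomputable def homologyBcEquivOfFlatAlg (j : ι) (hj : c.next p = j) :
    (CohIII.bcCx (algebraMap A B) P).homology p ≃ₗ[B] B ⊗[A] P.homology p :=
  (homologyBcEquiv (B := B) P p j hj) ≪≫ₗ (bcAEquivOfFlatAlg B (P.fromOpcycles p j).hom).symm ≪≫ₗ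
    ((homologyEquivKer P p j hj).baseChange A B _ _).symm

end FlatAlg

section TA

variable {ι : Type} {c : ComplexShape ι} (P : HomologicalComplex (ModuleCat.{u} A) c) (p : ι)

/-- `T_p(A) ≃ H_p(P)` -/
theorem nonempty_T_self_equiv_homology (j : ι) (hj : c.next p = j) :
    Nonempty (CohIII.T P p (ModuleCat.of A A) ≃ₗ[A] P.homology p) := by
  let f := (P.fromOpcycles p j).hom
  have e1 : CohIII.T P p (ModuleCat.of A A) ≃ₗ[A] LinearMap.ker (f.rTensor A) :=
    (kerModel P p j hj).equivKer (ModuleCat.of A A)
  obtain ⟨e2⟩ := Groth.Agent.S4499.kerCongr (f.rTensor A) f (TensorProduct.rid A _)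
    (TensorProduct.rid A _) (fun x => by
      induction x using TensorProduct.induction_on with
      | zero => simp
      | tmul w a => simp
      | add x y hx hy => simp only [map_add, hx, hy])
  exact ⟨e1.trans (e2.trans (homologyEquivKer P p j hj).symm)⟩

end TA

section Away

variable (P : ChainComplex (ModuleCat.{u} A) ℤ) (hP : ∀ i, Module.Flat A (P.X i))
include hP

/-- If `D(f)` lies in the free locus of `H_q(P)` for all `q ≤ N` (`P` bounded below, flat), then
over `A_f` the functors `T_p` are exact for `p ≤ N`. -/
theorem exact_bcCx_away_of_subset_freeLocus (i₀ : ℤ) (hb : ∀ i < i₀, IsZero (P.X i)) (N : ℤ)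
    (hfp : ∀ q ≤ N, Module.FinitePresentation A (P.homology q)) (f : A)
    (hf : ∀ q ≤ N, (PrimeSpectrum.basicOpen f : Set (PrimeSpectrum A)) ⊆
      Module.freeLocus A (P.homology q)) :
    ∀ p ≤ N,
      (CohIII.TFun (CohIII.bcCx (algebraMap A (Localization.Away f)) P) p).PreservesMonomorphisms ∧
      (CohIII.TFun (CohIII.bcCx (algebraMap A (Localization.Away f)) P) p).PreservesEpimorphisms := by
  apply exact_of_flat_homology (CohIII.bcCx (algebraMap A (Localization.Away f)) P)
    (flat_bcCx_X (B := Localization.Away f) P hP) i₀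
  · intro i hi
    exact (ModuleCat.extendScalars (algebraMap A (Localization.Away f))).map_isZero (hb i hi)
  · intro q hq
    have := hfp q hq
    have hproj : Module.Projective (Localization.Away f) (LocalizedModule.Away f (P.homology q)) :=
      Module.basicOpen_subset_freeLocus_iff.mp (hf q hq)
    have hflat : Module.Flat (Localization.Away f) (LocalizedModule.Away f (P.homology q)) :=
      Module.Flat.of_projective
    have hflat2 : Module.Flat (Localization.Away f) ((Localization.Away f) ⊗[A] (P.homology q)) :=
      Module.Flat.of_linearEquiv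
        (LocalizedModule.equivTensorProduct (Submonoid.powers f) (P.homology q)).symm
    exact Module.Flat.of_linearEquiv (homologyBcEquivOfFlatAlg (Localization.Away f) P q (q - 1)
      (by simp))

end Away

section Domain

theorem exists_ne_zero_basicOpen_subset_freeLocus [IsDomain A] (M : Type u) [AddCommGroup M]
    [Module A M] [Module.FinitePresentation A M] :
    ∃ r : A, r ≠ 0 ∧ (PrimeSpectrum.basicOpen r : Set (PrimeSpectrum A)) ⊆ Module.freeLocus A M := by
  obtain ⟨r, hr, hfree, -⟩ := Module.FinitePresentation.exists_free_localizedModule_powers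
    (nonZeroDivisors A) (LocalizedModule.mkLinearMap (nonZeroDivisors A) M) (FractionRing A)
  refine ⟨r, nonZeroDivisors.ne_zero hr, ?_⟩
  have : Module.Projective (Localization.Away r) (LocalizedModule.Away r M) :=
    Module.Projective.of_free
  exact Module.basicOpen_subset_freeLocus_iff.mpr this

theorem freeLocus_eq_univ_of_subsingleton (M : Type u) [AddCommGroup M] [Module A M]
    [Subsingleton M] : Module.freeLocus A M = Set.univ :=
  Module.freeLocus_eq_univ

variable [IsDomain A] (P : ChainComplex (ModuleCat.{u} A) ℤ)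

theorem exists_ne_zero_basicOpen_subset_freeLocus_homology (i₀ : ℤ)
    (hb : ∀ i < i₀, IsZero (P.X i)) (N : ℤ)
    (hfp : ∀ q, Module.FinitePresentation A (P.homology q)) :
    ∃ f : A, f ≠ 0 ∧ ∀ q ≤ N, (PrimeSpectrum.basicOpen f : Set (PrimeSpectrum A)) ⊆
      Module.freeLocus A (P.homology q) := by
  have key : ∀ n : ℕ, ∃ f : A, f ≠ 0 ∧ ∀ q : ℤ, q < i₀ + n →
      (PrimeSpectrum.basicOpen f : Set (PrimeSpectrum A)) ⊆ Module.freeLocus A (P.homology q) := by
    intro n
    induction n with
    | zero =>
      refine ⟨1, one_ne_zero, fun q hq => ?_⟩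
      have hz : IsZero (P.homology q) := by
        have h0 : IsZero (P.X q) := hb q (by simpa using hq)
        exact (HomologicalComplex.ExactAt.of_isZero h0).isZero_homology
      have : Subsingleton (P.homology q) := ModuleCat.isZero_iff_subsingleton.mp hz
      rw [freeLocus_eq_univ_of_subsingleton]
      exact Set.subset_univ _
    | succ n ih =>
      obtain ⟨f, hf0, hf⟩ := ih
      have := hfp (i₀ + n)
      obtain ⟨r, hr0, hr⟩ := exists_ne_zero_basicOpen_subset_freeLocus (A := A) (P.homology (i₀ + n))
      refine ⟨f * r, mul_ne_zero hf0 hr0, fun q hq => ?_⟩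
      rw [PrimeSpectrum.basicOpen_mul]
      by_cases hq' : q < i₀ + n
      · exact fun x hx => hf q hq' hx.1
      · have : q = i₀ + n := by push_cast at hq; omega
        subst this
        exact fun x hx => hr hx.2
  obtain ⟨f, hf0, hf⟩ := key (N - i₀ + 1).toNat
  exact ⟨f, hf0, fun q hq => hf q (by omega)⟩

end Domain

end Groth.Agent.Lib.Helper75.FlatCx
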