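import Groth.Agent.Lib.Helper75.FlatCx2

set_option autoImplicit false
universe u

namespace Groth.Agent.Lib.Helper75.FlatCx

open CategoryTheory CategoryTheory.Limits MonoidalCategory TensorProduct

variable {A : Type u} [CommRing A]

theorem tensorLeft_preservesMono_iff (N : ModuleCat.{u} A) :
    (tensorLeft N).PreservesMonomorphisms ↔ Module.Flat A N := by
  constructor
  · intro h
    rw [Module.Flat.iff_lTensor_preserves_injective_linearMap'.{u, u, u}]
    intro X Y _ _ _ _ j hj
    have hmono : Mono (ModuleCat.ofHom j) := (ModuleCat.mono_iff_injective _).mpr hj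
    exact (ModuleCat.mono_iff_injective _).mp (h.preserves (ModuleCat.ofHom j))
  · intro h
    constructor
    intro X Y g hg
    rw [ModuleCat.mono_iff_injective] at hg ⊢
    exact Module.Flat.lTensor_preserves_injective_linearMap _ hg

instance tensorLeft_preservesEpi (N : ModuleCat.{u} A) : (tensorLeft N).PreservesEpimorphisms := by
  constructor
  intro X Y g hg
  rw [ModuleCat.epi_iff_surjective] at hg ⊢
  exact LinearMap.lTensor_surjective _ hg

section

variable {ι : Type} {c : ComplexShape ι} (P : HomologicalComplex (ModuleCat.{u} A) c) (p : ι)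
  (hP : ∀ i, Module.Flat A (P.X i))
include hP

theorem preservesEpi_iff_iso_tensorLeft (j : ι) (h : c.Rel p j) :
    (CohIII.TFun P p).PreservesEpimorphisms ↔
      ∃ N : ModuleCat.{u} A, Nonempty (CohIII.TFun P p ≅ tensorLeft N) := by
  constructor
  · intro hT
    have := hP j
    have : Module.Flat A (P.opcycles j) := (preservesEpi_iff_flat_opcycles P p hP j h).mp hT
    exact ⟨_, ⟨((kerModel P p j (c.next_eq' h)).isoTensor (P.pOpcycles j).hom
      (fromOpcycles_pOpcycles_exact P p j (c.prev_eq' h)) (pOpcycles_surjective P j)).symm⟩⟩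
  · rintro ⟨N, ⟨e⟩⟩
    exact Functor.PreservesEpimorphisms.of_iso e.symm

theorem exact_iff_iso_tensorLeft_flat (j : ι) (h : c.Rel p j) :
    ((CohIII.TFun P p).PreservesMonomorphisms ∧ (CohIII.TFun P p).PreservesEpimorphisms) ↔
      ∃ N : ModuleCat.{u} A, Module.Flat A N ∧ Nonempty (CohIII.TFun P p ≅ tensorLeft N) := by
  constructor
  · rintro ⟨hm, he⟩
    have := hP j
    have : Module.Flat A (P.opcycles j) := (preservesEpi_iff_flat_opcycles P p hP j h).mp he
    let e := ((kerModel P p j (c.next_eq' h)).isoTensor (P.pOpcycles j).hom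
      (fromOpcycles_pOpcycles_exact P p j (c.prev_eq' h)) (pOpcycles_surjective P j))
    refine ⟨_, ?_, ⟨e.symm⟩⟩
    rw [← tensorLeft_preservesMono_iff]
    exact Functor.PreservesMonomorphisms.of_iso e.symm
  · rintro ⟨N, hN, ⟨e⟩⟩
    have := (tensorLeft_preservesMono_iff N).mpr hN
    exact ⟨Functor.PreservesMonomorphisms.of_iso e.symm, Functor.PreservesEpimorphisms.of_iso e.symm⟩

end

end Groth.Agent.Lib.Helper75.FlatCx
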