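import Groth.Agent.Lib.Helper75.FlatCx3

set_option autoImplicit false
universe u

namespace Groth.Agent.Lib.Helper75.FlatCx

open CategoryTheory CategoryTheory.Limits MonoidalCategory TensorProduct

variable {A : Type u} [CommRing A]

namespace KerModel

variable {T : ModuleCat.{u} A ⥤ ModuleCat.{u} A} {W Q : Type u} [AddCommGroup W]
    [Module A W] [AddCommGroup Q] [Module A Q] {f : W →ₗ[A] Q} (m : KerModel T f)
include m

theorem map_add {M N : ModuleCat.{u} A} (g g' : M ⟶ N) : T.map (g + g') = T.map g + T.map g' := by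
  ext x
  apply m.inj
  rw [m.nat, ModuleCat.hom_add, ModuleCat.hom_add, LinearMap.lTensor_add, LinearMap.add_apply,
    LinearMap.add_apply, _root_.map_add, m.nat, m.nat]

theorem map_smul {M N : ModuleCat.{u} A} (a : A) (g : M ⟶ N) : T.map (a • g) = a • T.map g := by
  ext x
  apply m.inj
  rw [m.nat, ModuleCat.hom_smul, ModuleCat.hom_smul, LinearMap.lTensor_smul, LinearMap.smul_apply,
    LinearMap.smul_apply, _root_.map_smul, m.nat]

theorem additive : T.Additive := ⟨fun {_ _ g g'} => m.map_add g g'⟩

end KerModel

section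

variable {ι : Type} {c : ComplexShape ι} (P : HomologicalComplex (ModuleCat.{u} A) c) (p : ι)

instance TFun_additive : (CohIII.TFun P p).Additive :=
  (kerModel P p (c.next p) rfl).additive

instance TFun_linear : (CohIII.TFun P p).Linear A :=
  ⟨fun g a => (kerModel P p (c.next p) rfl).map_smul a g⟩

theorem TFun_map_smul_id_apply (M : ModuleCat.{u} A) (a : A) (y : CohIII.T P p M) :
    ((CohIII.TFun P p).map (a • 𝟙 M)).hom y = a • y := by
  rw [Functor.map_smul, CategoryTheory.Functor.map_id]
  rfl

end

end Groth.Agent.Lib.Helper75.FlatCx
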