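import Groth.Agent.Lib.Helper75.FlatCx4

set_option autoImplicit false
universe u

namespace Groth.Agent.Lib.Helper75.FlatCx

open CategoryTheory CategoryTheory.Limits MonoidalCategory TensorProduct

variable {A : Type u} [CommRing A]

theorem flat_obj_unit_iff_of_iso {T : ModuleCat.{u} A ⥤ ModuleCat.{u} A} {N : ModuleCat.{u} A}
    (e : T ≅ tensorLeft N) : Module.Flat A (T.obj (ModuleCat.of A A)) ↔ Module.Flat A N := by
  let e1 : T.obj (ModuleCat.of A A) ≅ N := e.app (ModuleCat.of A A) ≪≫ ρ_ N
  exact Module.Flat.equiv_iff e1.toLinearEquiv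

section

variable {ι : Type} {c : ComplexShape ι} (P : HomologicalComplex (ModuleCat.{u} A) c) (p : ι)
  (hP : ∀ i, Module.Flat A (P.X i))
include hP

theorem flat_of_exact (j : ι) (h : c.Rel p j) (hm : (CohIII.TFun P p).PreservesMonomorphisms)
    (he : (CohIII.TFun P p).PreservesEpimorphisms) :
    Module.Flat A ((CohIII.TFun P p).obj (ModuleCat.of A A)) := by
  obtain ⟨N, hN, ⟨e⟩⟩ := (exact_iff_iso_tensorLeft_flat P p hP j h).mp ⟨hm, he⟩
  exact (flat_obj_unit_iff_of_iso e).mpr hN

theorem preservesMono_of_preservesEpi_of_flat (j : ι) (h : c.Rel p j)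
    (he : (CohIII.TFun P p).PreservesEpimorphisms)
    (hflat : Module.Flat A ((CohIII.TFun P p).obj (ModuleCat.of A A))) :
    (CohIII.TFun P p).PreservesMonomorphisms := by
  obtain ⟨N, ⟨e⟩⟩ := (preservesEpi_iff_iso_tensorLeft P p hP j h).mp he
  have hN : Module.Flat A N := (flat_obj_unit_iff_of_iso e).mp hflat
  have := (tensorLeft_preservesMono_iff N).mpr hN
  exact Functor.PreservesMonomorphisms.of_iso e.symm

end

section Zero

variable {ι : Type} {c : ComplexShape ι} (P : HomologicalComplex (ModuleCat.{u} A) c) (p : ι)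

theorem isZero_T_of_isZero (h : IsZero (P.X p)) (M : ModuleCat.{u} A) :
    IsZero ((CohIII.TFun P p).obj M) := by
  have h1 : IsZero ((CohIII.tensorObj P M).X p) := by
    change IsZero ((tensorRight M).obj (P.X p))
    exact Functor.map_isZero _ h
  exact ShortComplex.isZero_homology_of_isZero_X₂ _ h1

theorem preserves_of_isZero {T : ModuleCat.{u} A ⥤ ModuleCat.{u} A} (h : ∀ M, IsZero (T.obj M)) :
    T.PreservesMonomorphisms ∧ T.PreservesEpimorphisms := by
  constructor
  · constructor
    intro X Y f _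
    exact ⟨fun g g' _ => (h X).eq_of_tgt _ _⟩
  · constructor
    intro X Y f _
    exact ⟨fun g g' _ => (h Y).eq_of_src _ _⟩

end Zero

end Groth.Agent.Lib.Helper75.FlatCx
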