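import Groth.Agent.Lib.Helper75.FlatCx5
import Mathlib.RingTheory.LocalRing.Module

set_option autoImplicit false
universe u

namespace Groth.Agent.Lib.Helper75.FlatCx

open CategoryTheory CategoryTheory.Limits MonoidalCategory TensorProduct

variable {A : Type u} [CommRing A]

namespace KerModel

variable {T : ModuleCat.{u} A ⥤ ModuleCat.{u} A} {W Q : Type u} [AddCommGroup W]
    [Module A W] [AddCommGroup Q] [Module A Q] {f : W →ₗ[A] Q} (m : KerModel T f)
include m

theorem map_surjective_iff {K : Type u} [AddCommGroup K] [Module A K] (π : A →ₗ[A] K)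
    (hπ : Function.Surjective π) :
    Function.Surjective (T.map (ModuleCat.ofHom π)).hom ↔
      Function.Injective ((LinearMap.range f).subtype.rTensor K) := by
  have hf : ∀ (M : Type u) [AddCommGroup M] [Module A M] (x : W ⊗[A] M),
      f.rTensor M x = (LinearMap.range f).subtype.rTensor M (f.rangeRestrict.rTensor M x) := by
    intro M _ _ x
    rw [← LinearMap.comp_apply, ← LinearMap.rTensor_comp]
    rfl
  constructor
  · intro hs
    rw [injective_iff_map_eq_zero]
    intro y hy
    obtain ⟨x, rfl⟩ := LinearMap.rTensor_surjective K f.surjective_rangeRestrict y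
    rw [← hf] at hy
    obtain ⟨t, ht⟩ := (m.exact (ModuleCat.of A K) x).mp hy
    obtain ⟨s, rfl⟩ := hs t
    have hnat := m.nat (ModuleCat.ofHom π) s
    rw [ModuleCat.hom_ofHom] at hnat
    rw [← ht, hnat, sq]
    have h0 : f.rTensor A (m.ι (ModuleCat.of A A) s) = 0 :=
      (m.exact (ModuleCat.of A A) _).mpr ⟨s, rfl⟩
    rw [hf] at h0
    have hinj : Function.Injective ((LinearMap.range f).subtype.rTensor A) :=
      Module.Flat.rTensor_preserves_injective_linearMap _ (Submodule.subtype_injective _)
    have h1 : f.rangeRestrict.rTensor A (m.ι (ModuleCat.of A A) s) = 0 := by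
      apply hinj
      rw [h0, map_zero]
    rw [h1, map_zero]
  · intro hinj t
    have h0 : f.rTensor K (m.ι (ModuleCat.of A K) t) = 0 :=
      (m.exact (ModuleCat.of A K) _).mpr ⟨t, rfl⟩
    rw [hf] at h0
    have h1 : f.rangeRestrict.rTensor K (m.ι (ModuleCat.of A K) t) = 0 := by
      apply hinj
      rw [h0, map_zero]
    obtain ⟨z, hz⟩ := (rTensor_exact K (exact_ker_rangeRestrict (f := f))
      f.surjective_rangeRestrict _).mp h1
    obtain ⟨z', rfl⟩ := LinearMap.lTensor_surjective (LinearMap.ker f) hπ z
    have h2 : f.rTensor A ((LinearMap.ker f).subtype.rTensor A z') = 0 := by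
      rw [← LinearMap.comp_apply, ← LinearMap.rTensor_comp]
      have : f ∘ₗ (LinearMap.ker f).subtype = 0 := by
        ext w
        exact w.2
      rw [this, LinearMap.rTensor_zero, LinearMap.zero_apply]
    obtain ⟨s, hs⟩ := (m.exact (ModuleCat.of A A) _).mp h2
    refine ⟨s, ?_⟩
    apply m.inj
    have hnat := m.nat (ModuleCat.ofHom π) s
    rw [ModuleCat.hom_ofHom] at hnat
    rw [hnat, hs, ← sq, hz]

end KerModel

theorem flat_of_rTensor_residueField_injective [IsLocalRing A] {B' Q V : Type u}
    [AddCommGroup B'] [Module A B'] [AddCommGroup Q] [Module A Q] [AddCommGroup V] [Module A V]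
    [Module.Finite A B'] [Module.Finite A Q] [Module.Flat A Q]
    (i : B' →ₗ[A] Q) (v : Q →ₗ[A] V) (hex : Function.Exact i v) (hv : Function.Surjective v)
    (h : Function.Injective (i.rTensor (IsLocalRing.ResidueField A))) : Module.Flat A V := by
  have : Module.Free A Q := Module.free_of_flat_of_isLocalRing
  have : Module.Free A V := Module.free_of_lTensor_residueField_injective i v hv hex
    ((LinearMap.lTensor_inj_iff_rTensor_inj _ _).mpr h)
  infer_instance

section Local

variable {ι : Type} {c : ComplexShape ι} (P : HomologicalComplex (ModuleCat.{u} A) c) (p : ι)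

instance finite_opcycles [Module.Finite A (P.X p)] : Module.Finite A (P.opcycles p) :=
  Module.Finite.of_surjective (P.pOpcycles p).hom (pOpcycles_surjective P p)

variable [IsLocalRing A] (hP : ∀ i, Module.Finite A (P.X i) ∧ Module.Flat A (P.X i))
include hP

theorem preservesEpi_iff_surjective_residueField (j : ι) (h : c.Rel p j) :
    (CohIII.TFun P p).PreservesEpimorphisms ↔
      Function.Surjective ((CohIII.TFun P p).map
        (ModuleCat.ofHom (Algebra.linearMap A (IsLocalRing.ResidueField A)))).hom := by
  have hsurj : Function.Surjective (Algebra.linearMap A (IsLocalRing.ResidueField A)) :=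
    Ideal.Quotient.mk_surjective
  constructor
  · intro hT
    have hepi : Epi (ModuleCat.ofHom (Algebra.linearMap A (IsLocalRing.ResidueField A))) :=
      (ModuleCat.epi_iff_surjective _).mpr hsurj
    exact (ModuleCat.epi_iff_surjective _).mp (hT.preserves _)
  · intro hs
    have := (hP p).1
    have := (hP j).1
    have := (hP j).2
    rw [preservesEpi_iff_flat_opcycles P p (fun i => (hP i).2) j h]
    have hinj := ((kerModel P p j (c.next_eq' h)).map_surjective_iff _ hsurj).mp hs
    exact flat_of_rTensor_residueField_injective _ (P.pOpcycles j).hom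
      (KerModel.exact_range_subtype _ (fromOpcycles_pOpcycles_exact P p j (c.prev_eq' h)))
      (pOpcycles_surjective P j) hinj

end Local

end Groth.Agent.Lib.Helper75.FlatCx
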