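import Groth.Agent.Lib.Helper75.FlatCx6

set_option autoImplicit false
universe u

namespace Groth.Agent.Lib.Helper75.FlatCx

open CategoryTheory CategoryTheory.Limits MonoidalCategory TensorProduct

variable {A : Type u} [CommRing A]

section

variable {ι : Type} {c : ComplexShape ι} (P : HomologicalComplex (ModuleCat.{u} A) c) (p : ι)

theorem finite_T [IsNoetherianRing A] [Module.Finite A (P.X p)] (M : ModuleCat.{u} A)
    [Module.Finite A M] : Module.Finite A (CohIII.T P p M) := by
  have h1 : Module.Finite A (P.opcycles p ⊗[A] M) := inferInstance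
  have h2 : IsNoetherian A (P.opcycles p ⊗[A] M) := isNoetherian_of_isNoetherianRing_of_finite A _
  exact Module.Finite.of_injective (N := P.opcycles p ⊗[A] M) (ιT P p M).hom
    ((ModuleCat.mono_iff_injective _).mp inferInstance)

theorem isZero_of_iso_tensorLeft {T : ModuleCat.{u} A ⥤ ModuleCat.{u} A} {N : ModuleCat.{u} A}
    (e : T ≅ tensorLeft N) (hN : Subsingleton N) (M : ModuleCat.{u} A) : IsZero (T.obj M) := by
  have h1 : Subsingleton (N ⊗[A] M) := inferInstance
  have h2 : IsZero ((tensorLeft N).obj M) :=
    @ModuleCat.isZero_of_subsingleton A _ ((tensorLeft N).obj M) h1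
  exact h2.of_iso (e.app M)

variable [IsLocalRing A] [IsNoetherianRing A]
  (hP : ∀ i, Module.Finite A (P.X i) ∧ Module.Flat A (P.X i))
include hP

theorem isZero_of_isZero_residueField (j : ι) (h : c.Rel p j)
    (hk : IsZero ((CohIII.TFun P p).obj (ModuleCat.of A (IsLocalRing.ResidueField A))))
    (M : ModuleCat.{u} A) : IsZero ((CohIII.TFun P p).obj M) := by
  have hsub := ModuleCat.subsingleton_of_isZero hk
  have hs : Function.Surjective ((CohIII.TFun P p).map
        (ModuleCat.ofHom (Algebra.linearMap A (IsLocalRing.ResidueField A)))).hom :=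
    fun y => ⟨0, Subsingleton.elim _ _⟩
  have he := (preservesEpi_iff_surjective_residueField P p hP j h).mpr hs
  obtain ⟨N, ⟨e⟩⟩ := (preservesEpi_iff_iso_tensorLeft P p (fun i => (hP i).2) j h).mp he
  apply isZero_of_iso_tensorLeft e _ M
  have := (hP p).1
  have hfin : Module.Finite A (CohIII.T P p (ModuleCat.of A A)) := finite_T P p _
  let e1 : (CohIII.TFun P p).obj (ModuleCat.of A A) ≅ N := e.app (ModuleCat.of A A) ≪≫ ρ_ N
  have hNfin : Module.Finite A N := @Module.Finite.equiv A _ _ _ _ _ _ _ hfin e1.toLinearEquiv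
  rw [← IsLocalRing.subsingleton_tensorProduct (R := A)]
  have e2 : (CohIII.TFun P p).obj (ModuleCat.of A (IsLocalRing.ResidueField A)) ≅
      N ⊗ ModuleCat.of A (IsLocalRing.ResidueField A) := e.app _
  have h3 : Subsingleton (N ⊗[A] IsLocalRing.ResidueField A) :=
    e2.toLinearEquiv.symm.toEquiv.subsingleton
  exact (TensorProduct.comm A _ _).toEquiv.subsingleton

theorem free_of_exact (j : ι) (h : c.Rel p j) (hm : (CohIII.TFun P p).PreservesMonomorphisms)
    (he : (CohIII.TFun P p).PreservesEpimorphisms) :
    Module.Free A ((CohIII.TFun P p).obj (ModuleCat.of A A)) := by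
  have := flat_of_exact P p (fun i => (hP i).2) j h hm he
  have := (hP p).1
  have hfin : Module.Finite A ((CohIII.TFun P p).obj (ModuleCat.of A A)) := finite_T P p _
  exact Module.free_of_flat_of_isLocalRing

end

end Groth.Agent.Lib.Helper75.FlatCx
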