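import Mathlib.Algebra.Category.ModuleCat.ChangeOfRings
import Mathlib.LinearAlgebra.TensorProduct.Tower
import Mathlib.RingTheory.Flat.Stability
import Mathlib.RingTheory.TensorProduct.IsBaseChangeHom

set_option autoImplicit false
set_option backward.isDefEq.respectTransparency false
universe u

namespace Groth.Agent.Lib.Helper75.FlatCx

open CategoryTheory TensorProduct

variable {A B : Type u} [CommRing A] [CommRing B] [Algebra A B]

/-- `B` with the restricted `A`-module structure is `B` with its algebra module structure. -/
noncomputable def resEquiv :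
    ↑((ModuleCat.restrictScalars (algebraMap A B)).obj (ModuleCat.of B B)) ≃ₗ[A] B where
  toFun x := x
  invFun x := x
  map_add' _ _ := rfl
  map_smul' a x := (Algebra.smul_def a (show B from x)).symm
  left_inv _ := rfl
  right_inv _ := rfl

/-- the underlying additive equivalence -/
noncomputable def extAddEquiv (M : ModuleCat.{u} A) :
    ↑((ModuleCat.extendScalars (algebraMap A B)).obj M) ≃+ B ⊗[A] M :=
  (TensorProduct.congr (resEquiv (A := A) (B := B)) (LinearEquiv.refl A M)).toAddEquiv

theorem extAddEquiv_tmul (M : ModuleCat.{u} A) (b : B) (m : M) :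
    extAddEquiv (B := B) M (b ⊗ₜ[A] m : ↑((ModuleCat.extendScalars (algebraMap A B)).obj M)) =
      b ⊗ₜ m := rfl

/-- The carrier of `extendScalars` is the usual base change. -/
noncomputable def extEquiv (M : ModuleCat.{u} A) :
    ↑((ModuleCat.extendScalars (algebraMap A B)).obj M) ≃ₗ[B] B ⊗[A] M where
  __ := extAddEquiv M
  map_smul' b x := by
    change extAddEquiv M (b • x) = b • extAddEquiv M x
    induction x using TensorProduct.induction_on with
    | zero => rw [smul_zero, map_zero, smul_zero]
    | tmul b' m =>
      rw [ModuleCat.ExtendScalars.smul_tmul, extAddEquiv_tmul, extAddEquiv_tmul,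
        TensorProduct.smul_tmul', smul_eq_mul]
    | add x y hx hy =>
      rw [smul_add, map_add, map_add, hx, hy, smul_add]

theorem extEquiv_tmul (M : ModuleCat.{u} A) (b : B) (m : M) :
    extEquiv (B := B) M (b ⊗ₜ[A] m : ↑((ModuleCat.extendScalars (algebraMap A B)).obj M)) =
      b ⊗ₜ m := rfl

theorem extEquiv_naturality {M N : ModuleCat.{u} A} (g : M ⟶ N)
    (x : ↑((ModuleCat.extendScalars (algebraMap A B)).obj M)) :
    extEquiv (B := B) N (((ModuleCat.extendScalars (algebraMap A B)).map g).hom x) =
      (g.hom.baseChange B) (extEquiv (B := B) M x) := by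
  induction x using TensorProduct.induction_on with
  | zero => rw [map_zero, map_zero, map_zero, map_zero]
  | tmul b m => rfl
  | add x y hx hy => rw [map_add, map_add, hx, hy, map_add, map_add]

end Groth.Agent.Lib.Helper75.FlatCx
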