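import Groth.Agent.Lib.Helper75.FlatCx7
import Groth.Agent.Lib.Helper75.FlatCx8
import Mathlib.RingTheory.Flat.FaithfullyFlat.Basic

set_option autoImplicit false
universe u

namespace Groth.Agent.Lib.Helper75.FlatCx

open CategoryTheory CategoryTheory.Limits MonoidalCategory TensorProduct

variable {A B : Type u} [CommRing A] [CommRing B] [Algebra A B]

theorem flat_extendScalars (M : ModuleCat.{u} A) [Module.Flat A M] :
    Module.Flat B ((ModuleCat.extendScalars (algebraMap A B)).obj M) :=
  Module.Flat.of_linearEquiv (extEquiv (B := B) M)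

theorem flat_extendScalars_iff [Module.FaithfullyFlat A B] (M : ModuleCat.{u} A) :
    Module.Flat B ((ModuleCat.extendScalars (algebraMap A B)).obj M) ↔ Module.Flat A M := by
  rw [Module.Flat.equiv_iff (extEquiv (B := B) M)]
  exact Module.Flat.iff_flat_tensorProduct A M B

variable {ι : Type} {c : ComplexShape ι} (P : HomologicalComplex (ModuleCat.{u} A) c) (p : ι)

/-- opcycles of the base-changed complex -/
noncomputable def opcyclesBcIso :
    (CohIII.bcCx (algebraMap A B) P).opcycles p ≅
      (ModuleCat.extendScalars (algebraMap A B)).obj (P.opcycles p) :=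
  opcyclesMapIso (ModuleCat.extendScalars (algebraMap A B)) P p

theorem flat_bcCx_X (hP : ∀ i, Module.Flat A (P.X i)) (i : ι) :
    Module.Flat B ((CohIII.bcCx (algebraMap A B) P).X i) :=
  haveI := hP i
  flat_extendScalars (B := B) (P.X i)

theorem flat_opcycles_bcCx [Module.Flat A (P.opcycles p)] :
    Module.Flat B ((CohIII.bcCx (algebraMap A B) P).opcycles p) :=
  haveI := flat_extendScalars (B := B) (P.opcycles p)
  Module.Flat.of_linearEquiv (opcyclesBcIso (B := B) P p).toLinearEquiv

theorem flat_opcycles_bcCx_iff [Module.FaithfullyFlat A B] :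
    Module.Flat B ((CohIII.bcCx (algebraMap A B) P).opcycles p) ↔ Module.Flat A (P.opcycles p) := by
  rw [Module.Flat.equiv_iff (opcyclesBcIso (B := B) P p).toLinearEquiv]
  exact flat_extendScalars_iff _

end Groth.Agent.Lib.Helper75.FlatCx
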