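import Mathlib
import Groth.Prelude.Def_FrameBundle
import Groth.Agent.Lib.Helper84.SekFlat

/-!
# `GL_n` is smooth (and surjective) over any base (helper75, M3 for lead's S20007)
-/

set_option autoImplicit false
universe u
open CategoryTheory CategoryTheory.Limits AlgebraicGeometry

namespace Groth.Agent.Lib.Helper75.GLnSmooth

open CoordGrp MvPolynomial

noncomputable section

section Alg

variable (n : ℕ) (k : Type u) [CommRing k]

/-- the determinant as a plain polynomial -/
def detP : MvPolynomial (GLPoly.Idx n) k := GLb.det n k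

/-- the relation as a plain polynomial -/
def relP : MvPolynomial (GLPoly.Idx n) k := GLb.rel n k

theorem detP_eq_rename : detP n k =
    MvPolynomial.rename (Sum.inl : Fin n × Fin n → GLPoly.Idx n)
      (Matrix.mvPolynomialX (Fin n) (Fin n) k).det := by
  rw [AlgHom.map_det]
  unfold detP GLb.det
  congr 1
  ext i j
  change (X (Sum.inl (i, j)) : MvPolynomial (GLPoly.Idx n) k) =
    rename Sum.inl (Matrix.mvPolynomialX (Fin n) (Fin n) k i j)
  rw [Matrix.mvPolynomialX_apply, rename_X]

theorem pderiv_detP : pderiv (Sum.inr () : GLPoly.Idx n) (detP n k) = 0 := by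
  apply pderiv_eq_zero_of_notMem_vars
  rw [detP_eq_rename]
  intro h
  have h2 := MvPolynomial.vars_rename (Sum.inl : Fin n × Fin n → GLPoly.Idx n)
    (Matrix.mvPolynomialX (Fin n) (Fin n) k).det h
  obtain ⟨a, -, ha⟩ := Finset.mem_image.mp h2
  exact Sum.inl_ne_inr ha

theorem relP_eq : relP n k = detP n k * X (Sum.inr ()) - 1 := rfl

theorem pderiv_relP : pderiv (Sum.inr () : GLPoly.Idx n) (relP n k) = detP n k := by
  rw [relP_eq, map_sub, Derivation.leibniz, pderiv_detP, pderiv_X_self, smul_zero, add_zero,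
    smul_eq_mul, mul_one]
  have : (1 : MvPolynomial (GLPoly.Idx n) k) = C 1 := by simp
  rw [this, pderiv_C, sub_zero]

/-- the naive presentation -/
def pre : Algebra.PreSubmersivePresentation k
    (MvPolynomial (GLPoly.Idx n) k ⧸ Ideal.span (Set.range fun _ : Unit => relP n k))
    (GLPoly.Idx n) Unit :=
  Algebra.PreSubmersivePresentation.naive (v := fun _ : Unit => relP n k)
    (fun _ => Sum.inr ()) (fun _ _ _ => Subsingleton.elim _ _)

theorem jacobian_pre : (pre n k).jacobian =
    Ideal.Quotient.mk (Ideal.span (Set.range fun _ : Unit => relP n k)) (detP n k) := by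
  rw [Algebra.PreSubmersivePresentation.jacobian_eq_jacobiMatrix_det, Matrix.det_unique]
  unfold pre
  rw [Algebra.PreSubmersivePresentation.jacobiMatrix_naive, pderiv_relP]
  rfl

theorem isUnit_jacobian : IsUnit (pre n k).jacobian := by
  rw [jacobian_pre]
  refine IsUnit.of_mul_eq_one (Ideal.Quotient.mk _ (X (Sum.inr ()))) ?_
  rw [← map_mul, ← sub_eq_zero, ← map_one (Ideal.Quotient.mk _), ← map_sub,
    Ideal.Quotient.eq_zero_iff_mem]
  exact Ideal.subset_span ⟨(), rfl⟩

/-- the submersive presentation -/
def sub : Algebra.SubmersivePresentation k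
    (MvPolynomial (GLPoly.Idx n) k ⧸ Ideal.span (Set.range fun _ : Unit => relP n k))
    (GLPoly.Idx n) Unit where
  __ := pre n k
  jacobian_isUnit := isUnit_jacobian n k

theorem smooth_quot : Algebra.Smooth k
    (MvPolynomial (GLPoly.Idx n) k ⧸ Ideal.span (Set.range fun _ : Unit => relP n k)) := by
  have : Algebra.IsStandardSmooth k
      (MvPolynomial (GLPoly.Idx n) k ⧸ Ideal.span (Set.range fun _ : Unit => relP n k)) :=
    (sub n k).isStandardSmooth
  infer_instance

theorem smooth_GLnRing : Algebra.Smooth k (CoordGrp.GLn n k) := by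
  have h := smooth_quot n k
  have e : Ideal.span (Set.range fun _ : Unit => relP n k) =
      (GLb.relIdeal n k : Ideal (MvPolynomial (GLPoly.Idx n) k)) := by
    rw [Set.range_const]
    rfl
  have h' : Algebra.Smooth k
      (MvPolynomial (GLPoly.Idx n) k ⧸
        (GLb.relIdeal n k : Ideal (MvPolynomial (GLPoly.Idx n) k))) := by
    rw [← e]; exact h
  exact h'

end Alg

section Geom

instance smooth_GLZ (n : ℕ) : Smooth (FrB.GLZ.{u} n).hom := by
  change Smooth (Spec.map (CommRingCat.ofHom
    (algebraMap (ULift.{u} ℤ) (CoordGrp.GLn n (ULift.{u} ℤ)))))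
  rw [HasRingHomProperty.Spec_iff (P := @Smooth)]
  exact RingHom.smooth_algebraMap.mpr (smooth_GLnRing n (ULift.{u} ℤ))

/-- **M3**: `GL_{n,S} → S` is smooth. -/
instance smooth_GLn (n : ℕ) (S : Scheme.{u}) : Smooth (FrB.GLn n S).hom := by
  change Smooth (pullback.snd (FrB.GLZ.{u} n).hom (IsTerminal.from specULiftZIsTerminal S))
  infer_instance

/-- `GL_{n,S} → S` is surjective (unit section). -/
theorem surjective_GLn (n : ℕ) (S : Scheme.{u}) : Surjective (FrB.GLn n S).hom :=
  Groth.Agent.Lib.Helper84.SekFlat.surjective_of_monObj (FrB.GLn n S)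

/-- `GL_{n,S} → S` is flat. -/
instance flat_GLn (n : ℕ) (S : Scheme.{u}) : Flat (FrB.GLn n S).hom := by
  have := smooth_GLn n S
  infer_instance

/-- `GL_{n,S} → S` is locally of finite presentation. -/
instance lfp_GLn (n : ℕ) (S : Scheme.{u}) : LocallyOfFinitePresentation (FrB.GLn n S).hom := by
  have := smooth_GLn n S
  infer_instance

end Geom

end

end Groth.Agent.Lib.Helper75.GLnSmooth
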