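import Mathlib.RingTheory.GradedAlgebra.FiniteType
import Mathlib.RingTheory.GradedAlgebra.Noetherian
import Mathlib.RingTheory.GradedAlgebra.Homogeneous.Ideal
import Mathlib.RingTheory.GradedAlgebra.HomogeneousLocalization
import Mathlib.RingTheory.Polynomial.Basic

set_option autoImplicit false

namespace Groth.Agent.Lib.Helper75

open DirectSum

theorem finiteType_of_isNoetherianRing {R A : Type*} [CommRing R] [CommRing A] [Algebra R A]
    (𝒜 : ℕ → Submodule R A) [GradedAlgebra 𝒜] [IsNoetherianRing A] :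
    Algebra.FiniteType (𝒜 0) A := by
  classical
  have hfg : (HomogeneousIdeal.irrelevant 𝒜).toIdeal.FG := IsNoetherian.noetherian _
  rw [HomogeneousIdeal.irrelevant_eq_span] at hfg
  obtain ⟨s, hsT, hspan⟩ := (Submodule.fg_span_iff_fg_span_finset_subset _).mp hfg
  have hdeg : ∀ x ∈ s, ∃ d : ℕ, 0 < d ∧ x ∈ 𝒜 d := by
    intro x hx
    obtain ⟨d, hd, hxd⟩ := Set.mem_iUnion₂.mp (hsT hx)
    exact ⟨d, hd, hxd⟩
  choose! d hdpos hdmem using hdeg
  refine ⟨⟨s, ?_⟩⟩
  rw [eq_top_iff]
  have key : ∀ n : ℕ, ∀ a ∈ 𝒜 n, a ∈ Algebra.adjoin (𝒜 0) (s : Set A) := by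
    intro n
    induction n using Nat.strong_induction_on with
    | _ n ih =>
      intro a ha
      rcases Nat.eq_zero_or_pos n with rfl | hn
      · exact Subalgebra.algebraMap_mem _ (⟨a, ha⟩ : 𝒜 0)
      · have ha' : a ∈ Ideal.span (s : Set A) := by
          have : a ∈ Ideal.span (⋃ i > 0, (𝒜 i : Set A)) :=
            Ideal.subset_span (Set.mem_iUnion₂.mpr ⟨n, hn, ha⟩)
          rw [Ideal.span, hspan] at this
          exact this
        obtain ⟨f, -, hf⟩ := (Submodule.mem_span_finset).mp ha'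
        have h1 : a = ∑ x ∈ s, ((decompose 𝒜 (f x * x) n : 𝒜 n) : A) := by
          have h2 : (decompose 𝒜 a n : A) = a := decompose_of_mem_same 𝒜 ha
          rw [← h2, ← hf]
          simp only [smul_eq_mul, ← GradedRing.proj_apply, map_sum]
        rw [h1]
        refine Subalgebra.sum_mem _ (fun x hx => ?_)
        rw [coe_decompose_mul_of_right_mem 𝒜 n (hdmem x hx)]
        split_ifs with hle
        · refine Subalgebra.mul_mem _ ?_ (Algebra.subset_adjoin hx)
          exact ih (n - d x) (by have := hdpos x hx; omega) _ (SetLike.coe_mem _)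
        · exact Subalgebra.zero_mem _
  intro a _
  rw [← DirectSum.sum_support_decompose 𝒜 a]
  exact Subalgebra.sum_mem _ (fun i _ => key i _ (SetLike.coe_mem _))

theorem isNoetherianRing_of_finiteType_gradeZero {R A : Type*} [CommRing R] [CommRing A] [Algebra R A]
    (𝒜 : ℕ → Submodule R A) [GradedAlgebra 𝒜] [IsNoetherianRing (𝒜 0)]
    [Algebra.FiniteType (𝒜 0) A] : IsNoetherianRing A :=
  Algebra.FiniteType.isNoetherianRing (𝒜 0) A

end Groth.Agent.Lib.Helper75
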