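import Groth.Agent.Lib.Helper75.SqLift4
import Mathlib

/- helper75: spreading out a Hilbert-Burch presentation from a localization to a basic open. -/

set_option autoImplicit false
universe u

namespace Groth.Agent.Lib.Helper75.HBSpread
open Groth.Agent.Lib.Helper75.SqLift

section General
variable {A : Type*} [CommRing A] (M : Submonoid A)

theorem exists_smul_mem_of_fg {P : Type*} [AddCommGroup P] [Module A P] (N₁ N₂ : Submodule A P)
    (hfg : N₁.FG) (h : ∀ v ∈ N₁, ∃ g ∈ M, g • v ∈ N₂) : ∃ g ∈ M, ∀ v ∈ N₁, g • v ∈ N₂ := by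
  classical
  obtain ⟨s, rfl⟩ := hfg
  induction s using Finset.induction_on with
  | empty =>
    refine ⟨1, M.one_mem, fun v hv => ?_⟩
    simp only [Finset.coe_empty, Submodule.span_empty, Submodule.mem_bot] at hv
    simp [hv]
  | insert a s _ ih =>
    obtain ⟨g₁, hg₁, h₁⟩ := ih (fun v hv => h v (Submodule.span_mono (by simp) hv))
    obtain ⟨g₂, hg₂, h₂⟩ := h a (Submodule.subset_span (by simp))
    refine ⟨g₁ * g₂, M.mul_mem hg₁ hg₂, fun v hv => ?_⟩
    rw [Finset.coe_insert, Submodule.mem_span_insert] at hv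
    obtain ⟨c, w, hw, rfl⟩ := hv
    rw [smul_add]
    apply N₂.add_mem
    · have : (g₁ * g₂) • c • a = (c * g₁) • (g₂ • a) := by simp only [smul_smul]; ring_nf
      rw [this]; exact N₂.smul_mem _ h₂
    · have : (g₁ * g₂) • w = g₂ • (g₁ • w) := by simp only [smul_smul]; ring_nf
      rw [this]; exact N₂.smul_mem _ (h₁ w hw)

variable {L : Type*} [CommRing L] [Algebra A L] [IsLocalization M L]

theorem exists_smul_eq_zero {ι : Type*} [Finite ι] (v : ι → A)
    (h : ∀ i, algebraMap A L (v i) = 0) : ∃ g ∈ M, g • v = 0 := by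
  classical
  cases nonempty_fintype ι
  have h' : ∀ i, ∃ m : M, (m : A) * v i = 0 := fun i => (IsLocalization.map_eq_zero_iff M L _).mp (h i)
  choose m hm using h'
  refine ⟨∏ i, (m i : A), M.prod_mem (fun i _ => (m i).2), ?_⟩
  funext i
  simp only [Pi.smul_apply, smul_eq_mul, Pi.zero_apply]
  rw [← Finset.mul_prod_erase Finset.univ _ (Finset.mem_univ i), mul_assoc, mul_comm _ (v i), ← mul_assoc, hm, zero_mul]

theorem exists_mul_mem_of_mem_map (J : Ideal A) (a : A)
    (h : algebraMap A L a ∈ J.map (algebraMap A L)) : ∃ g ∈ M, g * a ∈ J := by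
  rw [IsLocalization.mem_map_algebraMap_iff M L] at h
  obtain ⟨⟨b, m⟩, hbm⟩ := h
  simp only at hbm
  rw [← map_mul, IsLocalization.eq_iff_exists M L] at hbm
  obtain ⟨c, hc⟩ := hbm
  refine ⟨c * m, M.mul_mem c.2 m.2, ?_⟩
  have : (c : A) * m * a = c * b := by rw [← hc]; ring
  rw [this]
  exact J.mul_mem_left _ b.2

theorem exists_integer_vec {ι : Type*} [Finite ι] (w : ι → L) :
    ∃ (s : A) (_ : s ∈ M) (w₀ : ι → A), ∀ i, algebraMap A L s * w i = algebraMap A L (w₀ i) := by
  obtain ⟨b, hb⟩ := IsLocalization.exist_integer_multiples_of_finite M w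
  choose w₀ hw₀ using hb
  refine ⟨b, b.2, w₀, fun i => ?_⟩
  rw [hw₀ i, Algebra.smul_def]

end General

section Spread
variable {A : Type*} [CommRing A] (M : Submonoid A)
  {L : Type*} [CommRing L] [Algebra A L] [IsLocalization M L]
  (I : Ideal A) {r : ℕ} (φ₀ : Matrix (Fin (r + 1)) (Fin r) A)

theorem span_minor_map {B : Type*} [CommRing B] (f : A →+* B) :
    Ideal.span (Set.range (minor (φ₀.map f))) = (Ideal.span (Set.range (minor φ₀))).map f := by
  rw [Ideal.map_span, ← Set.range_comp]
  congr 2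
  funext i
  exact minor_map f φ₀ i

theorem map_mulVec_comp {B : Type*} [CommRing B] (f : A →+* B) {m n : Type*} [Fintype n]
    (ψ : Matrix m n A) (v : n → A) :
    (ψ.map f).mulVec (f ∘ v) = f ∘ (ψ.mulVec v) := by
  funext i
  exact (RingHom.map_mulVec f ψ v i).symm

theorem map_linearCombination {B : Type*} [CommRing B] (f : A →+* B) {n : Type*} [Fintype n]
    (c : n → A) (v : n → A) :
    Fintype.linearCombination B (f ∘ c) (f ∘ v) = f (Fintype.linearCombination A c v) := by
  simp [Fintype.linearCombination_apply, map_sum]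

/-- the four "good" properties of an element `g` -/
def Good (g : A) : Prop :=
  (∀ a ∈ I, g * a ∈ Ideal.span (Set.range (minor φ₀))) ∧
  (∀ a ∈ Ideal.span (Set.range (minor φ₀)), g * a ∈ I) ∧
  (∀ v ∈ LinearMap.ker φ₀.mulVecLin, g • v = 0) ∧
  (∀ v ∈ LinearMap.ker (Fintype.linearCombination A (minor φ₀)), g • v ∈ LinearMap.range φ₀.mulVecLin)

variable [IsNoetherianRing A]

theorem exists_good
    (hI : Ideal.span (Set.range (minor (φ₀.map (algebraMap A L)))) = I.map (algebraMap A L))
    (hinj : Function.Injective (φ₀.map (algebraMap A L)).mulVecLin)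
    (hex : LinearMap.range (φ₀.map (algebraMap A L)).mulVecLin =
      LinearMap.ker (Fintype.linearCombination L (minor (φ₀.map (algebraMap A L))))) :
    ∃ g ∈ M, Good I φ₀ g := by
  rw [span_minor_map] at hI
  -- (1)
  obtain ⟨g₁, hg₁M, hg₁⟩ := exists_smul_mem_of_fg M I (Ideal.span (Set.range (minor φ₀)))
    (IsNoetherian.noetherian I) (fun a ha => by
      have : algebraMap A L a ∈ (Ideal.span (Set.range (minor φ₀))).map (algebraMap A L) := by
        rw [hI]; exact Ideal.mem_map_of_mem _ ha
      exact exists_mul_mem_of_mem_map M _ a this)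
  obtain ⟨g₂, hg₂M, hg₂⟩ := exists_smul_mem_of_fg M (Ideal.span (Set.range (minor φ₀))) I
    (IsNoetherian.noetherian _) (fun a ha => by
      have : algebraMap A L a ∈ I.map (algebraMap A L) := by
        rw [← hI]; exact Ideal.mem_map_of_mem _ ha
      exact exists_mul_mem_of_mem_map M _ a this)
  -- (2)
  obtain ⟨g₃, hg₃M, hg₃⟩ := exists_smul_mem_of_fg M (LinearMap.ker φ₀.mulVecLin) ⊥
    (IsNoetherian.noetherian _) (fun v hv => by
      have h1 : (φ₀.map (algebraMap A L)).mulVecLin ((algebraMap A L) ∘ v) = 0 := by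
        rw [Matrix.mulVecLin_apply, map_mulVec_comp]
        have : φ₀.mulVec v = 0 := hv
        rw [this]; funext i; simp
      have h2 : (algebraMap A L) ∘ v = 0 := hinj (by rw [h1, map_zero])
      obtain ⟨g, hg, hgv⟩ := exists_smul_eq_zero M (L := L) v (fun i => congrFun h2 i)
      exact ⟨g, hg, by rw [Submodule.mem_bot]; exact hgv⟩)
  -- (3)
  obtain ⟨g₄, hg₄M, hg₄⟩ := exists_smul_mem_of_fg M
    (LinearMap.ker (Fintype.linearCombination A (minor φ₀))) (LinearMap.range φ₀.mulVecLin)
    (IsNoetherian.noetherian _) (fun v hv => by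
      have h1 : (algebraMap A L) ∘ v ∈
          LinearMap.ker (Fintype.linearCombination L (minor (φ₀.map (algebraMap A L)))) := by
        rw [LinearMap.mem_ker]
        have : minor (φ₀.map (algebraMap A L)) = (algebraMap A L) ∘ (minor φ₀) := by
          funext i; exact minor_map _ φ₀ i
        rw [this, map_linearCombination]
        have : Fintype.linearCombination A (minor φ₀) v = 0 := hv
        rw [this, map_zero]
      rw [← hex] at h1
      obtain ⟨w, hw⟩ := h1
      obtain ⟨s, hs, w₀, hw₀⟩ := exists_integer_vec M w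
      have h2 : (algebraMap A L) ∘ (φ₀.mulVec w₀ - s • v) = 0 := by
        have e1 : (algebraMap A L) ∘ w₀ = algebraMap A L s • w := by
          funext i; simp [hw₀ i]
        have : (algebraMap A L) ∘ (φ₀.mulVec w₀) = algebraMap A L s • ((algebraMap A L) ∘ v) := by
          rw [← map_mulVec_comp, e1, Matrix.mulVec_smul, ← hw]; rfl
        funext i
        have := congrFun this i
        simp only [Function.comp_apply, Pi.smul_apply, smul_eq_mul] at this
        simp [this]
      obtain ⟨g, hg, hgv⟩ := exists_smul_eq_zero M (L := L) _ (fun i => congrFun h2 i)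
      refine ⟨g * s, M.mul_mem hg hs, ⟨g • w₀, ?_⟩⟩
      rw [Matrix.mulVecLin_apply, Matrix.mulVec_smul, mul_smul]
      rw [smul_sub, sub_eq_zero] at hgv
      exact hgv)
  refine ⟨g₁ * g₂ * g₃ * g₄, M.mul_mem (M.mul_mem (M.mul_mem hg₁M hg₂M) hg₃M) hg₄M, ?_, ?_, ?_, ?_⟩
  · intro a ha
    have : g₁ * g₂ * g₃ * g₄ * a = (g₂ * g₃ * g₄) * (g₁ • a) := by simp only [smul_eq_mul]; ring
    rw [this]; exact Ideal.mul_mem_left _ _ (hg₁ a ha)
  · intro a ha
    have : g₁ * g₂ * g₃ * g₄ * a = (g₁ * g₃ * g₄) * (g₂ • a) := by simp only [smul_eq_mul]; ring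
    rw [this]; exact Ideal.mul_mem_left _ _ (hg₂ a ha)
  · intro v hv
    have h := hg₃ v hv
    rw [Submodule.mem_bot] at h
    have : (g₁ * g₂ * g₃ * g₄) • v = (g₁ * g₂ * g₄) • (g₃ • v) := by simp only [smul_smul]; ring_nf
    rw [this, h, smul_zero]
  · intro v hv
    have : (g₁ * g₂ * g₃ * g₄) • v = (g₁ * g₂ * g₃) • (g₄ • v) := by simp only [smul_smul]
    rw [this]; exact Submodule.smul_mem _ _ (hg₄ v hv)

omit [IsNoetherianRing A] in
theorem of_good (g : A) (hg : Good I φ₀ g) (A' : Type*) [CommRing A'] [Algebra A A']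
    [IsLocalization.Away g A'] :
    Ideal.span (Set.range (minor (φ₀.map (algebraMap A A')))) = I.map (algebraMap A A') ∧
    Function.Injective (φ₀.map (algebraMap A A')).mulVecLin ∧
    LinearMap.range (φ₀.map (algebraMap A A')).mulVecLin =
      LinearMap.ker (Fintype.linearCombination A' (minor (φ₀.map (algebraMap A A')))) := by
  obtain ⟨h1, h2, h3, h4⟩ := hg
  have hu : IsUnit (algebraMap A A' g) := IsLocalization.Away.algebraMap_isUnit g
  have hpow : ∀ c ∈ Submonoid.powers g, IsUnit (algebraMap A A' c) := by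
    rintro _ ⟨n, rfl⟩
    rw [map_pow]; exact hu.pow n
  have hminor : minor (φ₀.map (algebraMap A A')) = (algebraMap A A') ∘ (minor φ₀) := by
    funext i; exact minor_map _ φ₀ i
  refine ⟨?_, ?_, ?_⟩
  · rw [span_minor_map]
    apply le_antisymm
    · rw [Ideal.map_le_iff_le_comap]
      intro a ha
      rw [Ideal.mem_comap]
      have : algebraMap A A' (g * a) ∈ I.map (algebraMap A A') := Ideal.mem_map_of_mem _ (h2 a ha)
      rw [map_mul] at this
      exact (Ideal.unit_mul_mem_iff_mem _ hu).mp this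
    · rw [Ideal.map_le_iff_le_comap]
      intro a ha
      rw [Ideal.mem_comap]
      have : algebraMap A A' (g * a) ∈ (Ideal.span (Set.range (minor φ₀))).map (algebraMap A A') :=
        Ideal.mem_map_of_mem _ (h1 a ha)
      rw [map_mul] at this
      exact (Ideal.unit_mul_mem_iff_mem _ hu).mp this
  · rw [← LinearMap.ker_eq_bot, LinearMap.ker_eq_bot']
    intro w' hw'
    obtain ⟨s, hs, w₀, hw₀⟩ := exists_integer_vec (L := A') (Submonoid.powers g) w'
    have e1 : (algebraMap A A') ∘ w₀ = algebraMap A A' s • w' := by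
      funext i; simp [hw₀ i]
    have e2 : (algebraMap A A') ∘ (φ₀.mulVec w₀) = 0 := by
      rw [← map_mulVec_comp, e1, Matrix.mulVec_smul]
      have : (φ₀.map (algebraMap A A')).mulVec w' = 0 := hw'
      rw [this, smul_zero]
    obtain ⟨c, hc, hcv⟩ := exists_smul_eq_zero (Submonoid.powers g) (L := A') _ (fun i => congrFun e2 i)
    have e3 : c • w₀ ∈ LinearMap.ker φ₀.mulVecLin := by
      rw [LinearMap.mem_ker, Matrix.mulVecLin_apply, Matrix.mulVec_smul]; exact hcv
    have e4 := h3 _ e3
    have e5 : (algebraMap A A' g * algebraMap A A' c * algebraMap A A' s) • w' = 0 := by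
      rw [mul_smul, ← e1]
      funext i
      have := congrFun e4 i
      simp only [Pi.smul_apply, smul_eq_mul, Pi.zero_apply] at this
      simp only [Pi.smul_apply, Function.comp_apply, smul_eq_mul, Pi.zero_apply]
      rw [mul_assoc, ← map_mul, ← map_mul, this, map_zero]
    have hunit : IsUnit (algebraMap A A' g * algebraMap A A' c * algebraMap A A' s) :=
      (hu.mul (hpow c hc)).mul (hpow s hs)
    exact (hunit.smul_eq_zero).mp e5
  · apply le_antisymm
    · rintro _ ⟨x, rfl⟩
      exact linearCombination_minor_mulVec _ x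
    · intro v' hv'
      obtain ⟨s, hs, v₀, hv₀⟩ := exists_integer_vec (L := A') (Submonoid.powers g) v'
      have e1 : (algebraMap A A') ∘ v₀ = algebraMap A A' s • v' := by
        funext i; simp [hv₀ i]
      have e2 : algebraMap A A' (Fintype.linearCombination A (minor φ₀) v₀) = 0 := by
        rw [← map_linearCombination, ← hminor, e1, map_smul]
        have : Fintype.linearCombination A' (minor (φ₀.map (algebraMap A A'))) v' = 0 := hv'
        rw [this, smul_zero]
      obtain ⟨c, hc⟩ := (IsLocalization.map_eq_zero_iff (Submonoid.powers g) A' _).mp e2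
      have e3 : (c : A) • v₀ ∈ LinearMap.ker (Fintype.linearCombination A (minor φ₀)) := by
        rw [LinearMap.mem_ker, map_smul, smul_eq_mul]; exact hc
      obtain ⟨w₀, hw₀⟩ := h4 _ e3
      have hunit : IsUnit (algebraMap A A' g * algebraMap A A' c * algebraMap A A' s) :=
        (hu.mul (hpow c c.2)).mul (hpow s hs)
      obtain ⟨u, hu'⟩ := hunit
      refine ⟨(↑u⁻¹ : A') • ((algebraMap A A') ∘ w₀), ?_⟩
      rw [Matrix.mulVecLin_apply, Matrix.mulVec_smul, map_mulVec_comp]
      have e4 : φ₀.mulVec w₀ = g • (c : A) • v₀ := hw₀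
      rw [e4]
      have e5 : (algebraMap A A') ∘ (g • (c : A) • v₀) =
          (algebraMap A A' g * algebraMap A A' c) • ((algebraMap A A') ∘ v₀) := by
        funext i; simp [mul_assoc]
      rw [e5, e1, smul_smul, smul_smul, mul_assoc (↑u⁻¹ : A'), ← hu', Units.inv_mul, one_smul]

end Spread

end Groth.Agent.Lib.Helper75.HBSpread
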