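import Groth.Agent.Lib.Helper75.HBSpread1
import Mathlib

/- helper75: germs of finitely many stalk elements on a common affine open; kernel of the stalk map of a closed immersion. -/

set_option autoImplicit false
universe u

namespace Groth.Agent.Lib.Helper75.HBSpread
open AlgebraicGeometry CategoryTheory TopologicalSpace

section Sch
variable {X Y : Scheme.{u}}

theorem exists_common_germ (x : X) {ι : Type*} (s : Finset ι) (t : ι → X.presheaf.stalk x) :
    ∃ (W : X.Opens) (hx : x ∈ W) (a : ι → Γ(X, W)), ∀ i ∈ s, X.presheaf.germ W x hx (a i) = t i := by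
  classical
  induction s using Finset.induction_on with
  | empty => exact ⟨⊤, trivial, fun _ => 0, by simp⟩
  | insert j s hj ih =>
    obtain ⟨W, hx, a, ha⟩ := ih
    obtain ⟨V, hxV, b, hb⟩ := X.presheaf.exists_germ_eq (t j)
    refine ⟨W ⊓ V, ⟨hx, hxV⟩, fun i => if i = j then X.presheaf.map (homOfLE inf_le_right).op b
      else X.presheaf.map (homOfLE inf_le_left).op (a i), ?_⟩
    intro i hi
    by_cases hij : i = j
    · subst hij
      simp only [if_true]
      rw [TopCat.Presheaf.germ_res_apply]; exact hb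
    · simp only [hij, if_false]
      rw [TopCat.Presheaf.germ_res_apply]
      exact ha i (by simpa [hij] using hi)

theorem exists_affine_germ (x : X) {ι : Type*} [Finite ι] (t : ι → X.presheaf.stalk x) :
    ∃ (U : X.Opens) (_ : IsAffineOpen U) (hx : x ∈ U) (a : ι → Γ(X, U)),
      ∀ i, X.presheaf.germ U x hx (a i) = t i := by
  classical
  cases nonempty_fintype ι
  obtain ⟨W, hx, a, ha⟩ := exists_common_germ x Finset.univ t
  obtain ⟨_, ⟨U, hU, rfl⟩, hxU, hUW⟩ :=
    X.isBasis_affineOpens.exists_subset_of_mem_open hx W.isOpen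
  have hUW' : U ≤ W := hUW
  refine ⟨U, hU, hxU, fun i => X.presheaf.map (homOfLE hUW').op (a i), fun i => ?_⟩
  change X.presheaf.germ U x hxU (X.presheaf.map (homOfLE hUW').op (a i)) = t i
  rw [TopCat.Presheaf.germ_res_apply]
  exact ha i (Finset.mem_univ i)

variable (ι : Y ⟶ X) [IsClosedImmersion ι]

theorem ker_stalkMap_eq (y : Y) (U : X.Opens) (hU : IsAffineOpen U) (hy : ι y ∈ U) :
    RingHom.ker (ι.stalkMap y).hom =
      (ι.ker.ideal ⟨U, hU⟩).map (X.presheaf.germ U (ι y) hy).hom := by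
  have hV : IsAffineOpen (ι ⁻¹ᵁ U) := hU.preimage ι
  let algX : Algebra Γ(X, U) (X.presheaf.stalk (ι y)) :=
    TopCat.Presheaf.algebra_section_stalk X.presheaf ⟨ι y, hy⟩
  let algY : Algebra Γ(Y, ι ⁻¹ᵁ U) (Y.presheaf.stalk y) :=
    TopCat.Presheaf.algebra_section_stalk Y.presheaf ⟨y, hy⟩
  have hlocX := hU.isLocalization_stalk ⟨ι y, hy⟩
  have hlocY := hV.isLocalization_stalk ⟨y, hy⟩
  have hgerm : ∀ a : Γ(X, U), (ι.stalkMap y).hom (X.presheaf.germ U (ι y) hy a) =
      Y.presheaf.germ (ι ⁻¹ᵁ U) y hy (ι.app U a) := fun a =>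
    Scheme.Hom.germ_stalkMap_apply ι U y hy a
  rw [Scheme.Hom.ker_apply]
  apply le_antisymm
  · intro t ht
    rw [RingHom.mem_ker] at ht
    obtain ⟨a, s, rfl⟩ := IsLocalization.exists_mk'_eq (hU.primeIdealOf ⟨ι y, hy⟩).asIdeal.primeCompl t
    have h1 : (ι.stalkMap y).hom (X.presheaf.germ U (ι y) hy a) = 0 := by
      have : X.presheaf.germ U (ι y) hy a =
          IsLocalization.mk' (X.presheaf.stalk (ι y)) a s * X.presheaf.germ U (ι y) hy s :=
        (IsLocalization.mk'_spec (X.presheaf.stalk (ι y)) a s).symm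
      rw [this, map_mul, ht, zero_mul]
    rw [hgerm] at h1
    obtain ⟨⟨t', ht'⟩, ht'0⟩ := (IsLocalization.map_eq_zero_iff
      (hV.primeIdealOf ⟨y, hy⟩).asIdeal.primeCompl (Y.presheaf.stalk y) _).mp h1
    obtain ⟨s', rfl⟩ := ι.app_surjective U hU t'
    change (ι.app U s') * (ι.app U a) = 0 at ht'0
    have hs' : s' ∈ (hU.primeIdealOf ⟨ι y, hy⟩).asIdeal.primeCompl := by
      rw [← IsLocalization.AtPrime.isUnit_to_map_iff (X.presheaf.stalk (ι y))]
      have hu : IsUnit (Y.presheaf.germ (ι ⁻¹ᵁ U) y hy (ι.app U s')) :=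
        (IsLocalization.AtPrime.isUnit_to_map_iff (Y.presheaf.stalk y)
          (hV.primeIdealOf ⟨y, hy⟩).asIdeal _).mpr ht'
      rw [← hgerm] at hu
      exact isUnit_of_map_unit (ι.stalkMap y).hom _ hu
    refine (IsLocalization.mk'_mem_map_algebraMap_iff _ _ _ _ _).mpr ⟨s', hs', ?_⟩
    rw [RingHom.mem_ker, map_mul]
    exact ht'0
  · rw [Ideal.map_le_iff_le_comap]
    intro a ha
    rw [RingHom.mem_ker] at ha
    rw [Ideal.mem_comap, RingHom.mem_ker, hgerm, ha, map_zero]

end Sch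

end Groth.Agent.Lib.Helper75.HBSpread
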