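import Groth.Agent.Lib.Helper75.IntSys

set_option autoImplicit false
universe u
open CategoryTheory CategoryTheory.Limits MvPolynomial

namespace Groth.Agent.Lib.Helper75.IntSys

open Groth.Agent.Lib.Helper75.FPStage Groth.Agent.Lib.Helper75.FPSys
  Groth.Agent.Lib.Helper75.FPColim

noncomputable section

attribute [local instance] Classical.propDecidable

lemma ker_nil_of_factor {R S T : Type*} [CommRing R] [CommRing S] [CommRing T] (g : R →+* S)
    (h : S →+* T) (k : R →+* T) (hk : ∀ a, h (g a) = k a) (hn : IsNilpotent (RingHom.ker k)) :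
    IsNilpotent (RingHom.ker g) := by
  obtain ⟨n, hn⟩ := hn
  refine ⟨n, ?_⟩
  rw [Ideal.zero_eq_bot, eq_bot_iff] at hn ⊢
  refine (Ideal.pow_right_mono ?_ n).trans hn
  intro x hx
  rw [RingHom.mem_ker] at hx ⊢
  rw [← hk, hx, map_zero]

section cat

variable {A B C : Type u} [CommRing A] [CommRing B] [CommRing C] [Algebra A B] [Algebra A C]
  [Algebra.IsIntegral A B] [Algebra.IsIntegral A C]

variable (f : B →ₐ[A] C)

/-- the index poset -/
def J' : Type u := {j : Idx A B C // ∃ hj : V f j, Good f hj}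

instance : Preorder (J' f) := inferInstanceAs (Preorder {j : Idx A B C // _})

variable {f}

lemma J'.valid (j : J' f) : V f j.1 := j.2.choose

lemma J'.good (j : J' f) : Good f j.valid := j.2.choose_spec

lemma J'.exists_ge {j : Idx A B C} (hj : V f j) : ∃ k : J' f, j ≤ k.1 := by
  obtain ⟨j', hle, hj', hg⟩ := exists_good f hj
  exact ⟨⟨j', hj', hg⟩, hle⟩

variable (f) in
lemma J'.nonempty : Nonempty (J' f) := by
  obtain ⟨k, -⟩ := J'.exists_ge (f := f) (valid_gen ∅ ∅)
  exact ⟨k⟩

variable (f) in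
lemma J'.directed : IsDirected (J' f) (· ≤ ·) := by
  constructor
  intro a b
  obtain ⟨k, hk⟩ := J'.exists_ge (Valid.sup _ _ a.valid b.valid)
  exact ⟨k, (Idx.le_sup_left _ _).trans hk, (Idx.le_sup_right _ _).trans hk⟩

variable (f) in
lemma J'.isFiltered : IsFiltered (J' f) := by
  haveI := J'.nonempty f
  haveI := J'.directed f
  exact isFiltered_of_directed_le_nonempty _

variable (f) in
/-- the diagram approximating `B` -/
def DB' : J' f ⥤ Under (RR A) where
  obj j := underOf (R := A) (Bj j.1)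
  map h := underHom (trB (leOfHom h))
  map_id j := underHom_ext (fun x => trB_refl j.1 x)
  map_comp h h' := underHom_ext (fun x => (trB_trans (leOfHom h) (leOfHom h') x).symm)

variable (f) in
/-- the diagram approximating `C` -/
def DC' : J' f ⥤ Under (RR A) where
  obj j := underOf (R := A) (Dj (⇑f) j.1)
  map h := underHom (trD (⇑f) (leOfHom h))
  map_id j := underHom_ext (fun x => trD_refl j.1 x)
  map_comp h h' := underHom_ext (fun x => (trD_trans (leOfHom h) (leOfHom h') x).symm)

variable (f) in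
/-- the morphism of diagrams -/
def tau : DB' f ⟶ DC' f where
  app j := underHom (phij j.valid)
  naturality j j' h := underHom_ext (fun x => by
    change phij j'.valid (trB (leOfHom h) x) = trD (⇑f) (leOfHom h) (phij j.valid x)
    exact phij_trB j.valid j'.valid (leOfHom h) x)

variable (f) in
/-- cocone on `B` -/
def coB' : DB' f ⟶ (Functor.const (J' f)).obj (underOf (R := A) B) where
  app j := underHom (toB j.valid)
  naturality j j' h := underHom_ext (fun x => by
    change toB j'.valid (trB (leOfHom h) x) = toB j.valid x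
    exact toB_trB j.valid j'.valid (leOfHom h) x)

variable (f) in
/-- cocone on `C` -/
def coC' : DC' f ⟶ (Functor.const (J' f)).obj (underOf (R := A) C) where
  app j := underHom (toD j.valid)
  naturality j j' h := underHom_ext (fun x => by
    change toD j'.valid (trD (⇑f) (leOfHom h) x) = toD j.valid x
    exact toD_trD j.valid j'.valid (leOfHom h) x)

variable (f) in
lemma B_surj' (b : B) : ∃ (j : J' f) (y : Bj j.1), toB j.valid y = b := by
  obtain ⟨k, hk⟩ := J'.exists_ge (f := f) (valid_gen {b} ∅)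
  have hb : b ∈ (k.1.S : Set B) := Finset.mem_coe.mpr (hk.1 (Finset.mem_singleton_self b))
  exact ⟨k, Stage.mk _ _ (X b) (Stage.X_mem hb), by rw [toB_mk, epsB_X]⟩

lemma B_inj' (j : J' f) (y z : Bj j.1) (h : toB j.valid y = toB j.valid z) :
    ∃ (k : J' f) (hk : j.1 ≤ k.1), trB hk y = trB hk z := by
  obtain ⟨p, hp, rfl⟩ := Stage.exists_mk y
  obtain ⟨q, hq, rfl⟩ := Stage.exists_mk z
  rw [toB_mk, toB_mk] at h
  have h0 : epsB A (p - q) = 0 := by rw [map_sub, h, sub_self]
  obtain ⟨j1, hle1, hj1, hmem⟩ := exists_relB (hlam0 f) hnil0 j.valid (p - q) (sub_mem hp hq) h0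
  obtain ⟨k, hk⟩ := J'.exists_ge hj1
  refine ⟨k, hle1.trans hk, ?_⟩
  rw [trB_mk, trB_mk, Stage.mk_eq_mk_iff]
  exact Ideal.subset_span (Finset.mem_coe.mpr (hk.2.2.1 hmem))

variable (f) in
lemma C_surj' (d : C) : ∃ (j : J' f) (y : Dj (⇑f) j.1), toD j.valid y = d := by
  obtain ⟨k, hk⟩ := J'.exists_ge (f := f) (valid_gen ∅ {d})
  have hd : d ∈ sD (⇑f) k.1 := mem_sD_of_mem_E (⇑f) k.1 (hk.2.1 (Finset.mem_singleton_self d))
  exact ⟨k, Stage.mk _ _ (X d) (Stage.X_mem hd), by rw [toD_mk, epsD_X, AlgHom.id_apply]⟩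

lemma C_inj' (j : J' f) (y z : Dj (⇑f) j.1) (h : toD j.valid y = toD j.valid z) :
    ∃ (k : J' f) (hk : j.1 ≤ k.1), trD (⇑f) hk y = trD (⇑f) hk z := by
  obtain ⟨p, hp, rfl⟩ := Stage.exists_mk y
  obtain ⟨q, hq, rfl⟩ := Stage.exists_mk z
  rw [toD_mk, toD_mk] at h
  have h0 : (AlgHom.id A C) (epsD A (p - q)) = 0 := by rw [map_sub, map_sub, h, sub_self]
  obtain ⟨j1, hle1, hj1, hmem⟩ := exists_relD hnil0 j.valid (p - q) (sub_mem hp hq) h0
  obtain ⟨k, hk⟩ := J'.exists_ge hj1
  refine ⟨k, hle1.trans hk, ?_⟩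
  rw [trD_mk, trD_mk, Stage.mk_eq_mk_iff]
  apply Ideal.subset_span
  simp only [Finset.coe_union, Set.mem_union, Finset.mem_coe]
  exact Or.inr (hk.2.2.2.2 hmem)

end cat

section main

theorem main {A B C : Type u} [CommRing A] [CommRing B]
    [CommRing C] [Algebra A B] [Algebra A C] [Algebra B C] [IsScalarTower A B C]
    [Algebra.IsIntegral A B] [Algebra.IsIntegral A C] :
    ∃ (ι : Type u) (_ : SmallCategory ι) (_ : IsFiltered ι) (DB DC : ι ⥤ Under (CommRingCat.of A)) (τ : DB ⟶ DC)
      (cB : DB ⟶ (Functor.const ι).obj (Under.mk (CommRingCat.ofHom (algebraMap A B))))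
      (cC : DC ⟶ (Functor.const ι).obj (Under.mk (CommRingCat.ofHom (algebraMap A C)))),
      Nonempty (IsColimit (Cocone.mk _ cB)) ∧ Nonempty (IsColimit (Cocone.mk _ cC)) ∧
      (∀ i, (τ.app i).right ≫ (cC.app i).right = (cB.app i).right ≫ CommRingCat.ofHom (algebraMap B C)) ∧
      (∀ i, (DB.obj i).hom.hom.Finite ∧ (DB.obj i).hom.hom.FinitePresentation ∧
        (DC.obj i).hom.hom.Finite ∧ (DC.obj i).hom.hom.FinitePresentation) ∧
      (Function.Surjective (algebraMap A B) → ∀ i, Function.Surjective (DB.obj i).hom.hom) ∧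
      (Function.Surjective (algebraMap B C) → ∀ i, Function.Surjective (τ.app i).right.hom) ∧
      (Function.Surjective (algebraMap A C) → ∀ i, Function.Surjective (DC.obj i).hom.hom) ∧
      (Function.Surjective (algebraMap A B) → IsNilpotent (RingHom.ker (algebraMap A B)) →
        ∀ i, Function.Surjective (DB.obj i).hom.hom ∧ IsNilpotent (RingHom.ker (DB.obj i).hom.hom)) ∧
      (Function.Surjective (algebraMap B C) → IsNilpotent (RingHom.ker (algebraMap B C)) →
        ∀ i, Function.Surjective (τ.app i).right.hom ∧ IsNilpotent (RingHom.ker (τ.app i).right.hom)) ∧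
      (Function.Surjective (algebraMap A C) → IsNilpotent (RingHom.ker (algebraMap A C)) →
        ∀ i, Function.Surjective (DC.obj i).hom.hom ∧ IsNilpotent (RingHom.ker (DC.obj i).hom.hom)) := by
  let f : B →ₐ[A] C := IsScalarTower.toAlgHom A B C
  haveI hfilt : IsFiltered (J' f) := J'.isFiltered f
  refine ⟨J' f, inferInstance, hfilt, DB' f, DC' f, tau f, coB' f, coC' f,
    ?_, ?_, ?_, ?_, ?_, ?_, ?_, ?_, ?_, ?_⟩
  · apply isColimit_under_of
    · intro x
      obtain ⟨j, y, hy⟩ := B_surj' f x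
      exact ⟨j, y, hy⟩
    · intro j y z h
      obtain ⟨k, hk, e⟩ := B_inj' j y z h
      exact ⟨k, homOfLE hk, e⟩
  · apply isColimit_under_of
    · intro x
      obtain ⟨j, y, hy⟩ := C_surj' f x
      exact ⟨j, y, hy⟩
    · intro j y z h
      obtain ⟨k, hk, e⟩ := C_inj' j y z h
      exact ⟨k, homOfLE hk, e⟩
  · intro j
    apply CommRingCat.hom_ext
    apply RingHom.ext
    intro x
    exact toD_phij f (hlam0 f) j.valid x
  · intro j
    have hB : Algebra.IsIntegral A (Bj j.1) := isIntegral_stage j.good.1.g1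
    have hC : Algebra.IsIntegral A (Dj (⇑f) j.1) := isIntegral_stage j.good.1.g2
    have fpB : Algebra.FinitePresentation A (Bj j.1) := Bj_fp j.valid
    have fpC : Algebra.FinitePresentation A (Dj (⇑f) j.1) := Dj_fp j.valid
    have ftB : Algebra.FiniteType A (Bj j.1) :=
      Algebra.FiniteType.of_finitePresentation (R := A) (A := Bj j.1)
    have ftC : Algebra.FiniteType A (Dj (⇑f) j.1) :=
      Algebra.FiniteType.of_finitePresentation (R := A) (A := Dj (⇑f) j.1)
    have fB : Module.Finite A (Bj j.1) := Algebra.IsIntegral.finite (R := A) (A := Bj j.1)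
    have fC : Module.Finite A (Dj (⇑f) j.1) :=
      Algebra.IsIntegral.finite (R := A) (A := Dj (⇑f) j.1)
    refine ⟨?_, ?_, ?_, ?_⟩
    · exact (RingHom.finite_algebraMap (A := A) (B := Bj j.1)).mpr fB
    · exact (RingHom.finitePresentation_algebraMap (A := A) (B := Bj j.1)).mpr fpB
    · exact (RingHom.finite_algebraMap (A := A) (B := Dj (⇑f) j.1)).mpr fC
    · exact (RingHom.finitePresentation_algebraMap (A := A) (B := Dj (⇑f) j.1)).mpr fpC
  · intro hs j
    exact surjective_algebraMap_stage (j.good.1.g3 hs)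
  · intro hs j
    have hs' : Function.Surjective f := hs
    exact phij_surjective_of_g4 f j.valid (j.good.1.g4 hs')
  · intro hs j
    exact surjective_algebraMap_stage (j.good.1.g5 hs)
  · intro hs hn j
    refine ⟨surjective_algebraMap_stage (j.good.1.g3 hs), ?_⟩
    exact ker_nil_of_factor (R := A) (S := Bj j.1) (T := B)
      (algebraMap A (Bj j.1)) (toB j.valid).toRingHom (algebraMap A B)
      (fun a => (toB j.valid).commutes a) hn
  · intro hs hn j
    have hs' : Function.Surjective f := hs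
    have hn' : IsNilpotent (RingHom.ker f.toRingHom) := hn
    refine ⟨phij_surjective_of_g4 f j.valid (j.good.1.g4 hs'), ?_⟩
    exact j.good.2 hs' hn'
  · intro hs hn j
    refine ⟨surjective_algebraMap_stage (j.good.1.g5 hs), ?_⟩
    exact ker_nil_of_factor (R := A) (S := Dj (⇑f) j.1) (T := C)
      (algebraMap A (Dj (⇑f) j.1)) (toD j.valid).toRingHom (algebraMap A C)
      (fun a => (toD j.valid).commutes a) hn

end main

end

end Groth.Agent.Lib.Helper75.IntSys
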