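import Groth.Agent.Lib.Helper75.FPCat

set_option autoImplicit false
universe u
open CategoryTheory CategoryTheory.Limits MvPolynomial

namespace Groth.Agent.Lib.Helper75.IntSys

open Groth.Agent.Lib.Helper75.FPStage Groth.Agent.Lib.Helper75.FPSys
  Groth.Agent.Lib.Helper75.FPColim

noncomputable section

attribute [local instance] Classical.propDecidable

section stagefacts

variable {R : Type u} [CommRing R] {σ : Type u}

lemma aeval_X_mem {S : Set σ} {s : σ} (hs : s ∈ S) (P : Polynomial R) :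
    Polynomial.aeval (X s : MvPolynomial σ R) P ∈ supported R S := by
  have e := Polynomial.aeval_algHom_apply (supported R S).val
    (⟨X s, Stage.X_mem hs⟩ : ↥(supported R S)) P
  change Polynomial.aeval (X s : MvPolynomial σ R) P = _ at e
  rw [e]
  exact Subtype.property _

lemma isIntegral_mk_X {S : Set σ} {T : Set (MvPolynomial σ R)} {s : σ} (hs : s ∈ S)
    (P : Polynomial R) (hP : P.Monic)
    (h : Polynomial.aeval (X s : MvPolynomial σ R) P ∈ Ideal.span T) :
    IsIntegral R (Stage.mk S T (X s) (Stage.X_mem hs)) := by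
  refine ⟨P, hP, ?_⟩
  let x : ↥(supported R S) := ⟨X s, Stage.X_mem hs⟩
  change Polynomial.eval₂ (algebraMap R (Stage S T))
    (Ideal.Quotient.mkₐ R (relIdeal S T) x) P = 0
  rw [← Polynomial.aeval_def, Polynomial.aeval_algHom_apply]
  change Ideal.Quotient.mk (relIdeal S T) (Polynomial.aeval x P) = 0
  rw [Ideal.Quotient.eq_zero_iff_mem]
  change ((Polynomial.aeval x P : ↥(supported R S)) : MvPolynomial σ R) ∈ Ideal.span T
  have e : ((Polynomial.aeval x P : ↥(supported R S)) : MvPolynomial σ R) =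
      Polynomial.aeval (X s : MvPolynomial σ R) P :=
    (Polynomial.aeval_algHom_apply (supported R S).val x P).symm
  rw [e]
  exact h

lemma isIntegral_stage {S : Set σ} {T : Set (MvPolynomial σ R)}
    (h : ∀ s ∈ S, ∃ P : Polynomial R, P.Monic ∧
      Polynomial.aeval (X s : MvPolynomial σ R) P ∈ Ideal.span T) :
    Algebra.IsIntegral R (Stage S T) := by
  have key : ∀ x : Stage S T, x ∈ integralClosure R (Stage S T) := by
    intro x
    induction x using Stage.induction with
    | hX s hs =>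
      obtain ⟨P, hP, hPs⟩ := h s hs
      exact (mem_integralClosure_iff R (Stage S T)).mpr (isIntegral_mk_X hs P hP hPs)
    | hr r => exact Subalgebra.algebraMap_mem _ r
    | hadd x y hx hy => exact Subalgebra.add_mem _ hx hy
    | hmul x y hx hy => exact Subalgebra.mul_mem _ hx hy
  constructor
  intro x
  exact (mem_integralClosure_iff R (Stage S T)).mp (key x)

lemma surjective_algebraMap_stage {S : Set σ} {T : Set (MvPolynomial σ R)}
    (h : ∀ s ∈ S, ∃ a : R, (X s - C a : MvPolynomial σ R) ∈ Ideal.span T) :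
    Function.Surjective (algebraMap R (Stage S T)) := by
  intro x
  induction x using Stage.induction with
  | hX s hs =>
    obtain ⟨a, ha⟩ := h s hs
    refine ⟨a, ?_⟩
    have h1 : Stage.mk S T (X s) (Stage.X_mem hs) =
        Stage.mk S T (C a) (Subalgebra.algebraMap_mem _ a) := Stage.mk_eq_mk_iff.mpr ha
    rw [h1]
    rfl
  | hr r => exact ⟨r, rfl⟩
  | hadd x y hx hy =>
    obtain ⟨a, rfl⟩ := hx
    obtain ⟨b, rfl⟩ := hy
    exact ⟨a + b, map_add _ _ _⟩
  | hmul x y hx hy =>
    obtain ⟨a, rfl⟩ := hx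
    obtain ⟨b, rfl⟩ := hy
    exact ⟨a * b, map_mul _ _ _⟩

end stagefacts

section sys

variable {A B C : Type u} [CommRing A] [CommRing B] [CommRing C] [Algebra A B] [Algebra A C]

variable (f : B →ₐ[A] C)

/-- validity w.r.t. the identity of `C` -/
abbrev V (j : Idx A B C) : Prop := Valid (AlgHom.id A C) (⇑f) j

omit [Algebra A B] in
lemma hnil0 : ∀ x ∈ RingHom.ker (AlgHom.id A C).toRingHom, IsNilpotent x := by
  intro x hx
  have : x = 0 := hx
  rw [this]
  exact IsNilpotent.zero

lemma hlam0 : ∀ b, (AlgHom.id A C) (f b) = f b := fun _ => rfl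

variable {f}

lemma epsD_eq_zero_of_mem {j : Idx A B C} (hj : V f j) (q : MvPolynomial C A)
    (hq : q ∈ Ideal.span ((j.TD ∪ j.M : Finset _) : Set (MvPolynomial C A))) : epsD A q = 0 := by
  have hle : Ideal.span ((j.TD ∪ j.M : Finset _) : Set (MvPolynomial C A)) ≤
      RingHom.ker (epsD A (D' := C)).toRingHom := by
    apply Ideal.span_le.mpr
    intro t ht
    simp only [Finset.coe_union, Set.mem_union, Finset.mem_coe] at ht
    rcases ht with ht | ht
    · exact (hj.b t ht).2
    · exact (hj.c t ht).2.1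
  exact hle hq

lemma epsD_Lam (p : MvPolynomial B A) : epsD A (Lam A (⇑f) p) = f (epsB A p) :=
  comp_eq f (AlgHom.id A C) (⇑f) (hlam0 f) p

variable (f) in
/-- adding relations, keeping the generators -/
lemma valid_addRels {j : Idx A B C} (hj : V f j) (FB : Finset (MvPolynomial B A))
    (hFB : ∀ p ∈ FB, p ∈ supported A (j.S : Set B) ∧ epsB A p = 0)
    (FD : Finset (MvPolynomial C A))
    (hFD : ∀ q ∈ FD, q ∈ supported A (sD (⇑f) j) ∧ epsD A q = 0) :
    V f ⟨j.S, j.E, j.TB ∪ FB, j.TD ∪ FB.image (Lam A (⇑f)) ∪ FD, j.M⟩ := by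
  constructor
  · intro t ht
    rcases Finset.mem_union.mp ht with ht | ht
    · exact hj.a t ht
    · exact hFB t ht
  · intro t ht
    rcases Finset.mem_union.mp ht with ht | ht
    · rcases Finset.mem_union.mp ht with ht | ht
      · exact hj.b t ht
      · obtain ⟨p, hp, rfl⟩ := Finset.mem_image.mp ht
        refine ⟨Lam_mem (⇑f) j p (hFB p hp).1, ?_⟩
        rw [epsD_Lam, (hFB p hp).2, map_zero]
    · exact hFD t ht
  · intro m hm
    obtain ⟨c1, c2, k, hk⟩ := hj.c m hm
    refine ⟨c1, c2, k, ?_⟩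
    refine Ideal.span_mono ?_ hk
    intro x hx
    simp only [Finset.coe_union, Finset.coe_image, Set.mem_union, Finset.mem_coe] at hx ⊢
    exact Or.inl (Or.inl hx)
  · intro t ht
    rcases Finset.mem_union.mp ht with ht | ht
    · refine Ideal.span_mono ?_ (hj.d t ht)
      intro x hx
      simp only [Finset.coe_union, Finset.coe_image, Set.mem_union, Finset.mem_coe] at hx ⊢
      rcases hx with hx | hx
      · exact Or.inl (Or.inl (Or.inl hx))
      · exact Or.inr hx
    · apply Ideal.subset_span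
      simp only [Finset.coe_union, Finset.coe_image, Set.mem_union, Finset.mem_coe, Set.mem_image]
      exact Or.inl (Or.inl (Or.inr ⟨t, ht, rfl⟩))

/-! ### the relation polynomials -/

section rels

variable {X' : Type u} [CommRing X'] [Algebra A X']

variable (A) in
/-- a monic polynomial killing an integral element -/
def intPoly [Algebra.IsIntegral A X'] (s : X') : Polynomial A :=
  (Algebra.IsIntegral.isIntegral (R := A) s).choose

lemma intPoly_monic [Algebra.IsIntegral A X'] (s : X') : (intPoly A s).Monic :=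
  (Algebra.IsIntegral.isIntegral (R := A) s).choose_spec.1

lemma intPoly_aeval [Algebra.IsIntegral A X'] (s : X') : Polynomial.aeval s (intPoly A s) = 0 :=
  (Algebra.IsIntegral.isIntegral (R := A) s).choose_spec.2

variable (A) in
/-- integrality relation -/
def relInt [Algebra.IsIntegral A X'] (s : X') : MvPolynomial X' A :=
  Polynomial.aeval (X s : MvPolynomial X' A) (intPoly A s)

lemma relInt_mem [Algebra.IsIntegral A X'] {S : Set X'} {s : X'} (hs : s ∈ S) :
    relInt A s ∈ supported A S := aeval_X_mem hs _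

lemma aeval_id_relInt [Algebra.IsIntegral A X'] (s : X') :
    (aeval id : MvPolynomial X' A →ₐ[A] X') (relInt A s) = 0 := by
  unfold relInt
  rw [← Polynomial.aeval_algHom_apply, aeval_X, id, intPoly_aeval]

variable (A) in
/-- surjectivity relation -/
def relSur (s : X') : MvPolynomial X' A :=
  if h : ∃ a : A, algebraMap A X' a = s then X s - MvPolynomial.C h.choose else 0

lemma relSur_mem {S : Set X'} {s : X'} (hs : s ∈ S) : relSur A s ∈ supported A S := by
  unfold relSur
  split_ifs with h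
  · exact sub_mem (Stage.X_mem hs) (Subalgebra.algebraMap_mem _ _)
  · exact zero_mem _

lemma aeval_id_relSur (s : X') : (aeval id : MvPolynomial X' A →ₐ[A] X') (relSur A s) = 0 := by
  unfold relSur
  split_ifs with h
  · rw [map_sub, aeval_X, aeval_C, id, h.choose_spec, sub_self]
  · exact map_zero _

lemma relSur_eq (hsurj : Function.Surjective (algebraMap A X')) (s : X') :
    ∃ a : A, relSur A s = X s - MvPolynomial.C a := by
  unfold relSur
  rw [dif_pos (hsurj s)]
  exact ⟨_, rfl⟩

end rels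

end sys

section good

variable {A B C : Type u} [CommRing A] [CommRing B] [CommRing C] [Algebra A B] [Algebra A C]

variable (f : B →ₐ[A] C)

/-- the monotone part of goodness -/
structure Good5 (j : Idx A B C) : Prop where
  g1 : ∀ s ∈ j.S, ∃ P : Polynomial A, P.Monic ∧
      Polynomial.aeval (X s : MvPolynomial B A) P ∈ Ideal.span (j.TB : Set (MvPolynomial B A))
  g2 : ∀ e ∈ sD (⇑f) j, ∃ Q : Polynomial A, Q.Monic ∧
      Polynomial.aeval (X e : MvPolynomial C A) Q ∈
        Ideal.span ((j.TD ∪ j.M : Finset _) : Set (MvPolynomial C A))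
  g3 : Function.Surjective (algebraMap A B) → ∀ s ∈ j.S, ∃ a : A,
      (X s - MvPolynomial.C a : MvPolynomial B A) ∈ Ideal.span (j.TB : Set (MvPolynomial B A))
  g4 : Function.Surjective f → ∀ e ∈ j.E, ∃ b ∈ j.S, f b = e
  g5 : Function.Surjective (algebraMap A C) → ∀ e ∈ sD (⇑f) j, ∃ a : A,
      (X e - MvPolynomial.C a : MvPolynomial C A) ∈
        Ideal.span ((j.TD ∪ j.M : Finset _) : Set (MvPolynomial C A))

/-- goodness -/
def Good {j : Idx A B C} (hj : V f j) : Prop :=
  Good5 f j ∧ (Function.Surjective f → IsNilpotent (RingHom.ker f.toRingHom) →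
      IsNilpotent (RingHom.ker (phij hj).toRingHom))

/-- chosen preimage -/
def pre (e : C) : B := if h : ∃ b, f b = e then h.choose else 0

lemma pre_spec (hs : Function.Surjective f) (e : C) : f (pre f e) = e := by
  unfold pre
  rw [dif_pos (hs e)]
  exact (hs e).choose_spec

/-- first upgrade: enlarge the generators of `B` -/
def up1 (j : Idx A B C) : Idx A B C := j.sup ⟨j.E.image (pre f), ∅, ∅, ∅, ∅⟩

lemma up1_valid {j : Idx A B C} (hj : V f j) : V f (up1 f j) :=
  Valid.sup _ _ hj (valid_gen _ _)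

lemma le_up1 (j : Idx A B C) : j ≤ up1 f j := Idx.le_sup_left _ _

variable [Algebra.IsIntegral A B] [Algebra.IsIntegral A C]

/-- relations to add on the `B` side -/
def FBset (j : Idx A B C) : Finset (MvPolynomial B A) :=
  j.S.image (relInt A) ∪ j.S.image (relSur A)

/-- relations to add on the `C` side -/
def FDset (j : Idx A B C) : Finset (MvPolynomial C A) :=
  (j.S' (⇑f)).image (relInt A) ∪ (j.S' (⇑f)).image (relSur A)

/-- second upgrade: add integrality and surjectivity relations -/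
def up2 (j : Idx A B C) : Idx A B C :=
  ⟨j.S, j.E, j.TB ∪ FBset j, j.TD ∪ (FBset j).image (Lam A (⇑f)) ∪ FDset f j, j.M⟩

lemma up2_valid {j : Idx A B C} (hj : V f j) : V f (up2 f j) := by
  refine valid_addRels f hj _ ?_ _ ?_
  · intro p hp
    rcases Finset.mem_union.mp hp with hp | hp
    · obtain ⟨s, hs, rfl⟩ := Finset.mem_image.mp hp
      exact ⟨relInt_mem (Finset.mem_coe.mpr hs), aeval_id_relInt s⟩
    · obtain ⟨s, hs, rfl⟩ := Finset.mem_image.mp hp
      exact ⟨relSur_mem (Finset.mem_coe.mpr hs), aeval_id_relSur s⟩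
  · intro q hq
    rcases Finset.mem_union.mp hq with hq | hq
    · obtain ⟨s, hs, rfl⟩ := Finset.mem_image.mp hq
      exact ⟨relInt_mem (Finset.mem_coe.mpr hs), aeval_id_relInt s⟩
    · obtain ⟨s, hs, rfl⟩ := Finset.mem_image.mp hq
      exact ⟨relSur_mem (Finset.mem_coe.mpr hs), aeval_id_relSur s⟩

lemma le_up2 (j : Idx A B C) : j ≤ up2 f j :=
  ⟨subset_rfl, subset_rfl, Finset.subset_union_left,
    Finset.subset_union_left.trans Finset.subset_union_left, subset_rfl⟩

lemma good5_up2 (j : Idx A B C)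
    (h4 : Function.Surjective f → ∀ e ∈ j.E, ∃ b ∈ j.S, f b = e) : Good5 f (up2 f j) := by
  constructor
  · intro s hs
    refine ⟨intPoly A s, intPoly_monic s, Ideal.subset_span ?_⟩
    change relInt A s ∈ ((j.TB ∪ FBset j : Finset _) : Set (MvPolynomial B A))
    rw [Finset.mem_coe]
    exact Finset.mem_union_right _ (Finset.mem_union_left _ (Finset.mem_image_of_mem _ hs))
  · intro e he
    refine ⟨intPoly A e, intPoly_monic e, Ideal.subset_span ?_⟩
    change relInt A e ∈ (((j.TD ∪ (FBset j).image (Lam A (⇑f)) ∪ FDset f j) ∪ j.M : Finset _) :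
      Set (MvPolynomial C A))
    rw [Finset.mem_coe]
    refine Finset.mem_union_left _ (Finset.mem_union_right _ (Finset.mem_union_left _ ?_))
    exact Finset.mem_image_of_mem _ (Finset.mem_coe.mp he)
  · intro hsurj s hs
    obtain ⟨a, ha⟩ := relSur_eq hsurj s
    refine ⟨a, Ideal.subset_span ?_⟩
    rw [← ha]
    change relSur A s ∈ ((j.TB ∪ FBset j : Finset _) : Set (MvPolynomial B A))
    rw [Finset.mem_coe]
    exact Finset.mem_union_right _ (Finset.mem_union_right _ (Finset.mem_image_of_mem _ hs))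
  · exact h4
  · intro hsurj e he
    obtain ⟨a, ha⟩ := relSur_eq hsurj e
    refine ⟨a, Ideal.subset_span ?_⟩
    rw [← ha]
    change relSur A e ∈ (((j.TD ∪ (FBset j).image (Lam A (⇑f)) ∪ FDset f j) ∪ j.M : Finset _) :
      Set (MvPolynomial C A))
    rw [Finset.mem_coe]
    refine Finset.mem_union_left _ (Finset.mem_union_right _ (Finset.mem_union_right _ ?_))
    exact Finset.mem_image_of_mem _ (Finset.mem_coe.mp he)

omit [Algebra.IsIntegral A B] [Algebra.IsIntegral A C] in
lemma up1_g4 (j : Idx A B C) (hs : Function.Surjective f) :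
    ∀ e ∈ (up1 f j).E, ∃ b ∈ (up1 f j).S, f b = e := by
  intro e he
  have he' : e ∈ j.E := by
    simpa [up1, Idx.sup] using he
  refine ⟨pre f e, ?_, pre_spec f hs e⟩
  simp only [up1, Idx.sup, Finset.mem_union, Finset.mem_image]
  exact Or.inr ⟨e, he', rfl⟩

omit [Algebra.IsIntegral A B] [Algebra.IsIntegral A C] in
lemma Good5.mono {j : Idx A B C} (h : Good5 f j) (F : Finset (MvPolynomial B A)) :
    Good5 f ⟨j.S, j.E, j.TB ∪ F, j.TD, j.M⟩ := by
  have hle : Ideal.span (j.TB : Set (MvPolynomial B A)) ≤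
      Ideal.span ((j.TB ∪ F : Finset _) : Set (MvPolynomial B A)) :=
    Ideal.span_mono (Finset.coe_subset.mpr Finset.subset_union_left)
  constructor
  · intro s hs
    obtain ⟨P, hP, hPs⟩ := h.g1 s hs
    exact ⟨P, hP, hle hPs⟩
  · exact h.g2
  · intro hsurj s hs
    obtain ⟨a, ha⟩ := h.g3 hsurj s hs
    exact ⟨a, hle ha⟩
  · exact h.g4
  · exact h.g5

end good

section nilfix

variable {A B C : Type u} [CommRing A] [CommRing B] [CommRing C] [Algebra A B] [Algebra A C]

variable (f : B →ₐ[A] C)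

lemma phij_surjective_of_g4 {j : Idx A B C} (hj : V f j)
    (h4 : ∀ e ∈ j.E, ∃ b ∈ j.S, f b = e) : Function.Surjective (phij hj) := by
  apply phij_surjective_of hj
  intro e he
  obtain ⟨b, hb, hbe⟩ := h4 e he
  refine ⟨b, hb, ?_⟩
  rw [hbe, sub_self]
  exact zero_mem _

omit [Algebra A B] [Algebra A C] in
lemma pow_le_bot_of_surj {R S : Type*} [CommRing R] [CommRing S] (π : R →+* S)
    (K : Ideal R) (J : Ideal S) (hJ : ∀ x ∈ J, ∃ y ∈ K, π y = x) (n : ℕ) (F : Set R)
    (hF : Ideal.span F = K ^ n) (h : ∀ x ∈ F, π x = 0) : J ^ n ≤ ⊥ := by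
  have hJ' : J ≤ Ideal.map π K := by
    intro x hx
    obtain ⟨y, hy, rfl⟩ := hJ x hx
    exact Ideal.mem_map_of_mem π hy
  refine (Ideal.pow_right_mono hJ' n).trans ?_
  rw [← Ideal.map_pow, ← hF, Ideal.map_span]
  apply Ideal.span_le.mpr
  rintro _ ⟨x, hx, rfl⟩
  rw [SetLike.mem_coe, Ideal.mem_bot]
  exact h x hx

lemma exists_nilfix {j : Idx A B C} (hj : V f j) (h4 : ∀ e ∈ j.E, ∃ b ∈ j.S, f b = e)
    (hn : IsNilpotent (RingHom.ker f.toRingHom)) :
    ∃ (F : Finset (MvPolynomial B A)) (hj' : V f ⟨j.S, j.E, j.TB ∪ F, j.TD, j.M⟩),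
      IsNilpotent (RingHom.ker (phij hj').toRingHom) := by
  obtain ⟨n, hn⟩ := hn
  have hn1 : RingHom.ker f.toRingHom ^ (n + 1) = ⊥ := by
    rw [pow_succ, hn, zero_mul, Ideal.zero_eq_bot]
  -- the surjection from the polynomial algebra onto the `C`-stage
  let g : ↥(supported A (j.S : Set B)) →ₐ[A] Dj (⇑f) j :=
    (phij hj).comp (Ideal.Quotient.mkₐ A (relIdeal (j.S : Set B) (j.TB : Set (MvPolynomial B A))))
  have hg : Function.Surjective g :=
    (phij_surjective_of_g4 f hj h4).comp (Ideal.Quotient.mkₐ_surjective A _)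
  have hfp1 : Algebra.FinitePresentation A ↥(supported A (j.S : Set B)) :=
    Algebra.FinitePresentation.equiv (supportedEquivMvPolynomial (j.S : Set B)).symm
  have hfp2 : Algebra.FinitePresentation A (Dj (⇑f) j) := Dj_fp hj
  have hk0 := Algebra.FinitePresentation.ker_fG_of_surjective (R := A)
    (A := ↥(supported A (j.S : Set B))) (B := Dj (⇑f) j) g hg
  have hk : (RingHom.ker g.toRingHom).FG := hk0
  have k1 : ∀ x : ↥(supported A (j.S : Set B)), x ∈ RingHom.ker g.toRingHom ↔
      Lam A (⇑f) x.1 ∈ Ideal.span ((j.TD ∪ j.M : Finset _) : Set (MvPolynomial C A)) := by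
    intro x
    rw [RingHom.mem_ker]
    change phij hj (Stage.mk _ _ x.1 x.2) = 0 ↔ _
    rw [phij_mk, Stage.mk_eq_zero_iff]
  have k2 : ∀ x ∈ RingHom.ker g.toRingHom, epsB A x.1 ∈ RingHom.ker f.toRingHom := by
    intro x hx
    rw [RingHom.mem_ker]
    change f (epsB A x.1) = 0
    rw [← epsD_Lam]
    exact epsD_eq_zero_of_mem hj _ ((k1 x).mp hx)
  let e : ↥(supported A (j.S : Set B)) →ₐ[A] B := (epsB A).comp (supported A (j.S : Set B)).val
  have k3 : ∀ x ∈ RingHom.ker g.toRingHom ^ (n + 1), epsB A x.1 = 0 := by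
    intro x hx
    have h1 : Ideal.map e (RingHom.ker g.toRingHom) ≤ RingHom.ker f.toRingHom := by
      rw [Ideal.map_le_iff_le_comap]
      intro y hy
      exact k2 y hy
    have h2 : e x ∈ Ideal.map e (RingHom.ker g.toRingHom ^ (n + 1)) := Ideal.mem_map_of_mem e hx
    rw [Ideal.map_pow] at h2
    have h3 := Ideal.pow_right_mono h1 (n + 1) h2
    rw [hn1] at h3
    exact h3
  have k4 : ∀ x ∈ RingHom.ker g.toRingHom ^ (n + 1), x ∈ RingHom.ker g.toRingHom :=
    fun x hx => Ideal.pow_le_self (Nat.succ_ne_zero n) hx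
  obtain ⟨F0, hF0⟩ := Ideal.FG.pow (n := n + 1) hk
  have hF0mem : ∀ x ∈ F0, x ∈ RingHom.ker g.toRingHom ^ (n + 1) := by
    intro x hx
    rw [← hF0]
    exact Ideal.subset_span (Finset.mem_coe.mpr hx)
  have hj' : V f ⟨j.S, j.E, j.TB ∪ F0.image Subtype.val, j.TD, j.M⟩ := by
    constructor
    · intro t ht
      rcases Finset.mem_union.mp ht with ht | ht
      · exact hj.a t ht
      · obtain ⟨x, hx, rfl⟩ := Finset.mem_image.mp ht
        exact ⟨x.2, k3 x (hF0mem x hx)⟩
    · exact hj.b
    · exact hj.c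
    · intro t ht
      rcases Finset.mem_union.mp ht with ht | ht
      · exact hj.d t ht
      · obtain ⟨x, hx, rfl⟩ := Finset.mem_image.mp ht
        exact (k1 x).mp (k4 x (hF0mem x hx))
  refine ⟨F0.image Subtype.val, hj', n + 1, ?_⟩
  rw [Ideal.zero_eq_bot, eq_bot_iff]
  refine pow_le_bot_of_surj (R := ↥(supported A (j.S : Set B)))
    (S := Bj (⟨j.S, j.E, j.TB ∪ F0.image Subtype.val, j.TD, j.M⟩ : Idx A B C))
    (Ideal.Quotient.mk (relIdeal (j.S : Set B)
      ((j.TB ∪ F0.image Subtype.val : Finset _) : Set (MvPolynomial B A))))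
    (RingHom.ker g.toRingHom) _ ?_ (n + 1) (F0 : Set _) hF0 ?_
  · intro x hx
    obtain ⟨p, hp, rfl⟩ := Stage.exists_mk x
    rw [RingHom.mem_ker] at hx
    change phij hj' (Stage.mk _ _ p hp) = 0 at hx
    rw [phij_mk, Stage.mk_eq_zero_iff] at hx
    exact ⟨⟨p, hp⟩, (k1 ⟨p, hp⟩).mpr hx, rfl⟩
  · intro x hx
    change Stage.mk _ _ x.1 x.2 = 0
    rw [Stage.mk_eq_zero_iff]
    apply Ideal.subset_span
    rw [Finset.mem_coe]
    exact Finset.mem_union_right _ (Finset.mem_image_of_mem _ (Finset.mem_coe.mp hx))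

variable [Algebra.IsIntegral A B] [Algebra.IsIntegral A C]

lemma exists_good {j : Idx A B C} (hj : V f j) : ∃ j', j ≤ j' ∧ ∃ hj' : V f j', Good f hj' := by
  have h1 := up1_valid f hj
  have h2 := up2_valid f h1
  have g5 : Good5 f (up2 f (up1 f j)) := good5_up2 f _ (fun hs => up1_g4 f j hs)
  have hle : j ≤ up2 f (up1 f j) := (le_up1 f j).trans (le_up2 f _)
  by_cases hc : Function.Surjective f ∧ IsNilpotent (RingHom.ker f.toRingHom)
  · obtain ⟨F, hj', hnil⟩ := exists_nilfix f h2 (g5.g4 hc.1) hc.2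
    refine ⟨_, ?_, hj', ⟨g5.mono f F, fun _ _ => hnil⟩⟩
    exact hle.trans ⟨subset_rfl, subset_rfl, Finset.subset_union_left, subset_rfl, subset_rfl⟩
  · exact ⟨_, hle, h2, ⟨g5, fun a b => absurd ⟨a, b⟩ hc⟩⟩

end nilfix

end

end Groth.Agent.Lib.Helper75.IntSys
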