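import Groth.Agent.Lib.Helper98.KoszulDepth

/- helper75: Koszul complexes with module coefficients: kmap_comp, canonical map to H⁰, kernel = (l)Y. Used for S13972. -/

set_option autoImplicit false
universe u
open CategoryTheory CategoryTheory.Limits HomologicalComplex CochainComplex HomComplex
open scoped Pointwise

namespace Groth.Agent.Lib.Helper75.Kz

open Helper98.KoszulFun Helper98.KoszulMod

variable {A : Type u} [CommRing A]

lemma kmap_comp {M N P : ModuleCat.{u} A} (φ : M ⟶ N) (ψ : N ⟶ P) (l : List A) :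
    kmap (φ ≫ ψ) l = kmap φ l ≫ kmap ψ l := by
  induction l with
  | nil => exact CategoryTheory.Functor.map_comp _ _ _
  | cons f l ih =>
    simp only [kmap]
    simp only [ih]
    exact mappingCone.map_comp _ _ _ _ _ _ _ _ _

/-- `kmap` of an isomorphism -/
noncomputable def kmapIso {M N : ModuleCat.{u} A} (e : M ≅ N) (l : List A) :
    CohIII.koszulCx M l ≅ CohIII.koszulCx N l where
  hom := kmap e.hom l
  inv := kmap e.inv l
  hom_inv_id := by rw [← kmap_comp, e.hom_inv_id, kmap_id]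
  inv_hom_id := by rw [← kmap_comp, e.inv_hom_id, kmap_id]

/-- the canonical map `Y[0] ⟶ koszulCx Y l` -/
noncomputable def kι (Y : ModuleCat.{u} A) : ∀ l : List A,
    (HomologicalComplex.single (ModuleCat.{u} A) (ComplexShape.up ℤ) 0).obj Y ⟶ CohIII.koszulCx Y l
  | [] => 𝟙 _
  | a :: l => kι Y l ≫ mappingCone.inr (a • 𝟙 (CohIII.koszulCx Y l))

lemma inr_comp_map {K₁ L₁ K₂ L₂ : DRing.Cx A} (φ₁ : K₁ ⟶ L₁) (φ₂ : K₂ ⟶ L₂) (a : K₁ ⟶ K₂)
    (b : L₁ ⟶ L₂) (comm : φ₁ ≫ b = a ≫ φ₂) :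
    mappingCone.inr φ₁ ≫ mappingCone.map φ₁ φ₂ a b comm = b ≫ mappingCone.inr φ₂ := by
  simp [mappingCone.map]

lemma kι_naturality {Y₁ Y₂ : ModuleCat.{u} A} (φ : Y₁ ⟶ Y₂) (l : List A) :
    (HomologicalComplex.single (ModuleCat.{u} A) (ComplexShape.up ℤ) 0).map φ ≫ kι Y₂ l =
      kι Y₁ l ≫ kmap φ l := by
  induction l with
  | nil => exact (Category.comp_id _).trans (Category.id_comp _).symm
  | cons a l ih =>
    change _ ≫ (kι Y₂ l ≫ mappingCone.inr (a • 𝟙 (CohIII.koszulCx Y₂ l))) =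
      (kι Y₁ l ≫ mappingCone.inr (a • 𝟙 (CohIII.koszulCx Y₁ l))) ≫
        mappingCone.map (a • 𝟙 (CohIII.koszulCx Y₁ l)) (a • 𝟙 (CohIII.koszulCx Y₂ l))
          (kmap φ l) (kmap φ l) (by simp)
    rw [Category.assoc, inr_comp_map, ← Category.assoc, ih, Category.assoc]

/-- canonical `Y ⟶ H⁰(koszulCx Y l)` -/
noncomputable def kπ (Y : ModuleCat.{u} A) (l : List A) : Y ⟶ (CohIII.koszulCx Y l).homology 0 :=
  (HomologicalComplex.singleObjHomologySelfIso (ComplexShape.up ℤ) 0 Y).inv ≫ homologyMap (kι Y l) 0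

lemma kπ_naturality {Y₁ Y₂ : ModuleCat.{u} A} (φ : Y₁ ⟶ Y₂) (l : List A) :
    kπ Y₁ l ≫ homologyMap (kmap φ l) 0 = φ ≫ kπ Y₂ l := by
  unfold kπ
  rw [Category.assoc, ← homologyMap_comp, ← kι_naturality, homologyMap_comp,
    ← Category.assoc, HomologicalComplex.singleObjHomologySelfIso_inv_naturality, Category.assoc]

lemma kπ_cons (Y : ModuleCat.{u} A) (a : A) (l : List A) :
    kπ Y (a :: l) = kπ Y l ≫ homologyMap (mappingCone.inr (a • 𝟙 (CohIII.koszulCx Y l))) 0 := by
  unfold kπ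
  change _ ≫ homologyMap (kι Y l ≫ mappingCone.inr (a • 𝟙 (CohIII.koszulCx Y l))) 0 = _
  rw [homologyMap_comp, Category.assoc]

lemma kπ_nil (Y : ModuleCat.{u} A) :
    kπ Y [] = (HomologicalComplex.singleObjHomologySelfIso (ComplexShape.up ℤ) 0 Y).inv := by
  unfold kπ
  change _ ≫ homologyMap (𝟙 ((HomologicalComplex.single (ModuleCat.{u} A) (ComplexShape.up ℤ) 0).obj Y)) 0 = _
  rw [homologyMap_id]
  exact Category.comp_id _

lemma kπ_nil_bijective (Y : ModuleCat.{u} A) : Function.Bijective (kπ Y []).hom := by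
  have : IsIso (kπ Y []) := by
    rw [kπ_nil]
    infer_instance
  exact (ConcreteCategory.isIso_iff_bijective (kπ Y [])).mp this

lemma kπ_cons_apply (Y : ModuleCat.{u} A) (a : A) (l : List A) (y : Y) :
    (kπ Y (a :: l)).hom y =
      (homologyMap (mappingCone.inr (a • 𝟙 (CohIII.koszulCx Y l))) 0).hom ((kπ Y l).hom y) := by
  rw [kπ_cons]
  rfl

lemma kπ_surjective (Y : ModuleCat.{u} A) (l : List A) : Function.Surjective (kπ Y l).hom := by
  induction l with
  | nil => exact (kπ_nil_bijective Y).2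
  | cons a l ih =>
    intro z
    obtain ⟨w, hw⟩ := inr_homology_surjective (CohIII.koszulCx Y l) a
      (isZero_koszulCx_homology_pos Y l 1 one_pos) z
    obtain ⟨y, hy⟩ := ih w
    exact ⟨y, by rw [kπ_cons_apply, hy, hw]⟩

lemma kπ_eq_zero_iff (Y : ModuleCat.{u} A) (l : List A) (y : Y) :
    (kπ Y l).hom y = 0 ↔ y ∈ (Ideal.ofList l • ⊤ : Submodule A Y) := by
  induction l generalizing y with
  | nil =>
    have hinj := (kπ_nil_bijective Y).1
    rw [Ideal.ofList_nil, Submodule.bot_smul, Submodule.mem_bot]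
    constructor
    · intro h
      apply hinj
      rw [h]
      exact (map_zero _).symm
    · rintro rfl
      exact map_zero _
  | cons a l ih =>
    have h1 : (kπ Y (a :: l)).hom y = 0 ↔
        ∃ z : (CohIII.koszulCx Y l).homology 0, a • z = (kπ Y l).hom y := by
      rw [kπ_cons_apply]
      exact inr_homology_ker (CohIII.koszulCx Y l) a 0 ((kπ Y l).hom y)
    rw [h1, Ideal.ofList_cons, Submodule.sup_smul,
      Submodule.ideal_span_singleton_smul, Submodule.mem_sup]
    constructor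
    · rintro ⟨z, hz⟩
      obtain ⟨y', rfl⟩ := kπ_surjective Y l z
      have h0 : (kπ Y l).hom (y - a • y') = 0 := by
        rw [map_sub, map_smul, hz, sub_self]
      refine ⟨a • y', Submodule.smul_mem_pointwise_smul _ _ _ Submodule.mem_top, y - a • y',
        (ih _).mp h0, by abel⟩
    · rintro ⟨u, hu, v, hv, rfl⟩
      obtain ⟨y', -, rfl⟩ := hu
      refine ⟨(kπ Y l).hom y', ?_⟩
      rw [map_add, (ih v).mpr hv, add_zero]
      exact (map_smul _ _ _).symm

lemma kπ_naturality_apply {Y₁ Y₂ : ModuleCat.{u} A} (φ : Y₁ ⟶ Y₂) (l : List A) (y : Y₁) :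
    (homologyMap (kmap φ l) 0).hom ((kπ Y₁ l).hom y) = (kπ Y₂ l).hom (φ.hom y) := by
  have := congrArg (fun f => f.hom y) (kπ_naturality φ l)
  simpa using this

/-- injectivity on `H⁰` in terms of elements -/
lemma homologyMap_kmap_zero_injective_iff {Y₁ Y₂ : ModuleCat.{u} A} (φ : Y₁ ⟶ Y₂) (l : List A) :
    Function.Injective (homologyMap (kmap φ l) 0).hom ↔
      ∀ y : Y₁, φ.hom y ∈ (Ideal.ofList l • ⊤ : Submodule A Y₂) →
        y ∈ (Ideal.ofList l • ⊤ : Submodule A Y₁) := by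
  constructor
  · intro h y hy
    rw [← kπ_eq_zero_iff] at hy ⊢
    apply h
    rw [kπ_naturality_apply, hy, map_zero]
  · intro h
    rw [injective_iff_map_eq_zero]
    intro z hz
    obtain ⟨y, rfl⟩ := kπ_surjective Y₁ l z
    rw [kπ_naturality_apply, kπ_eq_zero_iff] at hz
    exact (kπ_eq_zero_iff Y₁ l y).mpr (h y hz)

end Groth.Agent.Lib.Helper75.Kz
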