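import Mathlib

/- helper75: abstract freeness of colim_n S/(T^n) over A for S = A[T_j] (explicit basis). Used for S4475. -/
set_option autoImplicit false
universe u
open MvPolynomial

namespace Groth.Agent.Lib.Helper75.Kz

section Free

variable {A : Type u} [CommRing A] {σ : Type*} [Fintype σ] [DecidableEq σ]

/-- constant exponent vector -/
noncomputable def cst (k : ℕ) : σ →₀ ℕ := Finsupp.equivFunOnFinite.symm (fun _ => k)

@[simp] lemma cst_apply (k : ℕ) (j : σ) : (cst k : σ →₀ ℕ) j = k := rfl

lemma prod_X_pow (k : ℕ) :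
    (∏ j : σ, (X j : MvPolynomial σ A)) ^ k = monomial (cst k) 1 := by
  have h1 : (∏ j : σ, (X j : MvPolynomial σ A)) = monomial (∑ j : σ, Finsupp.single j 1) 1 := by
    rw [monomial_sum_one]
    rfl
  have h2 : k • (∑ j : σ, Finsupp.single j 1) = (cst k : σ →₀ ℕ) := by
    ext j
    simp [Finsupp.finsetSum_apply, Finsupp.single_apply]
  rw [h1, monomial_pow, one_pow, h2]

lemma le_sup_apply (b : σ →₀ ℕ) (j : σ) : b j ≤ b.support.sup b := by
  by_cases hj : j ∈ b.support
  · exact Finset.le_sup (f := ⇑b) hj
  · rw [Finsupp.notMem_support_iff.mp hj]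
    exact Nat.zero_le _

variable [Nonempty σ]
variable (D : Type u) [AddCommGroup D] [Module (MvPolynomial σ A) D] [Module A D]
  [IsScalarTower A (MvPolynomial σ A) D]

theorem free_of_system (q : ℕ → MvPolynomial σ A →ₗ[MvPolynomial σ A] D)
    (hq_trans : ∀ n m, n ≤ m → ∀ p, q n p = q m ((∏ j : σ, (X j : MvPolynomial σ A)) ^ (m - n) * p))
    (hq_surj : ∀ x : D, ∃ n p, q n p = x)
    (hq_zero : ∀ n p, q n p = 0 ↔ ∀ d ∈ p.support, ∃ j, n ≤ d j) :
    Module.Free A D := by
  classical
  obtain ⟨j₀⟩ := ‹Nonempty σ›
  let N : (σ →₀ ℕ) → ℕ := fun b => b.support.sup b + 1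
  let v : (σ →₀ ℕ) → D := fun b => q (N b) (monomial (cst (N b - 1) - b) 1)
  have v_eq : ∀ (b : σ →₀ ℕ) (n : ℕ), (∀ j, b j < n) →
      v b = q n (monomial (cst (n - 1) - b) 1) := by
    intro b n hb
    have hn : 0 < n := lt_of_le_of_lt (Nat.zero_le _) (hb j₀)
    have h1 : b.support.sup b ≤ n - 1 := Finset.sup_le (fun j _ => Nat.le_pred_of_lt (hb j))
    have hN : N b ≤ n := by
      change b.support.sup b + 1 ≤ n
      omega
    change q (N b) _ = _
    have h3 : (cst (n - N b) + (cst (N b - 1) - b) : σ →₀ ℕ) = cst (n - 1) - b := by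
      ext j
      have h2 := le_sup_apply b j
      simp only [Finsupp.add_apply, cst_apply, Finsupp.tsub_apply]
      change n - (b.support.sup b + 1) + (b.support.sup b + 1 - 1 - b j) = n - 1 - b j
      omega
    rw [hq_trans (N b) n hN, prod_X_pow, monomial_mul, one_mul, h3]
  have hli : LinearIndependent A v := by
    rw [linearIndependent_iff']
    intro s g hsum i hi
    by_contra hgi
    let n : ℕ := s.sup N
    have hbn : ∀ b ∈ s, ∀ j, b j < n := by
      intro b hb j
      have h1 : N b ≤ n := Finset.le_sup (f := N) hb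
      have h2 := le_sup_apply b j
      change b.support.sup b + 1 ≤ n at h1
      omega
    have hn : 0 < n := lt_of_le_of_lt (Nat.zero_le _) (hbn i hi j₀)
    have h3 : ∑ b ∈ s, g b • v b =
        q n (∑ b ∈ s, g b • monomial (cst (n - 1) - b) (1 : A)) := by
      rw [map_sum]
      refine Finset.sum_congr rfl fun b hb => ?_
      rw [v_eq b n (hbn b hb), LinearMap.map_smul_of_tower]
    rw [h3, hq_zero] at hsum
    have h4 : coeff (cst (n - 1) - i) (∑ b ∈ s, g b • monomial (cst (n - 1) - b) (1 : A)) = g i := by
      rw [coeff_sum, Finset.sum_eq_single i]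
      · rw [coeff_smul, coeff_monomial, if_pos rfl, smul_eq_mul, mul_one]
      · intro b hb hbi
        rw [coeff_smul, coeff_monomial, if_neg, smul_zero]
        intro heq
        apply hbi
        ext j
        have h5 := DFunLike.congr_fun heq j
        simp only [Finsupp.tsub_apply, cst_apply] at h5
        have h6 := hbn b hb j
        have h7 := hbn i hi j
        omega
      · intro h
        exact absurd hi h
    have h5 : (cst (n - 1) - i) ∈ (∑ b ∈ s, g b • monomial (cst (n - 1) - b) (1 : A)).support := by
      rw [mem_support_iff, h4]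
      exact hgi
    obtain ⟨j, hj⟩ := hsum _ h5
    simp only [Finsupp.tsub_apply, cst_apply] at hj
    omega
  have hsp : ⊤ ≤ Submodule.span A (Set.range v) := by
    intro x _
    obtain ⟨n, p, rfl⟩ := hq_surj x
    rw [← support_sum_monomial_coeff p, map_sum]
    refine Submodule.sum_mem _ fun d _ => ?_
    have h1 : monomial d (coeff d p) = coeff d p • monomial d (1 : A) := by
      rw [smul_monomial, smul_eq_mul, mul_one]
    rw [h1, LinearMap.map_smul_of_tower]
    refine Submodule.smul_mem _ _ ?_
    by_cases h : ∃ j, n ≤ d j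
    · have h2 : q n (monomial d (1 : A)) = 0 := by
        rw [hq_zero]
        intro e he
        have h3 := support_monomial_subset he
        rw [Finset.mem_singleton] at h3
        rw [h3]
        exact h
      rw [h2]
      exact Submodule.zero_mem _
    · push Not at h
      have hn : 0 < n := lt_of_le_of_lt (Nat.zero_le _) (h j₀)
      have hb : ∀ j, (cst (n - 1) - d : σ →₀ ℕ) j < n := by
        intro j
        simp only [Finsupp.tsub_apply, cst_apply]
        omega
      have h2 : (cst (n - 1) - (cst (n - 1) - d) : σ →₀ ℕ) = d := by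
        ext j
        have := h j
        simp only [Finsupp.tsub_apply, cst_apply]
        omega
      have h3 := v_eq (cst (n - 1) - d) n hb
      rw [h2] at h3
      rw [← h3]
      exact Submodule.subset_span ⟨_, rfl⟩
  exact Module.Free.of_basis (Module.Basis.mk hli hsp)

end Free

end Groth.Agent.Lib.Helper75.Kz
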