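import Groth.Agent.Lib.Helper75.Kz1

/- helper75: compatibility of kι/kπ with CohIII.koszulTrans (transition = multiplication by prod^(m-n) on H⁰). Used for S4475. -/
set_option autoImplicit false
universe u
open CategoryTheory CategoryTheory.Limits HomologicalComplex CochainComplex HomComplex

namespace Groth.Agent.Lib.Helper75.Kz

open Helper98.KoszulFun Helper98.KoszulMod

variable {A : Type u} [CommRing A]

lemma kι_koszulTrans (Y : ModuleCat.{u} A) (n m : ℕ) (h : n ≤ m) (fs : List A) :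
    kι Y (fs.map (· ^ n)) ≫ CohIII.koszulTrans Y n m h fs =
      (fs.prod ^ (m - n)) • kι Y (fs.map (· ^ m)) := by
  induction fs with
  | nil =>
    change 𝟙 _ ≫ 𝟙 _ = _
    rw [Category.comp_id, List.prod_nil, one_pow, one_smul]
    rfl
  | cons f fs ih =>
    change (kι Y (fs.map (· ^ n)) ≫ mappingCone.inr (f ^ n • 𝟙 (CohIII.koszulCx Y (fs.map (· ^ n))))) ≫
      mappingCone.map (f ^ n • 𝟙 (CohIII.koszulCx Y (fs.map (· ^ n))))
        (f ^ m • 𝟙 (CohIII.koszulCx Y (fs.map (· ^ m)))) (CohIII.koszulTrans Y n m h fs)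
        (f ^ (m - n) • CohIII.koszulTrans Y n m h fs) _ =
      ((f :: fs).prod ^ (m - n)) •
        (kι Y (fs.map (· ^ m)) ≫ mappingCone.inr (f ^ m • 𝟙 (CohIII.koszulCx Y (fs.map (· ^ m)))))
    rw [Category.assoc, inr_comp_map, Linear.smul_comp, Linear.comp_smul, ← Category.assoc, ih,
      Linear.smul_comp, smul_smul, List.prod_cons, mul_pow]

lemma kπ_koszulTrans (Y : ModuleCat.{u} A) (n m : ℕ) (h : n ≤ m) (fs : List A) :
    kπ Y (fs.map (· ^ n)) ≫ homologyMap (CohIII.koszulTrans Y n m h fs) 0 =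
      (fs.prod ^ (m - n)) • kπ Y (fs.map (· ^ m)) := by
  unfold kπ
  rw [Category.assoc, ← homologyMap_comp, kι_koszulTrans, Helper98.KoszulLES.homologyMap_smul',
    Linear.comp_smul]

lemma kπ_koszulTrans_apply (Y : ModuleCat.{u} A) (n m : ℕ) (h : n ≤ m) (fs : List A) (y : Y) :
    (homologyMap (CohIII.koszulTrans Y n m h fs) 0).hom ((kπ Y (fs.map (· ^ n))).hom y) =
      (kπ Y (fs.map (· ^ m))).hom ((fs.prod ^ (m - n)) • y) := by
  have := congrArg (fun f => f.hom y) (kπ_koszulTrans Y n m h fs)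
  simpa using this

end Groth.Agent.Lib.Helper75.Kz
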