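import Groth.Agent.Lib.Helper75.Kz9
import Groth.Agent.Lib.Helper75.Kz10
import Groth.Agent.Lib.Helper75.Kz11

/- helper75: direct limit of Koszul H⁰ as abstract system; koszulHLim of polynomial ring in its variables (vanishing + freeness). Used for S4475. -/
set_option autoImplicit false
universe u
open CategoryTheory CategoryTheory.Limits HomologicalComplex CochainComplex HomComplex

namespace Groth.Agent.Lib.Helper75.Kz

section Sys

variable {S : Type u} [CommRing S] {Y : Type u} [AddCommGroup Y] [Module S Y]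
  (G : ℕ → Type u) [∀ n, AddCommGroup (G n)] [∀ n, Module S (G n)]
  (t : ∀ n m, n ≤ m → G n →ₗ[S] G m) (π : ∀ n, Y →ₗ[S] G n) (P : S)

include π in
lemma directedSystem_of (hπ : ∀ n, Function.Surjective (π n))
    (ht : ∀ n m (h : n ≤ m) y, t n m h (π n y) = π m (P ^ (m - n) • y)) :
    DirectedSystem G (fun i j h => t i j h) where
  map_self := by
    intro n x
    obtain ⟨y, rfl⟩ := hπ n x
    rw [ht, Nat.sub_self, pow_zero, one_smul]
  map_map := by
    intro k j i hij hjk x
    obtain ⟨y, rfl⟩ := hπ i x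
    rw [ht, ht, ht, smul_smul, ← pow_add]
    congr 3
    omega

/-- the maps `Y → colim G` -/
noncomputable def qmap (n : ℕ) : Y →ₗ[S] Module.DirectLimit G t :=
  (Module.DirectLimit.of S ℕ G t n).comp (π n)

lemma qmap_trans (ht : ∀ n m (h : n ≤ m) y, t n m h (π n y) = π m (P ^ (m - n) • y))
    (n m : ℕ) (h : n ≤ m) (y : Y) : qmap G t π n y = qmap G t π m (P ^ (m - n) • y) := by
  change Module.DirectLimit.of S ℕ G t n (π n y) = Module.DirectLimit.of S ℕ G t m (π m _)
  rw [← ht n m h, Module.DirectLimit.of_f]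

lemma qmap_surj (hπ : ∀ n, Function.Surjective (π n)) (x : Module.DirectLimit G t) :
    ∃ n y, qmap G t π n y = x := by
  obtain ⟨n, z, rfl⟩ := Module.DirectLimit.exists_of x
  obtain ⟨y, rfl⟩ := hπ n z
  exact ⟨n, y, rfl⟩

lemma qmap_eq_zero_iff (hπ : ∀ n, Function.Surjective (π n))
    (ht : ∀ n m (h : n ≤ m) y, t n m h (π n y) = π m (P ^ (m - n) • y)) (n : ℕ) (y : Y) :
    qmap G t π n y = 0 ↔ ∃ m, n ≤ m ∧ π m (P ^ (m - n) • y) = 0 := by
  haveI := directedSystem_of G t π P hπ ht
  constructor
  · intro h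
    obtain ⟨m, hnm, hm⟩ := Module.DirectLimit.of.zero_exact h
    exact ⟨m, hnm, by rw [← ht n m hnm, hm]⟩
  · rintro ⟨m, hnm, hm⟩
    rw [qmap_trans G t π P ht n m hnm]
    change Module.DirectLimit.of S ℕ G t m (π m _) = 0
    rw [hm, map_zero]

lemma subsingleton_directLimit (hG : ∀ n, Subsingleton (G n)) :
    Subsingleton (Module.DirectLimit G t) := by
  refine subsingleton_of_forall_eq 0 fun z => ?_
  obtain ⟨n, x, rfl⟩ := Module.DirectLimit.exists_of z
  rw [Subsingleton.elim x 0, map_zero]

end Sys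

section Poly

open MvPolynomial

variable (A : Type u) [CommRing A] (r : ℕ)

local notation "SS" => MvPolynomial (Fin (r + 1)) A

lemma ofFn_X_map_pow (n : ℕ) :
    (List.ofFn (fun j : Fin (r + 1) => (X j : SS))).map (· ^ n) =
      (List.finRange (r + 1)).map (fun j => (X j : SS) ^ n) := by
  rw [List.ofFn_eq_map, List.map_map]
  rfl

theorem subsingleton_koszulHLim_X (i : ℕ) (hi : i ≠ r + 1) :
    Subsingleton (CohIII.koszulHLim (List.ofFn (fun j : Fin (r + 1) => (X j : SS)))
      (ModuleCat.of SS SS) i) := by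
  unfold CohIII.koszulHLim
  apply subsingleton_directLimit
  intro n
  refine ModuleCat.subsingleton_of_isZero
    (Helper98.KoszulMod.koszulCx_of_weaklyRegular SS _ ?_ _ ?_)
  · rw [ofFn_X_map_pow]
    exact isWeaklyRegular_X_pow _ (List.nodup_finRange _) n
  · rw [List.length_ofFn]
    omega

theorem free_directLimit_aux (d : ℤ) (hd : d = 0) :
    letI : Module A (Module.DirectLimit
      (fun n : ℕ => ((CohIII.koszulCx (ModuleCat.of SS SS)
        ((List.ofFn (fun j : Fin (r + 1) => (X j : SS))).map (· ^ n))).homology d : Type u))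
      (fun n m h => (HomologicalComplex.homologyMap (CohIII.koszulTrans (ModuleCat.of SS SS) n m h
        (List.ofFn (fun j : Fin (r + 1) => (X j : SS)))) d).hom)) :=
      Module.restrictScalars A SS _
    Module.Free A (Module.DirectLimit
      (fun n : ℕ => ((CohIII.koszulCx (ModuleCat.of SS SS)
        ((List.ofFn (fun j : Fin (r + 1) => (X j : SS))).map (· ^ n))).homology d : Type u))
      (fun n m h => (HomologicalComplex.homologyMap (CohIII.koszulTrans (ModuleCat.of SS SS) n m h
        (List.ofFn (fun j : Fin (r + 1) => (X j : SS)))) d).hom)) := by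
  subst hd
  set fs : List SS := List.ofFn (fun j : Fin (r + 1) => (X j : SS)) with hfs
  set Y : ModuleCat.{u} SS := ModuleCat.of SS SS with hY
  let G : ℕ → Type u := fun n => ((CohIII.koszulCx Y (fs.map (· ^ n))).homology 0 : Type u)
  let t : ∀ n m, n ≤ m → G n →ₗ[SS] G m := fun n m h =>
    (HomologicalComplex.homologyMap (CohIII.koszulTrans Y n m h fs) 0).hom
  let π : ∀ n, SS →ₗ[SS] G n := fun n => (kπ Y (fs.map (· ^ n))).hom
  letI : Module A (Module.DirectLimit G t) := Module.restrictScalars A SS _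
  haveI : IsScalarTower A SS (Module.DirectLimit G t) := IsScalarTower.restrictScalars A SS _
  change Module.Free A (Module.DirectLimit G t)
  have hπ : ∀ n, Function.Surjective (π n) := fun n => kπ_surjective Y _
  have hP : fs.prod = ∏ j : Fin (r + 1), (X j : SS) := List.prod_ofFn
  have ht : ∀ n m (h : n ≤ m) (y : SS), t n m h (π n y) = π m ((fs.prod) ^ (m - n) • y) :=
    fun n m h y => kπ_koszulTrans_apply Y n m h fs y
  have hπ0 : ∀ (m : ℕ) (p : SS), π m p = 0 ↔ ∀ d ∈ p.support, ∃ j, m ≤ d j := by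
    intro m p
    have h1 := kπ_eq_zero_iff Y (fs.map (· ^ m)) p
    change π m p = 0 ↔ _ at h1
    rw [h1, hfs, ofFn_X_map_pow]
    change p ∈ (Ideal.ofList (List.map (fun j => (X j : SS) ^ m) (List.finRange (r + 1))) •
      (⊤ : Submodule SS SS)) ↔ _
    rw [smul_eq_mul, Ideal.mul_top, mem_ofList_map_X_pow_iff]
    refine forall₂_congr fun d _ => ?_
    constructor
    · rintro ⟨j, -, hj⟩
      exact ⟨j, hj⟩
    · rintro ⟨j, hj⟩
      exact ⟨j, List.mem_finRange j, hj⟩
  refine free_of_system (A := A) (σ := Fin (r + 1)) (Module.DirectLimit G t) (qmap G t π) ?_ ?_ ?_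
  · intro n m h p
    rw [← hP]
    exact qmap_trans G t π fs.prod ht n m h p
  · exact qmap_surj G t π hπ
  · intro n p
    rw [qmap_eq_zero_iff G t π fs.prod hπ ht]
    constructor
    · rintro ⟨m, hnm, hm⟩
      rw [hπ0] at hm
      intro d hd
      have h1 : cst (m - n) + d ∈ (fs.prod ^ (m - n) • p).support := by
        rw [mem_support_iff, smul_eq_mul, hP, prod_X_pow, coeff_monomial_mul, one_mul]
        exact mem_support_iff.mp hd
      obtain ⟨j, hj⟩ := hm _ h1
      refine ⟨j, ?_⟩
      rw [Finsupp.add_apply, cst_apply] at hj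
      omega
    · intro h
      refine ⟨n, le_rfl, ?_⟩
      rw [Nat.sub_self, pow_zero, one_smul, hπ0]
      exact h

end Poly

end Groth.Agent.Lib.Helper75.Kz
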