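import Groth.Agent.Lib.Helper75.Kz2
import Mathlib.RingTheory.Flat.Tensor
import Mathlib.LinearAlgebra.TensorProduct.RightExactness

/- helper75: the functor `N ↦ koszulCx (R ⊗[A] N) l` for a flat `A`-algebra `R`:
kernel of `R ⊗ N → (R/L) ⊗ N`, `H⁰` injectivity criterion, long exact sequence consequences. -/

set_option autoImplicit false
universe u
open CategoryTheory CategoryTheory.Limits HomologicalComplex CochainComplex HomComplex TensorProduct
open scoped Pointwise

namespace Groth.Agent.Lib.Helper75.Kz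

open Helper98.KoszulFun Helper98.KoszulMod

variable {A R : Type u} [CommRing A] [CommRing R] [Algebra A R]

/-- `X(N) = R ⊗_A N` as an `R`-module -/
noncomputable abbrev XObj (A R : Type u) [CommRing A] [CommRing R] [Algebra A R]
    (N : Type u) [AddCommGroup N] [Module A N] : ModuleCat.{u} R :=
  ModuleCat.of R (R ⊗[A] N)

noncomputable abbrev XMap {N₁ N₂ : Type u} [AddCommGroup N₁] [Module A N₁] [AddCommGroup N₂]
    [Module A N₂] (g : N₁ →ₗ[A] N₂) : XObj A R N₁ ⟶ XObj A R N₂ :=
  ModuleCat.ofHom (g.baseChange R)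

section Ker

variable (L : Ideal R) (N : Type u) [AddCommGroup N] [Module A N]

/-- the `A`-linear quotient map `R → R/L` -/
noncomputable abbrev qA : R →ₗ[A] R ⧸ L := (Submodule.mkQ L).restrictScalars A

lemma qA_surjective : Function.Surjective (qA (A := A) L) := Submodule.mkQ_surjective L

lemma rTensor_qA_smul (ℓ : R) (hℓ : ℓ ∈ L) (y : R ⊗[A] N) :
    (qA (A := A) L).rTensor N (ℓ • y) = 0 := by
  induction y using TensorProduct.induction_on with
  | zero => rw [smul_zero, map_zero]
  | tmul r n =>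
    rw [TensorProduct.smul_tmul', LinearMap.rTensor_tmul]
    have : (qA (A := A) L) (ℓ • r) = 0 := by
      change Submodule.mkQ L (ℓ • r) = 0
      rw [Submodule.mkQ_apply, Submodule.Quotient.mk_eq_zero]
      exact L.mul_mem_right r hℓ
    rw [this, TensorProduct.zero_tmul]
  | add a b ha hb => rw [smul_add, map_add, ha, hb, add_zero]

lemma rTensor_subtype_mem (w : L ⊗[A] N) :
    (L.subtype.restrictScalars A).rTensor N w ∈ (L • ⊤ : Submodule R (R ⊗[A] N)) := by
  induction w using TensorProduct.induction_on with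
  | zero => rw [map_zero]; exact Submodule.zero_mem _
  | tmul ℓ n =>
    rw [LinearMap.rTensor_tmul]
    have : ((L.subtype.restrictScalars A) ℓ) ⊗ₜ[A] n = (ℓ : R) • ((1 : R) ⊗ₜ[A] n) := by
      rw [TensorProduct.smul_tmul', smul_eq_mul, mul_one]
      rfl
    rw [this]
    exact Submodule.smul_mem_smul ℓ.2 Submodule.mem_top
  | add a b ha hb => rw [map_add]; exact Submodule.add_mem _ ha hb

lemma mem_smul_top_iff (x : R ⊗[A] N) :
    x ∈ (L • ⊤ : Submodule R (R ⊗[A] N)) ↔ (qA (A := A) L).rTensor N x = 0 := by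
  constructor
  · intro hx
    exact Submodule.smul_induction_on hx (fun ℓ hℓ y _ => rTensor_qA_smul L N ℓ hℓ y)
      (fun a b ha hb => by rw [map_add, ha, hb, add_zero])
  · intro hx
    have hex : Function.Exact (L.subtype.restrictScalars A) (qA (A := A) L) := by
      intro r
      change Submodule.mkQ L r = 0 ↔ _
      rw [Submodule.mkQ_apply, Submodule.Quotient.mk_eq_zero]
      constructor
      · intro hr
        exact ⟨⟨r, hr⟩, rfl⟩
      · rintro ⟨⟨s, hs⟩, rfl⟩
        exact hs
    obtain ⟨w, rfl⟩ := (rTensor_exact N hex (qA_surjective L) x).mp hx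
    exact rTensor_subtype_mem L N w

end Ker

section H0

variable (l : List R) {N₁ N₂ : Type u} [AddCommGroup N₁] [Module A N₁] [AddCommGroup N₂]
    [Module A N₂] (g : N₁ →ₗ[A] N₂)

/-- injectivity of `H⁰(X(g))` means injectivity of `(R/(l)) ⊗ g`. -/
theorem homologyMap_zero_injective_iff :
    Function.Injective (homologyMap (kmap (XMap (R := R) g) l) 0).hom ↔
      Function.Injective (g.lTensor (R ⧸ Ideal.ofList l)) := by
  rw [homologyMap_kmap_zero_injective_iff]
  have hq₁ : Function.Surjective ((qA (A := A) (Ideal.ofList l)).rTensor N₁) :=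
    LinearMap.rTensor_surjective N₁ (qA_surjective _)
  have hsq : ∀ x : R ⊗[A] N₁, (qA (A := A) (Ideal.ofList l)).rTensor N₂ (g.baseChange R x) =
      g.lTensor (R ⧸ Ideal.ofList l) ((qA (A := A) (Ideal.ofList l)).rTensor N₁ x) := by
    intro x
    rw [LinearMap.baseChange_eq_ltensor, ← LinearMap.comp_apply, ← LinearMap.comp_apply,
      LinearMap.rTensor_comp_lTensor, LinearMap.lTensor_comp_rTensor]
  constructor
  · intro h
    rw [injective_iff_map_eq_zero]
    intro z hz
    obtain ⟨x, rfl⟩ := hq₁ z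
    rw [← hsq, ← mem_smul_top_iff] at hz
    exact (mem_smul_top_iff _ _ x).mp (h x hz)
  · intro h x hx
    rw [mem_smul_top_iff] at hx ⊢
    change (qA (A := A) (Ideal.ofList l)).rTensor N₂ (g.baseChange R x) = 0 at hx
    rw [hsq] at hx
    apply h
    rw [hx, map_zero]

end H0

section SES

variable [Module.Flat A R] (l : List R)
  {N₁ N₂ N₃ : Type u} [AddCommGroup N₁] [Module A N₁] [AddCommGroup N₂] [Module A N₂]
  [AddCommGroup N₃] [Module A N₃] (g₁ : N₁ →ₗ[A] N₂) (g₂ : N₂ →ₗ[A] N₃)
  (h₁ : Function.Injective g₁) (hex : Function.Exact g₁ g₂) (h₂ : Function.Surjective g₂)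

include h₁ hex h₂ in
lemma dse_X : DSE (kmap (XMap (R := R) g₁) l) (kmap (XMap (R := R) g₂) l) := by
  apply dse_kmap
  · change Function.Injective (g₁.baseChange R)
    rw [LinearMap.baseChange_eq_ltensor]
    exact Module.Flat.lTensor_preserves_injective_linearMap g₁ h₁
  · change Function.Surjective (g₂.baseChange R)
    rw [LinearMap.baseChange_eq_ltensor]
    exact LinearMap.lTensor_surjective R h₂
  · intro x
    change (g₂.baseChange R) x = 0 ↔ ∃ y, (g₁.baseChange R) y = x
    rw [LinearMap.baseChange_eq_ltensor, LinearMap.baseChange_eq_ltensor]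
    exact lTensor_exact R hex h₂ x

include h₁ hex h₂ in
/-- the short exact sequence of Koszul complexes attached to a short exact sequence of modules -/
lemma shortExact_X :
    (ShortComplex.mk (kmap (XMap (R := R) g₁) l) (kmap (XMap (R := R) g₂) l)
      (dse_comp_zero _ _ (dse_X l g₁ g₂ h₁ hex h₂))).ShortExact :=
  shortExact_of_dse _ _ (dse_X l g₁ g₂ h₁ hex h₂)

include h₁ hex h₂ in
lemma isZero_mid (i : ℤ)
    (z₁ : IsZero ((CohIII.koszulCx (XObj A R N₁) l).homology i))
    (z₃ : IsZero ((CohIII.koszulCx (XObj A R N₃) l).homology i)) :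
    IsZero ((CohIII.koszulCx (XObj A R N₂) l).homology i) := by
  have hS := shortExact_X l g₁ g₂ h₁ hex h₂
  exact (hS.homology_exact₂ i).isZero_of_both_zeros (z₁.eq_of_src _ _) (z₃.eq_of_tgt _ _)

include h₁ hex h₂ in
lemma isZero_right (i j : ℤ) (hij : i + 1 = j)
    (z₂ : IsZero ((CohIII.koszulCx (XObj A R N₂) l).homology i))
    (z₁ : IsZero ((CohIII.koszulCx (XObj A R N₁) l).homology j)) :
    IsZero ((CohIII.koszulCx (XObj A R N₃) l).homology i) := by
  have hS := shortExact_X l g₁ g₂ h₁ hex h₂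
  exact (hS.homology_exact₃ i j hij).isZero_of_both_zeros (z₂.eq_of_src _ _) (z₁.eq_of_tgt _ _)

include h₁ hex h₂ in
lemma isZero_right_of_injective (i j : ℤ) (hij : i + 1 = j)
    (z₂ : IsZero ((CohIII.koszulCx (XObj A R N₂) l).homology i))
    (hinj : Function.Injective (homologyMap (kmap (XMap (R := R) g₁) l) j).hom) :
    IsZero ((CohIII.koszulCx (XObj A R N₃) l).homology i) := by
  have hS := shortExact_X l g₁ g₂ h₁ hex h₂
  have e3 := hS.homology_exact₃ i j hij
  have e1 := hS.homology_exact₁ i j hij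
  have hm : Mono (hS.δ i j hij) := e3.mono_g (z₂.eq_of_src _ _)
  have hm' : Mono (homologyMap (kmap (XMap (R := R) g₁) l) j) :=
    (ModuleCat.mono_iff_injective _).mpr hinj
  have h0 : hS.δ i j hij = 0 := by
    rw [← cancel_mono (homologyMap (kmap (XMap (R := R) g₁) l) j), zero_comp]
    exact hS.δ_comp i j hij
  exact IsZero.of_mono_eq_zero _ h0

include h₁ hex h₂ in
lemma injective_of_isZero_right (i j : ℤ) (hij : i + 1 = j)
    (z₃ : IsZero ((CohIII.koszulCx (XObj A R N₃) l).homology i)) :
    Function.Injective (homologyMap (kmap (XMap (R := R) g₁) l) j).hom := by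
  have hS := shortExact_X l g₁ g₂ h₁ hex h₂
  have e1 := hS.homology_exact₁ i j hij
  have hm : Mono (homologyMap (kmap (XMap (R := R) g₁) l) j) := e1.mono_g (z₃.eq_of_src _ _)
  exact (ModuleCat.mono_iff_injective _).mp hm

end SES

section Equiv

variable (l : List R) {N₁ N₂ : Type u} [AddCommGroup N₁] [Module A N₁] [AddCommGroup N₂]
    [Module A N₂]

lemma isZero_of_linearEquiv (e : N₁ ≃ₗ[A] N₂) (i : ℤ)
    (z : IsZero ((CohIII.koszulCx (XObj A R N₂) l).homology i)) :
    IsZero ((CohIII.koszulCx (XObj A R N₁) l).homology i) := by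
  have eX : XObj A R N₁ ≅ XObj A R N₂ :=
    (LinearEquiv.baseChange A R N₁ N₂ e).toModuleIso
  exact z.of_iso ((HomologicalComplex.homologyFunctor _ _ i).mapIso (kmapIso eX l))

end Equiv

end Groth.Agent.Lib.Helper75.Kz
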