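import Groth.Agent.Lib.Helper75.Kz3
import Mathlib.RingTheory.Artinian.Module
import Mathlib.RingTheory.Artinian.Ring
import Mathlib.RingTheory.SimpleModule.Basic
import Mathlib.RingTheory.Length

/- helper75: Koszul homology of `R ⊗[A] N` over an Artinian local ring `A`: induction on length, dimension shifting,
flatness of `R/(l)` and acyclicity from the special fibre modulo `I`. Used for S13972. -/

set_option autoImplicit false
universe u
open CategoryTheory CategoryTheory.Limits HomologicalComplex CochainComplex HomComplex TensorProduct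
open scoped Pointwise

namespace Groth.Agent.Lib.Helper75.Kz

open Helper98.KoszulFun Helper98.KoszulMod

section Zero

variable {R : Type u} [CommRing R]

lemma isZero_koszulCx_of_subsingleton (Y : ModuleCat.{u} R) [Subsingleton Y] (l : List R) :
    IsZero (CohIII.koszulCx Y l) := by
  rw [IsZero.iff_id_eq_zero, ← kmap_id]
  have h : 𝟙 Y = (0 : R) • 𝟙 Y := by
    ext y
    exact Subsingleton.elim _ _
  rw [h, kmap_smul, zero_smul]

lemma isZero_homology_of_subsingleton (Y : ModuleCat.{u} R) [Subsingleton Y] (l : List R) (i : ℤ) :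
    IsZero ((CohIII.koszulCx Y l).homology i) :=
  (HomologicalComplex.homologyFunctor _ _ i).map_isZero (isZero_koszulCx_of_subsingleton Y l)

end Zero

variable {A R : Type u} [CommRing A] [CommRing R] [Algebra A R] [Module.Flat A R] (l : List R)

section Length

variable [IsLocalRing A] (i : ℤ)
  (hk : IsZero ((CohIII.koszulCx (XObj A R (IsLocalRing.ResidueField A)) l).homology i))
include hk

theorem isZero_of_length :
    ∀ n : ℕ, ∀ (N : Type u) [AddCommGroup N] [Module A N], Module.length A N = n →
      IsZero ((CohIII.koszulCx (XObj A R N) l).homology i) := by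
  intro n
  induction n using Nat.strong_induction_on with
  | _ n ih =>
    intro N _ _ hN
    by_cases hsub : Subsingleton N
    · have : Subsingleton (XObj A R N) := by
        change Subsingleton (R ⊗[A] N)
        infer_instance
      exact isZero_homology_of_subsingleton _ l i
    · rw [not_subsingleton_iff_nontrivial] at hsub
      have hfin : IsFiniteLength A N :=
        Module.length_ne_top_iff.mp (by rw [hN]; exact ENat.natCast_ne_top n)
      obtain ⟨hNoeth, hArt⟩ := isFiniteLength_iff_isNoetherian_isArtinian.mp hfin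
      obtain ⟨N₀, hN₀⟩ := IsAtomic.exists_atom (Submodule A N)
      have hsimple : IsSimpleModule A N₀ := isSimpleModule_iff_isAtom.mpr hN₀
      obtain ⟨I, hI, ⟨e⟩⟩ := isSimpleModule_iff_quot_maximal.mp hsimple
      have hIm : I = IsLocalRing.maximalIdeal A := IsLocalRing.eq_maximalIdeal hI
      subst hIm
      have hlt : Module.length A (N ⧸ N₀) < Module.length A N :=
        Submodule.length_quotient_lt N₀ hN₀.1
      obtain ⟨m, hm⟩ := ENat.ne_top_iff_exists.mp (ne_top_of_lt hlt)
      have hmn : m < n := by
        rw [← hm, hN] at hlt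
        exact_mod_cast hlt
      have h1 := ih m hmn (N ⧸ N₀) hm.symm
      have h2 : IsZero ((CohIII.koszulCx (XObj A R N₀) l).homology i) :=
        isZero_of_linearEquiv l e i hk
      exact isZero_mid l N₀.subtype N₀.mkQ (Submodule.subtype_injective _)
        (LinearMap.exact_subtype_mkQ N₀) (Submodule.mkQ_surjective N₀) i h2 h1

theorem isZero_of_finite [IsArtinianRing A] (N : Type u) [AddCommGroup N] [Module A N]
    [Module.Finite A N] : IsZero ((CohIII.koszulCx (XObj A R N) l).homology i) := by
  have hfin : IsFiniteLength A N :=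
    isFiniteLength_iff_isNoetherian_isArtinian.mpr ⟨inferInstance, inferInstance⟩
  obtain ⟨n, hn⟩ := ENat.ne_top_iff_exists.mp (Module.length_ne_top_iff.mpr hfin)
  exact isZero_of_length l i hk n N hn.symm

end Length

section Main

variable [IsLocalRing A] [IsArtinianRing A]
  {N₁ : Type u} [AddCommGroup N₁] [Module A N₁] [Module.Finite A N₁]
  (I : Ideal A)
  (g₁ : N₁ →ₗ[A] (A ⧸ I)) (g₂ : (A ⧸ I) →ₗ[A] IsLocalRing.ResidueField A)
  (h₁ : Function.Injective g₁) (hex : Function.Exact g₁ g₂) (h₂ : Function.Surjective g₂)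
  (hI : ∀ i : ℤ, i ≠ 0 → IsZero ((CohIII.koszulCx (XObj A R (A ⧸ I)) l).homology i))
  (hflat : Function.Injective (g₁.lTensor (R ⧸ Ideal.ofList l)))

include h₁ hex h₂ hI hflat in
theorem isZero_neg_aux (j : ℕ) : ∀ i : ℤ, i = -(j : ℤ) - 1 →
    ∀ (N : Type u) [AddCommGroup N] [Module A N] [Module.Finite A N],
      IsZero ((CohIII.koszulCx (XObj A R N) l).homology i) := by
  induction j with
  | zero =>
    intro i hi N _ _ _
    have hi' : i = -1 := by simpa using hi
    subst hi'
    refine isZero_of_finite l (-1) ?_ N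
    exact isZero_right_of_injective l g₁ g₂ h₁ hex h₂ (-1) 0 (by norm_num) (hI (-1) (by norm_num))
      ((homologyMap_zero_injective_iff l g₁).mpr hflat)
  | succ j ih =>
    intro i hi N _ _ _
    refine isZero_of_finite l i ?_ N
    exact isZero_right l g₁ g₂ h₁ hex h₂ i (i + 1) rfl (hI i (by push_cast at hi; omega))
      (ih (i + 1) (by push_cast at hi; omega) N₁)

include h₁ hex h₂ hI hflat in
/-- Koszul homology of `R ⊗ N` vanishes off degree zero for all finite `N` -/
theorem isZero_of_ne_zero (i : ℤ) (hi : i ≠ 0) (N : Type u) [AddCommGroup N] [Module A N]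
    [Module.Finite A N] : IsZero ((CohIII.koszulCx (XObj A R N) l).homology i) := by
  rcases lt_or_gt_of_ne hi with h | h
  · exact isZero_neg_aux l I g₁ g₂ h₁ hex h₂ hI hflat (-i - 1).toNat i (by omega) N
  · exact isZero_koszulCx_homology_pos _ l i h

include h₁ hex h₂ hI hflat in
theorem isZero_self (i : ℤ) (hi : i ≠ 0) :
    IsZero ((CohIII.koszulCx (ModuleCat.of R R) l).homology i) := by
  have h := isZero_of_ne_zero l I g₁ g₂ h₁ hex h₂ hI hflat i hi A
  have eX : XObj A R A ≅ ModuleCat.of R R :=
    (TensorProduct.AlgebraTensorModule.rid A R R).toModuleIso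
  exact h.of_iso ((HomologicalComplex.homologyFunctor _ _ i).mapIso (kmapIso eX l)).symm

include h₁ hex h₂ hI hflat in
theorem flat_quotient : Module.Flat A (R ⧸ Ideal.ofList l) := by
  rw [Module.Flat.iff_lTensor_injective']
  intro 𝔟
  rw [← homologyMap_zero_injective_iff l 𝔟.subtype]
  exact injective_of_isZero_right l 𝔟.subtype 𝔟.mkQ (Submodule.subtype_injective _)
    (LinearMap.exact_subtype_mkQ 𝔟) (Submodule.mkQ_surjective 𝔟) (-1) 0 (by norm_num)
    (isZero_of_ne_zero l I g₁ g₂ h₁ hex h₂ hI hflat (-1) (by norm_num) (A ⧸ 𝔟))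

end Main

end Groth.Agent.Lib.Helper75.Kz
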