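import Groth.Agent.Lib.Helper75.Kz4
import Mathlib.LinearAlgebra.TensorProduct.Quotient
import Mathlib.RingTheory.Ideal.Quotient.Operations

/- helper75: transfer lemmas for S13972: flatness over a quotient, `(A'/I) ⊗ (R'/L') ≃ (R'/IR')/F`,
Koszul homology of `R' ⊗ A'/I`, and the main lifting theorem `flat_and_regular_of_lift`. -/

set_option autoImplicit false
universe u
open CategoryTheory CategoryTheory.Limits HomologicalComplex CochainComplex HomComplex TensorProduct
open scoped Pointwise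

namespace Groth.Agent.Lib.Helper75.Kz

open Helper98.KoszulFun Helper98.KoszulMod

section FlatQuot

variable {A' : Type u} [CommRing A'] (I : Ideal A') (M' : Type u) [AddCommGroup M'] [Module A' M']

/-- if `(A'/I) ⊗ M'` is flat over `A'/I`, then `M' ⊗ -` is exact on `A'/I`-modules. -/
theorem lTensor_injective_of_flat_quot [Module.Flat (A' ⧸ I) ((A' ⧸ I) ⊗[A'] M')]
    {N₁ N₂ : Type u} [AddCommGroup N₁] [Module A' N₁] [Module (A' ⧸ I) N₁]
    [IsScalarTower A' (A' ⧸ I) N₁] [AddCommGroup N₂] [Module A' N₂] [Module (A' ⧸ I) N₂]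
    [IsScalarTower A' (A' ⧸ I) N₂] (g : N₁ →ₗ[A' ⧸ I] N₂) (hg : Function.Injective g) :
    Function.Injective ((g.restrictScalars A').lTensor M') := by
  rw [LinearMap.lTensor_inj_iff_rTensor_inj]
  have h := Module.Flat.rTensor_preserves_injective_linearMap (M := (A' ⧸ I) ⊗[A'] M') g hg
  let c₁ := TensorProduct.AlgebraTensorModule.cancelBaseChange A' (A' ⧸ I) (A' ⧸ I) N₁ M'
  let c₂ := TensorProduct.AlgebraTensorModule.cancelBaseChange A' (A' ⧸ I) (A' ⧸ I) N₂ M'
  have hsq : ∀ z, c₂ (g.rTensor ((A' ⧸ I) ⊗[A'] M') z) = (g.restrictScalars A').rTensor M' (c₁ z) := by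
    intro z
    induction z using TensorProduct.induction_on with
    | zero => simp
    | tmul n w =>
      induction w using TensorProduct.induction_on with
      | zero => simp
      | tmul a x =>
        simp only [c₁, c₂, LinearMap.rTensor_tmul,
          TensorProduct.AlgebraTensorModule.cancelBaseChange_tmul, LinearMap.coe_restrictScalars,
          map_smul]
      | add w₁ w₂ h₁ h₂ =>
        rw [TensorProduct.tmul_add, map_add, map_add, h₁, h₂, map_add, map_add]
    | add z₁ z₂ h₁ h₂ => rw [map_add, map_add, h₁, h₂, map_add, map_add]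
  intro x y hxy
  have hx : x = c₁ (c₁.symm x) := (c₁.apply_symm_apply x).symm
  have hy : y = c₁ (c₁.symm y) := (c₁.apply_symm_apply y).symm
  rw [hx, hy, ← hsq, ← hsq] at hxy
  rw [hx, hy]
  exact congrArg c₁ (h (c₂.injective hxy))

end FlatQuot

section Mbar

variable {A' R' : Type u} [CommRing A'] [CommRing R'] [Algebra A' R'] (I : Ideal A') (L' : Ideal R')
  (F : Ideal (R' ⧸ I.map (algebraMap A' R')))
  (hF : F = L'.map (Ideal.Quotient.mk (I.map (algebraMap A' R'))))

/-- the ring map `R'/L' → (R'/IR')/F` -/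
noncomputable def psiRing : R' ⧸ L' →+* (R' ⧸ I.map (algebraMap A' R')) ⧸ F :=
  Ideal.Quotient.lift L' ((Ideal.Quotient.mk F).comp (Ideal.Quotient.mk _)) (by
    intro x hx
    rw [RingHom.comp_apply, Ideal.Quotient.eq_zero_iff_mem, hF]
    exact Ideal.mem_map_of_mem _ hx)

lemma psiRing_mk (r : R') :
    psiRing I L' F hF (Ideal.Quotient.mk L' r) =
      Ideal.Quotient.mk F (Ideal.Quotient.mk (I.map (algebraMap A' R')) r) := rfl

/-- the `A'`-linear map `R'/L' → (R'/IR')/F` -/
noncomputable def psi : (R' ⧸ L') →ₗ[A'] (R' ⧸ I.map (algebraMap A' R')) ⧸ F where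
  toFun := psiRing I L' F hF
  map_add' := map_add _
  map_smul' a x := by
    obtain ⟨y, rfl⟩ := Ideal.Quotient.mk_surjective x
    rfl

lemma psi_mk (r : R') :
    psi I L' F hF (Ideal.Quotient.mk L' r) =
      Ideal.Quotient.mk F (Ideal.Quotient.mk (I.map (algebraMap A' R')) r) := rfl

lemma psi_surjective : Function.Surjective (psi I L' F hF) := by
  intro z
  obtain ⟨y, rfl⟩ := Ideal.Quotient.mk_surjective z
  obtain ⟨r, rfl⟩ := Ideal.Quotient.mk_surjective y
  exact ⟨Ideal.Quotient.mk L' r, rfl⟩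

lemma ker_psi : LinearMap.ker (psi I L' F hF) = (I • ⊤ : Submodule A' (R' ⧸ L')) := by
  apply le_antisymm
  · intro x hx
    obtain ⟨r, rfl⟩ := Ideal.Quotient.mk_surjective x
    rw [LinearMap.mem_ker, psi_mk, Ideal.Quotient.eq_zero_iff_mem, hF,
      Ideal.mem_map_iff_of_surjective _ Ideal.Quotient.mk_surjective] at hx
    obtain ⟨ℓ, hℓ, hℓr⟩ := hx
    have h1 : r - ℓ ∈ I.map (algebraMap A' R') := by
      rw [← Ideal.Quotient.eq]
      exact hℓr.symm
    have h2 : r - ℓ ∈ (I • ⊤ : Submodule A' R') := by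
      rw [Ideal.smul_top_eq_map]
      exact h1
    have h3 : Ideal.Quotient.mk L' r = Ideal.Quotient.mk L' (r - ℓ) := by
      rw [map_sub, (Ideal.Quotient.eq_zero_iff_mem).mpr hℓ, sub_zero]
    rw [h3]
    have h4 : (I • ⊤ : Submodule A' R').map ((Submodule.mkQ L').restrictScalars A') ≤
        (I • ⊤ : Submodule A' (R' ⧸ L')) := by
      rw [Submodule.map_smul'']
      exact Submodule.smul_mono le_rfl le_top
    exact h4 (Submodule.mem_map_of_mem h2)
  · rw [Submodule.smul_le]
    intro i hi y _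
    rw [LinearMap.mem_ker, map_smul]
    have : (i : A') • (psi I L' F hF y) = (Ideal.Quotient.mk I i) • (psi I L' F hF y) :=
      (algebraMap_smul (A' ⧸ I) i _).symm
    rw [this, (Ideal.Quotient.eq_zero_iff_mem).mpr hi, zero_smul]

/-- `(A'/I) ⊗ (R'/L') ≃ (R'/IR')/F` -/
noncomputable def mbarEquiv :
    ((A' ⧸ I) ⊗[A'] (R' ⧸ L')) ≃ₗ[A' ⧸ I] (R' ⧸ I.map (algebraMap A' R')) ⧸ F :=
  LinearEquiv.extendScalarsOfSurjective Ideal.Quotient.mk_surjective
    (TensorProduct.quotTensorEquivQuotSMul (R' ⧸ L') I ≪≫ₗ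
      Submodule.quotEquivOfEq _ _ (ker_psi I L' F hF).symm ≪≫ₗ
      (psi I L' F hF).quotKerEquivOfSurjective (psi_surjective I L' F hF))

include hF in
theorem flat_mbar [Module.Flat (A' ⧸ I) ((R' ⧸ I.map (algebraMap A' R')) ⧸ F)] :
    Module.Flat (A' ⧸ I) ((A' ⧸ I) ⊗[A'] (R' ⧸ L')) :=
  Module.Flat.of_linearEquiv (mbarEquiv I L' F hF)

end Mbar

section BridgeX

variable {A' R' : Type u} [CommRing A'] [CommRing R'] [Algebra A' R'] (I : Ideal A')

/-- `R'/IR'` with its quotient module structure is the restriction of scalars of the ring `R'/IR'` -/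
noncomputable def quotResEquiv :
    (R' ⧸ I.map (algebraMap A' R')) ≃ₗ[R']
      ((ModuleCat.restrictScalars (Ideal.Quotient.mk (I.map (algebraMap A' R')))).obj
        (ModuleCat.of (R' ⧸ I.map (algebraMap A' R')) (R' ⧸ I.map (algebraMap A' R')))) where
  toFun x := x
  invFun x := x
  map_add' _ _ := rfl
  map_smul' r x := by
    obtain ⟨y, rfl⟩ := Ideal.Quotient.mk_surjective x
    rfl
  left_inv _ := rfl
  right_inv _ := rfl

theorem isZero_X_quot (l' : List R') (i : ℤ)
    (h : IsZero ((Koszul.koszul (R' ⧸ I.map (algebraMap A' R'))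
      (l'.map (Ideal.Quotient.mk (I.map (algebraMap A' R'))))).homology i)) :
    IsZero ((CohIII.koszulCx (XObj A' R' (A' ⧸ I)) l').homology i) := by
  rw [koszul_eq_koszulCx, ← isZero_homology_restrictScalars_iff] at h
  have eX : XObj A' R' (A' ⧸ I) ≅
      (ModuleCat.restrictScalars (Ideal.Quotient.mk (I.map (algebraMap A' R')))).obj
        (ModuleCat.of (R' ⧸ I.map (algebraMap A' R')) (R' ⧸ I.map (algebraMap A' R'))) :=
    ((Ideal.qoutMapEquivTensorQout R' (I := I)).symm ≪≫ₗ quotResEquiv I).toModuleIso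
  exact h.of_iso ((HomologicalComplex.homologyFunctor _ _ i).mapIso (kmapIso eX l'))

end BridgeX

section Main

variable {A' : Type u} [CommRing A'] [IsLocalRing A'] [IsArtinianRing A'] (I : Ideal A') (hI : I ≠ ⊤)
  {R' : Type u} [CommRing R'] [Algebra A' R'] [Module.Flat A' R'] (l' : List R')
  (hreg : ∀ i : ℤ, i ≠ 0 → IsZero ((Koszul.koszul (R' ⧸ I.map (algebraMap A' R'))
      (l'.map (Ideal.Quotient.mk (I.map (algebraMap A' R'))))).homology i))
  (F : Ideal (R' ⧸ I.map (algebraMap A' R')))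
  (hF : F = (Ideal.ofList l').map (Ideal.Quotient.mk (I.map (algebraMap A' R'))))
  [Module.Flat (A' ⧸ I) ((R' ⧸ I.map (algebraMap A' R')) ⧸ F)]

include hI hreg hF in
/-- lifting flatness and Koszul-regularity from `A'/I` to the Artinian local ring `A'`. -/
theorem flat_and_regular_of_lift :
    Module.Flat A' (R' ⧸ Ideal.ofList l') ∧
      ∀ i : ℤ, i ≠ 0 → IsZero ((Koszul.koszul R' l').homology i) := by
  have hle : I ≤ IsLocalRing.maximalIdeal A' := IsLocalRing.le_maximalIdeal hI
  let mb : Ideal (A' ⧸ I) := (IsLocalRing.maximalIdeal A').map (Ideal.Quotient.mk I)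
  let g₁ : mb →ₗ[A'] (A' ⧸ I) := mb.subtype.restrictScalars A'
  let g₂ : (A' ⧸ I) →ₗ[A'] IsLocalRing.ResidueField A' := Submodule.factor hle
  have h₁ : Function.Injective g₁ := Submodule.subtype_injective _
  have h₂ : Function.Surjective g₂ := Submodule.factor_surjective hle
  have hex : Function.Exact g₁ g₂ := by
    intro x
    obtain ⟨a, rfl⟩ := Ideal.Quotient.mk_surjective x
    have e1 : g₂ (Ideal.Quotient.mk I a) = 0 ↔ a ∈ IsLocalRing.maximalIdeal A' := by
      change Submodule.factor hle (Submodule.mkQ I a) = 0 ↔ _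
      rw [Submodule.factor_mk, Submodule.mkQ_apply, Submodule.Quotient.mk_eq_zero]
    have e2 : Ideal.Quotient.mk I a ∈ Set.range g₁ ↔ Ideal.Quotient.mk I a ∈ mb := by
      constructor
      · rintro ⟨y, hy⟩
        rw [← hy]
        exact y.2
      · intro h
        exact ⟨⟨_, h⟩, rfl⟩
    rw [e1, e2, Ideal.mem_quotient_iff_mem hle]
  have hfin : Module.Finite A' mb := Module.Finite.trans (A' ⧸ I) mb
  have hIz : ∀ i : ℤ, i ≠ 0 → IsZero ((CohIII.koszulCx (XObj A' R' (A' ⧸ I)) l').homology i) :=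
    fun i hi => isZero_X_quot I l' i (hreg i hi)
  have hflat : Function.Injective (g₁.lTensor (R' ⧸ Ideal.ofList l')) := by
    have := flat_mbar I (Ideal.ofList l') F hF
    exact lTensor_injective_of_flat_quot I (R' ⧸ Ideal.ofList l') mb.subtype
      (Submodule.subtype_injective _)
  refine ⟨flat_quotient l' I g₁ g₂ h₁ hex h₂ hIz hflat, fun i hi => ?_⟩
  rw [koszul_eq_koszulCx]
  exact isZero_self l' I g₁ g₂ h₁ hex h₂ hIz hflat i hi

end Main

end Groth.Agent.Lib.Helper75.Kz
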