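import Mathlib.RingTheory.Flat.Tensor
import Mathlib.RingTheory.Nakayama
import Mathlib.RingTheory.Artinian.Ring
import Mathlib.RingTheory.Jacobson.Ideal
import Mathlib.LinearAlgebra.TensorProduct.RightExactness
import Mathlib.RingTheory.Ideal.Quotient.Operations

/- helper75: for `A'` Artinian local, `R'/J'` flat over `A'`: `IR' ∩ J' = IR'·J'`, and an ideal with flat quotient is
determined by its image mod a proper ideal `I` (Nakayama). Used for S13972 part (2). -/

set_option autoImplicit false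
universe u
open TensorProduct

namespace Groth.Agent.Lib.Helper75.Kz

section InfMul

variable {A' R' : Type u} [CommRing A'] [CommRing R'] [Algebra A' R'] (I : Ideal A') (J' : Ideal R')

/-- the multiplication map `I ⊗ R' → R'` -/
noncomputable abbrev muI (Q : Type u) [AddCommGroup Q] [Module A' Q] : I ⊗[A'] Q →ₗ[A'] Q :=
  (TensorProduct.lid A' Q).toLinearMap ∘ₗ (I.subtype.rTensor Q)

lemma muI_tmul (Q : Type u) [AddCommGroup Q] [Module A' Q] (i : I) (x : Q) :
    muI I Q (i ⊗ₜ x) = (i : A') • x := by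
  simp [muI]

lemma muI_naturality {Q₁ Q₂ : Type u} [AddCommGroup Q₁] [Module A' Q₁] [AddCommGroup Q₂]
    [Module A' Q₂] (g : Q₁ →ₗ[A'] Q₂) (t : I ⊗[A'] Q₁) :
    muI I Q₂ (g.lTensor I t) = g (muI I Q₁ t) := by
  induction t using TensorProduct.induction_on with
  | zero => simp
  | tmul i x => rw [LinearMap.lTensor_tmul, muI_tmul, muI_tmul, map_smul]
  | add a b ha hb => rw [map_add, map_add, ha, hb, map_add, map_add]

lemma exists_muI_eq (y : R') (hy : y ∈ I.map (algebraMap A' R')) :
    ∃ t : I ⊗[A'] R', muI I R' t = y := by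
  have hy' : y ∈ (I • ⊤ : Submodule A' R') := by
    rw [Ideal.smul_top_eq_map]
    exact hy
  refine Submodule.smul_induction_on hy' (fun i hi r _ => ⟨(⟨i, hi⟩ : I) ⊗ₜ r, muI_tmul I R' _ r⟩) ?_
  rintro a b ⟨ta, rfl⟩ ⟨tb, rfl⟩
  exact ⟨ta + tb, map_add _ _ _⟩

lemma muI_subtype_mem (s : I ⊗[A'] J') :
    muI I R' ((J'.subtype.restrictScalars A').lTensor I s) ∈ I.map (algebraMap A' R') * J' := by
  induction s using TensorProduct.induction_on with
  | zero => simp
  | tmul i j =>
    rw [LinearMap.lTensor_tmul, muI_tmul, Algebra.smul_def]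
    exact Ideal.mul_mem_mul (Ideal.mem_map_of_mem _ i.2) j.2
  | add a b ha hb =>
    rw [map_add, map_add]
    exact Ideal.add_mem _ ha hb

theorem inf_le_mul_of_flat [Module.Flat A' (R' ⧸ J')] :
    I.map (algebraMap A' R') ⊓ J' ≤ I.map (algebraMap A' R') * J' := by
  rintro y ⟨hy1, hy2⟩
  obtain ⟨t, rfl⟩ := exists_muI_eq I y hy1
  let qJ : R' →ₗ[A'] R' ⧸ J' := (Submodule.mkQ J').restrictScalars A'
  have hq : Function.Surjective qJ := Submodule.mkQ_surjective J'
  have hex : Function.Exact (J'.subtype.restrictScalars A') qJ := by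
    intro r
    change Submodule.mkQ J' r = 0 ↔ _
    rw [Submodule.mkQ_apply, Submodule.Quotient.mk_eq_zero]
    constructor
    · intro hr
      exact ⟨⟨r, hr⟩, rfl⟩
    · rintro ⟨⟨s, hs⟩, rfl⟩
      exact hs
  have h0 : muI I (R' ⧸ J') (qJ.lTensor I t) = 0 := by
    rw [muI_naturality]
    change Submodule.mkQ J' _ = 0
    rw [Submodule.mkQ_apply, Submodule.Quotient.mk_eq_zero]
    exact hy2
  have hinj : Function.Injective (muI I (R' ⧸ J')) := by
    have h1 := (Module.Flat.iff_rTensor_injective' (R := A') (M := R' ⧸ J')).mp inferInstance I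
    exact (TensorProduct.lid A' (R' ⧸ J')).injective.comp h1
  have h1 : qJ.lTensor I t = 0 := hinj (by rw [h0, map_zero])
  obtain ⟨s, rfl⟩ := (lTensor_exact I hex hq t).mp h1
  exact muI_subtype_mem I J' s

end InfMul

section Nak

variable {A' : Type u} [CommRing A'] [IsLocalRing A'] [IsArtinianRing A'] (I : Ideal A')
  {R' : Type u} [CommRing R'] [Algebra A' R']

include I in
lemma map_le_jacobson_bot (hI : I ≠ ⊤) :
    I.map (algebraMap A' R') ≤ Ideal.jacobson (⊥ : Ideal R') := by
  have hle : I ≤ Ideal.jacobson (⊥ : Ideal A') := by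
    rw [IsLocalRing.jacobson_eq_maximalIdeal ⊥ bot_ne_top]
    exact IsLocalRing.le_maximalIdeal hI
  obtain ⟨n, hn⟩ := IsArtinianRing.isNilpotent_jacobson_bot (R := A')
  have hIn : I ^ n = ⊥ := by
    rw [eq_bot_iff, ← Ideal.zero_eq_bot, ← hn]
    exact Ideal.pow_right_mono hle n
  have han : (I.map (algebraMap A' R')) ^ n = ⊥ := by
    rw [← Ideal.map_pow, hIn, Ideal.map_bot]
  intro x hx
  apply Ideal.radical_le_jacobson
  refine ⟨n, ?_⟩
  rw [← han]
  exact Ideal.pow_mem_pow hx n

theorem eq_of_flat_of_map_eq (hI : I ≠ ⊤) [IsNoetherianRing R'] (J' K' : Ideal R')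
    [Module.Flat A' (R' ⧸ J')] (hK : K' ≤ J')
    (hmap : J'.map (Ideal.Quotient.mk (I.map (algebraMap A' R'))) =
      K'.map (Ideal.Quotient.mk (I.map (algebraMap A' R')))) : J' = K' := by
  refine le_antisymm ?_ hK
  refine Submodule.le_of_le_smul_of_le_jacobson_bot (I := I.map (algebraMap A' R'))
    (IsNoetherian.noetherian J') (map_le_jacobson_bot I hI) ?_
  intro x hx
  have h1 : Ideal.Quotient.mk (I.map (algebraMap A' R')) x ∈
      K'.map (Ideal.Quotient.mk (I.map (algebraMap A' R'))) := by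
    rw [← hmap]
    exact Ideal.mem_map_of_mem _ hx
  obtain ⟨y, hy, hyx⟩ := (Ideal.mem_map_iff_of_surjective _ Ideal.Quotient.mk_surjective).mp h1
  have h2 : x - y ∈ I.map (algebraMap A' R') := by
    rw [← Ideal.Quotient.eq]
    exact hyx.symm
  have h3 : x - y ∈ J' := J'.sub_mem hx (hK hy)
  have h4 : x - y ∈ I.map (algebraMap A' R') * J' := inf_le_mul_of_flat I J' ⟨h2, h3⟩
  rw [Submodule.mem_sup]
  exact ⟨y, hy, x - y, h4, by ring⟩

end Nak

end Groth.Agent.Lib.Helper75.Kz
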