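import Groth.Agent.Lib.Helper75.Kz5
import Mathlib.Algebra.Homology.ShortComplex.ExactFunctor
import Mathlib.LinearAlgebra.DirectSum.Finsupp

/- helper75: the exact functor `Y ↦ ι →₀ Y` on modules and Koszul homology of direct sums. -/

set_option autoImplicit false
universe u
open CategoryTheory CategoryTheory.Limits HomologicalComplex CochainComplex HomComplex TensorProduct
open scoped Pointwise

namespace Groth.Agent.Lib.Helper75.Kz

open Helper98.KoszulFun Helper98.KoszulMod

section Finsupp

variable (R : Type u) [CommRing R] (ι : Type u)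

/-- the functor `Y ↦ ι →₀ Y` on `R`-modules -/
noncomputable def finsuppFunctor : ModuleCat.{u} R ⥤ ModuleCat.{u} R where
  obj Y := ModuleCat.of R (ι →₀ Y)
  map f := ModuleCat.ofHom (Finsupp.mapRange.linearMap f.hom)
  map_id Y := by
    ext : 1
    exact Finsupp.mapRange.linearMap_id
  map_comp f g := by
    ext : 1
    exact Finsupp.mapRange.linearMap_comp g.hom f.hom

instance : (finsuppFunctor R ι).Additive where
  map_add {X Y f g} := by
    refine ModuleCat.hom_ext (LinearMap.ext fun x => ?_)
    change Finsupp.mapRange.linearMap (f + g).hom x =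
      Finsupp.mapRange.linearMap f.hom x + Finsupp.mapRange.linearMap g.hom x
    ext s
    simp

lemma finsuppFunctor_exact (S : ShortComplex (ModuleCat.{u} R)) (hS : S.Exact) :
    (S.map (finsuppFunctor R ι)).Exact := by
  classical
  rw [ShortComplex.moduleCat_exact_iff] at hS ⊢
  intro (z : ι →₀ S.X₂) hz
  have hz' : ∀ s, S.g.hom (z s) = 0 := by
    intro s
    have hz2 : Finsupp.mapRange.linearMap S.g.hom z = 0 := hz
    have := DFunLike.congr_fun hz2 s
    simpa using this
  choose c hc using fun s => hS (z s) (hz' s)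
  refine ⟨∑ s ∈ z.support, Finsupp.single s (c s), ?_⟩
  change Finsupp.mapRange.linearMap S.f.hom (∑ s ∈ z.support, Finsupp.single s (c s)) = z
  rw [map_sum]
  simp only [Finsupp.mapRange.linearMap_apply, Finsupp.mapRange_single, hc]
  exact Finsupp.sum_single z

instance : (finsuppFunctor R ι).PreservesHomology :=
  ((Functor.exact_tfae (finsuppFunctor R ι)).out 1 2).mp (finsuppFunctor_exact R ι)

lemma finsuppFunctor_smul (b : R) (Y : ModuleCat.{u} R) :
    (finsuppFunctor R ι).map (b • 𝟙 Y) = b • 𝟙 ((finsuppFunctor R ι).obj Y) := by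
  refine ModuleCat.hom_ext (LinearMap.ext fun x => ?_)
  change Finsupp.mapRange.linearMap (b • 𝟙 Y : Y ⟶ Y).hom x = b • x
  ext s
  simp
  rfl

lemma forall₂_finsupp (l : List R) :
    List.Forall₂ (fun a b => ∀ Y : ModuleCat.{u} R, (finsuppFunctor R ι).map (a • 𝟙 Y) =
      b • 𝟙 ((finsuppFunctor R ι).obj Y)) l l := by
  induction l with
  | nil => exact List.Forall₂.nil
  | cons b l ih => exact List.Forall₂.cons (finsuppFunctor_smul R ι b) ih

variable {R}

/-- Koszul homology vanishing passes to direct sums -/
theorem isZero_homology_finsupp (Y : ModuleCat.{u} R) (l : List R) (i : ℤ)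
    (h : IsZero ((CohIII.koszulCx Y l).homology i)) :
    IsZero ((CohIII.koszulCx (ModuleCat.of R (ι →₀ Y)) l).homology i) := by
  obtain ⟨e⟩ := koszulCx_map_iso (finsuppFunctor R ι) l l (forall₂_finsupp R ι l) Y
  refine IsZero.of_iso ?_ ((HomologicalComplex.homologyFunctor _ _ i).mapIso e).symm
  change IsZero ((((finsuppFunctor R ι).mapHomologicalComplex (ComplexShape.up ℤ)).obj
    (CohIII.koszulCx Y l)).homology i)
  rw [← HomologicalComplex.exactAt_iff_isZero_homology, HomologicalComplex.exactAt_iff] at h ⊢
  exact h.map (finsuppFunctor R ι)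

end Finsupp

end Groth.Agent.Lib.Helper75.Kz
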