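import Groth.Agent.Lib.Helper75.Kz7
import Mathlib.Algebra.Module.Torsion.Basic

/- helper75: lifting Koszul-regularity + flatness along a square-zero thickening of the base ring
(dimension shifting with free modules over `A/J`). Used for S8368. -/

set_option autoImplicit false
universe u
open CategoryTheory CategoryTheory.Limits HomologicalComplex CochainComplex HomComplex TensorProduct
open scoped Pointwise

namespace Groth.Agent.Lib.Helper75.Kz

open Helper98.KoszulFun Helper98.KoszulMod

variable {A B : Type u} [CommRing A] [CommRing B] [Algebra A B] (l : List B)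

section General

/-- acyclicity of `K(l; B)` from that of `K(l; B ⊗ A)` -/
theorem isZero_self_of_X (i : ℤ) (h : IsZero ((CohIII.koszulCx (XObj A B A) l).homology i)) :
    IsZero ((CohIII.koszulCx (ModuleCat.of B B) l).homology i) := by
  have eX : XObj A B A ≅ ModuleCat.of B B :=
    (TensorProduct.AlgebraTensorModule.rid A B B).toModuleIso
  exact h.of_iso ((HomologicalComplex.homologyFunctor _ _ i).mapIso (kmapIso eX l)).symm

variable [Module.Flat A B] in
/-- flatness of `B/(l)` from vanishing of `H^{-1}` on cyclic modules -/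
theorem flat_quotient_of_X
    (h : ∀ 𝔟 : Ideal A, IsZero ((CohIII.koszulCx (XObj A B (A ⧸ 𝔟)) l).homology (-1))) :
    Module.Flat A (B ⧸ Ideal.ofList l) := by
  rw [Module.Flat.iff_lTensor_injective']
  intro 𝔟
  rw [← homologyMap_zero_injective_iff l 𝔟.subtype]
  exact injective_of_isZero_right l 𝔟.subtype 𝔟.mkQ (Submodule.subtype_injective _)
    (LinearMap.exact_subtype_mkQ 𝔟) (Submodule.mkQ_surjective 𝔟) (-1) 0 (by norm_num) (h 𝔟)

end General

section SqZero

variable (J : Ideal A)

lemma isZero_X_finsupp (ι : Type u) (i : ℤ)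
    (h : IsZero ((CohIII.koszulCx (XObj A B (A ⧸ J)) l).homology i)) :
    IsZero ((CohIII.koszulCx (XObj A B (ι →₀ (A ⧸ J))) l).homology i) := by
  classical
  have h' := isZero_homology_finsupp ι (XObj A B (A ⧸ J)) l i h
  have eX : XObj A B (ι →₀ (A ⧸ J)) ≅ ModuleCat.of B (ι →₀ (XObj A B (A ⧸ J))) :=
    (TensorProduct.finsuppRight A B B (A ⧸ J) ι).toModuleIso
  exact h'.of_iso ((HomologicalComplex.homologyFunctor _ _ i).mapIso (kmapIso eX l))

variable [Module.Flat A B]
  (hI : ∀ i : ℤ, i ≠ 0 → IsZero ((CohIII.koszulCx (XObj A B (A ⧸ J)) l).homology i))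
  [Module.Flat (A ⧸ J) ((A ⧸ J) ⊗[A] (B ⧸ Ideal.ofList l))]

omit [Module.Flat A B] in
/-- generic presentation step: `N` is a quotient of a free `A/J`-module -/
lemma exists_presentation (N : Type u) [AddCommGroup N] [Module A N] [Module (A ⧸ J) N]
    [IsScalarTower A (A ⧸ J) N] :
    ∃ (ι : Type u) (N₁ : Type u) (_ : AddCommGroup N₁) (_ : Module A N₁) (_ : Module (A ⧸ J) N₁)
      (_ : IsScalarTower A (A ⧸ J) N₁) (g₁ : N₁ →ₗ[A ⧸ J] (ι →₀ (A ⧸ J)))
      (g₂ : (ι →₀ (A ⧸ J)) →ₗ[A ⧸ J] N),
      Function.Injective g₁ ∧ Function.Exact g₁ g₂ ∧ Function.Surjective g₂ := by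
  let π : (N →₀ (A ⧸ J)) →ₗ[A ⧸ J] N := Finsupp.linearCombination (A ⧸ J) id
  have hπ : Function.Surjective π := Finsupp.linearCombination_id_surjective (A ⧸ J) N
  exact ⟨N, LinearMap.ker π, inferInstance, inferInstance, inferInstance, inferInstance,
    (LinearMap.ker π).subtype, π, Submodule.subtype_injective _,
    LinearMap.exact_subtype_ker_map π, hπ⟩

include hI in
theorem isZero_quot_module_aux (j : ℕ) : ∀ i : ℤ, i = -(j : ℤ) - 1 →
    ∀ (N : Type u) [AddCommGroup N] [Module A N] [Module (A ⧸ J) N] [IsScalarTower A (A ⧸ J) N],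
      IsZero ((CohIII.koszulCx (XObj A B N) l).homology i) := by
  induction j with
  | zero =>
    intro i hi N _ _ _ _
    have hi' : i = -1 := by simpa using hi
    subst hi'
    obtain ⟨ι, N₁, _, _, _, _, g₁, g₂, h₁, hex, h₂⟩ := exists_presentation J N
    have hinj : Function.Injective ((g₁.restrictScalars A).lTensor (B ⧸ Ideal.ofList l)) :=
      lTensor_injective_of_flat_quot J (B ⧸ Ideal.ofList l) g₁ h₁
    exact isZero_right_of_injective l (g₁.restrictScalars A) (g₂.restrictScalars A)
      h₁ hex h₂ (-1) 0 (by norm_num)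
      (isZero_X_finsupp l J ι (-1) (hI (-1) (by norm_num)))
      ((homologyMap_zero_injective_iff l _).mpr hinj)
  | succ j ih =>
    intro i hi N _ _ _ _
    obtain ⟨ι, N₁, _, _, _, _, g₁, g₂, h₁, hex, h₂⟩ := exists_presentation J N
    exact isZero_right l (g₁.restrictScalars A) (g₂.restrictScalars A)
      h₁ hex h₂ i (i + 1) rfl
      (isZero_X_finsupp l J ι i (hI i (by push_cast at hi; omega)))
      (ih (i + 1) (by push_cast at hi; omega) N₁)

include hI in
theorem isZero_of_torsion (N : Type u) [AddCommGroup N] [Module A N]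
    (hN : Module.IsTorsionBySet A N J) (i : ℤ) (hi : i ≠ 0) :
    IsZero ((CohIII.koszulCx (XObj A B N) l).homology i) := by
  rcases lt_or_gt_of_ne hi with h | h
  · let _ := hN.module
    have : IsScalarTower A (A ⧸ J) N := hN.isScalarTower
    exact isZero_quot_module_aux l J hI (-i - 1).toNat i (by omega) N
  · exact isZero_koszulCx_homology_pos _ l i h

include hI in
theorem isZero_of_sq_zero (hJ : J * J = ⊥) (N : Type u) [AddCommGroup N] [Module A N]
    (i : ℤ) (hi : i ≠ 0) : IsZero ((CohIII.koszulCx (XObj A B N) l).homology i) := by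
  let N' : Submodule A N := J • ⊤
  have h1 : Module.IsTorsionBySet A N' J := by
    intro x a
    apply Subtype.ext
    have : (a : A) • (x : N) ∈ (J * J) • (⊤ : Submodule A N) := by
      rw [Submodule.mul_smul]
      exact Submodule.smul_mem_smul a.2 x.2
    rw [hJ, Submodule.bot_smul, Submodule.mem_bot] at this
    exact this
  have h2 : Module.IsTorsionBySet A (N ⧸ N') J := Module.isTorsionBySet_quotient_ideal_smul N J
  exact isZero_mid l N'.subtype N'.mkQ (Submodule.subtype_injective _)
    (LinearMap.exact_subtype_mkQ N') (Submodule.mkQ_surjective N') i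
    (isZero_of_torsion l J hI N' h1 i hi) (isZero_of_torsion l J hI (N ⧸ N') h2 i hi)

end SqZero

section Final

variable [Module.Flat A B] (J : Ideal A)

/-- lifting Koszul-regularity and flatness along a square-zero thickening of the base -/
theorem regular_and_flat_of_sq_zero (hJ : J * J = ⊥)
    (hreg : ∀ i : ℤ, i ≠ 0 → IsZero ((Koszul.koszul (B ⧸ J.map (algebraMap A B))
      (l.map (Ideal.Quotient.mk (J.map (algebraMap A B))))).homology i))
    (F : Ideal (B ⧸ J.map (algebraMap A B)))
    (hF : F = (Ideal.ofList l).map (Ideal.Quotient.mk (J.map (algebraMap A B))))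
    [Module.Flat (A ⧸ J) ((B ⧸ J.map (algebraMap A B)) ⧸ F)] :
    (∀ i : ℤ, i ≠ 0 → IsZero ((Koszul.koszul B l).homology i)) ∧
      Module.Flat A (B ⧸ Ideal.ofList l) := by
  have hIz : ∀ i : ℤ, i ≠ 0 → IsZero ((CohIII.koszulCx (XObj A B (A ⧸ J)) l).homology i) :=
    fun i hi => isZero_X_quot J l i (hreg i hi)
  have := flat_mbar J (Ideal.ofList l) F hF
  have hall := fun (N : Type u) [AddCommGroup N] [Module A N] (i : ℤ) (hi : i ≠ 0) =>
    isZero_of_sq_zero l J hIz hJ N i hi
  refine ⟨fun i hi => ?_, flat_quotient_of_X l (fun 𝔟 => hall (A ⧸ 𝔟) (-1) (by norm_num))⟩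
  rw [koszul_eq_koszulCx]
  exact isZero_self_of_X l i (hall A i hi)

end Final

end Groth.Agent.Lib.Helper75.Kz
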