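import Mathlib

/- helper75: monomial ideals (X_j^n) in MvPolynomial: membership, X_j^n weakly regular. Used for S4475. -/
set_option autoImplicit false
universe u
open MvPolynomial

namespace Groth.Agent.Lib.Helper75.Kz

variable {A : Type u} [CommRing A] {σ : Type*}

lemma ofList_map_X_pow (js : List σ) (n : ℕ) :
    Ideal.ofList (js.map (fun j => (X j : MvPolynomial σ A) ^ n)) =
      Ideal.span ((fun s : σ →₀ ℕ => monomial s (1 : A)) '' {s | ∃ j ∈ js, s = Finsupp.single j n}) := by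
  unfold Ideal.ofList
  congr 1
  ext p
  simp only [List.mem_map, Set.mem_ofPred_eq, Set.mem_image]
  constructor
  · rintro ⟨j, hj, rfl⟩
    exact ⟨Finsupp.single j n, ⟨j, hj, rfl⟩, (X_pow_eq_monomial).symm⟩
  · rintro ⟨s, ⟨j, hj, rfl⟩, rfl⟩
    exact ⟨j, hj, X_pow_eq_monomial⟩

lemma mem_ofList_map_X_pow_iff (js : List σ) (n : ℕ) (p : MvPolynomial σ A) :
    p ∈ Ideal.ofList (js.map (fun j => (X j : MvPolynomial σ A) ^ n)) ↔
      ∀ d ∈ p.support, ∃ j ∈ js, n ≤ d j := by
  rw [ofList_map_X_pow, mem_ideal_span_monomial_image]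
  refine forall₂_congr fun d _ => ?_
  constructor
  · rintro ⟨s, ⟨j, hj, rfl⟩, hle⟩
    exact ⟨j, hj, Finsupp.single_le_iff.mp hle⟩
  · rintro ⟨j, hj, hle⟩
    exact ⟨_, ⟨j, hj, rfl⟩, Finsupp.single_le_iff.mpr hle⟩

lemma isSMulRegular_quot_X_pow [DecidableEq σ] (js : List σ) (j : σ) (hj : j ∉ js) (n : ℕ) :
    IsSMulRegular (MvPolynomial σ A ⧸
      (Ideal.ofList (js.map (fun j => (X j : MvPolynomial σ A) ^ n)) • ⊤ :
        Submodule (MvPolynomial σ A) (MvPolynomial σ A))) ((X j : MvPolynomial σ A) ^ n) := by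
  rw [isSMulRegular_quotient_iff_mem_of_smul_mem]
  intro p hp
  rw [smul_eq_mul, Ideal.mul_top] at hp ⊢
  rw [mem_ofList_map_X_pow_iff] at hp ⊢
  intro d hd
  have h1 : Finsupp.single j n + d ∈ ((X j : MvPolynomial σ A) ^ n • p).support := by
    rw [mem_support_iff, smul_eq_mul, X_pow_eq_monomial, coeff_monomial_mul, one_mul]
    exact mem_support_iff.mp hd
  obtain ⟨k, hk, hle⟩ := hp _ h1
  refine ⟨k, hk, ?_⟩
  have hkj : k ≠ j := fun h => hj (h ▸ hk)
  rwa [Finsupp.add_apply, Finsupp.single_apply, if_neg (Ne.symm hkj), zero_add] at hle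

lemma isWeaklyRegular_X_pow [DecidableEq σ] (js : List σ) (hjs : js.Nodup) (n : ℕ) :
    RingTheory.Sequence.IsWeaklyRegular (MvPolynomial σ A)
      (js.map (fun j => (X j : MvPolynomial σ A) ^ n)) := by
  induction js using List.reverseRecOn with
  | nil => exact RingTheory.Sequence.IsWeaklyRegular.nil _ _
  | append_singleton l j ih =>
    rw [List.nodup_append] at hjs
    obtain ⟨hl, -, hdisj⟩ := hjs
    have hj : j ∉ l := fun h => hdisj j h j (List.mem_singleton.mpr rfl) rfl
    rw [List.map_append, RingTheory.Sequence.isWeaklyRegular_append_iff]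
    refine ⟨ih hl, ?_⟩
    rw [List.map_singleton, RingTheory.Sequence.isWeaklyRegular_singleton_iff]
    exact isSMulRegular_quot_X_pow l j hj n

end Groth.Agent.Lib.Helper75.Kz
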