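import Groth.Agent.Lib.Helper75.LocalizationColimit
import Mathlib.Algebra.Category.ModuleCat.ChangeOfRings
import Mathlib.RingTheory.LocalProperties.Exactness
import Mathlib.RingTheory.Localization.AtPrime.Basic
import Mathlib.RingTheory.Localization.Module
import Mathlib.Algebra.Module.LocalizedModule.Exact
import Mathlib.Algebra.Homology.ShortComplex.ModuleCat
import Mathlib.Algebra.Homology.ShortComplex.ExactFunctor

set_option autoImplicit false
universe u

namespace Groth.Agent.Lib.Helper75

open CategoryTheory CategoryTheory.Limits

variable {A : Type u} [CommRing A] (S : Submonoid A)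

/-- the localized module as a module over the localized ring -/
noncomputable def locObj (X : ModuleCat.{u} A) : ModuleCat.{u} (Localization S) :=
  ModuleCat.of (Localization S) (LocalizedModule S X)

/-- the localized map -/
noncomputable def locMap {X Y : ModuleCat.{u} A} (f : X ⟶ Y) : locObj S X ⟶ locObj S Y :=
  ModuleCat.ofHom (LocalizedModule.map S f.hom)

theorem locMap_apply {X Y : ModuleCat.{u} A} (f : X ⟶ Y) (x : LocalizedModule S X) :
    (locMap S f).hom x = LocalizedModule.map S f.hom x := rfl

/-- restriction of scalars of the localized module -/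
noncomputable def resLoc (X : ModuleCat.{u} A) : ModuleCat.{u} A :=
  (ModuleCat.restrictScalars (algebraMap A (Localization S))).obj (locObj S X)

/-- the identity function -/
def toRes (X : ModuleCat.{u} A) : LocalizedModule S X → resLoc S X := fun x => x

/-- the identity function -/
def ofRes (X : ModuleCat.{u} A) : resLoc S X → LocalizedModule S X := fun x => x

theorem toRes_smul (X : ModuleCat.{u} A) (a : A) (x : LocalizedModule S X) :
    toRes S X (a • x) = a • toRes S X x :=
  (algebraMap_smul (Localization S) a x).symm

theorem toRes_add (X : ModuleCat.{u} A) (x y : LocalizedModule S X) :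
    toRes S X (x + y) = toRes S X x + toRes S X y := rfl

/-- the identity, as an `A`-linear equivalence -/
noncomputable def resEquiv (X : ModuleCat.{u} A) :
    LocalizedModule S X ≃ₗ[A] resLoc S X where
  toFun := toRes S X
  invFun := ofRes S X
  map_add' := toRes_add S X
  map_smul' := toRes_smul S X
  left_inv _ := rfl
  right_inv _ := rfl

/-- the localization map into the restricted module -/
noncomputable def locι (X : ModuleCat.{u} A) : X ⟶ resLoc S X :=
  ModuleCat.ofHom (X := X) (Y := resLoc S X)
    ((resEquiv S X).toLinearMap ∘ₗ LocalizedModule.mkLinearMap S X)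

instance (X : ModuleCat.{u} A) : IsLocalizedModule S (locι S X).hom := by
  change IsLocalizedModule S ((resEquiv S X).toLinearMap ∘ₗ LocalizedModule.mkLinearMap S X)
  infer_instance

theorem locι_apply (X : ModuleCat.{u} A) (x : X) :
    (locι S X).hom x = toRes S X (LocalizedModule.mk x 1) := rfl

/-- the localized map between restricted modules -/
noncomputable def resMap {X Y : ModuleCat.{u} A} (f : X ⟶ Y) : resLoc S X ⟶ resLoc S Y :=
  (ModuleCat.restrictScalars (algebraMap A (Localization S))).map (locMap S f)

theorem locι_naturality {X Y : ModuleCat.{u} A} (f : X ⟶ Y) :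
    locι S X ≫ resMap S f = f ≫ locι S Y := by
  apply ModuleCat.hom_ext
  apply LinearMap.ext
  intro x
  exact LocalizedModule.map_mk S f.hom x 1


theorem locMap_coe {X Y : ModuleCat.{u} A} (f : X ⟶ Y) :
    ((locMap S f).hom : LocalizedModule S X → LocalizedModule S Y) =
      IsLocalizedModule.map S (LocalizedModule.mkLinearMap S X) (LocalizedModule.mkLinearMap S Y)
        f.hom := rfl

/-- the localized short complex -/
noncomputable def locSC (C : ShortComplex (ModuleCat.{u} A)) :
    ShortComplex (ModuleCat.{u} (Localization S)) :=
  ShortComplex.mk (locMap S C.f) (locMap S C.g) (by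
    apply ModuleCat.hom_ext
    apply LinearMap.ext
    intro x
    induction x using LocalizedModule.induction_on with
    | h m s =>
      change LocalizedModule.map S C.g.hom (LocalizedModule.map S C.f.hom (LocalizedModule.mk m s)) = 0
      rw [LocalizedModule.map_mk, LocalizedModule.map_mk]
      have h0 : C.g.hom (C.f.hom m) = 0 := by
        rw [← LinearMap.comp_apply, ← ModuleCat.hom_comp, C.zero]
        rfl
      rw [h0, LocalizedModule.zero_mk])

theorem locSC_shortExact (C : ShortComplex (ModuleCat.{u} A)) (hC : C.ShortExact) :
    (locSC S C).ShortExact := by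
  have hex : Function.Exact C.f.hom C.g.hom :=
    (ShortComplex.ShortExact.moduleCat_exact_iff_function_exact C).mp hC.exact
  have hinj : Function.Injective C.f.hom := (ModuleCat.mono_iff_injective _).mp hC.mono_f
  have hsurj : Function.Surjective C.g.hom := (ModuleCat.epi_iff_surjective _).mp hC.epi_g
  have h1 : (locSC S C).Exact := by
    apply (ShortComplex.ShortExact.moduleCat_exact_iff_function_exact (locSC S C)).mpr
    exact LocalizedModule.map_exact S C.f.hom C.g.hom hex
  have h2 : Mono (locSC S C).f := by
    apply (ModuleCat.mono_iff_injective _).mpr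
    exact LocalizedModule.map_injective S C.f.hom hinj
  have h3 : Epi (locSC S C).g := by
    apply (ModuleCat.epi_iff_surjective _).mpr
    exact LocalizedModule.map_surjective S C.g.hom hsurj
  exact ShortComplex.ShortExact.mk h1

/-- generalization: any localization map is sent to a localization map -/
theorem isLocalizedModule_map_of_isLocalizedModule
    (T : ModuleCat.{u} A ⥤ ModuleCat.{u} A) [T.Additive] [T.Linear A]
    (hT : ∀ (J : Type u) [SmallCategory J] [IsFiltered J], PreservesColimitsOfShape J T)
    {M N : ModuleCat.{u} A} (g : M ⟶ N) [hg : IsLocalizedModule S g.hom] :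
    IsLocalizedModule S (T.map g).hom := by
  let e : LocalizedModule S M ≃ₗ[A] N := IsLocalizedModule.iso S g.hom
  let E : ModuleCat.of A (LocalizedModule S M) ≅ N := e.toModuleIso
  have hg' : g = ModuleCat.ofHom (LocalizedModule.mkLinearMap S M) ≫ E.hom := by
    apply ModuleCat.hom_ext
    apply LinearMap.ext
    intro x
    change g.hom x = e (LocalizedModule.mkLinearMap S M x)
    exact (IsLocalizedModule.iso_mk_one S g.hom x).symm
  have h1 := isLocalizedModule_map S M T hT
  have h2 : (T.map g).hom = ((T.mapIso E).toLinearEquiv).toLinearMap ∘ₗ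
      (T.map (ModuleCat.ofHom (LocalizedModule.mkLinearMap S M))).hom := by
    rw [hg', T.map_comp]
    rfl
  rw [h2]
  exact IsLocalizedModule.of_linearEquiv S _ _

section main

variable (T : ModuleCat.{u} A ⥤ ModuleCat.{u} A) [T.Additive] [T.Linear A]
  (hT : ∀ (J : Type u) [SmallCategory J] [IsFiltered J], PreservesColimitsOfShape J T)

include hT in
theorem isLocalizedModule_map_locι (X : ModuleCat.{u} A) :
    IsLocalizedModule S (T.map (locι S X)).hom :=
  isLocalizedModule_map_of_isLocalizedModule S T hT (locι S X)

omit [T.Additive] [T.Linear A] in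
/-- the map induced on localizations by `T f` is `T` of the localized map -/
theorem map_map_eq {X Y : ModuleCat.{u} A} (f : X ⟶ Y)
    [IsLocalizedModule S (T.map (locι S X)).hom] [IsLocalizedModule S (T.map (locι S Y)).hom] :
    IsLocalizedModule.map S (T.map (locι S X)).hom (T.map (locι S Y)).hom (T.map f).hom =
      (T.map (resMap S f)).hom := by
  apply IsLocalizedModule.linearMap_ext S (T.map (locι S X)).hom (T.map (locι S Y)).hom
  rw [IsLocalizedModule.map_comp, ← ModuleCat.hom_comp, ← ModuleCat.hom_comp, ← T.map_comp,
    ← T.map_comp, locι_naturality]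

include hT in
theorem preservesFiniteLimits_of_local
    (h : ∀ (m : Ideal A) [m.IsMaximal],
        PreservesFiniteLimits
          (ModuleCat.restrictScalars (algebraMap A (Localization.AtPrime m)) ⋙ T)) :
    PreservesFiniteLimits T := by
  apply ((Functor.preservesFiniteLimits_tfae T).out 3 0 :).mpr
  intro C hC
  have hloc : ∀ (m : Ideal A) [m.IsMaximal],
      Function.Exact (T.map (resMap m.primeCompl C.f)).hom (T.map (resMap m.primeCompl C.g)).hom ∧
      Function.Injective (T.map (resMap m.primeCompl C.f)).hom := by
    intro m _
    have h' := h m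
    obtain ⟨hex, hmono⟩ := ((Functor.preservesFiniteLimits_tfae
      (ModuleCat.restrictScalars (algebraMap A (Localization.AtPrime m)) ⋙ T)).out 3 0 :).mp h'
      (locSC m.primeCompl C) (locSC_shortExact m.primeCompl C hC)
    constructor
    · exact (ShortComplex.ShortExact.moduleCat_exact_iff_function_exact _).mp hex
    · exact (ModuleCat.mono_iff_injective _).mp hmono
  have hinst : ∀ (X : ModuleCat.{u} A) (m : Ideal A) [m.IsMaximal],
      IsLocalizedModule.AtPrime m (T.map (locι m.primeCompl X)).hom :=
    fun X m _ => isLocalizedModule_map_locι m.primeCompl T hT X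
  have hinst1 := hinst C.X₁
  have hinst2 := hinst C.X₂
  have hinst3 := hinst C.X₃
  constructor
  · apply (ShortComplex.ShortExact.moduleCat_exact_iff_function_exact (C.map T)).mpr
    apply @exact_of_isLocalized_maximal A _ _ _ _ _ _ _ _ _ _
      (fun m _ => T.obj (resLoc m.primeCompl C.X₁)) _ _
      (fun m _ => (T.map (locι m.primeCompl C.X₁)).hom) hinst1
      (fun m _ => T.obj (resLoc m.primeCompl C.X₂)) _ _
      (fun m _ => (T.map (locι m.primeCompl C.X₂)).hom) hinst2
      (fun m _ => T.obj (resLoc m.primeCompl C.X₃)) _ _
      (fun m _ => (T.map (locι m.primeCompl C.X₃)).hom) hinst3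
      (T.map C.f).hom (T.map C.g).hom
    intro m _
    rw [map_map_eq, map_map_eq]
    exact (hloc m).1
  · apply (ModuleCat.mono_iff_injective _).mpr
    apply @injective_of_isLocalized_maximal A _ _ _ _ _ _ _
      (fun m _ => T.obj (resLoc m.primeCompl C.X₁)) _ _
      (fun m _ => (T.map (locι m.primeCompl C.X₁)).hom) hinst1
      (fun m _ => T.obj (resLoc m.primeCompl C.X₂)) _ _
      (fun m _ => (T.map (locι m.primeCompl C.X₂)).hom) hinst2
      (T.map C.f).hom
    intro m _
    rw [map_map_eq]
    exact (hloc m).2

include hT in
theorem preservesFiniteColimits_of_local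
    (h : ∀ (m : Ideal A) [m.IsMaximal],
        PreservesFiniteColimits
          (ModuleCat.restrictScalars (algebraMap A (Localization.AtPrime m)) ⋙ T)) :
    PreservesFiniteColimits T := by
  apply ((Functor.preservesFiniteColimits_tfae T).out 3 0 :).mpr
  intro C hC
  have hloc : ∀ (m : Ideal A) [m.IsMaximal],
      Function.Exact (T.map (resMap m.primeCompl C.f)).hom (T.map (resMap m.primeCompl C.g)).hom ∧
      Function.Surjective (T.map (resMap m.primeCompl C.g)).hom := by
    intro m _
    have h' := h m
    obtain ⟨hex, hepi⟩ := ((Functor.preservesFiniteColimits_tfae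
      (ModuleCat.restrictScalars (algebraMap A (Localization.AtPrime m)) ⋙ T)).out 3 0 :).mp h'
      (locSC m.primeCompl C) (locSC_shortExact m.primeCompl C hC)
    constructor
    · exact (ShortComplex.ShortExact.moduleCat_exact_iff_function_exact _).mp hex
    · exact (ModuleCat.epi_iff_surjective _).mp hepi
  have hinst : ∀ (X : ModuleCat.{u} A) (m : Ideal A) [m.IsMaximal],
      IsLocalizedModule.AtPrime m (T.map (locι m.primeCompl X)).hom :=
    fun X m _ => isLocalizedModule_map_locι m.primeCompl T hT X
  have hinst1 := hinst C.X₁
  have hinst2 := hinst C.X₂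
  have hinst3 := hinst C.X₃
  constructor
  · apply (ShortComplex.ShortExact.moduleCat_exact_iff_function_exact (C.map T)).mpr
    apply @exact_of_isLocalized_maximal A _ _ _ _ _ _ _ _ _ _
      (fun m _ => T.obj (resLoc m.primeCompl C.X₁)) _ _
      (fun m _ => (T.map (locι m.primeCompl C.X₁)).hom) hinst1
      (fun m _ => T.obj (resLoc m.primeCompl C.X₂)) _ _
      (fun m _ => (T.map (locι m.primeCompl C.X₂)).hom) hinst2
      (fun m _ => T.obj (resLoc m.primeCompl C.X₃)) _ _
      (fun m _ => (T.map (locι m.primeCompl C.X₃)).hom) hinst3
      (T.map C.f).hom (T.map C.g).hom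
    intro m _
    rw [map_map_eq, map_map_eq]
    exact (hloc m).1
  · apply (ModuleCat.epi_iff_surjective _).mpr
    apply @surjective_of_isLocalized_maximal A _ _ _ _ _ _ _
      (fun m _ => T.obj (resLoc m.primeCompl C.X₂)) _ _
      (fun m _ => (T.map (locι m.primeCompl C.X₂)).hom) hinst2
      (fun m _ => T.obj (resLoc m.primeCompl C.X₃)) _ _
      (fun m _ => (T.map (locι m.primeCompl C.X₃)).hom) hinst3
      (T.map C.g).hom
    intro m _
    rw [map_map_eq]
    exact (hloc m).2

end main

end Groth.Agent.Lib.Helper75
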