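import Mathlib.Algebra.Category.ModuleCat.Abelian
import Mathlib.Algebra.Category.ModuleCat.Colimits
import Mathlib.Algebra.Category.ModuleCat.FilteredColimits
import Mathlib.CategoryTheory.Linear.LinearFunctor
import Mathlib.CategoryTheory.Filtered.Basic
import Mathlib.Algebra.Module.LocalizedModule.Basic
import Mathlib.CategoryTheory.Limits.ConcreteCategory.Basic
import Mathlib.CategoryTheory.Limits.Types.Filtered

set_option autoImplicit false
universe u

namespace Groth.Agent.Lib.Helper75

open CategoryTheory CategoryTheory.Limits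

variable {A : Type u} [CommRing A]

/-- index category for the presentation of a localization as a filtered colimit -/
structure LocIdx (S : Submonoid A) : Type u where
  val : S

variable (S : Submonoid A)

instance : SmallCategory (LocIdx S) where
  Hom s t := {u : S // u * s.val = t.val}
  id s := ⟨1, one_mul _⟩
  comp f g := ⟨g.1 * f.1, by rw [mul_assoc, f.2, g.2]⟩
  id_comp f := Subtype.ext (mul_one _)
  comp_id f := Subtype.ext (one_mul _)
  assoc f g h := Subtype.ext (mul_assoc _ _ _).symm

theorem LocIdx.comp_val {s t r : LocIdx S} (f : s ⟶ t) (g : t ⟶ r) : (f ≫ g).1 = g.1 * f.1 := rfl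

theorem LocIdx.id_val (s : LocIdx S) : (𝟙 s : s ⟶ s).1 = 1 := rfl

instance : IsFiltered (LocIdx S) where
  cocone_objs s t := ⟨⟨s.val * t.val⟩, ⟨t.val, mul_comm _ _⟩, ⟨s.val, rfl⟩, trivial⟩
  cocone_maps s t f g := ⟨⟨s.val * t.val⟩, ⟨s.val, rfl⟩, Subtype.ext (by
    change s.val * f.1 = s.val * g.1
    rw [mul_comm, f.2, mul_comm, g.2])⟩
  nonempty := ⟨⟨1⟩⟩

variable (M : ModuleCat.{u} A)

/-- the diagram `s ↦ M` with transition maps given by multiplication -/
noncomputable def locFunctor : LocIdx S ⥤ ModuleCat.{u} A where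
  obj _ := M
  map f := ModuleCat.ofHom (LinearMap.lsmul A M ((f.1 : S) : A))
  map_id s := by
    ext x
    simp [LocIdx.id_val]
  map_comp f g := by
    ext x
    simp only [LocIdx.comp_val, ModuleCat.hom_comp, ModuleCat.hom_ofHom, LinearMap.coe_comp,
      Function.comp_apply, LinearMap.lsmul_apply, Submonoid.coe_mul, mul_smul]

theorem locFunctor_map_apply {s t : LocIdx S} (f : s ⟶ t) (x : M) :
    ((locFunctor S M).map f).hom x = ((f.1 : S) : A) • x := rfl

/-- the cocone with point `S⁻¹M` -/
noncomputable def locCocone : Cocone (locFunctor S M) where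
  pt := ModuleCat.of A (LocalizedModule S M)
  ι :=
    { app := fun s => ModuleCat.ofHom
        ((LocalizedModule.divBy s.val) ∘ₗ LocalizedModule.mkLinearMap S M)
      naturality := by
        intro s t f
        ext x
        change LocalizedModule.divBy t.val (LocalizedModule.mkLinearMap S M (((f.1 : S) : A) • x)) =
          LocalizedModule.divBy s.val (LocalizedModule.mkLinearMap S M x)
        rw [LocalizedModule.mkLinearMap_apply, LocalizedModule.mkLinearMap_apply,
          LocalizedModule.divBy_apply, LocalizedModule.divBy_apply, LocalizedModule.liftOn_mk,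
          LocalizedModule.liftOn_mk, one_mul, one_mul]
        have h := LocalizedModule.mk_cancel_common_left (S := S) f.1 s.val (x : M)
        rw [f.2] at h
        exact h }

theorem locCocone_ι_apply (s : LocIdx S) (x : M) :
    ((locCocone S M).ι.app s).hom x = LocalizedModule.mk x s.val := by
  change LocalizedModule.divBy s.val (LocalizedModule.mkLinearMap S M x) = _
  rw [LocalizedModule.mkLinearMap_apply, LocalizedModule.divBy_apply, LocalizedModule.liftOn_mk,
    one_mul]

/-- `S⁻¹M` is the filtered colimit of the diagram `locFunctor S M` -/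
noncomputable def locCoconeIsColimit : IsColimit (locCocone S M) := by
  have h1 : ReflectsColimitsOfShape (LocIdx S) (forget (ModuleCat.{u} A)) :=
    ReflectsFilteredColimitsOfSize.reflects_filtered_colimits _
  apply isColimitOfReflects (forget (ModuleCat.{u} A))
  apply Types.FilteredColimit.isColimitOf
  · intro x
    induction x using LocalizedModule.induction_on with
    | h m s => exact ⟨⟨s⟩, m, (locCocone_ι_apply S M ⟨s⟩ m).symm⟩
  · intro i j xi xj h
    have h' : LocalizedModule.mk (xi : M) i.val = LocalizedModule.mk (xj : M) j.val :=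
      (locCocone_ι_apply S M i xi).symm.trans (h.trans (locCocone_ι_apply S M j xj))
    obtain ⟨u, hu⟩ := LocalizedModule.mk_eq.mp h'
    refine ⟨⟨u * i.val * j.val⟩, ⟨u * j.val, mul_right_comm _ _ _⟩, ⟨u * i.val, rfl⟩, ?_⟩
    change (((u * j.val : S) : A)) • (xi : M) = (((u * i.val : S) : A)) • (xj : M)
    rw [← Submonoid.smul_def, ← Submonoid.smul_def, mul_smul, mul_smul]
    exact hu

theorem map_lsmul_apply (T : ModuleCat.{u} A ⥤ ModuleCat.{u} A) [T.Additive] [T.Linear A]
    (N : ModuleCat.{u} A) (a : A) (y : T.obj N) :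
    (T.map (ModuleCat.ofHom (LinearMap.lsmul A N a))).hom y = a • y := by
  have h : ModuleCat.ofHom (LinearMap.lsmul A N a) = a • 𝟙 N := by
    ext x
    simp
  rw [h, Functor.map_smul, T.map_id]
  simp

/-- the legs of the cocone as morphisms out of `M` -/
noncomputable def locLeg (s : S) :
    M ⟶ ModuleCat.of A (LocalizedModule S M) :=
  ModuleCat.ofHom ((LocalizedModule.divBy s) ∘ₗ LocalizedModule.mkLinearMap S M)

theorem locLeg_apply (s : S) (x : M) :
    (locLeg S M s).hom x = LocalizedModule.mk x s :=
  locCocone_ι_apply S M ⟨s⟩ x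

theorem locLeg_one :
    locLeg S M 1 = ModuleCat.ofHom (LocalizedModule.mkLinearMap S M) := by
  apply ModuleCat.hom_ext
  apply LinearMap.ext
  intro x
  exact (locLeg_apply S M 1 x).trans rfl

theorem locLeg_w (s u : S) :
    ModuleCat.ofHom (LinearMap.lsmul A M ((u : S) : A)) ≫ locLeg S M (u * s) = locLeg S M s := by
  let f : (⟨s⟩ : LocIdx S) ⟶ ⟨u * s⟩ := ⟨u, rfl⟩
  exact (locCocone S M).w f

theorem map_locLeg_smul (T : ModuleCat.{u} A ⥤ ModuleCat.{u} A) [T.Additive] [T.Linear A]
    (s u : S) (x : T.obj M) :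
    (T.map (locLeg S M s)).hom x = ((u : S) : A) • (T.map (locLeg S M (u * s))).hom x := by
  rw [← locLeg_w S M s u, T.map_comp, ModuleCat.hom_comp, LinearMap.comp_apply, map_lsmul_apply,
    map_smul]

theorem map_units_aux (T : ModuleCat.{u} A ⥤ ModuleCat.{u} A) [T.Additive] [T.Linear A]
    (s : S) :
    IsUnit ((algebraMap A (Module.End A (T.obj (ModuleCat.of A (LocalizedModule S M))))) s) := by
  let N : ModuleCat.{u} A := ModuleCat.of A (LocalizedModule S M)
  let d : N ⟶ N := ModuleCat.ofHom (LocalizedModule.divBy s)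
  let m : N ⟶ N := ModuleCat.ofHom (LinearMap.lsmul A N ((s : S) : A))
  have h1 : d ≫ m = 𝟙 N := by
    apply ModuleCat.hom_ext
    apply LinearMap.ext
    intro x
    exact LocalizedModule.mul_by_divBy s x
  have h2 : m ≫ d = 𝟙 N := by
    apply ModuleCat.hom_ext
    apply LinearMap.ext
    intro x
    exact LocalizedModule.divBy_mul_by s x
  have h1' : ∀ y : T.obj N, ((s : S) : A) • (T.map d).hom y = y := by
    intro y
    rw [← map_lsmul_apply T N, ← LinearMap.comp_apply, ← ModuleCat.hom_comp, ← T.map_comp, h1,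
      T.map_id]
    rfl
  have h2' : ∀ y : T.obj N, (T.map d).hom (((s : S) : A) • y) = y := by
    intro y
    rw [← map_lsmul_apply T N, ← LinearMap.comp_apply, ← ModuleCat.hom_comp, ← T.map_comp, h2,
      T.map_id]
    rfl
  rw [Module.End.isUnit_iff]
  constructor
  · intro y₁ y₂ h
    rw [Module.algebraMap_end_apply, Module.algebraMap_end_apply] at h
    rw [← h2' y₁, ← h2' y₂]
    exact congrArg _ h
  · intro y
    exact ⟨(T.map d).hom y, by rw [Module.algebraMap_end_apply]; exact h1' y⟩

theorem isLocalizedModule_map_exists_of_eq (T : ModuleCat.{u} A ⥤ ModuleCat.{u} A)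
    [T.Additive] [T.Linear A]
    (hT : ∀ (J : Type u) [SmallCategory J] [IsFiltered J], PreservesColimitsOfShape J T)
    (x₁ x₂ : T.obj M)
    (h : (T.map (locLeg S M 1)).hom x₁ = (T.map (locLeg S M 1)).hom x₂) :
    ∃ c : S, c • x₁ = c • x₂ := by
  have := hT (LocIdx S)
  have hTc : IsColimit (T.mapCocone (locCocone S M)) :=
    isColimitOfPreserves T (locCoconeIsColimit S M)
  have : PreservesColimitsOfShape (LocIdx S) (forget (ModuleCat.{u} A)) :=
    PreservesFilteredColimitsOfSize.preserves_filtered_colimits _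
  have h4 := (Concrete.isColimit_rep_eq_iff_exists (locFunctor S M ⋙ T) hTc
      (i := ⟨1⟩) (j := ⟨1⟩) x₁ x₂).mp h
  obtain ⟨k, f, g, hfg⟩ := h4
  refine ⟨f.1, ?_⟩
  have hf : f.1 = g.1 := by
    have := f.2.trans g.2.symm
    simpa using this
  have e1 : ((locFunctor S M ⋙ T).map f).hom x₁ = ((f.1 : S) : A) • x₁ :=
    map_lsmul_apply T M _ x₁
  have e2 : ((locFunctor S M ⋙ T).map g).hom x₂ = ((g.1 : S) : A) • x₂ :=
    map_lsmul_apply T M _ x₂
  rw [Submonoid.smul_def, Submonoid.smul_def]
  rw [← e1]
  rw [hf, ← e2]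
  exact hfg

/-- `T(M) → T(S⁻¹M)` is a localization when `T` is linear and preserves filtered colimits -/
theorem isLocalizedModule_map (T : ModuleCat.{u} A ⥤ ModuleCat.{u} A) [T.Additive] [T.Linear A]
    (hT : ∀ (J : Type u) [SmallCategory J] [IsFiltered J], PreservesColimitsOfShape J T) :
    IsLocalizedModule S (T.map (ModuleCat.ofHom (LocalizedModule.mkLinearMap S M) :
      M ⟶ ModuleCat.of A (LocalizedModule S M))).hom := by
  have := hT (LocIdx S)
  have hTc : IsColimit (T.mapCocone (locCocone S M)) :=
    isColimitOfPreserves T (locCoconeIsColimit S M)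
  have : PreservesColimitsOfShape (LocIdx S) (forget (ModuleCat.{u} A)) :=
    PreservesFilteredColimitsOfSize.preserves_filtered_colimits _
  rw [← locLeg_one]
  refine ⟨?_, ?_, ?_⟩
  · intro s
    exact map_units_aux S M T s
  · intro y
    obtain ⟨j, x, hx⟩ := Concrete.isColimit_exists_rep (locFunctor S M ⋙ T) hTc y
    refine ⟨⟨x, j.val⟩, ?_⟩
    have h3 := map_locLeg_smul S M T 1 j.val x
    rw [mul_one] at h3
    change (j.val : S) • y = (T.map (locLeg S M 1)).hom x
    rw [h3, Submonoid.smul_def]
    congr 1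
    exact hx.symm
  · intro x₁ x₂ h
    exact isLocalizedModule_map_exists_of_eq S M T hT x₁ x₂ h


end Groth.Agent.Lib.Helper75
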