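import Mathlib
import Groth.Agent.Lib.Helper51.MS2Defs
import Groth.Agent.Lib.Helper55.GR.Final
import Groth.Agent.Lib.Helper54.CPFFp

/-!
# MS2 / MA: existence of a pre-model (helper75, for helper51 S14068)

`A → B` standard smooth, `B → C` finitely presented: there are a finitely generated subring
`A₁ ⊆ A`, a standard smooth `A₁`-algebra `B₁`, a finitely presented `B₁`-algebra `C₁` and
compatible isomorphisms `A ⊗[A₁] B₁ ≃ B`, `A ⊗[A₁] C₁ ≃ C`.
-/

set_option autoImplicit false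
set_option linter.style.haveILetI false
universe u
open TensorProduct

namespace Groth.Agent.Lib.Helper75.MS2MA

set_option backward.isDefEq.respectTransparency false in
theorem exists_premodel_aux {A B C : Type u} [CommRing A] [CommRing B] [CommRing C] [Algebra A B]
    [Algebra B C] [Algebra A C] [IsScalarTower A B C] {ι σ : Type} [Finite ι] [Finite σ]
    (P : Algebra.SubmersivePresentation A B ι σ) (A₁ : Type u) [CommRing A₁] [Algebra A₁ A]
    [Algebra A₁ B] [IsScalarTower A₁ A B] [FaithfulSMul A₁ A] [P.HasCoeffs A₁]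
    {ι' σ' : Type} [Finite ι'] [Finite σ'] (PC : Algebra.Presentation B C ι' σ')
    (hPC : ∀ c ∈ PC.coeffs, ∃ τ₁ : MvPolynomial ι A₁, MvPolynomial.aeval P.val τ₁ = c) :
    ∃ (B₁ C₁ : Type u) (_ : CommRing B₁) (_ : CommRing C₁)
      (_ : Algebra A₁ B₁) (_ : Algebra A₁ C₁) (_ : Algebra B₁ C₁) (_ : IsScalarTower A₁ B₁ C₁)
      (eB : A ⊗[A₁] B₁ ≃ₐ[A] B) (eC : A ⊗[A₁] C₁ ≃ₐ[A] C),
      Algebra.IsStandardSmooth A₁ B₁ ∧ Algebra.FiniteType B₁ C₁ ∧
      ∀ x, eC (Algebra.TensorProduct.map (AlgHom.id A A) (IsScalarTower.toAlgHom A₁ B₁ C₁) x) =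
        algebraMap B C (eB x) := by
  let B₁ := P.ModelOfHasCoeffs A₁
  haveI : Algebra.IsStandardSmooth A₁ B₁ := (P.ofHasCoeffs A₁).isStandardSmooth
  let eB : A ⊗[A₁] B₁ ≃ₐ[A] B := P.tensorModelOfHasCoeffsEquiv A₁
  have hcoef : ∀ c ∈ PC.coeffs, ∃ a₀ : B₁, eB ((1 : A) ⊗ₜ[A₁] a₀) = c := by
    intro c hc
    obtain ⟨τ₁, hτ₁⟩ := hPC c hc
    refine ⟨Ideal.Quotient.mk _ τ₁, ?_⟩
    show P.tensorModelOfHasCoeffsEquiv A₁ (1 ⊗ₜ (Ideal.Quotient.mk _ τ₁)) = _
    rw [Algebra.Presentation.tensorModelOfHasCoeffsEquiv_tmul, map_one, one_mul]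
    exact hτ₁
  obtain ⟨C₁, _, _, _, _, eC, hfp, hcomp⟩ :=
    Groth.Agent.Lib.Helper54.CPF.exists_model_over (k := A₁) (R := A) (A₀ := B₁) (A := B)
      (B := C) eB PC hcoef
  exact ⟨B₁, C₁, inferInstance, inferInstance, inferInstance, inferInstance, inferInstance,
    inferInstance, eB, eC, inferInstance, inferInstance, hcomp⟩

theorem exists_premodel {A B C : Type u} [CommRing A] [CommRing B] [CommRing C] [Algebra A B]
    [Algebra B C] [Algebra A C] [IsScalarTower A B C] [Algebra.IsStandardSmooth A B]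
    [Algebra.FinitePresentation B C] :
    ∃ (A₁ : Subalgebra ℤ A) (B₁ C₁ : Type u) (_ : CommRing B₁) (_ : CommRing C₁)
      (_ : Algebra A₁ B₁) (_ : Algebra A₁ C₁) (_ : Algebra B₁ C₁) (_ : IsScalarTower A₁ B₁ C₁)
      (eB : A ⊗[A₁] B₁ ≃ₐ[A] B) (eC : A ⊗[A₁] C₁ ≃ₐ[A] C),
      A₁.FG ∧ Algebra.IsStandardSmooth A₁ B₁ ∧ Algebra.FiniteType B₁ C₁ ∧
      ∀ x, eC (Algebra.TensorProduct.map (AlgHom.id A A) (IsScalarTower.toAlgHom A₁ B₁ C₁) x) =
        algebraMap B C (eB x) := by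
  classical
  obtain ⟨ι, σ, _, _, ⟨P⟩⟩ := Algebra.IsStandardSmooth.out (R := A) (S := B)
  have hPCfin : (Algebra.Presentation.ofFinitePresentation B C).coeffs.Finite :=
    (Algebra.Presentation.ofFinitePresentation B C).finite_coeffs
  have hτ : ∀ c : B, ∃ τ : MvPolynomial ι A, MvPolynomial.aeval P.val τ = c :=
    fun c => P.aeval_val_surjective c
  choose τ hτ using hτ
  obtain ⟨S, hS⟩ : ∃ S : Set A, S = P.coeffs ∪
      ⋃ c ∈ (Algebra.Presentation.ofFinitePresentation B C).coeffs, ((τ c).coeffs : Set A) :=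
    ⟨_, rfl⟩
  have hSfin : S.Finite := by
    rw [hS]
    exact P.finite_coeffs.union (hPCfin.biUnion fun c _ => Finset.finite_toSet _)
  haveI : P.HasCoeffs (Algebra.adjoin ℤ S) := ⟨by
    intro x hx
    exact ⟨⟨x, Algebra.subset_adjoin (by rw [hS]; exact Or.inl hx)⟩, rfl⟩⟩
  have hPC : ∀ c ∈ (Algebra.Presentation.ofFinitePresentation B C).coeffs,
      ∃ τ₁ : MvPolynomial ι (Algebra.adjoin ℤ S), MvPolynomial.aeval P.val τ₁ = c := by
    intro c hc
    obtain ⟨τ₁, hτ₁⟩ : ∃ τ₁ : MvPolynomial ι (Algebra.adjoin ℤ S),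
        MvPolynomial.map (algebraMap (Algebra.adjoin ℤ S) A) τ₁ = τ c := by
      rw [← Set.mem_range, MvPolynomial.mem_range_map_iff_coeffs_subset]
      intro x hx
      refine ⟨⟨x, Algebra.subset_adjoin ?_⟩, rfl⟩
      rw [hS]
      exact Or.inr (Set.mem_biUnion hc hx)
    refine ⟨τ₁, ?_⟩
    have h1 := MvPolynomial.aeval_map_algebraMap A P.val τ₁
    rw [hτ₁, hτ] at h1
    exact h1.symm
  obtain ⟨B₁, C₁, i1, i2, i3, i4, i5, i6, eB, eC, h1, h2, h3⟩ :=
    exists_premodel_aux P (Algebra.adjoin ℤ S) (Algebra.Presentation.ofFinitePresentation B C) hPC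
  exact ⟨Algebra.adjoin ℤ S, B₁, C₁, i1, i2, i3, i4, i5, i6, eB, eC,
    ⟨hSfin.toFinset, by simp⟩, h1, h2, h3⟩

end Groth.Agent.Lib.Helper75.MS2MA
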