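import Mathlib
import Groth.Prelude.Def_SGA3x
import Groth.Agent.Lib.Helper5.DSPts
import Groth.Agent.Lib.Helper15.GaPts

/- helper75: S8392 support (hom from mult. type group to G_a is trivial), part 1 -/
set_option autoImplicit false
universe u
open CategoryTheory CategoryTheory.Limits MonoidalCategory CartesianMonoidalCategory MonObj
  AlgebraicGeometry Opposite

noncomputable section

namespace Groth.Agent.Lib.Helper75.MTGa

variable {S U : Scheme.{u}} (g : U ⟶ S)

/-- transpose of a `T`-point of the base change `g^* G` to a point of `G` over `S`. -/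
def tilde {G : Over S} {T : Over U} (w : T ⟶ Red.bc g G) : (Over.map g).obj T ⟶ G :=
  Over.homMk (w.left ≫ pullback.fst G.hom g) (by
    have h := Over.w w
    simp only [Over.pullback_obj_hom] at h
    simp only [Over.map_obj_hom, Category.assoc, pullback.condition]
    rw [← Category.assoc, h])

@[simp] theorem tilde_left {G : Over S} {T : Over U} (w : T ⟶ Red.bc g G) :
    (tilde g w).left = w.left ≫ pullback.fst G.hom g := rfl

theorem tilde_comp {G : Over S} {T T' : Over U} (d : T' ⟶ T) (w : T ⟶ Red.bc g G) :
    tilde g (d ≫ w) = (Over.map g).map d ≫ tilde g w := by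
  ext1
  simp [tilde]

theorem tilde_injective {G : Over S} {T : Over U} {w w' : T ⟶ Red.bc g G}
    (h : tilde g w = tilde g w') : w = w' := by
  ext1
  apply pullback.hom_ext
  · exact congrArg (fun f => f.left) h
  · have h1 := Over.w w
    have h2 := Over.w w'
    simp only [Over.pullback_obj_hom] at h1 h2
    rw [h1, h2]

theorem tilde_mul {G : Over S} [GrpObj G] {T : Over U} (w w' : T ⟶ Red.bc g G) :
    tilde g (w * w') = tilde g w * tilde g w' := by
  ext1
  simp only [tilde_left, Hom.mul_def, Over.comp_left]
  have hμ : (μ[Red.bc g G] : _ ⟶ Red.bc g G) =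
      Functor.LaxMonoidal.μ (Over.pullback g) G G ≫ (Over.pullback g).map μ[G] := rfl
  rw [hμ, Over.comp_left]
  have hnat : ((Over.pullback g).map μ[G]).left ≫ pullback.fst G.hom g =
      pullback.fst (G ⊗ G).hom g ≫ (μ[G] : G ⊗ G ⟶ G).left := by
    simp only [Over.pullback_map_left]
    exact pullback.lift_fst _ _ _
  simp only [Category.assoc]
  rw [hnat]
  simp only [← Category.assoc]
  congr 1
  apply Over.tensorObj_ext
  · simp only [Category.assoc]
    rw [Over.μ_pullback_left_fst_fst]
    simp only [Over.lift_left]
    erw [pullback.lift_fst_assoc, pullback.lift_fst]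
    rfl
  · simp only [Category.assoc]
    rw [Over.μ_pullback_left_fst_snd]
    simp only [Over.lift_left]
    erw [pullback.lift_snd_assoc, pullback.lift_snd]
    rfl

end Groth.Agent.Lib.Helper75.MTGa
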