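import Groth.Agent.Lib.Helper75.MTGa1
import Groth.Agent.Lib.Helper75.MTGa2

/- helper75: S8392 support (hom from mult. type group to G_a is trivial), part 3 -/
set_option autoImplicit false
universe u
open CategoryTheory CategoryTheory.Limits MonoidalCategory CartesianMonoidalCategory MonObj
  AlgebraicGeometry Opposite

noncomputable section

namespace Groth.Agent.Lib.Helper75.MTGa

open Groth.Agent.Lib.Helper5 Groth.Agent.Lib.Helper15

variable {S U : Scheme.{u}} (g : U ⟶ S)

/-- the function of a point of `g^* G_a` -/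
def gam {T : Over U} (w : T ⟶ Red.bc g (Red.Ga S)) : Γ(T.left, ⊤) :=
  (Red.gaFn (S := S) (X := (Over.map g).obj T) (tilde g w) : Γ(((Over.map g).obj T).left, ⊤))

theorem gam_mul {T : Over U} (w w' : T ⟶ Red.bc g (Red.Ga S)) :
    gam g (w * w') = gam g w + gam g w' := by
  unfold gam
  rw [tilde_mul, GaPts.gaFn_mul]

theorem gam_comp {T T' : Over U} (d : T' ⟶ T) (w : T ⟶ Red.bc g (Red.Ga S)) :
    gam g (d ≫ w) = d.left.appTop (gam g w) := by
  unfold gam
  rw [tilde_comp, GaPts.gaFn_comp]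
  rfl

theorem gam_injective {T : Over U} {w w' : T ⟶ Red.bc g (Red.Ga S)} (h : gam g w = gam g w') :
    w = w' :=
  tilde_injective g (GaPts.eq_of_gaFn_eq h)

theorem hom_DS_bcGa_eq_one {M : Type} [AddCommGroup M] (v : Red.DS U M ⟶ Red.bc g (Red.Ga S))
    [IsMonHom v] : v = 1 := by
  have hc : IsAdd (gam g v) := by
    intro T d d'
    rw [← gam_comp, ← gam_comp, ← gam_comp]
    have hm : (d * d') ≫ v = (d ≫ v) * (d' ≫ v) := MonObj.mul_comp d d' v
    rw [hm, gam_mul]
  have h0 := eq_zero_of_isAdd hc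
  have h1 : gam g (1 : Red.DS U M ⟶ Red.bc g (Red.Ga S)) = 0 := by
    have h := gam_mul g (1 : Red.DS U M ⟶ Red.bc g (Red.Ga S)) 1
    rw [show (1 : Red.DS U M ⟶ Red.bc g (Red.Ga S)) * 1 = 1 from
      _root_.mul_one (1 : Red.DS U M ⟶ Red.bc g (Red.Ga S))] at h
    have h' : gam g (1 : Red.DS U M ⟶ Red.bc g (Red.Ga S)) + 0 =
        gam g (1 : Red.DS U M ⟶ Red.bc g (Red.Ga S)) + gam g (1 : Red.DS U M ⟶ Red.bc g (Red.Ga S)) := by
      rw [add_zero]; exact h
    exact (add_left_cancel h').symm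
  exact gam_injective g (h0.trans h1.symm)

/-- local triviality: if `g^* H ≅ D_U(M)` then `u` becomes trivial after base change along `g`. -/
theorem fst_comp_eq {H : Over S} [GrpObj H] (u : H ⟶ Red.Ga S) [IsMonHom u]
    {M : Type} [AddCommGroup M] (e : Grp.mk (Red.bc g H) ≅ Grp.mk (Red.DS U M)) :
    pullback.fst H.hom g ≫ u.left = pullback.fst H.hom g ≫ (1 : H ⟶ Red.Ga S).left := by
  have hnat : ∀ φ : H ⟶ Red.Ga S, ((Over.pullback g).map φ).left ≫ pullback.fst (Red.Ga S).hom g =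
      pullback.fst H.hom g ≫ φ.left := by
    intro φ
    simp only [Over.pullback_map_left]
    exact pullback.lift_fst _ _ _
  have hv : e.inv.hom.hom ≫ (Over.pullback g).map u = 1 :=
    hom_DS_bcGa_eq_one g (e.inv.hom.hom ≫ (Over.pullback g).map u)
  have hid : e.hom.hom.hom ≫ e.inv.hom.hom = 𝟙 (Red.bc g H) := by
    have := congrArg (fun φ => φ.hom.hom) e.hom_inv_id
    exact this
  have hu : (Over.pullback g).map u = (Over.pullback g).map (1 : H ⟶ Red.Ga S) := by
    rw [Functor.map_one]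
    calc (Over.pullback g).map u = (e.hom.hom.hom ≫ e.inv.hom.hom) ≫ (Over.pullback g).map u := by
          rw [hid, Category.id_comp]
      _ = e.hom.hom.hom ≫ 1 := by rw [Category.assoc, hv]
      _ = 1 := MonObj.comp_one _
  rw [← hnat u, ← hnat 1, hu]

theorem hom_multTypeFT_to_Ga_eq_one (S : Scheme.{u}) (H : Over S) [GrpObj H]
    (hH : SGA3x.IsMultTypeFT H) (u : H ⟶ Red.Ga S) [IsMonHom u] : u = 1 := by
  obtain ⟨S', f, hflat, hsurj, -, hloc⟩ := hH
  choose Uo hmem Mo instM hfg hiso using hloc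
  have hlocal : ∀ s' : S', pullback.fst H.hom ((Uo s').ι ≫ f) ≫ u.left =
      pullback.fst H.hom ((Uo s').ι ≫ f) ≫ (1 : H ⟶ Red.Ga S).left := by
    intro s'
    let _ := instM s'
    exact fst_comp_eq ((Uo s').ι ≫ f) u (hiso s').some
  let Y : S' → Scheme.{u} := fun s' => pullback H.hom ((Uo s').ι ≫ f)
  let p : ∀ s' : S', Y s' ⟶ H.left := fun s' => pullback.fst H.hom ((Uo s').ι ≫ f)
  have hpflat : ∀ s' : S', Flat (p s') := fun s' => inferInstance
  have hsurj' : Surjective (Sigma.desc p) := by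
    refine ⟨fun x => ?_⟩
    obtain ⟨s', hs'⟩ := hsurj.surj (H.hom x)
    obtain ⟨z, hz, -⟩ := Scheme.Pullback.exists_preimage_pullback (f := H.hom)
      (g := (Uo s').ι ≫ f) x ⟨s', hmem s'⟩ (by
        rw [Scheme.Hom.comp_apply]
        exact hs'.symm)
    refine ⟨(Sigma.ι Y s') z, ?_⟩
    rw [← Scheme.Hom.comp_apply, Sigma.ι_desc]
    exact hz
  have hepi : Epi (Sigma.desc p) := Flat.epi_of_flat_of_surjective _
  ext1
  rw [← cancel_epi (Sigma.desc p)]
  apply Sigma.hom_ext
  intro s'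
  rw [Sigma.ι_desc_assoc, Sigma.ι_desc_assoc]
  exact hlocal s'

end Groth.Agent.Lib.Helper75.MTGa
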