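import Mathlib

/- helper75: ring-level lemma for S15991: a section of a square-zero deformation of a formally
smooth algebra that is constant at finitely many marked points (subring trick + CRT). -/

set_option autoImplicit false

namespace Groth.Agent.Lib.Helper75.MarkedSec

theorem exists_crt {k B : Type*} [Field k] [CommRing B] (β : k →+* B)
    {ι : Type*} [Finite ι] (q : ι → (B →+* k)) (hq : ∀ j, (q j).comp β = RingHom.id k)
    (hqinj : Function.Injective q) (c : ι → k) : ∃ b : B, ∀ j, q j b = c j := by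
  have hqβ : ∀ j x, q j (β x) = x := fun j x => RingHom.congr_fun (hq j) x
  have hsurj : ∀ j, Function.Surjective (q j) := fun j x => ⟨β x, hqβ j x⟩
  have hmax : ∀ j, (RingHom.ker (q j)).IsMaximal := fun j =>
    RingHom.ker_isMaximal_of_surjective _ (hsurj j)
  have hne : ∀ j j', j ≠ j' → RingHom.ker (q j) ≠ RingHom.ker (q j') := by
    intro j j' hjj' hker
    apply hjj'
    apply hqinj
    ext b
    have h1 : b - β (q j b) ∈ RingHom.ker (q j) := by
      rw [RingHom.mem_ker, map_sub, hqβ, sub_self]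
    rw [hker, RingHom.mem_ker, map_sub, hqβ, sub_eq_zero] at h1
    exact h1.symm
  have hcop : Pairwise (Function.onFun IsCoprime fun j => RingHom.ker (q j)) := by
    intro j j' hjj'
    exact Ideal.isCoprime_iff_sup_eq.mpr
      (Ideal.IsMaximal.coprime_of_ne (hmax j) (hmax j') (hne j j' hjj'))
  obtain ⟨r, hr⟩ := Ideal.exists_forall_sub_mem_ideal hcop (fun j => β (c j))
  refine ⟨r, fun j => ?_⟩
  have := hr j
  rw [RingHom.mem_ker, map_sub, hqβ, sub_eq_zero] at this
  exact this

theorem exists_marked_section {k B B' : Type*} [Field k] [CommRing B] [CommRing B']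
    (β : k →+* B) (hβ : β.FormallySmooth) (β' : DualNumber k →+* B')
    (π : B' →+* B) (hπ : Function.Surjective π) (hnil : IsNilpotent (RingHom.ker π))
    (hc : π.comp β' = β.comp (TrivSqZeroExt.fstHom k k k).toRingHom)
    {ι : Type*} [Finite ι] (q : ι → (B →+* k)) (hq : ∀ j, (q j).comp β = RingHom.id k)
    (hqinj : Function.Injective q)
    (q' : ι → (B' →+* DualNumber k)) (hq'β : ∀ j, (q' j).comp β' = RingHom.id _)
    (hq'π : ∀ j, (TrivSqZeroExt.fstHom k k k).toRingHom.comp (q' j) = (q j).comp π) :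
    ∃ s : B →+* B', π.comp s = RingHom.id B ∧
      s.comp β = β'.comp (algebraMap k (DualNumber k)) ∧
      ∀ j, (q' j).comp s = (algebraMap k (DualNumber k)).comp (q j) := by
  let algB : Algebra k B := β.toAlgebra
  let algB' : Algebra k B' := (β'.comp (algebraMap k (DualNumber k))).toAlgebra
  have _ : Algebra.FormallySmooth k B := hβ
  have hq'β' : ∀ j x, q' j (β' x) = x := fun j x => RingHom.congr_fun (hq'β j) x
  have hfst : ∀ j b', TrivSqZeroExt.fst (q' j b') = q j (π b') := fun j b' =>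
    RingHom.congr_fun (hq'π j) b'
  have hπβ' : ∀ x, π (β' x) = β (TrivSqZeroExt.fst x) := fun x => RingHom.congr_fun hc x
  let B₀ : Subalgebra k B' :=
    { carrier := {b | ∀ j, ∃ c : k, q' j b = algebraMap k (DualNumber k) c}
      mul_mem' := by
        intro x y hx hy j
        obtain ⟨c, hc⟩ := hx j
        obtain ⟨d, hd⟩ := hy j
        exact ⟨c * d, by rw [map_mul, hc, hd, map_mul]⟩
      add_mem' := by
        intro x y hx hy j
        obtain ⟨c, hc⟩ := hx j
        obtain ⟨d, hd⟩ := hy j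
        exact ⟨c + d, by rw [map_add, hc, hd, map_add]⟩
      algebraMap_mem' := by
        intro c j
        exact ⟨c, hq'β' j (algebraMap k (DualNumber k) c)⟩ }
  have hmemB₀ : ∀ b : B', b ∈ B₀ ↔ ∀ j, ∃ c : k, q' j b = algebraMap k (DualNumber k) c :=
    fun b => Iff.rfl
  let πA : B' →ₐ[k] B :=
    { π with
      commutes' := fun c => by
        change π (β' (algebraMap k (DualNumber k) c)) = β c
        rw [hπβ']
        congr 1 }
  let πa : B₀ →ₐ[k] B := πA.comp B₀.val
  have hπa_apply : ∀ x : B₀, πa x = π (x : B') := fun x => rfl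
  have hπa : Function.Surjective πa := by
    intro b
    obtain ⟨b', hb'⟩ := hπ b
    obtain ⟨b₁, hb₁⟩ := exists_crt β q hq hqinj (fun j => TrivSqZeroExt.snd (q' j b'))
    obtain ⟨b₁', hb₁'⟩ := hπ b₁
    have hmem : b' - β' DualNumber.eps * b₁' ∈ B₀ := by
      rw [hmemB₀]
      intro j
      refine ⟨q j b, ?_⟩
      rw [map_sub, map_mul, hq'β']
      apply TrivSqZeroExt.ext
      · rw [TrivSqZeroExt.fst_sub, TrivSqZeroExt.fst_mul, DualNumber.fst_eps, zero_mul, sub_zero,
          hfst, hb', TrivSqZeroExt.algebraMap_eq_inl, TrivSqZeroExt.fst_inl]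
      · rw [TrivSqZeroExt.snd_sub, TrivSqZeroExt.snd_mul, DualNumber.fst_eps, DualNumber.snd_eps,
          zero_smul, zero_add, hfst, hb₁', hb₁, TrivSqZeroExt.algebraMap_eq_inl,
          TrivSqZeroExt.snd_inl]
        simp
    refine ⟨⟨_, hmem⟩, ?_⟩
    rw [hπa_apply]
    change π (b' - β' DualNumber.eps * b₁') = b
    rw [map_sub, map_mul, hπβ', DualNumber.fst_eps, map_zero, zero_mul, sub_zero, hb']
  have hnil' : IsNilpotent (RingHom.ker (πa : B₀ →+* B)) := by
    obtain ⟨n, hn⟩ := hnil
    refine ⟨n, ?_⟩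
    rw [Ideal.zero_eq_bot, eq_bot_iff]
    intro x hx
    have h1 := Ideal.mem_map_of_mem (B₀.val : B₀ →+* B') hx
    rw [Ideal.map_pow] at h1
    have h2 : Ideal.map (B₀.val : B₀ →+* B') (RingHom.ker (πa : B₀ →+* B)) ≤ RingHom.ker π := by
      rw [Ideal.map_le_iff_le_comap]
      intro y hy
      rw [Ideal.mem_comap, RingHom.mem_ker]
      exact RingHom.mem_ker.mp hy
    have h3 := Ideal.pow_right_mono h2 n h1
    rw [hn] at h3
    rw [Ideal.mem_bot]
    apply Subtype.ext
    exact h3
  let s₀ : B →ₐ[k] B₀ := Algebra.FormallySmooth.liftOfSurjective (AlgHom.id k B) πa hπa hnil'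
  have hs₀ : ∀ b, π ((s₀ b : B₀) : B') = b := fun b =>
    Algebra.FormallySmooth.liftOfSurjective_apply (AlgHom.id k B) πa hπa hnil' b
  refine ⟨(B₀.val.comp s₀).toRingHom, ?_, ?_, ?_⟩
  · ext b
    exact hs₀ b
  · ext c
    change ((s₀ (algebraMap k B c) : B₀) : B') = β' (algebraMap k (DualNumber k) c)
    rw [s₀.commutes]
    rfl
  · intro j
    refine RingHom.ext fun b => ?_
    change q' j ((s₀ b : B₀) : B') = algebraMap k (DualNumber k) (q j b)
    obtain ⟨c, hc⟩ := (s₀ b).2 j
    rw [hc]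
    have h1 := hfst j ((s₀ b : B₀) : B')
    rw [hc, hs₀, TrivSqZeroExt.algebraMap_eq_inl, TrivSqZeroExt.fst_inl] at h1
    rw [h1]

end Groth.Agent.Lib.Helper75.MarkedSec
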