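import Groth.Prelude.Def_SGA3b
import Mathlib

/- helper75: monomorphisms from diagonalisable groups (Hopf-algebra form) are closed immersions:
   antipode compatibility of bialgebra maps, homogeneous components of the image of a bialgebra
   map into a group algebra, and the diagonalisable case of S5243. -/

set_option autoImplicit false
universe u
open TensorProduct Coalgebra WithConv

namespace Groth.Agent.Lib.Helper75.MonoMult

section Antipode
variable {R : Type u} [CommRing R] {C A : Type u} [CommRing C] [CommRing A]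
  [HopfAlgebra R C] [HopfAlgebra R A]

theorem antipode_comp (φ : C →ₐc[R] A) :
    (HopfAlgebra.antipodeAlgHom R A).comp (φ : C →ₐ[R] A) =
      (φ : C →ₐ[R] A).comp (HopfAlgebra.antipodeAlgHom R C) := by
  have h1 : toConv ((HopfAlgebra.antipodeAlgHom R A).comp (φ : C →ₐ[R] A)) *
      toConv (φ : C →ₐ[R] A) = 1 := by
    have h := AlgHom.convMul_comp_bialgHom_distrib (toConv (HopfAlgebra.antipodeAlgHom R A))
      (toConv (AlgHom.id R A)) φ
    rw [AlgHom.antipode_id_cancel] at h
    apply WithConv.ofConv_injective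
    simp only [AlgHom.id_comp] at h
    rw [← h]
    ext c
    simp
  have h2 : toConv ((HopfAlgebra.antipodeAlgHom R A).comp (φ : C →ₐ[R] A)) =
      (toConv (φ : C →ₐ[R] A))⁻¹ := eq_inv_of_mul_eq_one_left h1
  have h3 : (toConv (φ : C →ₐ[R] A))⁻¹ =
      toConv ((φ : C →ₐ[R] A).comp (HopfAlgebra.antipodeAlgHom R C)) := rfl
  exact WithConv.toConv_injective (h2.trans h3)

theorem map_antipode (φ : C →ₐc[R] A) (c : C) :
    φ (HopfAlgebra.antipode R c) = HopfAlgebra.antipode R (φ c) := by
  have := DFunLike.congr_fun (antipode_comp φ) c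
  simpa using this.symm

end Antipode

section Diag

variable {R : Type u} [CommRing R] {M : Type u} [CommGroup M]
  {C : Type u} [CommRing C] [HopfAlgebra R C]

/-- coefficient functional on a monoid algebra -/
noncomputable def coeffL (m : M) : MonoidAlgebra R M →ₗ[R] R :=
  (Finsupp.lapply m) ∘ₗ (MonoidAlgebra.coeffLinearEquiv R).toLinearMap

omit [CommGroup M] in
theorem coeffL_apply (m : M) (x : MonoidAlgebra R M) : coeffL m x = x.coeff m := rfl

open Classical in
theorem coeffL_single (m g : M) (r : R) :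
    coeffL m (MonoidAlgebra.single g r) = if g = m then r else 0 := by
  rw [coeffL_apply, MonoidAlgebra.coeff_single, Finsupp.single_apply]

/-- projection onto the `m`-th homogeneous component, written with the comultiplication -/
noncomputable def P (m : M) : MonoidAlgebra R M →ₗ[R] MonoidAlgebra R M :=
  (TensorProduct.lid R (MonoidAlgebra R M)).toLinearMap ∘ₗ
    (TensorProduct.map (coeffL m) LinearMap.id) ∘ₗ Coalgebra.comul

theorem P_eq (m : M) :
    P (R := R) m = (MonoidAlgebra.lsingle m : R →ₗ[R] MonoidAlgebra R M) ∘ₗ coeffL m := by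
  classical
  apply MonoidAlgebra.lhom_ext'
  intro g
  apply LinearMap.ext_ring
  simp only [P, LinearMap.comp_apply, MonoidAlgebra.lsingle_apply, MonoidAlgebra.comul_single,
    CommSemiring.comul_apply, TensorProduct.map_tmul, LinearEquiv.coe_coe, coeffL_single,
    LinearMap.id_apply, TensorProduct.lid_tmul]
  split_ifs with h
  · subst h; simp
  · simp

theorem P_apply (m : M) (x : MonoidAlgebra R M) :
    P m x = MonoidAlgebra.single m (x.coeff m) := by
  rw [P_eq]; rfl

/-- the corresponding operator on the source of a bialgebra map -/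
noncomputable def Q (φ : C →ₐc[R] MonoidAlgebra R M) (m : M) : C →ₗ[R] C :=
  (TensorProduct.lid R C).toLinearMap ∘ₗ
    (TensorProduct.map ((coeffL m) ∘ₗ (φ : C →ₗ[R] MonoidAlgebra R M)) LinearMap.id) ∘ₗ
      Coalgebra.comul

theorem lid_map {X Y : Type u} [AddCommGroup X] [Module R X] [AddCommGroup Y] [Module R Y]
    (f : X →ₗ[R] Y) (t : R ⊗[R] X) :
    f (TensorProduct.lid R X t) = TensorProduct.lid R Y (TensorProduct.map LinearMap.id f t) := by
  induction t using TensorProduct.induction_on with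
  | zero => simp
  | tmul r x => simp
  | add a b ha hb => simp [ha, hb]

theorem map_Q (φ : C →ₐc[R] MonoidAlgebra R M) (m : M) (c : C) :
    φ (Q φ m c) = P m (φ c) := by
  have h1 : φ (Q φ m c) = (φ : C →ₗ[R] MonoidAlgebra R M) (Q φ m c) := rfl
  rw [h1, Q, LinearMap.comp_apply, LinearMap.comp_apply, LinearEquiv.coe_coe, lid_map,
    ← LinearMap.comp_apply (TensorProduct.map _ _) (TensorProduct.map _ _), ← TensorProduct.map_comp,
    LinearMap.id_comp, LinearMap.comp_id, P, LinearMap.comp_apply, LinearMap.comp_apply,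
    LinearEquiv.coe_coe]
  congr 1
  have h2 : Coalgebra.comul (R := R) (φ c) =
      TensorProduct.map (φ : C →ₗ[R] MonoidAlgebra R M) (φ : C →ₗ[R] MonoidAlgebra R M)
        (Coalgebra.comul c) := (CoalgHomClass.map_comp_comul_apply φ c).symm
  rw [h2, ← LinearMap.comp_apply (TensorProduct.map _ _) (TensorProduct.map _ _),
    ← TensorProduct.map_comp, LinearMap.id_comp]


/-- the ideal of coefficients `a` with `a • m` in the image of `φ` -/
noncomputable def I (φ : C →ₐc[R] MonoidAlgebra R M) (m : M) : Ideal R :=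
  Submodule.comap (MonoidAlgebra.lsingle m : R →ₗ[R] MonoidAlgebra R M)
    (LinearMap.range (φ : C →ₗ[R] MonoidAlgebra R M))

theorem mem_I (φ : C →ₐc[R] MonoidAlgebra R M) (m : M) (a : R) :
    a ∈ I φ m ↔ ∃ c, φ c = MonoidAlgebra.single m a := Iff.rfl

theorem coeff_mem_I (φ : C →ₐc[R] MonoidAlgebra R M) (c : C) (m : M) :
    (φ c).coeff m ∈ I φ m := by
  rw [mem_I]
  exact ⟨Q φ m c, by rw [map_Q, P_apply]⟩

theorem one_mem_I (φ : C →ₐc[R] MonoidAlgebra R M) : (1 : R) ∈ I φ 1 := by
  rw [mem_I]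
  exact ⟨1, by rw [map_one]; rfl⟩

theorem mul_mem_I (φ : C →ₐc[R] MonoidAlgebra R M) {m n : M} {a b : R} (ha : a ∈ I φ m)
    (hb : b ∈ I φ n) : a * b ∈ I φ (m * n) := by
  rw [mem_I] at ha hb ⊢
  obtain ⟨c, hc⟩ := ha
  obtain ⟨d, hd⟩ := hb
  exact ⟨c * d, by rw [map_mul, hc, hd, MonoidAlgebra.single_mul_single]⟩

theorem inv_mem_I (φ : C →ₐc[R] MonoidAlgebra R M) {m : M} {a : R} (ha : a ∈ I φ m) :
    a ∈ I φ m⁻¹ := by
  rw [mem_I] at ha ⊢
  obtain ⟨c, hc⟩ := ha
  refine ⟨HopfAlgebra.antipode R c, ?_⟩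
  rw [map_antipode, hc, MonoidAlgebra.antipode_single]
  rfl

theorem surjective_of_one_mem_I (φ : C →ₐc[R] MonoidAlgebra R M) (h : ∀ m, (1 : R) ∈ I φ m) :
    Function.Surjective φ := by
  intro x
  have hx : x ∈ LinearMap.range (φ : C →ₗ[R] MonoidAlgebra R M) := by
    induction x using MonoidAlgebra.induction_linear with
    | zero => exact Submodule.zero_mem _
    | add f g hf hg => exact Submodule.add_mem _ hf hg
    | single m r =>
      obtain ⟨c, hc⟩ := (mem_I φ m 1).mp (h m)
      refine ⟨r • c, ?_⟩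
      change φ (r • c) = _
      rw [map_smul, hc, MonoidAlgebra.smul_single, smul_eq_mul, mul_one]
  obtain ⟨c, hc⟩ := hx
  exact ⟨c, hc⟩


/-- the subgroup of characters whose coefficient ideal is not contained in the prime `p` -/
noncomputable def N (φ : C →ₐc[R] MonoidAlgebra R M) (p : Ideal R) [p.IsPrime] : Subgroup M where
  carrier := {n | ¬ I φ n ≤ p}
  one_mem' := by
    intro h
    exact (Ideal.IsPrime.ne_top inferInstance) ((Ideal.eq_top_iff_one p).mpr (h (one_mem_I φ)))
  mul_mem' := by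
    intro m n hm hn
    obtain ⟨a, ha, hap⟩ := SetLike.not_le_iff_exists.mp hm
    obtain ⟨b, hb, hbp⟩ := SetLike.not_le_iff_exists.mp hn
    refine SetLike.not_le_iff_exists.mpr ⟨a * b, mul_mem_I φ ha hb, ?_⟩
    intro hab
    rcases Ideal.IsPrime.mem_or_mem inferInstance hab with h | h
    · exact hap h
    · exact hbp h
  inv_mem' := by
    intro m hm
    obtain ⟨a, ha, hap⟩ := SetLike.not_le_iff_exists.mp hm
    exact SetLike.not_le_iff_exists.mpr ⟨a, inv_mem_I φ ha, hap⟩

theorem mem_N (φ : C →ₐc[R] MonoidAlgebra R M) (p : Ideal R) [p.IsPrime] (n : M) :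
    n ∈ N φ p ↔ ¬ I φ n ≤ p := Iff.rfl

theorem smul_eq_zero_of_mem (p : Ideal R) {T : Type u} [AddCommGroup T] [Module R T]
    [Module (R ⧸ p) T] [IsScalarTower R (R ⧸ p) T] {a : R} (ha : a ∈ p) (t : T) : a • t = 0 := by
  have h1 : a • t = (a • (1 : R ⧸ p)) • t := by rw [smul_assoc, one_smul]
  have h2 : a • (1 : R ⧸ p) = 0 := by
    rw [Algebra.smul_def, mul_one]
    exact Ideal.Quotient.eq_zero_iff_mem.mpr ha
  rw [h1, h2, zero_smul]

/-- **Diagonalisable case.** A bialgebra map into a group algebra which is injective on points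
is surjective. -/
theorem surjective_of_mono_monoidAlgebra (φ : C →ₐc[R] MonoidAlgebra R M)
    (hmono : ∀ (T : Type u) [CommRing T] [Algebra R T],
      Function.Injective (fun x : MonoidAlgebra R M →ₐ[R] T =>
        x.comp (φ : C →ₐ[R] MonoidAlgebra R M))) :
    Function.Surjective φ := by
  apply surjective_of_one_mem_I
  intro m₀
  by_contra hm₀
  have hne : I φ m₀ ≠ ⊤ := fun h => hm₀ ((Ideal.eq_top_iff_one _).mp h)
  obtain ⟨p, hp, hle⟩ := Ideal.exists_le_maximal _ hne
  have : p.IsPrime := hp.isPrime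
  let T := MonoidAlgebra (R ⧸ p) (M ⧸ N φ p)
  let x : MonoidAlgebra R M →ₐ[R] T :=
    MonoidAlgebra.lift R T M ((MonoidAlgebra.of (R ⧸ p) (M ⧸ N φ p)).comp (QuotientGroup.mk' (N φ p)))
  let y : MonoidAlgebra R M →ₐ[R] T := MonoidAlgebra.lift R T M 1
  have hxy : x.comp (φ : C →ₐ[R] MonoidAlgebra R M) = y.comp (φ : C →ₐ[R] MonoidAlgebra R M) := by
    refine AlgHom.ext fun c => ?_
    change x (φ c) = y (φ c)
    change MonoidAlgebra.lift R T M _ (φ c) = MonoidAlgebra.lift R T M _ (φ c)
    rw [MonoidAlgebra.lift_apply, MonoidAlgebra.lift_apply]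
    apply Finsupp.sum_congr
    intro g _
    by_cases hg : g ∈ N φ p
    · congr 1
      change MonoidAlgebra.of (R ⧸ p) (M ⧸ N φ p) (QuotientGroup.mk g) = 1
      rw [(QuotientGroup.eq_one_iff g).mpr hg, map_one]
    · have hgp : (φ c).coeff g ∈ p := by
        rw [mem_N, not_not] at hg
        exact hg (coeff_mem_I φ c g)
      rw [smul_eq_zero_of_mem p hgp, smul_eq_zero_of_mem p hgp]
  have hxy' : x = y := hmono T hxy
  have h1 := DFunLike.congr_fun hxy' (MonoidAlgebra.single m₀ 1)
  change MonoidAlgebra.lift R T M _ _ = MonoidAlgebra.lift R T M _ _ at h1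
  rw [MonoidAlgebra.lift_single, MonoidAlgebra.lift_single, one_smul, one_smul] at h1
  change MonoidAlgebra.single (QuotientGroup.mk m₀ : M ⧸ N φ p) (1 : R ⧸ p) =
    MonoidAlgebra.single 1 1 at h1
  have : Nontrivial (R ⧸ p) := Ideal.Quotient.nontrivial_iff.mpr hp.ne_top
  have h2 := (MonoidAlgebra.single_left_inj (one_ne_zero)).mp h1
  have h3 : m₀ ∈ N φ p := (QuotientGroup.eq_one_iff m₀).mp h2
  exact h3 hle

end Diag

end Groth.Agent.Lib.Helper75.MonoMult
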