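import Groth.Agent.Lib.Helper75.MonoMult1

/- helper75: fpqc/Zariski descent of `monomorphism => closed immersion` for groups of
   multiplicative type in Hopf-algebra form (S5243). -/

set_option autoImplicit false
universe u
open TensorProduct Coalgebra

namespace Groth.Agent.Lib.Helper75.MonoMult

/-- monomorphisms into `Spec A` are closed immersions -/
def MonoSurj (R A : Type u) [CommRing R] [CommRing A] [HopfAlgebra R A] : Prop :=
  ∀ (C : Type u) [CommRing C] [HopfAlgebra R C] (φ : C →ₐc[R] A),
    (∀ (T : Type u) [CommRing T] [Algebra R T],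
      Function.Injective (fun x : A →ₐ[R] T => x.comp (φ : C →ₐ[R] A))) →
    Function.Surjective φ

section
variable {R : Type u} [CommRing R] {A : Type u} [CommRing A] [HopfAlgebra R A]

theorem monoSurj_of_isDiag (h : SGA3b.IsDiag R A) : MonoSurj R A := by
  obtain ⟨M, _, ⟨e⟩⟩ := h
  intro C _ _ φ hmono
  let φ' : C →ₐc[R] MonoidAlgebra R M := (e : A →ₐc[R] MonoidAlgebra R M).comp φ
  have hφ' : ∀ c, φ' c = e (φ c) := fun c => rfl
  have hs : Function.Surjective φ' := by
    apply surjective_of_mono_monoidAlgebra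
    intro T _ _ x y hxy
    have h1 : (x.comp (e : A →ₐ[R] MonoidAlgebra R M)).comp (φ : C →ₐ[R] A) =
        (y.comp (e : A →ₐ[R] MonoidAlgebra R M)).comp (φ : C →ₐ[R] A) := by
      refine AlgHom.ext fun c => ?_
      exact DFunLike.congr_fun hxy c
    have h2 := hmono T h1
    refine AlgHom.ext fun z => ?_
    obtain ⟨a, rfl⟩ := e.surjective z
    exact DFunLike.congr_fun h2 a
  intro a
  obtain ⟨c, hc⟩ := hs (e a)
  exact ⟨c, e.injective ((hφ' c).symm.trans hc)⟩

end

section BaseChange

variable {R : Type u} [CommRing R] {A : Type u} [CommRing A] [HopfAlgebra R A]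
  (S : Type u) [CommRing S] [Algebra R S]
variable {C : Type u} [CommRing C] [HopfAlgebra R C]

/-- base change of a bialgebra homomorphism -/
noncomputable def bc (φ : C →ₐc[R] A) : S ⊗[R] C →ₐc[S] S ⊗[R] A :=
  Bialgebra.TensorProduct.map (BialgHom.id S S) φ

theorem bc_tmul (φ : C →ₐc[R] A) (s : S) (c : C) : bc S φ (s ⊗ₜ c) = s ⊗ₜ φ c := rfl

theorem bc_eq_lTensor (φ : C →ₐc[R] A) (z : S ⊗[R] C) :
    bc S φ z = LinearMap.lTensor S (φ : C →ₗ[R] A) z := by
  induction z using TensorProduct.induction_on with
  | zero => simp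
  | tmul s c => rfl
  | add a b ha hb => rw [map_add, map_add, ha, hb]

theorem bc_mono (φ : C →ₐc[R] A)
    (hmono : ∀ (T : Type u) [CommRing T] [Algebra R T],
      Function.Injective (fun x : A →ₐ[R] T => x.comp (φ : C →ₐ[R] A)))
    (T : Type u) [CommRing T] [Algebra S T] :
    Function.Injective (fun x : S ⊗[R] A →ₐ[S] T =>
      x.comp (bc S φ : S ⊗[R] C →ₐ[S] S ⊗[R] A)) := by
  intro x y hxy
  let _ : Algebra R T := Algebra.compHom T (algebraMap R S)
  have : IsScalarTower R S T := IsScalarTower.of_algebraMap_eq (fun r => rfl)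
  let x' : A →ₐ[R] T := (x.restrictScalars R).comp Algebra.TensorProduct.includeRight
  let y' : A →ₐ[R] T := (y.restrictScalars R).comp Algebra.TensorProduct.includeRight
  have h1 : x'.comp (φ : C →ₐ[R] A) = y'.comp (φ : C →ₐ[R] A) := by
    refine AlgHom.ext fun c => ?_
    have := DFunLike.congr_fun hxy ((1 : S) ⊗ₜ[R] c)
    exact this
  have h2 : x' = y' := hmono T h1
  apply Algebra.TensorProduct.ext
  · ext
  · exact h2

theorem surjective_of_bc_surjective [Module.FaithfullyFlat R S] (φ : C →ₐc[R] A)
    (h : Function.Surjective (bc S φ)) : Function.Surjective φ := by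
  have h1 : Function.Surjective (LinearMap.lTensor S (φ : C →ₗ[R] A)) := by
    intro z
    obtain ⟨w, hw⟩ := h z
    exact ⟨w, by rw [← bc_eq_lTensor, hw]⟩
  exact (Module.FaithfullyFlat.lTensor_surjective_iff_surjective R S _).mp h1

theorem monoSurj_of_bc [Module.FaithfullyFlat R S] (h : MonoSurj S (S ⊗[R] A)) : MonoSurj R A := by
  intro C _ _ φ hmono
  exact surjective_of_bc_surjective S φ (h (S ⊗[R] C) (bc S φ) (bc_mono S φ hmono))

end BaseChange

section Descent

variable {R : Type u} [CommRing R] {A : Type u} [CommRing A] [HopfAlgebra R A]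

theorem monoSurj_of_isMultTypeConst (h : SGA3b.IsMultTypeConst R A) : MonoSurj R A := by
  obtain ⟨R', _, _, hff, hd⟩ := h
  exact monoSurj_of_bc R' (monoSurj_of_isDiag hd)

theorem monoSurj_of_isMultType (h : SGA3b.IsMultType R A) : MonoSurj R A := by
  obtain ⟨s, hs, hf⟩ := h
  intro C _ _ φ hmono
  have key : Function.Surjective (φ : C →ₗ[R] A) := by
    apply surjective_of_isLocalized_span s hs (fun r : s => Localization.Away r.1 ⊗[R] C)
      (fun r => TensorProduct.mk R (Localization.Away r.1) C 1)
      (fun r : s => Localization.Away r.1 ⊗[R] A)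
      (fun r => TensorProduct.mk R (Localization.Away r.1) A 1)
    intro r
    have h1 : Function.Surjective (bc (Localization.Away r.1) φ) :=
      monoSurj_of_isMultTypeConst (hf r.1 r.2) (Localization.Away r.1 ⊗[R] C)
        (bc (Localization.Away r.1) φ) (bc_mono (Localization.Away r.1) φ hmono)
    have h2 : IsLocalizedModule.map (Submonoid.powers r.1)
        (TensorProduct.mk R (Localization.Away r.1) C 1)
        (TensorProduct.mk R (Localization.Away r.1) A 1) (φ : C →ₗ[R] A) =
        LinearMap.lTensor (Localization.Away r.1) (φ : C →ₗ[R] A) := by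
      apply IsLocalizedModule.linearMap_ext (Submonoid.powers r.1)
        (TensorProduct.mk R (Localization.Away r.1) C 1)
        (TensorProduct.mk R (Localization.Away r.1) A 1)
      ext c
      change (IsLocalizedModule.map (Submonoid.powers r.1)
        (TensorProduct.mk R (Localization.Away r.1) C 1)
        (TensorProduct.mk R (Localization.Away r.1) A 1) (φ : C →ₗ[R] A))
        (TensorProduct.mk R (Localization.Away r.1) C 1 c) = _
      rw [IsLocalizedModule.map_apply]
      rfl
    rw [h2]
    intro z
    obtain ⟨w, hw⟩ := h1 z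
    exact ⟨w, by rw [← bc_eq_lTensor, hw]⟩
  exact key

end Descent

end Groth.Agent.Lib.Helper75.MonoMult
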