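import Groth.Agent.S15465
import Mathlib

/- helper75: nine-diagram lemmas for S15466 (sections of K → C₁ versus subobjects B₁ ⊆ B₂
completing the 3×3 diagram): `forward`, `backward`, `injective`, plus `epi_of_isPullback`. -/

set_option autoImplicit false
universe v u

namespace Groth.Agent.Lib.Helper75.NineDiag

open CategoryTheory CategoryTheory.Limits

variable {C : Type u} [Category.{v} C] [Abelian C]

/-- the image inclusion of a section `s` of `g` composed with `g` is inverse to the factorisation. -/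
theorem ιg_e {K C₁ : C} (s : C₁ ⟶ K) (g : K ⟶ C₁) (hs : s ≫ g = 𝟙 C₁) :
    ((imageSubobject s).arrow ≫ g) ≫ factorThruImageSubobject s = 𝟙 _ := by
  have h1 : factorThruImageSubobject s ≫ ((imageSubobject s).arrow ≫ g) = 𝟙 _ := by
    rw [← Category.assoc, imageSubobject_arrow_comp, hs]
  rw [← cancel_epi (factorThruImageSubobject s)]
  rw [← Category.assoc, h1, Category.id_comp, Category.comp_id]

theorem eq_zero_of_comp_ιg {K C₁ T : C} (s : C₁ ⟶ K) (g : K ⟶ C₁) (hs : s ≫ g = 𝟙 C₁)
    (x : T ⟶ (imageSubobject s : C)) (hx : x ≫ (imageSubobject s).arrow ≫ g = 0) : x = 0 := by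
  have := ιg_e s g hs
  calc x = x ≫ (((imageSubobject s).arrow ≫ g) ≫ factorThruImageSubobject s) := by
        rw [this, Category.comp_id]
    _ = 0 := by rw [← Category.assoc, ← Category.assoc, Category.assoc x, hx, zero_comp]

/-- In a pullback square along an epi in an abelian category the opposite map is epi. -/
theorem epi_of_isPullback {M I Z K : C} {r : M ⟶ I} {u : M ⟶ Z} {ι : I ⟶ K} {π : Z ⟶ K}
    (sq : IsPullback r u ι π) [Epi π] : Epi r := by
  rw [epi_iff_surjective_up_to_refinements]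
  intro T y
  obtain ⟨T', π', hπ', z, hz⟩ := surjective_up_to_refinements_of_epi π (y ≫ ι)
  refine ⟨T', π', hπ', sq.lift (π' ≫ y) z (by rw [Category.assoc, hz]), ?_⟩
  rw [sq.lift_fst]

section

variable (S : ShortComplex C) {A₂ A₃ C₁ C₂ : C}
    (i₁ : S.X₁ ⟶ A₂) (p₁ : A₂ ⟶ A₃) (wA : i₁ ≫ p₁ = 0) (hA : (ShortComplex.mk i₁ p₁ wA).ShortExact)
    (i₂ : A₂ ⟶ S.X₂) (π₂ : S.X₂ ⟶ C₂) (wB : i₂ ≫ π₂ = 0) (hB : (ShortComplex.mk i₂ π₂ wB).ShortExact)
    (j : C₁ ⟶ C₂) (q : C₂ ⟶ S.X₃) (wC : j ≫ q = 0) (hC : (ShortComplex.mk j q wC).ShortExact)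
    (hSf : S.f = i₁ ≫ i₂) (hSg : S.g = π₂ ≫ q)
    (h₂ : i₂ ≫ S.g = 0) (h₃ : S.f ≫ π₂ = 0)
    (f : A₃ ⟶ S.homology)
    (g : S.homology ⟶ C₁)
    (hf : p₁ ≫ f = S.liftCycles i₂ h₂ ≫ S.homologyπ)
    (hg : g ≫ j = S.homologyι ≫ S.descOpcycles π₂ h₃)

include hg in
theorem hkey : S.homologyπ ≫ g ≫ j = S.iCycles ≫ π₂ := by
  rw [hg, S.homology_π_ι_assoc, S.p_descOpcycles]

include hC hSf hSg hg in
/-- forward direction: a subobject completing the diagram comes from a section. -/
theorem forward {M : C} (m : M ⟶ S.X₂) [Mono m] (a : S.X₁ ⟶ M) (c : M ⟶ C₁) (wac : a ≫ c = 0)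
    (h1 : a ≫ m = i₁ ≫ i₂) (h2 : c ≫ j = m ≫ π₂)
    (h3 : (ShortComplex.mk a c wac).ShortExact) :
    ∃ s : C₁ ⟶ S.homology, s ≫ g = 𝟙 C₁ ∧
      (Subobject.map S.iCycles).obj ((Subobject.pullback S.homologyπ).obj (imageSubobject s)) =
        Subobject.mk m := by
  have : Mono j := hC.mono_f
  have : Epi c := h3.epi_g
  have hk := hkey S π₂ j h₃ g hg
  have hm0 : m ≫ S.g = 0 := by
    rw [hSg, ← Category.assoc, ← h2, Category.assoc, wC, comp_zero]
  set u := S.liftCycles m hm0 with hu
  have hu' : u ≫ S.iCycles = m := S.liftCycles_i _ _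
  have hmonou : Mono u := mono_of_mono_fac hu'
  have hau : a ≫ u = S.toCycles := by
    rw [← cancel_mono S.iCycles, Category.assoc, hu', h1, S.toCycles_i, hSf]
  have ha0 : a ≫ (u ≫ S.homologyπ) = 0 := by
    rw [← Category.assoc, hau, S.toCycles_comp_homologyπ]
  let s : C₁ ⟶ S.homology := h3.exact.desc (u ≫ S.homologyπ) ha0
  have hcs : c ≫ s = u ≫ S.homologyπ := h3.exact.g_desc (u ≫ S.homologyπ) ha0
  have hsg : s ≫ g = 𝟙 C₁ := by
    rw [← cancel_epi c, ← cancel_mono j]
    rw [Category.comp_id, Category.assoc, Category.assoc, reassoc_of% hcs, hk, reassoc_of% hu', h2]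
  refine ⟨s, hsg, ?_⟩
  have hP : (Subobject.pullback S.homologyπ).obj (imageSubobject s) = Subobject.mk u := by
    have sq := Subobject.isPullback S.homologyπ (imageSubobject s)
    apply le_antisymm
    · -- factor through `u`, the kernel of its cokernel
      have hex := ShortComplex.exact_cokernel u
      have h0 : S.toCycles ≫ cokernel.π u = 0 := by
        rw [← hau, Category.assoc, cokernel.condition, comp_zero]
      let t : S.homology ⟶ cokernel u := S.descHomology (cokernel.π u) h0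
      have ht : S.homologyπ ≫ t = cokernel.π u := S.π_descHomology _ _
      have hst : s ≫ t = 0 := by
        rw [← cancel_epi c, reassoc_of% hcs, ht, cokernel.condition, comp_zero]
      have hιt : (imageSubobject s).arrow ≫ t = 0 := by
        rw [← cancel_epi (factorThruImageSubobject s), ← Category.assoc,
          imageSubobject_arrow_comp, hst, comp_zero]
      have hz : ((Subobject.pullback S.homologyπ).obj (imageSubobject s)).arrow ≫ cokernel.π u
          = 0 := by
        rw [← ht, ← Category.assoc, ← sq.w, Category.assoc, hιt, comp_zero]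
      exact Subobject.le_mk_of_comm (hex.lift _ hz) (hex.lift_f _ hz)
    · refine Subobject.mk_le_of_comm (sq.lift (c ≫ factorThruImageSubobject s) u ?_) ?_
      · rw [Category.assoc, imageSubobject_arrow_comp, hcs]
      · rw [sq.lift_snd]
  rw [hP, Subobject.map_mk]
  exact Subobject.mk_eq_mk_of_comm _ _ (Iso.refl _) (by simp [hu'])

include hA hB hC hSf hSg hf hg in
/-- backward direction: the subobject attached to a section completes the diagram. -/
theorem backward (s : C₁ ⟶ S.homology) (hs : s ≫ g = 𝟙 C₁)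
    {M : C} (m : M ⟶ S.X₂) [Mono m] (u : M ⟶ S.cycles) (r : M ⟶ (imageSubobject s : C))
    (hum : u ≫ S.iCycles = m) (sq : IsPullback r u (imageSubobject s).arrow S.homologyπ) :
    ∃ (a : S.X₁ ⟶ M) (c : M ⟶ C₁) (wac : a ≫ c = 0)
      (a' : A₃ ⟶ cokernel m) (c' : cokernel m ⟶ S.X₃) (wac' : a' ≫ c' = 0),
      a ≫ m = i₁ ≫ i₂ ∧ c ≫ j = m ≫ π₂ ∧ (ShortComplex.mk a c wac).ShortExact ∧
      p₁ ≫ a' = i₂ ≫ cokernel.π m ∧ cokernel.π m ≫ c' = π₂ ≫ q ∧
      (ShortComplex.mk a' c' wac').ShortExact := by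
  have : Epi p₁ := hA.epi_g
  have : Mono i₁ := hA.mono_f
  have : Mono i₂ := hB.mono_f
  have : Epi π₂ := hB.epi_g
  have : Mono j := hC.mono_f
  have : Epi q := hC.epi_g
  have hk := hkey S π₂ j h₃ g hg
  obtain ⟨wfg, hfg⟩ := Groth.Agent.S15465.aux S i₁ p₁ wA hA i₂ π₂ wB hB j q wC hC hSf hSg h₂ h₃ f g
    hf hg
  have : Mono f := hfg.mono_f
  have hrepi : Epi r := epi_of_isPullback sq
  -- the maps a, c
  let a : S.X₁ ⟶ M := sq.lift 0 S.toCycles (by rw [zero_comp, S.toCycles_comp_homologyπ])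
  have har : a ≫ r = 0 := sq.lift_fst _ _ _
  have hau : a ≫ u = S.toCycles := sq.lift_snd _ _ _
  have ham : a ≫ m = i₁ ≫ i₂ := by
    rw [← hum, reassoc_of% hau, S.toCycles_i, hSf]
  let c : M ⟶ C₁ := u ≫ S.homologyπ ≫ g
  have hc : c = r ≫ (imageSubobject s).arrow ≫ g := by
    change u ≫ S.homologyπ ≫ g = _
    rw [← Category.assoc, ← sq.w, Category.assoc]
  have wac : a ≫ c = 0 := by
    change a ≫ u ≫ S.homologyπ ≫ g = 0
    rw [reassoc_of% hau, S.toCycles_comp_homologyπ_assoc, zero_comp]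
  have hcj : c ≫ j = m ≫ π₂ := by
    change (u ≫ S.homologyπ ≫ g) ≫ j = _
    rw [Category.assoc, Category.assoc, hk, reassoc_of% hum]
  have hamono : Mono a := by
    have : Mono (a ≫ m) := by rw [ham]; infer_instance
    exact mono_of_mono a m
  have hcepi : Epi c := by
    have h1 : Epi ((imageSubobject s).arrow ≫ g) := by
      have := ιg_e s g hs
      have h2 : factorThruImageSubobject s ≫ ((imageSubobject s).arrow ≫ g) = 𝟙 _ := by
        rw [← Category.assoc, imageSubobject_arrow_comp, hs]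
      exact (IsSplitEpi.mk' ⟨factorThruImageSubobject s, h2⟩).epi
    rw [hc]
    exact epi_comp _ _
  have hacex : (ShortComplex.mk a c wac).Exact := by
    rw [ShortComplex.exact_iff_exact_up_to_refinements]
    intro T x hx
    dsimp at x hx
    have hxr : x ≫ r = 0 := by
      apply eq_zero_of_comp_ιg s g hs
      rw [Category.assoc, ← hc, hx]
    have h1 : (x ≫ u) ≫ S.homologyπ = 0 := by
      rw [Category.assoc, ← sq.w, reassoc_of% hxr, zero_comp]
    obtain ⟨T', π', hπ', x₁, hx₁⟩ := (S.comp_homologyπ_eq_zero_iff_up_to_refinements _).mp h1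
    refine ⟨T', π', hπ', x₁, ?_⟩
    dsimp
    apply sq.hom_ext
    · rw [Category.assoc, hxr, comp_zero, Category.assoc, har, comp_zero]
    · rw [Category.assoc, Category.assoc, hau, ← hx₁]
  -- the maps a', c'
  have hm0 : m ≫ S.g = 0 := by
    rw [← hum, Category.assoc, S.iCycles_g, comp_zero]
  have ha'0 : i₁ ≫ (i₂ ≫ cokernel.π m) = 0 := by
    rw [← Category.assoc, ← ham, Category.assoc, cokernel.condition, comp_zero]
  let a' : A₃ ⟶ cokernel m := hA.exact.desc (i₂ ≫ cokernel.π m) ha'0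
  have hpa' : p₁ ≫ a' = i₂ ≫ cokernel.π m := hA.exact.g_desc (i₂ ≫ cokernel.π m) ha'0
  let c' : cokernel m ⟶ S.X₃ := cokernel.desc m S.g hm0
  have hπc' : cokernel.π m ≫ c' = S.g := cokernel.π_desc _ _ _
  have wac' : a' ≫ c' = 0 := by
    rw [← cancel_epi p₁, reassoc_of% hpa', hπc', h₂, comp_zero]
  have hc'epi : Epi c' := by
    have : Epi (cokernel.π m ≫ c') := by rw [hπc', hSg]; infer_instance
    exact epi_of_epi (cokernel.π m) c'
  have ha'mono : Mono a' := by
    rw [Preadditive.mono_iff_cancel_zero]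
    intro T x hx
    obtain ⟨T', π', hπ', x₂, hx₂⟩ := surjective_up_to_refinements_of_epi p₁ x
    have h1 : (x₂ ≫ i₂) ≫ cokernel.π m = 0 := by
      rw [Category.assoc, ← hpa', ← Category.assoc, ← hx₂, Category.assoc, hx, comp_zero]
    obtain ⟨T'', π'', hπ'', y, hy⟩ :=
      (ShortComplex.exact_cokernel m).exact_up_to_refinements (x₂ ≫ i₂) h1
    dsimp at y hy
    have hyu : y ≫ u = π'' ≫ x₂ ≫ S.liftCycles i₂ h₂ := by
      rw [← cancel_mono S.iCycles, Category.assoc, hum, ← hy, Category.assoc, Category.assoc,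
        S.liftCycles_i]
    have h3 : y ≫ u ≫ S.homologyπ = π'' ≫ x₂ ≫ p₁ ≫ f := by
      rw [reassoc_of% hyu, hf]
    have hyr : y ≫ r = 0 := by
      apply eq_zero_of_comp_ιg s g hs
      rw [Category.assoc, ← hc]
      change y ≫ u ≫ S.homologyπ ≫ g = 0
      rw [reassoc_of% h3, wfg, comp_zero, comp_zero, comp_zero]
    have h4 : (π'' ≫ x₂ ≫ p₁) ≫ f = 0 := by
      rw [Category.assoc, Category.assoc, ← h3, ← sq.w, reassoc_of% hyr, zero_comp]
    have h5 : π'' ≫ x₂ ≫ p₁ = 0 := by
      rw [← cancel_mono f, h4, zero_comp]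
    rw [← cancel_epi π', ← cancel_epi π'', hx₂, h5, comp_zero, comp_zero]
  have ha'c'ex : (ShortComplex.mk a' c' wac').Exact := by
    rw [ShortComplex.exact_iff_exact_up_to_refinements]
    intro T x hx
    dsimp at x hx
    obtain ⟨T', π', hπ', b, hb⟩ := surjective_up_to_refinements_of_epi (cokernel.π m) x
    have hb0 : b ≫ S.g = 0 := by
      rw [← hπc', ← Category.assoc, ← hb, Category.assoc, hx, comp_zero]
    let z := S.liftCycles b hb0
    have hz : z ≫ S.iCycles = b := S.liftCycles_i _ _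
    let κ := z ≫ S.homologyπ
    have h1 : (κ - κ ≫ g ≫ s) ≫ g = 0 := by
      simp only [Preadditive.sub_comp, Category.assoc, hs, Category.comp_id, sub_self]
    obtain ⟨T'', π'', hπ'', x₃, hx₃⟩ := hfg.exact.exact_up_to_refinements (κ - κ ≫ g ≫ s) h1
    dsimp at x₃ hx₃
    obtain ⟨T₃, π₃, hπ₃, x₂, hx₂⟩ := surjective_up_to_refinements_of_epi p₁ x₃
    refine ⟨T₃, π₃ ≫ π'' ≫ π', epi_comp _ _, π₃ ≫ x₃, ?_⟩
    dsimp
    -- the difference is in `M`
    let dz : T₃ ⟶ S.cycles := π₃ ≫ π'' ≫ z - x₂ ≫ S.liftCycles i₂ h₂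
    have hdz : dz ≫ S.homologyπ =
        (π₃ ≫ π'' ≫ κ ≫ g ≫ factorThruImageSubobject s) ≫ (imageSubobject s).arrow := by
      have e1 : dz ≫ S.homologyπ = π₃ ≫ π'' ≫ κ - π₃ ≫ x₃ ≫ f := by
        change (π₃ ≫ π'' ≫ z - x₂ ≫ S.liftCycles i₂ h₂) ≫ S.homologyπ = _
        rw [Preadditive.sub_comp, Category.assoc, Category.assoc, Category.assoc, ← hf,
          ← Category.assoc x₂, ← hx₂, Category.assoc]
      have e2 : π₃ ≫ x₃ ≫ f = π₃ ≫ π'' ≫ κ - π₃ ≫ π'' ≫ κ ≫ g ≫ s := by
        rw [← hx₃, Preadditive.comp_sub, Preadditive.comp_sub]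
      rw [e1, e2, sub_sub_cancel]
      simp only [Category.assoc, imageSubobject_arrow_comp]
    let l : T₃ ⟶ M := sq.lift _ dz hdz.symm
    have hl : l ≫ u = dz := sq.lift_snd _ _ _
    have hd : (π₃ ≫ π'' ≫ b - x₂ ≫ i₂) ≫ cokernel.π m = 0 := by
      have : π₃ ≫ π'' ≫ b - x₂ ≫ i₂ = l ≫ m := by
        rw [← hum, reassoc_of% hl]
        change _ = (π₃ ≫ π'' ≫ z - x₂ ≫ S.liftCycles i₂ h₂) ≫ S.iCycles
        rw [Preadditive.sub_comp, Category.assoc, Category.assoc, Category.assoc, hz,
          S.liftCycles_i]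
      rw [this, Category.assoc, cokernel.condition, comp_zero]
    rw [Preadditive.sub_comp, sub_eq_zero] at hd
    rw [Category.assoc, Category.assoc, hb, hx₂, Category.assoc, hpa']
    simpa only [Category.assoc] using hd
  exact ⟨a, c, wac, a', c', wac', ham, hcj,
    { exact := hacex, mono_f := hamono, epi_g := hcepi },
    hpa', by rw [hπc', hSg],
    { exact := ha'c'ex, mono_f := ha'mono, epi_g := hc'epi }⟩

omit S in
/-- injectivity: the subobject determines the section. -/
theorem injective {K Z C₁ : C} (π : Z ⟶ K) [Epi π] (g : K ⟶ C₁) (s s' : C₁ ⟶ K)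
    (hs : s ≫ g = 𝟙 C₁) (hs' : s' ≫ g = 𝟙 C₁)
    (h : (Subobject.pullback π).obj (imageSubobject s) =
      (Subobject.pullback π).obj (imageSubobject s')) : s = s' := by
  have sq := Subobject.isPullback π (imageSubobject s)
  have sq' := Subobject.isPullback π (imageSubobject s')
  have hr' : Epi (Subobject.pullbackπ π (imageSubobject s')) := epi_of_isPullback sq'
  have hex := ShortComplex.exact_cokernel (imageSubobject s).arrow
  have hle : (Subobject.pullback π).obj (imageSubobject s') ≤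
      (Subobject.pullback π).obj (imageSubobject s) := le_of_eq h.symm
  have harr : Subobject.ofLE _ _ hle ≫ ((Subobject.pullback π).obj (imageSubobject s)).arrow =
      ((Subobject.pullback π).obj (imageSubobject s')).arrow := Subobject.ofLE_arrow hle
  have h0 : s' ≫ cokernel.π (imageSubobject s).arrow = 0 := by
    have key : (imageSubobject s').arrow ≫ cokernel.π (imageSubobject s).arrow = 0 := by
      rw [← cancel_epi (Subobject.pullbackπ π (imageSubobject s')), comp_zero]
      rw [reassoc_of% sq'.w, ← harr, Category.assoc, ← reassoc_of% sq.w, cokernel.condition,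
        comp_zero, comp_zero]
    rw [← imageSubobject_arrow_comp s', Category.assoc, key, comp_zero]
  let e'' := hex.lift s' h0
  have he'' : e'' ≫ (imageSubobject s).arrow = s' := hex.lift_f s' h0
  have hιe := ιg_e s g hs
  have h3 : e'' = factorThruImageSubobject s := by
    calc e'' = e'' ≫ (((imageSubobject s).arrow ≫ g) ≫ factorThruImageSubobject s) := by
          rw [hιe, Category.comp_id]
      _ = (e'' ≫ (imageSubobject s).arrow) ≫ g ≫ factorThruImageSubobject s := by
          simp only [Category.assoc]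
      _ = factorThruImageSubobject s := by
          rw [he'', reassoc_of% hs']
  rw [← he'', h3, imageSubobject_arrow_comp]

end

end Groth.Agent.Lib.Helper75.NineDiag
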