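import Groth.Agent.Lib.Helper75.SqLift1

/- helper75: ring-level facts about the family `C[x,y]/(xy - c)` (deformations of the node),
used for S12256. -/

set_option autoImplicit false
universe u

namespace Groth.Agent.Lib.Helper75.NodeDef

open MvPolynomial

/-- the polynomial `xy - c` -/
noncomputable def eqn (C : Type u) [CommRing C] (c : C) : MvPolynomial (Fin 2) C :=
  X 0 * X 1 - MvPolynomial.C c

/-- the ring `C[x,y]/(xy - c)` -/
abbrev D (C : Type u) [CommRing C] (c : C) : Type u :=
  MvPolynomial (Fin 2) C ⧸ Ideal.span {eqn C c}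

/-- the node `k[x,y]/(xy)` -/
abbrev Node (k : Type u) [CommRing k] : Type u :=
  MvPolynomial (Fin 2) k ⧸ Ideal.span {(X 0 * X 1 : MvPolynomial (Fin 2) k)}

section General

variable {C C' : Type u} [CommRing C] [CommRing C']

theorem map_eqn (p : C →+* C') (c : C) : MvPolynomial.map p (eqn C c) = eqn C' (p c) := by
  simp [eqn]

/-- kernel of the map induced on quotients by principal ideals by a surjection of coefficients -/
theorem ker_of_surjective {σ : Type*} (p : C →+* C') (hp : Function.Surjective p)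
    (f : MvPolynomial σ C) (I' : Ideal (MvPolynomial σ C'))
    (hI' : I' = Ideal.span {MvPolynomial.map p f})
    (φ : MvPolynomial σ C ⧸ Ideal.span {f} →+* MvPolynomial σ C' ⧸ I')
    (hφ : ∀ x, φ (Ideal.Quotient.mk _ x) = Ideal.Quotient.mk _ (MvPolynomial.map p x)) :
    RingHom.ker φ = (RingHom.ker p).map (algebraMap C (MvPolynomial σ C ⧸ Ideal.span {f})) := by
  apply le_antisymm
  · intro z hz
    obtain ⟨x, rfl⟩ := Ideal.Quotient.mk_surjective z
    rw [RingHom.mem_ker, hφ, Ideal.Quotient.eq_zero_iff_mem, hI', Ideal.mem_span_singleton'] at hz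
    obtain ⟨g', hg'⟩ := hz
    obtain ⟨g, rfl⟩ := MvPolynomial.map_surjective p hp g'
    have h1 : x - g * f ∈ RingHom.ker (MvPolynomial.map p : MvPolynomial σ C →+* _) := by
      rw [RingHom.mem_ker, map_sub, map_mul, hg', sub_self]
    rw [MvPolynomial.ker_map] at h1
    have h2 : Ideal.Quotient.mk (Ideal.span {f}) x =
        Ideal.Quotient.mk (Ideal.span {f}) (x - g * f) := by
      rw [map_sub, sub_eq_self.mpr]
      rw [Ideal.Quotient.eq_zero_iff_mem]
      exact Ideal.mul_mem_left _ _ (Ideal.subset_span (Set.mem_singleton _))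
    rw [h2]
    have h3 := Ideal.mem_map_of_mem (Ideal.Quotient.mk (Ideal.span {f})) h1
    rw [Ideal.map_map] at h3
    exact h3
  · rw [Ideal.map_le_iff_le_comap]
    intro a ha
    rw [Ideal.mem_comap, RingHom.mem_ker]
    change φ (Ideal.Quotient.mk _ (MvPolynomial.C a)) = 0
    rw [hφ, MvPolynomial.map_C, RingHom.mem_ker.mp ha, map_zero, map_zero]

/-- the base change map `C[x,y]/(xy-c) → C'[x,y]/(xy-c')` -/
noncomputable def bc (p : C →+* C') (c : C) (c' : C') (hc : p c = c') : D C c →+* D C' c' :=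
  Ideal.Quotient.lift _ ((Ideal.Quotient.mk _).comp (MvPolynomial.map p)) (by
    intro x hx
    rw [Ideal.mem_span_singleton'] at hx
    obtain ⟨g, rfl⟩ := hx
    rw [RingHom.comp_apply, map_mul, map_eqn, hc, map_mul]
    rw [Ideal.Quotient.eq_zero_iff_mem.mpr (Ideal.subset_span (Set.mem_singleton _) : eqn C' c' ∈ Ideal.span {eqn C' c'}), mul_zero])

theorem bc_mk (p : C →+* C') (c : C) (c' : C') (hc : p c = c') (x : MvPolynomial (Fin 2) C) :
    bc p c c' hc (Ideal.Quotient.mk _ x) = Ideal.Quotient.mk _ (MvPolynomial.map p x) := rfl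

theorem bc_surjective (p : C →+* C') (hp : Function.Surjective p) (c : C) (c' : C')
    (hc : p c = c') : Function.Surjective (bc p c c' hc) := by
  intro z
  obtain ⟨x', rfl⟩ := Ideal.Quotient.mk_surjective z
  obtain ⟨x, rfl⟩ := MvPolynomial.map_surjective p hp x'
  exact ⟨Ideal.Quotient.mk _ x, rfl⟩

theorem ker_bc (p : C →+* C') (hp : Function.Surjective p) (c : C) (c' : C')
    (hc : p c = c') :
    RingHom.ker (bc p c c' hc) = (RingHom.ker p).map (algebraMap C (D C c)) :=
  ker_of_surjective p hp (eqn C c) _ (by rw [map_eqn, hc]) (bc p c c' hc) (bc_mk p c c' hc)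

theorem bc_algebraMap (p : C →+* C') (c : C) (c' : C') (hc : p c = c') (a : C) :
    bc p c c' hc (algebraMap C (D C c) a) = algebraMap C' (D C' c') (p a) := by
  change bc p c c' hc (Ideal.Quotient.mk _ (MvPolynomial.C a)) = _
  rw [bc_mk, MvPolynomial.map_C]
  rfl

end General

section Pi

variable {C k : Type u} [CommRing C] [CommRing k]

/-- the reduction `C[x,y]/(xy-c) → k[x,y]/(xy)` -/
noncomputable def pi (e : C →+* k) (c : C) (hc : e c = 0) : D C c →+* Node k :=
  Ideal.Quotient.lift _ ((Ideal.Quotient.mk _).comp (MvPolynomial.map e)) (by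
    intro x hx
    rw [Ideal.mem_span_singleton'] at hx
    obtain ⟨g, rfl⟩ := hx
    rw [RingHom.comp_apply, map_mul, map_eqn, hc, map_mul]
    have : eqn k 0 = X 0 * X 1 := by simp [eqn]
    rw [this, Ideal.Quotient.eq_zero_iff_mem.mpr
      (Ideal.subset_span (Set.mem_singleton _) :
        (X 0 * X 1 : MvPolynomial (Fin 2) k) ∈ Ideal.span {(X 0 * X 1 : MvPolynomial (Fin 2) k)}), mul_zero])

theorem pi_mk (e : C →+* k) (c : C) (hc : e c = 0) (x : MvPolynomial (Fin 2) C) :
    pi e c hc (Ideal.Quotient.mk _ x) = Ideal.Quotient.mk _ (MvPolynomial.map e x) := rfl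

theorem pi_surjective (e : C →+* k) (he : Function.Surjective e) (c : C) (hc : e c = 0) :
    Function.Surjective (pi e c hc) := by
  intro z
  obtain ⟨x', rfl⟩ := Ideal.Quotient.mk_surjective z
  obtain ⟨x, rfl⟩ := MvPolynomial.map_surjective e he x'
  exact ⟨Ideal.Quotient.mk _ x, rfl⟩

theorem ker_pi (e : C →+* k) (he : Function.Surjective e) (c : C) (hc : e c = 0) :
    RingHom.ker (pi e c hc) = (RingHom.ker e).map (algebraMap C (D C c)) :=
  ker_of_surjective e he (eqn C c) _ (by rw [map_eqn, hc]; simp [eqn]) (pi e c hc) (pi_mk e c hc)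

theorem pi_algebraMap (e : C →+* k) (c : C) (hc : e c = 0) (a : C) :
    pi e c hc (algebraMap C (D C c) a) = algebraMap k (Node k) (e a) := by
  change pi e c hc (Ideal.Quotient.mk _ (MvPolynomial.C a)) = _
  rw [pi_mk, MvPolynomial.map_C]
  rfl

theorem pi_bc {C' : Type u} [CommRing C'] (p : C →+* C') (e' : C' →+* k) (c : C) (c' : C')
    (hc : p c = c') (hc' : e' c' = 0) (z : D C c) :
    pi e' c' hc' (bc p c c' hc z) = pi (e'.comp p) c (by rw [RingHom.comp_apply, hc, hc']) z := by
  obtain ⟨x, rfl⟩ := Ideal.Quotient.mk_surjective z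
  rw [bc_mk, pi_mk, pi_mk, MvPolynomial.map_map]

end Pi

end Groth.Agent.Lib.Helper75.NodeDef
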