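import Groth.Agent.Lib.Helper75.NodeDef1

/- helper75: flatness of `C[x,y]/(xy - c)` over an Artinian local ring, rescaling isomorphisms and
non-triviality of `xy = ε` (used for S12256). -/

set_option autoImplicit false
universe u

namespace Groth.Agent.Lib.Helper75.NodeDef

open MvPolynomial IsLocalRing

section Flat

variable {C : Type u} [CommRing C] [IsLocalRing C] [IsArtinianRing C]

theorem mem_smul_top_iff (x : MvPolynomial (Fin 2) C) :
    x ∈ maximalIdeal C • (⊤ : Submodule C (MvPolynomial (Fin 2) C)) ↔
      MvPolynomial.map (Ideal.Quotient.mk (maximalIdeal C)) x = 0 := by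
  rw [Ideal.smul_top_eq_map, Submodule.restrictScalars_mem, ← RingHom.mem_ker,
    MvPolynomial.ker_map, Ideal.mk_ker]
  rfl

theorem flat (c : C) (hc : c ∈ maximalIdeal C) : Module.Flat C (D C c) := by
  let d : MvPolynomial (Fin 2) C →ₗ[C] MvPolynomial (Fin 2) C :=
    LinearMap.mulLeft C (eqn C c)
  let v : MvPolynomial (Fin 2) C →ₗ[C] D C c :=
    (Ideal.Quotient.mkₐ C (Ideal.span {eqn C c})).toLinearMap
  have hk : Function.Injective (d.rTensor (C ⧸ maximalIdeal C)) := by
    apply Groth.Agent.Lib.Helper75.SqLift.rTensor_quot_injective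
    intro x hx
    rw [mem_smul_top_iff] at hx ⊢
    change MvPolynomial.map _ (eqn C c * x) = 0 at hx
    rw [map_mul, map_eqn, Ideal.Quotient.eq_zero_iff_mem.mpr hc] at hx
    have h1 : eqn (C ⧸ maximalIdeal C) 0 ≠ 0 := by
      have : eqn (C ⧸ maximalIdeal C) 0 = X 0 * X 1 := by simp [eqn]
      rw [this]
      exact mul_ne_zero (MvPolynomial.X_ne_zero _) (MvPolynomial.X_ne_zero _)
    exact (mul_eq_zero.mp hx).resolve_left h1
  refine Groth.Agent.Lib.Helper75.FlatCx.flat_of_artinian d hk v ?_ ?_
  · intro y
    change Ideal.Quotient.mk _ y = 0 ↔ _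
    rw [Ideal.Quotient.eq_zero_iff_mem, Ideal.mem_span_singleton']
    constructor
    · rintro ⟨a, rfl⟩
      exact ⟨a, mul_comm _ _⟩
    · rintro ⟨a, rfl⟩
      exact ⟨a, mul_comm _ _⟩
  · exact Ideal.Quotient.mk_surjective

end Flat

section Scale

variable {C : Type u} [CommRing C]

/-- the substitution `x ↦ u x`, `y ↦ y` -/
noncomputable def subst (u : C) : MvPolynomial (Fin 2) C →+* MvPolynomial (Fin 2) C :=
  MvPolynomial.eval₂Hom MvPolynomial.C (fun i : Fin 2 => if i = 0 then MvPolynomial.C u * X 0 else X 1)

theorem subst_C (u a : C) : subst u (MvPolynomial.C a) = MvPolynomial.C a := by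
  simp [subst]

theorem subst_X0 (u : C) : subst u (X 0) = MvPolynomial.C u * X 0 := by
  simp [subst]

theorem subst_X1 (u : C) : subst u (X 1) = X 1 := by
  simp [subst]

theorem subst_eqn (u c : C) : subst u (eqn C (u * c)) = MvPolynomial.C u * eqn C c := by
  rw [eqn, map_sub, map_mul, subst_X0, subst_X1, subst_C, eqn, map_mul]
  ring

/-- `C[x,y]/(xy - uc) → C[x,y]/(xy - c)`, `x ↦ ux` -/
noncomputable def scale (u c : C) : D C (u * c) →+* D C c :=
  Ideal.Quotient.lift _ ((Ideal.Quotient.mk _).comp (subst u)) (by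
    intro x hx
    rw [Ideal.mem_span_singleton'] at hx
    obtain ⟨g, rfl⟩ := hx
    rw [RingHom.comp_apply, map_mul, subst_eqn, map_mul, map_mul,
      Ideal.Quotient.eq_zero_iff_mem.mpr
        (Ideal.subset_span (Set.mem_singleton _) : eqn C c ∈ Ideal.span {eqn C c}),
      mul_zero, mul_zero])

theorem scale_mk (u c : C) (x : MvPolynomial (Fin 2) C) :
    scale u c (Ideal.Quotient.mk _ x) = Ideal.Quotient.mk _ (subst u x) := rfl

theorem scale_algebraMap (u c a : C) :
    scale u c (algebraMap C (D C (u * c)) a) = algebraMap C (D C c) a := by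
  change scale u c (Ideal.Quotient.mk _ (MvPolynomial.C a)) = _
  rw [scale_mk, subst_C]
  rfl

theorem pi_scale {k : Type u} [CommRing k] (e : C →+* k) (u c : C) (hu : e u = 1) (hc : e c = 0)
    (z : D C (u * c)) :
    pi e c hc (scale u c z) = pi e (u * c) (by rw [map_mul, hc, mul_zero]) z := by
  obtain ⟨x, rfl⟩ := Ideal.Quotient.mk_surjective z
  rw [scale_mk, pi_mk, pi_mk]
  congr 1
  have : (MvPolynomial.map e).comp (subst u) = MvPolynomial.map e := by
    apply MvPolynomial.ringHom_ext
    · intro a
      rw [RingHom.comp_apply, subst_C]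
    · intro i
      rw [RingHom.comp_apply]
      have hi : i = 0 ∨ i = 1 := by fin_cases i <;> simp
      rcases hi with rfl | rfl
      · rw [subst_X0, map_mul, MvPolynomial.map_C, hu, MvPolynomial.C_1, one_mul]
      · rw [subst_X1]
  exact RingHom.congr_fun this x

theorem subst_subst (u v : C) (huv : u * v = 1) : (subst u).comp (subst v) = RingHom.id _ := by
  apply MvPolynomial.ringHom_ext
  · intro a
    rw [RingHom.comp_apply, subst_C, subst_C]
    rfl
  · intro i
    rw [RingHom.comp_apply]
    have hi : i = 0 ∨ i = 1 := by fin_cases i <;> simp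
    rcases hi with rfl | rfl
    · rw [subst_X0, map_mul, subst_C, subst_X0, ← mul_assoc, ← MvPolynomial.C_mul, mul_comm v u,
        huv, MvPolynomial.C_1, one_mul]
      rfl
    · rw [subst_X1, subst_X1]
      rfl

/-- the rescaling isomorphism for a unit `u` -/
noncomputable def scaleEquiv (u v c : C) (huv : u * v = 1) : D C (u * c) ≃+* D C c :=
  RingEquiv.ofRingHom (scale u c)
    ((scale v (u * c)).comp
      (Ideal.quotEquivOfEq (by rw [← mul_assoc, mul_comm v u, huv, one_mul]) :
        D C c ≃+* D C (v * (u * c))).toRingHom)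
    (by
      apply Ideal.Quotient.ringHom_ext
      apply MvPolynomial.ringHom_ext
      · intro a
        simp only [RingHom.comp_apply]
        change scale u c (scale v (u * c) ((Ideal.quotEquivOfEq _)
          (Ideal.Quotient.mk _ (MvPolynomial.C a)))) = Ideal.Quotient.mk _ (MvPolynomial.C a)
        rw [Ideal.quotEquivOfEq_mk, scale_mk, scale_mk, subst_C, subst_C]
      · intro i
        simp only [RingHom.comp_apply]
        change scale u c (scale v (u * c) ((Ideal.quotEquivOfEq _)
          (Ideal.Quotient.mk _ (X i)))) = Ideal.Quotient.mk _ (X i)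
        rw [Ideal.quotEquivOfEq_mk, scale_mk, scale_mk]
        congr 1
        exact RingHom.congr_fun (subst_subst u v huv) (X i))
    (by
      apply Ideal.Quotient.ringHom_ext
      apply MvPolynomial.ringHom_ext
      · intro a
        simp only [RingHom.comp_apply]
        change scale v (u * c) ((Ideal.quotEquivOfEq _) (scale u c
          (Ideal.Quotient.mk _ (MvPolynomial.C a)))) = Ideal.Quotient.mk _ (MvPolynomial.C a)
        rw [scale_mk, Ideal.quotEquivOfEq_mk, scale_mk, subst_C, subst_C]
      · intro i
        simp only [RingHom.comp_apply]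
        change scale v (u * c) ((Ideal.quotEquivOfEq _) (scale u c
          (Ideal.Quotient.mk _ (X i)))) = Ideal.Quotient.mk _ (X i)
        rw [scale_mk, Ideal.quotEquivOfEq_mk, scale_mk]
        congr 1
        exact RingHom.congr_fun (subst_subst v u (by rw [mul_comm, huv])) (X i))

theorem scaleEquiv_apply (u v c : C) (huv : u * v = 1) (z : D C (u * c)) :
    scaleEquiv u v c huv z = scale u c z := rfl

end Scale

end Groth.Agent.Lib.Helper75.NodeDef
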