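import Groth.Agent.Lib.Helper75.NodeDef2
import Mathlib.Algebra.DualNumber
import Mathlib.RingTheory.DualNumber

/- helper75: the first-order deformation `xy = ε` of the node is not trivial (S12256). -/

set_option autoImplicit false
universe u

namespace Groth.Agent.Lib.Helper75.NodeDef

open MvPolynomial

section NoSection

variable {k : Type u} [CommRing k]

/-- evaluation at the origin on the node -/
noncomputable def ev0 : Node k →+* k :=
  Ideal.Quotient.lift _ (MvPolynomial.eval₂Hom (RingHom.id k) (fun _ => 0)) (by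
    intro x hx
    rw [Ideal.mem_span_singleton'] at hx
    obtain ⟨g, rfl⟩ := hx
    simp)

theorem ev0_mk (x : MvPolynomial (Fin 2) k) :
    ev0 (Ideal.Quotient.mk _ x) = MvPolynomial.eval₂Hom (RingHom.id k) (fun _ => 0) x := rfl

variable {E : Type u} [CommRing E]

/-- the zero section of the trivial family -/
noncomputable def sec0 : D E 0 →+* E :=
  Ideal.Quotient.lift _ (MvPolynomial.eval₂Hom (RingHom.id E) (fun _ => 0)) (by
    intro x hx
    rw [Ideal.mem_span_singleton'] at hx
    obtain ⟨g, rfl⟩ := hx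
    simp [eqn])

theorem sec0_mk (x : MvPolynomial (Fin 2) E) :
    sec0 (Ideal.Quotient.mk _ x) = MvPolynomial.eval₂Hom (RingHom.id E) (fun _ => 0) x := rfl

theorem sec0_algebraMap (a : E) : sec0 (algebraMap E (D E 0) a) = a := by
  change sec0 (Ideal.Quotient.mk _ (MvPolynomial.C a)) = a
  rw [sec0_mk]
  simp

theorem ev0_pi (e : E →+* k) (z : D E 0) : ev0 (pi e 0 (map_zero e) z) = e (sec0 z) := by
  obtain ⟨x, rfl⟩ := Ideal.Quotient.mk_surjective z
  rw [pi_mk, ev0_mk, sec0_mk]
  have : (MvPolynomial.eval₂Hom (RingHom.id k) (fun _ : Fin 2 => (0 : k))).comp (MvPolynomial.map e) =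
      e.comp (MvPolynomial.eval₂Hom (RingHom.id E) (fun _ : Fin 2 => (0 : E))) := by
    apply MvPolynomial.ringHom_ext
    · intro a
      simp
    · intro i
      simp
  exact RingHom.congr_fun this x

end NoSection

section Dual

variable {k : Type u} [Field k]

theorem no_hom (e : DualNumber k →+* k) (he : ∀ a, e a = TrivSqZeroExt.fst a)
    (φ : D (DualNumber k) DualNumber.eps →+* D (DualNumber k) 0)
    (hφa : ∀ a : DualNumber k, φ (algebraMap (DualNumber k) (D (DualNumber k) DualNumber.eps) a) =
      algebraMap (DualNumber k) (D (DualNumber k) 0) a)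
    (hφπ : ∀ z, pi e 0 (map_zero e) (φ z) =
      pi e DualNumber.eps (by rw [he, DualNumber.fst_eps]) z) : False := by
  let σ : D (DualNumber k) DualNumber.eps →+* DualNumber k := sec0.comp φ
  have hσa : ∀ a : DualNumber k,
      σ (algebraMap (DualNumber k) (D (DualNumber k) DualNumber.eps) a) = a := by
    intro a
    change sec0 (φ (algebraMap (DualNumber k) (D (DualNumber k) DualNumber.eps) a)) = a
    rw [hφa, sec0_algebraMap]
  have hσX : ∀ i : Fin 2, TrivSqZeroExt.fst (σ (Ideal.Quotient.mk _ (X i))) = 0 := by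
    intro i
    change TrivSqZeroExt.fst (sec0 (φ (Ideal.Quotient.mk _ (X i)))) = 0
    rw [← he, ← ev0_pi, hφπ, pi_mk, ev0_mk]
    simp
  have h1 : (Ideal.Quotient.mk (Ideal.span {eqn (DualNumber k) DualNumber.eps}))
      (X 0 * X 1) = algebraMap (DualNumber k) _ DualNumber.eps := by
    change _ = Ideal.Quotient.mk _ (MvPolynomial.C DualNumber.eps)
    rw [Ideal.Quotient.eq]
    exact Ideal.subset_span (Set.mem_singleton _)
  have h2 : σ (Ideal.Quotient.mk _ (X 0)) * σ (Ideal.Quotient.mk _ (X 1)) = DualNumber.eps := by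
    rw [← map_mul, ← map_mul, h1, hσa]
  have h3 := congrArg TrivSqZeroExt.snd h2
  rw [TrivSqZeroExt.snd_mul, hσX 0, hσX 1, DualNumber.snd_eps] at h3
  simp at h3

end Dual

end Groth.Agent.Lib.Helper75.NodeDef
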