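import Groth.Agent.Lib.Helper76.ArtFibre
import Mathlib.Algebra.DualNumber
import Mathlib.RingTheory.DualNumber

/- helper75: the Artinian rings used in S12256: `A' = k[ε][δ]`, `A = A'/(εδ)`, `B = A' ×_A A'`,
and the map `B → k[ε]`. -/

set_option autoImplicit false
universe u

namespace Groth.Agent.Lib.Helper75.NodeDef

open ArtFun ArtFun.Art

variable (k : Type u) [Field k]

/-- `k[ε][δ]` -/
abbrev E2 : Type u := TrivSqZeroExt (DualNumber k) (DualNumber k)

theorem isLocalRing_E2 : IsLocalRing (E2 k) := by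
  refine IsLocalRing.of_isUnit_or_isUnit_one_sub_self fun a => ?_
  rcases IsLocalRing.isUnit_or_isUnit_one_sub_self a.fst with h | h
  · exact Or.inl (TrivSqZeroExt.isUnit_iff_isUnit_fst.mpr h)
  · refine Or.inr (TrivSqZeroExt.isUnit_iff_isUnit_fst.mpr ?_)
    rwa [TrivSqZeroExt.fst_sub, TrivSqZeroExt.fst_one]

theorem isArtinianRing_E2 : IsArtinianRing (E2 k) :=
  haveI : Module.Finite k (DualNumber k) := inferInstanceAs (Module.Finite k (k × k))
  haveI : Module.Finite k (E2 k) :=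
    inferInstanceAs (Module.Finite k (DualNumber k × DualNumber k))
  haveI : IsScalarTower k (E2 k) (E2 k) := @IsScalarTower.right k (E2 k) _ _ _
  IsArtinianRing.of_finite k _

instance : IsLocalRing (E2 k) := isLocalRing_E2 k

instance : IsArtinianRing (E2 k) := isArtinianRing_E2 k

/-- the augmentation of `k[ε][δ]` -/
noncomputable def res2 : E2 k →ₐ[k] k :=
  (TrivSqZeroExt.fstHom k k k).comp (TrivSqZeroExt.fstHom k (DualNumber k) (DualNumber k))

theorem res2_apply (x : E2 k) : res2 k x = x.fst.fst := rfl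

/-- `A' = k[ε][δ]` as an object -/
noncomputable abbrev A2 : Art k k :=
  { carrier := E2 k
    isLocalRing := isLocalRing_E2 k
    isArtinianRing := isArtinianRing_E2 k
    res := res2 k
    res_surjective := fun c => ⟨TrivSqZeroExt.inl (TrivSqZeroExt.inl c), rfl⟩ }

/-- `ε` -/
noncomputable def eA : (A2 k).carrier := (TrivSqZeroExt.inl DualNumber.eps : E2 k)

/-- `1 + δ` -/
noncomputable def uA : (A2 k).carrier := ((1 : E2 k) + TrivSqZeroExt.inr 1 : E2 k)

/-- `1 - δ` -/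
noncomputable def vA : (A2 k).carrier := ((1 : E2 k) - TrivSqZeroExt.inr 1 : E2 k)

theorem uA_mul_vA : uA k * vA k = 1 := by
  change ((1 : E2 k) + TrivSqZeroExt.inr 1) * ((1 : E2 k) - TrivSqZeroExt.inr 1) = 1
  apply TrivSqZeroExt.ext
  · simp [TrivSqZeroExt.fst_mul]
  · simp [TrivSqZeroExt.snd_mul]

theorem res_eA : (A2 k).res (eA k) = 0 := by
  change (TrivSqZeroExt.inl DualNumber.eps : E2 k).fst.fst = 0
  simp

theorem res_uA : (A2 k).res (uA k) = 1 := by
  change ((1 : E2 k) + TrivSqZeroExt.inr 1 : E2 k).fst.fst = 1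
  simp

/-- the socle ideal `(εδ)` -/
noncomputable def K2E : Ideal (E2 k) where
  carrier := {n : E2 k | n.fst = 0 ∧ n.snd.fst = 0}
  add_mem' := by
    rintro a b ⟨ha1, ha2⟩ ⟨hb1, hb2⟩
    refine ⟨?_, ?_⟩
    · rw [TrivSqZeroExt.fst_add, ha1, hb1, add_zero]
    · rw [TrivSqZeroExt.snd_add, TrivSqZeroExt.fst_add, ha2, hb2, add_zero]
  zero_mem' := ⟨rfl, rfl⟩
  smul_mem' := by
    rintro r n ⟨hn1, hn2⟩
    refine ⟨?_, ?_⟩
    · change (r * n : E2 k).fst = 0
      rw [TrivSqZeroExt.fst_mul, hn1, mul_zero]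
    · change (r * n : E2 k).snd.fst = 0
      rw [TrivSqZeroExt.snd_mul, hn1]
      simp [hn2]

/-- the socle ideal as an ideal of the object -/
noncomputable abbrev K2 : Ideal (A2 k).carrier := K2E k

instance : (K2 k).IsTwoSided :=
  ⟨fun {a} b ha => by
    have h : a * b = b * a := mul_comm a b
    rw [h]
    exact (K2 k).mul_mem_left b ha⟩

theorem mem_K2_iff (n : E2 k) :
    n ∈ K2 k ↔ n.fst = 0 ∧ n.snd.fst = 0 := Iff.rfl

theorem K2_le : K2 k ≤ IsLocalRing.maximalIdeal (A2 k).carrier := by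
  intro n hn
  rw [Art.mem_maximalIdeal_iff]
  change (n : E2 k).fst.fst = 0
  have h1 : (n : E2 k).fst = 0 := ((mem_K2_iff k n).mp hn).1
  rw [h1]
  rfl

/-- `A = A'/(εδ)` -/
noncomputable def A1 : Art k k := Art.quot (A2 k) (K2 k) (K2_le k)

/-- the small extension `A' → A` -/
noncomputable def f21 : A2 k ⟶ A1 k := Art.quotMk (A2 k) (K2 k) (K2_le k)

theorem f21_surjective : Function.Surjective (f21 k) := Art.quotMk_surjective _ _ _

theorem f21_eq_iff (x y : (A2 k).carrier) : f21 k x = f21 k y ↔ x - y ∈ K2 k := by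
  constructor
  · intro h
    exact Ideal.Quotient.eq.mp h
  · intro h
    exact Ideal.Quotient.eq.mpr h

/-- `B = A' ×_A A'` -/
noncomputable def B2 : Art k k :=
  Groth.Agent.Lib.Helper76.fibreProd (f21 k) (f21 k) (f21_surjective k)

noncomputable def p1 : B2 k ⟶ A2 k :=
  Groth.Agent.Lib.Helper76.fibreProdFst (f21 k) (f21 k) (f21_surjective k)

noncomputable def p2 : B2 k ⟶ A2 k :=
  Groth.Agent.Lib.Helper76.fibreProdSnd (f21 k) (f21 k) (f21_surjective k)

theorem isFibreProd_B2 : IsFibreProd (p1 k) (p2 k) (f21 k) (f21 k) :=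
  Groth.Agent.Lib.Helper76.isFibreProd_fibreProd (f21 k) (f21 k) (f21_surjective k)

theorem p1_surjective : Function.Surjective (p1 k) := by
  intro x
  obtain ⟨b, hb, -⟩ := (isFibreProd_B2 k).surj x x rfl
  exact ⟨b, hb⟩

theorem p2_surjective : Function.Surjective (p2 k) := by
  intro x
  obtain ⟨b, -, hb⟩ := (isFibreProd_B2 k).surj x x rfl
  exact ⟨b, hb⟩

theorem uA_mul_eA_sub : uA k * eA k - eA k ∈ K2 k := by
  rw [mem_K2_iff]
  change (((1 : E2 k) + TrivSqZeroExt.inr 1) * TrivSqZeroExt.inl DualNumber.eps -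
    TrivSqZeroExt.inl DualNumber.eps : E2 k).fst = 0 ∧
    (((1 : E2 k) + TrivSqZeroExt.inr 1) * TrivSqZeroExt.inl DualNumber.eps -
    TrivSqZeroExt.inl DualNumber.eps : E2 k).snd.fst = 0
  constructor <;> simp

/-- `b₁ = (ε, ε)` -/
noncomputable def b1 : (B2 k).carrier := ⟨(eA k, eA k), rfl⟩

/-- `b₂ = (ε, (1+δ)ε)` -/
noncomputable def b2 : (B2 k).carrier :=
  ⟨(eA k, uA k * eA k), ((f21_eq_iff k _ _).mpr (by
    have := uA_mul_eA_sub k
    rw [← neg_sub] 
    exact (K2 k).neg_mem this))⟩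

theorem p1_b1 : p1 k (b1 k) = eA k := rfl
theorem p2_b1 : p2 k (b1 k) = eA k := rfl
theorem p1_b2 : p1 k (b2 k) = eA k := rfl
theorem p2_b2 : p2 k (b2 k) = uA k * eA k := rfl

theorem res_b1 : (B2 k).res (b1 k) = 0 := by
  rw [← Art.res_app (p1 k), p1_b1, res_eA]

theorem res_b2 : (B2 k).res (b2 k) = 0 := by
  rw [← Art.res_app (p1 k), p1_b2, res_eA]

end Groth.Agent.Lib.Helper75.NodeDef
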