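import Groth.Agent.Lib.Helper75.NodeDef4

/- helper75: the morphism `B = A' ×_A A' → k[ε]`, `(x, y) ↦ res x + ε·coeff_{εδ}(y - x)` (S12256). -/

set_option autoImplicit false
universe u

namespace Groth.Agent.Lib.Helper75.NodeDef

open ArtFun ArtFun.Art

variable (k : Type u) [Field k]

/-- underlying function of `ρ` on pairs -/
noncomputable def rhoFun (x y : E2 k) : DualNumber k :=
  TrivSqZeroExt.inl x.fst.fst + TrivSqZeroExt.inr (y.snd.snd - x.snd.snd)

theorem fst_rhoFun (x y : E2 k) : (rhoFun k x y).fst = x.fst.fst := by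
  simp [rhoFun]

theorem snd_rhoFun (x y : E2 k) : (rhoFun k x y).snd = y.snd.snd - x.snd.snd := by
  simp [rhoFun]

theorem rhoFun_mul (x y x' y' : E2 k) (h : x - y ∈ K2E k) (h' : x' - y' ∈ K2E k) :
    rhoFun k (x * x') (y * y') = rhoFun k x y * rhoFun k x' y' := by
  obtain ⟨h1, h2⟩ := h
  obtain ⟨h1', h2'⟩ := h'
  rw [TrivSqZeroExt.fst_sub, sub_eq_zero] at h1 h1'
  rw [TrivSqZeroExt.snd_sub, TrivSqZeroExt.fst_sub, sub_eq_zero] at h2 h2'
  apply TrivSqZeroExt.ext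
  · rw [TrivSqZeroExt.fst_mul, fst_rhoFun, fst_rhoFun, fst_rhoFun, TrivSqZeroExt.fst_mul,
      TrivSqZeroExt.fst_mul]
  · rw [TrivSqZeroExt.snd_mul, fst_rhoFun, fst_rhoFun, snd_rhoFun, snd_rhoFun, snd_rhoFun]
    simp only [TrivSqZeroExt.snd_mul, TrivSqZeroExt.snd_add, smul_eq_mul,
      MulOpposite.smul_eq_mul_unop, MulOpposite.unop_op, ← h1, ← h1', ← h2, ← h2']
    ring

theorem rhoFun_add (x y x' y' : E2 k) :
    rhoFun k (x + x') (y + y') = rhoFun k x y + rhoFun k x' y' := by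
  apply TrivSqZeroExt.ext
  · rw [TrivSqZeroExt.fst_add, fst_rhoFun, fst_rhoFun, fst_rhoFun, TrivSqZeroExt.fst_add,
      TrivSqZeroExt.fst_add]
  · rw [TrivSqZeroExt.snd_add, snd_rhoFun, snd_rhoFun, snd_rhoFun]
    simp only [TrivSqZeroExt.snd_add]
    ring

theorem rhoFun_algebraMap (c : k) :
    rhoFun k (algebraMap k (E2 k) c) (algebraMap k (E2 k) c) = algebraMap k (DualNumber k) c := by
  apply TrivSqZeroExt.ext
  · rw [fst_rhoFun]
    rfl
  · rw [snd_rhoFun, sub_self]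
    rfl

/-- the algebra map underlying `ρ` -/
noncomputable def rhoAlg : (B2 k).carrier →ₐ[k] DualNumber k where
  toFun z := rhoFun k z.1.1 z.1.2
  map_one' := by
    have h := rhoFun_algebraMap k 1
    rw [map_one, map_one] at h
    exact h
  map_mul' z w :=
    rhoFun_mul k z.1.1 z.1.2 w.1.1 w.1.2 ((f21_eq_iff k _ _).mp z.2) ((f21_eq_iff k _ _).mp w.2)
  map_zero' := by
    have h := rhoFun_algebraMap k 0
    rw [map_zero, map_zero] at h
    exact h
  map_add' z w := rhoFun_add k z.1.1 z.1.2 w.1.1 w.1.2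
  commutes' c := rhoFun_algebraMap k c

theorem rhoAlg_apply (z : (B2 k).carrier) : rhoAlg k z = rhoFun k z.1.1 z.1.2 := rfl

/-- the morphism `ρ : B → k[ε]` -/
noncomputable def rho : B2 k ⟶ dual k k :=
  ⟨rhoAlg k, by
    apply AlgHom.ext
    intro z
    exact fst_rhoFun k z.1.1 z.1.2⟩

theorem rho_apply (z : (B2 k).carrier) : rho k z = rhoFun k z.1.1 z.1.2 := rfl

theorem rho_b1 : rho k (b1 k) = 0 := by
  rw [rho_apply]
  change rhoFun k (TrivSqZeroExt.inl DualNumber.eps) (TrivSqZeroExt.inl DualNumber.eps) = 0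
  apply TrivSqZeroExt.ext
  · rw [fst_rhoFun]
    simp
  · rw [snd_rhoFun, sub_self]
    rfl

theorem rho_b2 : rho k (b2 k) = DualNumber.eps := by
  rw [rho_apply]
  change rhoFun k (TrivSqZeroExt.inl DualNumber.eps)
    (((1 : E2 k) + TrivSqZeroExt.inr 1) * TrivSqZeroExt.inl DualNumber.eps) = DualNumber.eps
  apply TrivSqZeroExt.ext
  · rw [fst_rhoFun]
    simp
  · rw [snd_rhoFun]
    simp [TrivSqZeroExt.snd_mul]

theorem rho_surjective : Function.Surjective (rho k) := by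
  intro t
  have hmem : (TrivSqZeroExt.inl (TrivSqZeroExt.inl t.fst) : E2 k) -
      ((TrivSqZeroExt.inl (TrivSqZeroExt.inl t.fst) : E2 k) +
        TrivSqZeroExt.inr (TrivSqZeroExt.inr t.snd)) ∈ K2 k := by
    rw [mem_K2_iff]
    constructor <;> simp
  refine ⟨⟨((TrivSqZeroExt.inl (TrivSqZeroExt.inl t.fst) : E2 k),
    ((TrivSqZeroExt.inl (TrivSqZeroExt.inl t.fst) : E2 k) +
      TrivSqZeroExt.inr (TrivSqZeroExt.inr t.snd))),
    (f21_eq_iff k (TrivSqZeroExt.inl (TrivSqZeroExt.inl t.fst) : E2 k)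
      ((TrivSqZeroExt.inl (TrivSqZeroExt.inl t.fst) : E2 k) +
        TrivSqZeroExt.inr (TrivSqZeroExt.inr t.snd))).mpr hmem⟩, ?_⟩
  rw [rho_apply]
  apply TrivSqZeroExt.ext
  · rw [fst_rhoFun]
    simp
  · rw [snd_rhoFun]
    simp

end Groth.Agent.Lib.Helper75.NodeDef
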