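import Groth.Agent.Lib.Helper75.NodeDef3
import Groth.Agent.Lib.Helper75.NodeDef5
import Groth.Agent.Lib.Helper97.DefLift.OfAlg

/- helper75: the deformations `xy = c` of the node as `DefSch` data; base change, rescaling and
the non-triviality of `xy = ε` at the level of deformations (S12256). -/

set_option autoImplicit false
universe u

namespace Groth.Agent.Lib.Helper75.NodeDef

open ArtFun ArtFun.Art CategoryTheory AlgebraicGeometry
open Groth.Agent.Lib.Helper97.DefLift

variable {k : Type u} [Field k]

theorem pi_congr {C : Type u} [CommRing C] (e e' : C →+* k) (h : e = e') (c : C) (hc : e c = 0)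
    (z : D C c) : pi e c hc z = pi e' c (by rw [← h]; exact hc) z := by
  subst h
  rfl

/-- ring data of the deformation `xy = c` over `C` -/
noncomputable def dataD (C : Art k k) (c : C.carrier) (hc : C.res c = 0) : AlgData C (Node k) where
  R := D C.carrier c
  a := algebraMap C.carrier (D C.carrier c)
  π := pi C.res.toRingHom c hc
  flat := RingHom.flat_algebraMap_iff.mpr (flat c ((Art.mem_maximalIdeal_iff C c).mpr hc))
  π_surj := pi_surjective C.res.toRingHom C.res_surjective c hc
  ker_π := ker_pi C.res.toRingHom C.res_surjective c hc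
  π_a := pi_algebraMap C.res.toRingHom c hc

/-- base change of `xy = c'` along a surjection `p : C' → C` is `xy = p c'` -/
theorem nonempty_baseChange_dataD {C' C : Art k k} (p : C' ⟶ C) (hp : Function.Surjective p)
    (c' : C'.carrier) (c : C.carrier) (hpc : p c' = c) (hc' : C'.res c' = 0) (hc : C.res c = 0) :
    Nonempty (((ofAlg (dataD C' c' hc')).baseChange p).Iso (ofAlg (dataD C c hc))) := by
  refine nonempty_baseChange_iso p (dataD C' c' hc') (dataD C c hc)
    (bc p.toAlgHom.toRingHom c' c hpc) (bc_surjective _ hp c' c hpc) hp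
    (ker_bc _ hp c' c hpc) (bc_algebraMap _ c' c hpc) ?_
  intro z
  change pi C.res.toRingHom c hc (bc p.toAlgHom.toRingHom c' c hpc z) = pi C'.res.toRingHom c' hc' z
  rw [pi_bc]
  apply pi_congr
  ext x
  exact Art.res_app p x

/-- rescaling by a unit congruent to `1` -/
noncomputable def isoScale (C : Art k k) (u v c : C.carrier) (huv : u * v = 1) (hu : C.res u = 1)
    (hc : C.res c = 0) (huc : C.res (u * c) = 0) :
    (ofAlg (dataD C (u * c) huc)).Iso (ofAlg (dataD C c hc)) :=
  isoOfRingEquiv (dataD C (u * c) huc) (dataD C c hc) (scaleEquiv u v c huv)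
    (fun a => scale_algebraMap u c a)
    (fun z => pi_scale C.res.toRingHom u c hu hc z)

/-- the deformation `xy = ε` over `k[ε]` is not isomorphic to the trivial one -/
theorem not_iso_dual
    (e : (ofAlg (dataD (dual k k) (0 : DualNumber k) (map_zero _))).Iso
      (ofAlg (dataD (dual k k) (DualNumber.eps : DualNumber k)
        (by change TrivSqZeroExt.fst (DualNumber.eps : DualNumber k) = 0; exact DualNumber.fst_eps)))) :
    False := by
  let φ' := Spec.preimage e.iso.hom
  have h1 : Spec.map φ' = e.iso.hom := Spec.map_preimage _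
  have hf := e.hom_f
  have hi := e.i_hom
  rw [← h1] at hf hi
  change Spec.map φ' ≫ Spec.map _ = Spec.map _ at hf
  change Spec.map _ ≫ Spec.map φ' = Spec.map _ at hi
  rw [← Spec.map_comp, Spec.map_inj] at hf hi
  refine no_hom (dual k k).res.toRingHom (fun a => rfl) φ'.hom ?_ ?_
  · intro a
    exact congrArg (fun g => g.hom a) hf
  · intro z
    exact congrArg (fun g => g.hom z) hi

end Groth.Agent.Lib.Helper75.NodeDef
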