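import Mathlib
import Groth.Prelude.Def_W4bk4grossh111Obs

/-!
# T8 for helper85's S11188: a finite set of functions is the stabiliser datum of one vector
-/

set_option autoImplicit false
universe u
open CategoryTheory CategoryTheory.Limits MonoidalCategory CartesianMonoidalCategory MonObj AlgebraicGeometry Opposite TopologicalSpace
open scoped TensorProduct

namespace Groth.Agent.Lib.Helper75.ObsTfaeT8

variable {k : Type u} [Field k]

theorem isRTransInv_zero {S : Scheme.{u}} {G T : Over S} [GrpObj G] (g : T ⟶ G) :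
    AGF.IsRTransInv g (0 : Γ(G.left, ⊤)) := by
  unfold AGF.IsRTransInv
  rw [map_zero, map_zero]

open Classical in
/-- T8 : finset induction: a finite set of functions is the stabiliser datum of one vector -/
theorem exists_gmod_stab_finset (G : Over (Spec (CommRingCat.of k))) [GrpObj G]
    (hT4 : ∀ {M₁ M₂ : Type u} [AddCommGroup M₁] [Module k M₁] [AddCommGroup M₂] [Module k M₂]
      (ρ₁ : VecGrp.GMod G M₁) (ρ₂ : VecGrp.GMod G M₂),
      ∃ ρ : VecGrp.GMod G (M₁ × M₂), ∀ (g : VecGrp.pt k k ⟶ G) (m₁ : M₁) (m₂ : M₂),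
        ρ.ρ k g ((1 : k) ⊗ₜ[k] (m₁, m₂)) = (1 : k) ⊗ₜ[k] (m₁, m₂) ↔
          (ρ₁.ρ k g ((1 : k) ⊗ₜ[k] m₁) = (1 : k) ⊗ₜ[k] m₁ ∧
           ρ₂.ρ k g ((1 : k) ⊗ₜ[k] m₂) = (1 : k) ⊗ₜ[k] m₂))
    (hT5 : ∀ f : Γ(G.left, ⊤), ∃ (J : Type u) (_ : Fintype J) (ρ : VecGrp.GMod G (J → k))
      (v : J → k), ∀ g : VecGrp.pt k k ⟶ G,
        ρ.ρ k g ((1 : k) ⊗ₜ[k] v) = (1 : k) ⊗ₜ[k] v ↔ AGF.IsRTransInv g f)
    (s : Finset Γ(G.left, ⊤)) :
    ∃ (V : Type u) (_ : AddCommGroup V) (_ : Module k V) (_ : Module.Finite k V)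
      (ρ : VecGrp.GMod G V) (v : V), ∀ g : VecGrp.pt k k ⟶ G,
        ρ.ρ k g ((1 : k) ⊗ₜ[k] v) = (1 : k) ⊗ₜ[k] v ↔ ∀ f ∈ s, AGF.IsRTransInv g f := by
  induction s using Finset.induction_on with
  | empty =>
    obtain ⟨J, hJ, ρ, v, h⟩ := hT5 0
    refine ⟨J → k, inferInstance, inferInstance, inferInstance, ρ, v, fun g => ?_⟩
    rw [h g]
    simp [isRTransInv_zero]
  | insert a s ha ih =>
    obtain ⟨V, i1, i2, i3, ρs, vs, hs⟩ := ih
    obtain ⟨J, hJ, ρa, va, hva⟩ := hT5 a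
    obtain ⟨ρ, hρ⟩ := hT4 ρs ρa
    refine ⟨V × (J → k), inferInstance, inferInstance, inferInstance, ρ, (vs, va), fun g => ?_⟩
    rw [hρ g vs va, hs g, hva g, Finset.forall_mem_insert]
    exact and_comm

end Groth.Agent.Lib.Helper75.ObsTfaeT8
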