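import Mathlib
import Groth.Prelude
import Groth.Agent.Lib.Helper22.SmoothSepPts
import Groth.Agent.Lib.Helper19.Act.SectionRigid

/- helper75: the canonical derivation `d : O_X → Ω_{X/k}` kills global functions of a smooth proper
`k`-scheme.  Route: a global function `s` is integral over `k` (universally closed), `Γ(X, O_X)` is
reduced (smooth over a field), the minimal polynomial `P` of `s` is separable (helper22: separable
closed points are dense in smooth `k`-schemes), and `0 = d(P(s)) = P'(s) • d s` with `P'(s)` a unit. -/

set_option autoImplicit false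
universe u v w
namespace Groth.Agent.Lib.Helper75.OmegaProper

open Polynomial

/-- Separability of the minimal polynomial of an element of a reduced algebra over a field, given
enough algebra maps to separable field extensions. -/
theorem separable_minpoly_of {k : Type u} {A : Type v} [Field k] [CommRing A] [Algebra k A]
    [IsReduced A] (s : A) (hs : IsIntegral k s)
    (H : ∀ q : k[X], aeval s q ≠ 0 → ∃ (K : Type v) (_ : Field K) (_ : Algebra k K)
      (ev : A →ₐ[k] K), Algebra.IsSeparable k K ∧ ev (aeval s q) ≠ 0) :
    (minpoly k s).Separable := by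
  classical
  have hP0 : minpoly k s ≠ 0 := minpoly.ne_zero hs
  rw [Polynomial.separable_def]
  refine EuclideanDomain.isCoprime_of_dvd (fun h => hP0 h.1) ?_
  intro z hz hz0 hzP hzP'
  obtain ⟨m, hm, hmz⟩ := WfDvdMonoid.exists_irreducible_factor hz hz0
  have hmP : m ∣ minpoly k s := hmz.trans hzP
  have hmP' : m ∣ (minpoly k s).derivative := hmz.trans hzP'
  obtain ⟨q, hq⟩ := hmP
  have hq0 : q ≠ 0 := by
    rintro rfl
    exact hP0 (by rw [hq, mul_zero])
  have hqs : aeval s q ≠ 0 := by
    intro h
    have h1 := minpoly.dvd k s h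
    have h2 : m * q ∣ 1 * q := by rw [one_mul, ← hq]; exact h1
    exact hm.not_isUnit (isUnit_of_dvd_one ((mul_dvd_mul_iff_right hq0).mp h2))
  by_cases hmq : m ∣ q
  · obtain ⟨r, hr⟩ := hmq
    have hnil : (aeval s (m * r)) ^ 2 = 0 := by
      have h3 : (m * r) ^ 2 = minpoly k s * r := by rw [hq, hr]; ring
      rw [← map_pow, h3, map_mul, minpoly.aeval, zero_mul]
    have h0 : aeval s (m * r) = 0 := IsReduced.eq_zero _ ⟨2, hnil⟩
    exact hqs (by rw [hr]; exact h0)
  · have hd : (minpoly k s).derivative = m.derivative * q + m * q.derivative := by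
      conv_lhs => rw [hq, derivative_mul]
    have h1 : m ∣ m.derivative * q := by
      rw [hd] at hmP'
      exact (dvd_add_left (dvd_mul_right m _)).mp hmP'
    have h2 : m ∣ m.derivative := (hm.prime.dvd_or_dvd h1).resolve_right hmq
    obtain ⟨K, _, _, ev, hsep, hev⟩ := H q hqs
    have hα : aeval (ev s) q ≠ 0 := by rwa [Polynomial.aeval_algHom_apply]
    have hmα : aeval (ev s) m = 0 := by
      have h4 : aeval (ev s) (minpoly k s) = 0 := by
        rw [Polynomial.aeval_algHom_apply, minpoly.aeval, map_zero]
      rw [hq, map_mul] at h4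
      exact (mul_eq_zero.mp h4).resolve_right hα
    have hαsep : (minpoly k (ev s)).Separable := Algebra.IsSeparable.isSeparable k (ev s)
    obtain ⟨c, hc⟩ := minpoly.dvd k (ev s) hmα
    have hcu : IsUnit c := (hm.isUnit_or_isUnit hc).resolve_left (minpoly.not_isUnit k (ev s))
    have hm_dvd : m ∣ minpoly k (ev s) := by
      obtain ⟨c', rfl⟩ := hcu
      exact ⟨↑c'⁻¹, by rw [hc, mul_assoc, Units.mul_inv, mul_one]⟩
    have hmsep : m.Separable := hαsep.of_dvd hm_dvd
    exact hm.not_isUnit (IsCoprime.isUnit_of_dvd' hmsep dvd_rfl h2)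

/-- A derivation killing `k` kills every root of a separable polynomial. -/
theorem eq_zero_of_separable {k : Type u} {A : Type v} {M : Type w} [Field k] [CommRing A]
    [Algebra k A] [AddCommGroup M] [Module A M]
    (D : A →+ M) (hmul : ∀ a b, D (a * b) = a • D b + b • D a)
    (hk : ∀ c : k, D (algebraMap k A c) = 0)
    (s : A) (P : k[X]) (hP : aeval s P = 0) (hsep : P.Separable) : D s = 0 := by
  let _ : Module k M := Module.compHom M (algebraMap k A)
  have : IsScalarTower k A M := ⟨fun c a m => by
    change (c • a) • m = (algebraMap k A c) • (a • m)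
    rw [Algebra.smul_def, mul_smul]⟩
  let D' : Derivation k A M :=
    { toFun := D
      map_add' := D.map_add
      map_smul' := fun c a => by
        simp only [RingHom.id_apply]
        rw [Algebra.smul_def, hmul, hk, smul_zero, add_zero]
        rfl
      map_one_eq_zero' := by
        have h := hmul 1 1
        simp only [mul_one, one_smul] at h
        change D 1 = 0
        exact left_eq_add.mp h
      leibniz' := fun a b => hmul a b }
  have h1 : D' (aeval s P) = aeval s (derivative P) • D' s := D'.map_aeval P s
  rw [hP, map_zero] at h1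
  obtain ⟨a, b, hab⟩ := hsep
  have h2 := congrArg (aeval s) hab
  simp only [map_add, map_mul, hP, mul_zero, zero_add, map_one] at h2
  calc D s = (1 : A) • D s := (one_smul _ _).symm
    _ = (aeval s b * aeval s (derivative P)) • D s := by rw [h2]
    _ = aeval s b • (aeval s (derivative P) • D' s) := mul_smul _ _ _
    _ = 0 := by rw [← h1, smul_zero]

open CategoryTheory AlgebraicGeometry

theorem main (k : Type u) [Field k] (X : Scheme.{u})
    (f : X ⟶ Spec (CommRingCat.of k)) [IsProper f] [Smooth f] (s : Γ(X, ⊤)) :
    (OmegaSh.dOmega f).app ⊤ s = 0 := by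
  let _ : X.Over (Spec (CommRingCat.of k)) := ⟨f⟩
  have hsm : Smooth (X ↘ Spec (CommRingCat.of k)) := ‹Smooth f›
  have hred : IsReduced X := Groth.Agent.Lib.Helper19.Act.isReduced_of_smooth f
  let _ : Algebra k Γ(X, ⊤) := (Coh.toGlobal f).toAlgebra
  have hint : IsIntegral k s := by
    have h1 : ((Scheme.ΓSpecIso (CommRingCat.of k)).inv ≫ f.appTop).hom.IsIntegral := by
      apply RingHom.isIntegral_respectsIso.2
        (e := (Scheme.ΓSpecIso (CommRingCat.of k)).symm.commRingCatIsoToRingEquiv)
      exact isIntegral_appTop_of_universallyClosed f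
    exact h1 s
  have hsep : (minpoly k s).Separable := by
    refine separable_minpoly_of s hint ?_
    intro q hq
    have hne : ((X.basicOpen (aeval s q) : X.Opens) : Set X).Nonempty := by
      rw [Set.nonempty_iff_ne_empty]
      intro h
      apply hq
      rw [← AlgebraicGeometry.basicOpen_eq_bot_iff]
      ext1
      exact h
    obtain ⟨x, hxO, -, -, hsepx⟩ :=
      Groth.Agent.Lib.Helper22.SmoothSepPts.exists_closed_separable k X _
        (X.basicOpen (aeval s q)).isOpen hne
    let _ := Curv2.resAlgebra k X x
    let ev : Γ(X, ⊤) →ₐ[k] X.residueField x :=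
      { toRingHom := (X.residue x).hom.comp (X.presheaf.germ ⊤ x trivial).hom
        commutes' := fun c => rfl }
    refine ⟨X.residueField x, inferInstance, inferInstance, ev, hsepx, ?_⟩
    intro h0
    have h1 : (X.evaluation ⊤ x trivial) (aeval s q) = 0 := h0
    rw [Scheme.evaluation_eq_zero_iff_notMem_basicOpen] at h1
    exact h1 hxO
  refine eq_zero_of_separable (k := k) ((OmegaSh.dOmega f).app ⊤)
    (fun a b => (OmegaSh.dOmega f).d_mul a b) (fun c => ?_) s (minpoly k s) (minpoly.aeval k s) hsep
  exact (OmegaSh.dOmega f).d_app (X := Opposite.op ⊤) ((Scheme.ΓSpecIso (CommRingCat.of k)).inv.hom c)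

end Groth.Agent.Lib.Helper75.OmegaProper
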