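import Mathlib

/-!
# Splitting off a non-degenerate family from a quadratic module (helper75, for helper83)
-/

set_option autoImplicit false

namespace Groth.Agent.Lib.Helper75.OrthSplit

open QuadraticMap Matrix

noncomputable section

variable {R : Type*} [CommRing R] {N : Type*} [AddCommGroup N] [Module R N]
  (q : QuadraticForm R N) {k : ℕ} (e : Fin k → N)

/-- (1) the orthogonal complement of the family `e` -/
def perp : Submodule R N := ⨅ j, LinearMap.ker (QuadraticMap.polarBilin q (e j))

/-- (2) -/
theorem mem_perp_iff (x : N) : x ∈ perp q e ↔ ∀ j, QuadraticMap.polar q x (e j) = 0 := by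
  unfold perp
  simp only [Submodule.mem_iInf, LinearMap.mem_ker, QuadraticMap.polarBilin_apply_apply]
  exact forall_congr' fun j => by rw [QuadraticMap.polar_comm]

/-- the Gram matrix -/
def gram : Matrix (Fin k) (Fin k) R := Matrix.of fun i j => QuadraticMap.polar q (e i) (e j)

/-- linear combinations of the family -/
def S : (Fin k → R) →ₗ[R] N := Fintype.linearCombination R e

theorem S_apply (a : Fin k → R) : S e a = ∑ i, a i • e i := Fintype.linearCombination_apply R e a

/-- pairing with the family -/
def pair : N →ₗ[R] (Fin k → R) := LinearMap.pi fun j => (QuadraticMap.polarBilin q).flip (e j)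

theorem pair_apply (v : N) (j : Fin k) : pair q e v j = QuadraticMap.polar q v (e j) := rfl

theorem polar_S (a : Fin k → R) (x : N) :
    QuadraticMap.polar q (S e a) x = ∑ i, a i * QuadraticMap.polar q (e i) x := by
  have h : QuadraticMap.polarBilin q (S e a) x =
      ∑ i, a i * QuadraticMap.polarBilin q (e i) x := by
    rw [S_apply, map_sum, LinearMap.sum_apply]
    refine Finset.sum_congr rfl fun i _ => ?_
    rw [map_smul, LinearMap.smul_apply, smul_eq_mul]
  simpa only [QuadraticMap.polarBilin_apply_apply] using h

theorem pair_S (a : Fin k → R) : pair q e (S e a) = gram q e *ᵥ a := by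
  funext j
  rw [pair_apply, polar_S]
  change _ = ∑ i, gram q e j i * a i
  refine Finset.sum_congr rfl fun i _ => ?_
  rw [gram, Matrix.of_apply, QuadraticMap.polar_comm, mul_comm]

/-- coefficients of the `e`-part -/
def coef : N →ₗ[R] (Fin k → R) := (Matrix.mulVecLin (gram q e)⁻¹).comp (pair q e)

theorem coef_apply (v : N) : coef q e v = (gram q e)⁻¹ *ᵥ pair q e v := rfl

section unit

variable (hG : IsUnit (Matrix.det (Matrix.of fun i j : Fin k => QuadraticMap.polar q (e i) (e j))))

include hG

theorem coef_S (a : Fin k → R) : coef q e (S e a) = a := by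
  have hG' : IsUnit (gram q e).det := hG
  rw [coef_apply, pair_S, Matrix.mulVec_mulVec, Matrix.nonsing_inv_mul _ hG', Matrix.one_mulVec]

theorem gram_mulVec_coef (v : N) : gram q e *ᵥ coef q e v = pair q e v := by
  have hG' : IsUnit (gram q e).det := hG
  rw [coef_apply, Matrix.mulVec_mulVec, Matrix.mul_nonsing_inv _ hG', Matrix.one_mulVec]

omit hG in
theorem coef_of_mem_perp {y : N} (hy : y ∈ perp q e) : coef q e y = 0 := by
  have h0 : pair q e y = 0 := funext fun j => (mem_perp_iff q e y).mp hy j
  rw [coef_apply, h0, Matrix.mulVec_zero]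

omit hG in
/-- the projection onto the complement -/
def proj : N →ₗ[R] N := LinearMap.id - (S e).comp (coef q e)

omit hG in
theorem proj_apply (v : N) : proj q e v = v - S e (coef q e v) := rfl

theorem proj_mem (v : N) : proj q e v ∈ perp q e := by
  rw [mem_perp_iff]
  intro j
  rw [proj_apply, QuadraticMap.polar_sub_left, ← pair_apply q e (S e (coef q e v)) j, pair_S,
    gram_mulVec_coef q e hG, pair_apply, sub_self]

omit hG in
theorem proj_of_mem_perp {y : N} (hy : y ∈ perp q e) : proj q e y = y := by
  rw [proj_apply, coef_of_mem_perp q e hy, map_zero, sub_zero]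

/-- (3) -/
theorem exists_decomp (v : N) :
    ∃ (a : Fin k → R) (y : N), y ∈ perp q e ∧ v = ∑ i, a i • e i + y := by
  refine ⟨coef q e v, proj q e v, proj_mem q e hG v, ?_⟩
  rw [← S_apply, proj_apply]
  abel

/-- the projection as a map to the complement -/
def projP : N →ₗ[R] ↥(perp q e) := (proj q e).codRestrict (perp q e) (proj_mem q e hG)

theorem projP_coe (v : N) : ((projP q e hG v : ↥(perp q e)) : N) = proj q e v := rfl

theorem projP_of_mem (y : ↥(perp q e)) : projP q e hG y = y :=
  Subtype.ext (proj_of_mem_perp q e y.2)

/-- the splitting `N ≃ Rᵏ × perp` -/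
def splitEquiv : N ≃ₗ[R] (Fin k → R) × ↥(perp q e) :=
  LinearEquiv.ofLinearMap ((coef q e).prod (projP q e hG)) ((S e).coprod (perp q e).subtype)
    (by
      apply LinearMap.ext
      rintro ⟨a, y⟩
      apply Prod.ext
      · change coef q e (S e a + (y : N)) = a
        rw [map_add, coef_S q e hG, coef_of_mem_perp q e y.2, add_zero]
      · apply Subtype.ext
        change proj q e (S e a + (y : N)) = y
        rw [proj_apply, map_add, coef_S q e hG, coef_of_mem_perp q e y.2, add_zero]
        abel)
    (by
      apply LinearMap.ext
      intro v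
      change S e (coef q e v) + proj q e v = v
      rw [proj_apply]
      abel)

theorem splitEquiv_snd (v : N) : (splitEquiv q e hG v).2 = projP q e hG v := rfl

/-- (4) -/
theorem free_finite_perp [IsLocalRing R] [Module.Free R N] [Module.Finite R N] :
    Module.Free R ↥(perp q e) ∧ Module.Finite R ↥(perp q e) ∧
      Module.finrank R ↥(perp q e) + k = Module.finrank R N := by
  have hsurj : Function.Surjective (projP q e hG) := fun y => ⟨y, projP_of_mem q e hG y⟩
  have hfin : Module.Finite R ↥(perp q e) := Module.Finite.of_surjective (projP q e hG) hsurj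
  have hproj : Module.Projective R ↥(perp q e) :=
    Module.Projective.of_split (perp q e).subtype (projP q e hG) (by
      apply LinearMap.ext
      intro y
      exact projP_of_mem q e hG y)
  have hfree : Module.Free R ↥(perp q e) := Module.free_of_flat_of_isLocalRing
  refine ⟨hfree, hfin, ?_⟩
  rw [(splitEquiv q e hG).finrank_eq, Module.finrank_prod, Module.finrank_fin_fun, add_comm]

/-- (5) -/
theorem polarBilin_perp_bijective (hq : Function.Bijective (QuadraticMap.polarBilin q)) :
    Function.Bijective (QuadraticMap.polarBilin (q.comp (perp q e).subtype)) := by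
  have hap : ∀ y y' : ↥(perp q e), QuadraticMap.polarBilin (q.comp (perp q e).subtype) y y' =
      QuadraticMap.polar q (y : N) (y' : N) := by
    intro y y'
    rw [QuadraticMap.polarBilin_comp]
    rfl
  constructor
  · rw [injective_iff_map_eq_zero]
    intro y hy
    apply Subtype.ext
    apply (injective_iff_map_eq_zero _).mp hq.1
    apply LinearMap.ext
    intro v
    rw [QuadraticMap.polarBilin_apply_apply, LinearMap.zero_apply]
    obtain ⟨a, y', hy', rfl⟩ := exists_decomp q e hG v
    rw [QuadraticMap.polar_add_right, ← S_apply, QuadraticMap.polar_comm, polar_S]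
    have h1 : ∀ i, QuadraticMap.polar q (e i) (y : N) = 0 := fun i => by
      rw [QuadraticMap.polar_comm]; exact (mem_perp_iff q e y).mp y.2 i
    have h2 : QuadraticMap.polar q (y : N) y' = 0 := by
      have := congrArg (fun φ => φ (⟨y', hy'⟩ : ↥(perp q e))) hy
      simpa only [hap, LinearMap.zero_apply] using this
    simp only [h1, mul_zero, Finset.sum_const_zero, h2, add_zero]
  · intro φ
    obtain ⟨v, hv⟩ := hq.2 (φ.comp (projP q e hG))
    refine ⟨projP q e hG v, ?_⟩
    apply LinearMap.ext
    intro y'
    rw [hap, projP_coe, proj_apply, QuadraticMap.polar_sub_left, polar_S]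
    have h1 : ∀ i, QuadraticMap.polar q (e i) (y' : N) = 0 := fun i => by
      rw [QuadraticMap.polar_comm]; exact (mem_perp_iff q e y').mp y'.2 i
    simp only [h1, mul_zero, Finset.sum_const_zero, sub_zero]
    have h3 := congrArg (fun ψ => ψ (y' : N)) hv
    simp only [QuadraticMap.polarBilin_apply_apply, LinearMap.comp_apply] at h3
    rw [h3, projP_of_mem]

end unit

end

end Groth.Agent.Lib.Helper75.OrthSplit
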