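import Mathlib

/-!
# PrimKR: Krull step for `K ⊗[k] V` (helper75, for helper55 S4899 / KV')

`k` a field, `K` a `k`-vector space, `R` a Noetherian local `k`-algebra, `V` a finite `R`-module:
an element of `K ⊗[k] V` dying in every `K ⊗[k] (V / 𝔪ⁿV)` is zero.
-/

set_option autoImplicit false
universe u
open TensorProduct IsLocalRing

namespace Groth.Agent.Lib.Helper75.PrimKR

/-- naturality of the coordinates w.r.t. a basis of the left factor -/
theorem coord_lTensor {k : Type u} [Field k] {K : Type u} [AddCommGroup K] [Module k K]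
    {ι : Type u} [DecidableEq ι] (b : Module.Basis ι k K) {V W : Type u} [AddCommGroup V] [Module k V]
    [AddCommGroup W] [Module k W] (f : V →ₗ[k] W) (w : K ⊗[k] V) (i : ι) :
    TensorProduct.equivFinsuppOfBasisLeft b (LinearMap.lTensor K f w) i =
      f (TensorProduct.equivFinsuppOfBasisLeft b w i) := by
  induction w using TensorProduct.induction_on with
  | zero => simp only [map_zero, Finsupp.zero_apply]
  | tmul x v =>
    rw [LinearMap.lTensor_tmul, TensorProduct.equivFinsuppOfBasisLeft_apply_tmul_apply,
      TensorProduct.equivFinsuppOfBasisLeft_apply_tmul_apply, map_smul]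
  | add x y hx hy =>
    simp only [map_add, Finsupp.add_apply, hx, hy]

/-- **Krull step.** -/
theorem kr {k : Type u} [Field k] {K : Type u} [AddCommGroup K] [Module k K]
    {R : Type u} [CommRing R] [IsLocalRing R] [IsNoetherianRing R] [Algebra k R]
    {V : Type u} [AddCommGroup V] [Module R V] [Module k V] [IsScalarTower k R V]
    [Module.Finite R V] (w : K ⊗[k] V)
    (hw : ∀ n : ℕ, LinearMap.lTensor K
      (((maximalIdeal R ^ n • (⊤ : Submodule R V)).mkQ).restrictScalars k) w = 0) : w = 0 := by
  classical
  let b := Module.Free.chooseBasis k K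
  apply (TensorProduct.equivFinsuppOfBasisLeft b).injective
  rw [map_zero]
  ext i
  rw [Finsupp.zero_apply]
  have hmem : TensorProduct.equivFinsuppOfBasisLeft b w i ∈
      (⨅ n : ℕ, maximalIdeal R ^ n • (⊤ : Submodule R V)) := by
    rw [Submodule.mem_iInf]
    intro n
    have h1 := coord_lTensor b
      (((maximalIdeal R ^ n • (⊤ : Submodule R V)).mkQ).restrictScalars k) w i
    rw [hw n, map_zero, Finsupp.zero_apply] at h1
    have h2 : (maximalIdeal R ^ n • (⊤ : Submodule R V)).mkQ
        (TensorProduct.equivFinsuppOfBasisLeft b w i) = 0 := h1.symm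
    rwa [Submodule.mkQ_apply, Submodule.Quotient.mk_eq_zero] at h2
  rw [Ideal.iInf_pow_smul_eq_bot_of_isLocalRing (maximalIdeal R)
    (Ideal.IsMaximal.ne_top inferInstance)] at hmem
  exact (Submodule.mem_bot R).mp hmem

end Groth.Agent.Lib.Helper75.PrimKR
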