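import Groth.Agent.Lib.Helper40.FPKer
import Groth.Agent.Lib.Helper43.CoherentRing
import Groth.Prelude.Def_CohB1

/-!
# Kernels of epimorphisms of finitely presented modules on locally coherent schemes
(helper75, T1 for helper63's S14736/S14740)
-/

set_option autoImplicit false
universe u
open CategoryTheory CategoryTheory.Limits AlgebraicGeometry

namespace Groth.Agent.Lib.Helper75.PruferSerreT1

open Scheme.Modules Groth.Agent.Lib.Lead.QCohAff Groth.Agent.Lib.Lead.PullbackAff
  Groth.Agent.Lib.Lead.CohAff Groth.Agent.Lib.Helper21.QCohSections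

/-- Over a coherent ring, a finitely generated submodule of a finitely presented module is finitely
presented. -/
theorem finitePresentation_of_fg_submodule {A : Type u} [CommRing A]
    (hA : ∀ I : Ideal A, I.FG → Module.FinitePresentation A I)
    {P : Type u} [AddCommGroup P] [Module A P] [Module.FinitePresentation A P]
    (K : Submodule A P) (hK : K.FG) : Module.FinitePresentation A K := by
  obtain ⟨n, m, f, g, hf, hfg⟩ := Module.FinitePresentation.exists_fin' A P
  have hker : (LinearMap.ker f).FG := by
    rw [LinearMap.exact_iff.mp hfg, LinearMap.range_eq_map]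
    exact Submodule.FG.map _ Module.Finite.fg_top
  have hle : LinearMap.ker f ≤ K.comap f := by
    intro x hx
    rw [Submodule.mem_comap, LinearMap.mem_ker.mp hx]
    exact K.zero_mem
  have hK' : (K.comap f).FG := by
    refine Submodule.fg_of_fg_map_of_fg_inf_ker f ?_ ?_
    · rw [Submodule.map_comap_eq_of_surjective hf]
      exact hK
    · rw [inf_eq_right.mpr hle]
      exact hker
  haveI : Module.FinitePresentation A ↥(K.comap f) :=
    Groth.Agent.Lib.Helper43.CoherentRing.finitePresentation_submodule hA _ hK'
  let l : ↥(K.comap f) →ₗ[A] ↥K := f.restrict (fun x hx => hx)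
  have hl : Function.Surjective l := by
    rintro ⟨y, hy⟩
    obtain ⟨x, rfl⟩ := hf y
    exact ⟨⟨x, hy⟩, rfl⟩
  have hl' : (LinearMap.ker l).FG := by
    apply Submodule.fg_of_fg_map_injective (K.comap f).subtype (Submodule.injective_subtype _)
    have e : (LinearMap.ker l).map (K.comap f).subtype = LinearMap.ker f := by
      ext x
      constructor
      · rintro ⟨y, hy, rfl⟩
        have := congrArg Subtype.val (LinearMap.mem_ker.mp hy)
        exact this
      · intro hx
        refine ⟨⟨x, hle hx⟩, ?_, rfl⟩
        change (⟨x, hle hx⟩ : ↥(K.comap f)) ∈ LinearMap.ker l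
        rw [LinearMap.mem_ker]
        exact Subtype.ext hx
    rw [e]
    exact hker
  exact Module.finitePresentation_of_surjective l hl hl'

/-- (T1) -/
theorem isFP_kernel {X : Scheme.{u}} {M N : X.Modules} (φ : M ⟶ N) [Epi φ] (hM : CohB1.IsFP M)
    (hN : CohB1.IsFP N)
    (hcoh : ∀ x : X, ∃ U : X.Opens, IsAffineOpen U ∧ x ∈ U ∧
      ∀ I : Ideal Γ(X, U), I.FG → Module.FinitePresentation Γ(X, U) I) :
    CohB1.IsFP (kernel φ) := by
  haveI := hM
  haveI := hN
  haveI : M.IsQuasicoherent := inferInstance
  haveI : N.IsQuasicoherent := inferInstance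
  haveI : (kernel φ).IsQuasicoherent :=
    Groth.Agent.Lib.Helper21.QCohKernel.isQuasicoherent_kernel φ
  apply Groth.Agent.Lib.Helper2.FinLocFreeAff.isFinitePresentation_of_sections
  intro x
  obtain ⟨U, hU, hxU, hA⟩ := hcoh x
  refine ⟨U, hU, hxU, ?_⟩
  haveI : Module.FinitePresentation Γ(X, U) Γ(M, U) :=
    Groth.Agent.Lib.Helper2.FinTypeAff.finitePresentation_sections M hU
  haveI : Module.FinitePresentation Γ(X, U) Γ(N, U) :=
    Groth.Agent.Lib.Helper2.FinTypeAff.finitePresentation_sections N hU
  have hsurj : Function.Surjective (appL φ U) := app_surjective_of_epi φ hU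
  have hfg : (LinearMap.ker (appL φ U)).FG := Module.FinitePresentation.fg_ker (appL φ U) hsurj
  haveI : Module.FinitePresentation Γ(X, U) ↥(LinearMap.ker (appL φ U)) :=
    finitePresentation_of_fg_submodule hA _ hfg
  let ψ : Γ(kernel φ, U) →ₗ[Γ(X, U)] ↥(LinearMap.ker (appL φ U)) :=
    LinearMap.codRestrict _ (appL (kernel.ι φ) U) (fun t => by
      rw [LinearMap.mem_ker, appL_apply, appL_apply]
      exact Groth.Agent.Lib.Helper2.KerSec.app_kernelι_comp φ U t)
  have hψi : Function.Injective ψ := by
    intro s t hst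
    apply Groth.Agent.Lib.Helper2.KerSec.app_kernelι_injective φ U
    exact congrArg Subtype.val hst
  have hψs : Function.Surjective ψ := by
    rintro ⟨s, hs⟩
    obtain ⟨t, ht⟩ := Groth.Agent.Lib.Helper2.KerSec.exists_of_app_eq_zero φ U s
      (by simpa using hs)
    exact ⟨t, Subtype.ext ht⟩
  exact Module.FinitePresentation.of_equiv (LinearEquiv.ofBijective ψ ⟨hψi, hψs⟩).symm

end Groth.Agent.Lib.Helper75.PruferSerreT1
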