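/-
Helper75: comparison theorems for pure resolutions, part 1: exactness extracted from a quasi-isomorphism to/from
a complex concentrated in degree 0, and universal exactness in ModuleCat.
-/
import Mathlib

set_option autoImplicit false
universe u v

open CategoryTheory CategoryTheory.Limits HomologicalComplex ChainComplex

namespace Groth.Agent.Lib.Helper75.PureRes

section Chain

variable {C : Type u} [Category.{v} C] [HasZeroObject C] [HasZeroMorphisms C]
  (K : ChainComplex C ℕ) [∀ i, K.HasHomology i] {Z : C}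
  (π : K ⟶ (ChainComplex.single₀ C).obj Z) [QuasiIso π]

include π in
lemma chain_exactAt_succ (n : ℕ) : K.ExactAt (n + 1) := by
  rw [← quasiIsoAt_iff_exactAt' π (n + 1) (exactAt_succ_single_obj _ _)]
  infer_instance

include π in
lemma chain_exact_succ (n : ℕ) :
    (ShortComplex.mk _ _ (K.d_comp_d (n + 2) (n + 1) n)).Exact :=
  ((HomologicalComplex.exactAt_iff' _ (n + 2) (n + 1) n) (by simp only [ChainComplex.prev]; rfl)
    (by simp)).1 (chain_exactAt_succ K π n)

omit [QuasiIso π] [∀ i, K.HasHomology i] in
theorem chain_d_comp_π_f_zero : K.d 1 0 ≫ π.f 0 = 0 := by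
  rw [← π.comm 1 0, single_obj_d, comp_zero]

set_option backward.isDefEq.respectTransparency.types false in
set_option backward.defeqAttrib.useBackward true in
noncomputable def chainIsColimitCokernelCofork :
    IsColimit (CokernelCofork.ofπ _ (chain_d_comp_π_f_zero K π)) := by
  refine IsColimit.ofIsoColimit (K.opcyclesIsCokernel 1 0 (by simp)) ?_
  refine Cofork.ext (K.isoHomologyι₀.symm ≪≫ isoOfQuasiIsoAt π 0 ≪≫
    singleObjHomologySelfIso _ _ _) ?_
  rw [← cancel_mono (singleObjHomologySelfIso (ComplexShape.down ℕ) 0 _).inv,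
    ← cancel_mono (isoHomologyι₀ _).hom]
  dsimp
  simp only [isoHomologyι₀_inv_naturality_assoc, p_opcyclesMap_assoc, ChainComplex.single₀_obj_zero,
    Category.assoc,
    Iso.hom_inv_id, Category.comp_id, isoHomologyι_inv_hom_id, singleObjHomologySelfIso_inv_homologyι,
    singleObjOpcyclesSelfIso_hom, ChainComplex.single₀ObjXSelf, Iso.refl_inv, Category.id_comp]

end Chain

section Cochain

open CochainComplex

variable {C : Type u} [Category.{v} C] [HasZeroObject C] [HasZeroMorphisms C]
  (K : CochainComplex C ℕ) [∀ i, K.HasHomology i] {Z : C}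
  (ι : (CochainComplex.single₀ C).obj Z ⟶ K) [QuasiIso ι]

include ι in
lemma cochain_exactAt_succ (n : ℕ) : K.ExactAt (n + 1) := by
  rw [← quasiIsoAt_iff_exactAt ι (n + 1) (exactAt_succ_single_obj _ _)]
  infer_instance

include ι in
lemma cochain_exact_succ (n : ℕ) :
    (ShortComplex.mk _ _ (K.d_comp_d n (n + 1) (n + 2))).Exact :=
  (HomologicalComplex.exactAt_iff' _ n (n + 1) (n + 2) (by simp)
    (by simp only [CochainComplex.next]; rfl)).1 (cochain_exactAt_succ K ι n)

omit [QuasiIso ι] [∀ i, K.HasHomology i] in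
theorem cochain_ι_f_zero_comp_d : ι.f 0 ≫ K.d 0 1 = 0 := by
  rw [ι.comm 0 1, single_obj_d, zero_comp]

set_option backward.defeqAttrib.useBackward true in
set_option backward.isDefEq.respectTransparency false in
noncomputable def cochainIsLimitKernelFork :
    IsLimit (KernelFork.ofι _ (cochain_ι_f_zero_comp_d K ι)) := by
  refine IsLimit.ofIsoLimit (K.cyclesIsKernel 0 1 (by simp)) (Iso.symm ?_)
  refine Fork.ext ((singleObjHomologySelfIso _ _ _).symm ≪≫
    isoOfQuasiIsoAt ι 0 ≪≫ K.isoHomologyπ₀.symm) ?_
  rw [← cancel_epi (singleObjHomologySelfIso (ComplexShape.up ℕ) _ _).hom,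
    ← cancel_epi (isoHomologyπ₀ _).hom,
    ← cancel_epi (singleObjCyclesSelfIso (ComplexShape.up ℕ) _ _).inv]
  simp

end Cochain

section ModChain

open MonoidalCategory TensorProduct

variable {R : Type u} [CommRing R]

/-- universal exactness of a universally exact chain resolution, in terms of linear maps. -/
theorem chain_univ_exact (N' : ChainComplex (ModuleCat.{u} R) ℕ) {N : ModuleCat.{u} R}
    (ε : N' ⟶ (ChainComplex.single₀ (ModuleCat.{u} R)).obj N)
    (hN' : ∀ T : ModuleCat.{u} R,
      QuasiIso (((MonoidalCategory.tensorRight T).mapHomologicalComplex (ComplexShape.down ℕ)).map ε))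
    (T : Type u) [AddCommGroup T] [Module R T] :
    Function.Surjective ((ε.f 0).hom.rTensor T) ∧
    Function.Exact ((N'.d 1 0).hom.rTensor T) ((ε.f 0).hom.rTensor T) ∧
    ∀ n : ℕ, Function.Exact ((N'.d (n + 2) (n + 1)).hom.rTensor T)
      ((N'.d (n + 1) n).hom.rTensor T) := by
  let F := MonoidalCategory.tensorRight (ModuleCat.of R T)
  let FC := F.mapHomologicalComplex (ComplexShape.down ℕ)
  let K := FC.obj N'
  let π : K ⟶ (ChainComplex.single₀ (ModuleCat.{u} R)).obj (F.obj N) :=
    FC.map ε ≫ (HomologicalComplex.singleMapHomologicalComplex F (ComplexShape.down ℕ) 0).hom.app N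
  have hq : QuasiIso (FC.map ε) := hN' (ModuleCat.of R T)
  have hπ : QuasiIso π := by dsimp only [π]; infer_instance
  let j : F.obj (((ChainComplex.single₀ (ModuleCat.{u} R)).obj N).X 0) ⟶
      ((ChainComplex.single₀ (ModuleCat.{u} R)).obj (F.obj N)).X 0 :=
    ((HomologicalComplex.singleMapHomologicalComplex F (ComplexShape.down ℕ) 0).hom.app N).f 0
  have hj : IsIso j := (HomologicalComplex.eval _ _ 0).map_isIso
    ((HomologicalComplex.singleMapHomologicalComplex F (ComplexShape.down ℕ) 0).hom.app N)
  have hjm : Mono j := IsIso.mono_of_iso j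
  have hjinj : Function.Injective j.hom := (ModuleCat.mono_iff_injective j).mp hjm
  have key : ∀ x : (N'.X 0) ⊗[R] T, (π.f 0).hom x = j.hom ((ε.f 0).hom.rTensor T x) := fun x => rfl
  have hcolim := chainIsColimitCokernelCofork K π
  refine ⟨?_, ?_, ?_⟩
  · have h1 : Epi (π.f 0) := epi_of_isColimit_cofork hcolim
    have h2 : Function.Surjective (π.f 0).hom := (ModuleCat.epi_iff_surjective _).mp h1
    intro y
    obtain ⟨x, hx⟩ := h2 (j.hom y)
    exact ⟨x, hjinj ((key x).symm.trans hx)⟩
  · have h := ShortComplex.exact_of_g_is_cokernel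
      (ShortComplex.mk (K.d 1 0) (π.f 0) (chain_d_comp_π_f_zero K π)) hcolim
    rw [ShortComplex.ShortExact.moduleCat_exact_iff_function_exact] at h
    intro x
    refine Iff.trans ?_ (h x)
    change _ ↔ (π.f 0).hom x = 0
    rw [key]
    constructor
    · intro hx
      rw [hx, map_zero]
    · intro hx
      exact hjinj (hx.trans (map_zero _).symm)
  · intro n
    have h := chain_exact_succ K π n
    rw [ShortComplex.ShortExact.moduleCat_exact_iff_function_exact] at h
    exact h

/-- universal exactness of a universally exact cochain resolution, in terms of linear maps. -/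
theorem cochain_univ_exact (M' : CochainComplex (ModuleCat.{u} R) ℕ) {M : ModuleCat.{u} R}
    (η : (CochainComplex.single₀ (ModuleCat.{u} R)).obj M ⟶ M')
    (hM' : ∀ T : ModuleCat.{u} R,
      QuasiIso (((MonoidalCategory.tensorRight T).mapHomologicalComplex (ComplexShape.up ℕ)).map η))
    (T : Type u) [AddCommGroup T] [Module R T] :
    Function.Injective ((η.f 0).hom.rTensor T) ∧
    Function.Exact ((η.f 0).hom.rTensor T) ((M'.d 0 1).hom.rTensor T) ∧
    ∀ n : ℕ, Function.Exact ((M'.d n (n + 1)).hom.rTensor T)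
      ((M'.d (n + 1) (n + 2)).hom.rTensor T) := by
  let F := MonoidalCategory.tensorRight (ModuleCat.of R T)
  let FC := F.mapHomologicalComplex (ComplexShape.up ℕ)
  let K := FC.obj M'
  let ι : (CochainComplex.single₀ (ModuleCat.{u} R)).obj (F.obj M) ⟶ K :=
    (HomologicalComplex.singleMapHomologicalComplex F (ComplexShape.up ℕ) 0).inv.app M ≫ FC.map η
  have hq : QuasiIso (FC.map η) := hM' (ModuleCat.of R T)
  have hι : QuasiIso ι := by dsimp only [ι]; infer_instance
  let j : ((CochainComplex.single₀ (ModuleCat.{u} R)).obj (F.obj M)).X 0 ⟶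
      F.obj (((CochainComplex.single₀ (ModuleCat.{u} R)).obj M).X 0) :=
    ((HomologicalComplex.singleMapHomologicalComplex F (ComplexShape.up ℕ) 0).inv.app M).f 0
  have hj : IsIso j := (HomologicalComplex.eval _ _ 0).map_isIso
    ((HomologicalComplex.singleMapHomologicalComplex F (ComplexShape.up ℕ) 0).inv.app M)
  have hje : Epi j := IsIso.epi_of_iso j
  have hjsurj : Function.Surjective j.hom := (ModuleCat.epi_iff_surjective j).mp hje
  have key : ∀ x, (ι.f 0).hom x = (η.f 0).hom.rTensor T (j.hom x) := fun x => rfl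
  have hlim := cochainIsLimitKernelFork K ι
  refine ⟨?_, ?_, ?_⟩
  · have h1 : Mono (ι.f 0) := mono_of_isLimit_fork hlim
    have h2 : Function.Injective (ι.f 0).hom := (ModuleCat.mono_iff_injective _).mp h1
    intro a b hab
    obtain ⟨a', rfl⟩ := hjsurj a
    obtain ⟨b', rfl⟩ := hjsurj b
    rw [← key, ← key] at hab
    rw [h2 hab]
  · have h := ShortComplex.exact_of_f_is_kernel
      (ShortComplex.mk (ι.f 0) (K.d 0 1) (cochain_ι_f_zero_comp_d K ι)) hlim
    rw [ShortComplex.ShortExact.moduleCat_exact_iff_function_exact] at h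
    intro y
    refine Iff.trans (h y) ?_
    constructor
    · rintro ⟨x, hx⟩
      exact ⟨j.hom x, (key x).symm.trans hx⟩
    · rintro ⟨x, hx⟩
      obtain ⟨x', rfl⟩ := hjsurj x
      exact ⟨x', (key x').trans hx⟩
  · intro n
    have h := cochain_exact_succ K ι n
    rw [ShortComplex.ShortExact.moduleCat_exact_iff_function_exact] at h
    exact h

end ModChain

end Groth.Agent.Lib.Helper75.PureRes
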