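/-
Helper75: comparison theorems for pure resolutions, part 2: abstract comparison lemmas.
-/
import Mathlib

set_option autoImplicit false
universe u v

open CategoryTheory CategoryTheory.Limits HomologicalComplex

namespace Groth.Agent.Lib.Helper75.PureRes

section ChainAbstract

variable {C : Type u} [Category.{v} C] [Preadditive C] [HasZeroObject C]
  (P N' : ChainComplex C ℕ) {M N : C} (f : M ⟶ N)
  (π : P ⟶ (ChainComplex.single₀ C).obj M) (ε : N' ⟶ (ChainComplex.single₀ C).obj N)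

/-- the lifting properties of an object `X` against the augmented complex `N' → N`. -/
structure ChainLift (X : C) : Prop where
  l0 : ∀ g : X ⟶ ((ChainComplex.single₀ C).obj N).X 0, ∃ g' : X ⟶ N'.X 0, g' ≫ ε.f 0 = g
  l1 : ∀ g : X ⟶ N'.X 0, g ≫ ε.f 0 = 0 → ∃ g' : X ⟶ N'.X 1, g' ≫ N'.d 1 0 = g
  lS : ∀ (n : ℕ) (g : X ⟶ N'.X (n + 1)), g ≫ N'.d (n + 1) n = 0 →
    ∃ g' : X ⟶ N'.X (n + 2), g' ≫ N'.d (n + 2) (n + 1) = g

variable {N' ε}

theorem exists_chainMap (hP : ∀ n, ChainLift N' ε (P.X n)) :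
    ∃ φ : P ⟶ N', φ ≫ ε = π ≫ (ChainComplex.single₀ C).map f := by
  obtain ⟨z, hz⟩ := (hP 0).l0 (π.f 0 ≫ ((ChainComplex.single₀ C).map f).f 0)
  have hπd : P.d 1 0 ≫ π.f 0 = 0 := by
    rw [← π.comm 1 0, single_obj_d, comp_zero]
  obtain ⟨o, ho⟩ := (hP 1).l1 (P.d 1 0 ≫ z) (by
    rw [Category.assoc, hz, reassoc_of% hπd, zero_comp])
  have hsucc : ∀ (n : ℕ) (p : Σ' (f : P.X n ⟶ N'.X n) (f' : P.X (n + 1) ⟶ N'.X (n + 1)),
      f' ≫ N'.d (n + 1) n = P.d (n + 1) n ≫ f),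
      ∃ f'' : P.X (n + 2) ⟶ N'.X (n + 2),
        f'' ≫ N'.d (n + 2) (n + 1) = P.d (n + 2) (n + 1) ≫ p.2.1 := by
    rintro n ⟨g, g', h⟩
    exact (hP (n + 2)).lS n (P.d (n + 2) (n + 1) ≫ g') (by
      rw [Category.assoc, h, ← Category.assoc, P.d_comp_d, zero_comp])
  refine ⟨ChainComplex.mkHom P N' z o ho (fun n p =>
    ⟨(hsucc n p).choose, (hsucc n p).choose_spec⟩), ?_⟩
  apply HomologicalComplex.to_single_hom_ext
  rw [HomologicalComplex.comp_f, ChainComplex.mkHom_f_0, hz, HomologicalComplex.comp_f]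

theorem exists_homotopy_zero (hP : ∀ n, ChainLift N' ε (P.X n)) (γ : P ⟶ N') (hγ : γ ≫ ε = 0) :
    Nonempty (Homotopy γ 0) := by
  have hγ0 : γ.f 0 ≫ ε.f 0 = 0 := by
    rw [← HomologicalComplex.comp_f, hγ, HomologicalComplex.zero_f]
  obtain ⟨z, hz⟩ := (hP 0).l1 (γ.f 0) hγ0
  obtain ⟨o, ho⟩ := (hP 1).lS 0 (γ.f 1 - P.d 1 0 ≫ z) (by
    rw [Preadditive.sub_comp, Category.assoc, hz, γ.comm 1 0, sub_self])
  have hsucc : ∀ (n : ℕ) (p : Σ' (f : P.X n ⟶ N'.X (n + 1)) (f' : P.X (n + 1) ⟶ N'.X (n + 2)),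
      γ.f (n + 1) = P.d (n + 1) n ≫ f + f' ≫ N'.d (n + 2) (n + 1)),
      ∃ f'' : P.X (n + 2) ⟶ N'.X (n + 3),
        γ.f (n + 2) = P.d (n + 2) (n + 1) ≫ p.2.1 + f'' ≫ N'.d (n + 3) (n + 2) := by
    rintro n ⟨g, g', h⟩
    have h' : g' ≫ N'.d (n + 2) (n + 1) = γ.f (n + 1) - P.d (n + 1) n ≫ g := by
      rw [h]; abel
    obtain ⟨g'', hg''⟩ := (hP (n + 2)).lS (n + 1) (γ.f (n + 2) - P.d (n + 2) (n + 1) ≫ g') (by
      rw [Preadditive.sub_comp, Category.assoc, h', Preadditive.comp_sub, γ.comm (n + 2) (n + 1),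
        ← Category.assoc (P.d (n + 2) (n + 1)), P.d_comp_d, zero_comp]
      abel)
    exact ⟨g'', by rw [hg'']; abel⟩
  exact ⟨Homotopy.mkInductive γ z hz.symm o (by rw [ho]; abel) (fun n p =>
    ⟨(hsucc n p).choose, (hsucc n p).choose_spec⟩)⟩

theorem exists_homotopy (hP : ∀ n, ChainLift N' ε (P.X n)) (α β : P ⟶ N')
    (h : α ≫ ε = β ≫ ε) : Nonempty (Homotopy α β) := by
  obtain ⟨H⟩ := exists_homotopy_zero P hP (α - β) (by rw [Preadditive.sub_comp, h, sub_self])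
  exact ⟨Homotopy.equivSubZero.symm H⟩

end ChainAbstract

section CochainAbstract

variable {C : Type u} [Category.{v} C] [Preadditive C] [HasZeroObject C]
  (M' I : CochainComplex C ℕ) {M N : C} (f : M ⟶ N)
  (η : (CochainComplex.single₀ C).obj M ⟶ M') (ε : (CochainComplex.single₀ C).obj N ⟶ I)

/-- the extension properties of an object `Y` against the coaugmented complex `M → M'`. -/
structure CochainExt (Y : C) : Prop where
  e0 : ∀ g : ((CochainComplex.single₀ C).obj M).X 0 ⟶ Y, ∃ g' : M'.X 0 ⟶ Y, η.f 0 ≫ g' = g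
  e1 : ∀ g : M'.X 0 ⟶ Y, η.f 0 ≫ g = 0 → ∃ g' : M'.X 1 ⟶ Y, M'.d 0 1 ≫ g' = g
  eS : ∀ (n : ℕ) (g : M'.X (n + 1) ⟶ Y), M'.d n (n + 1) ≫ g = 0 →
    ∃ g' : M'.X (n + 2) ⟶ Y, M'.d (n + 1) (n + 2) ≫ g' = g

variable {M' η}

theorem exists_cochainMap (hI : ∀ n, CochainExt M' η (I.X n)) :
    ∃ φ : M' ⟶ I, η ≫ φ = (CochainComplex.single₀ C).map f ≫ ε := by
  obtain ⟨z, hz⟩ := (hI 0).e0 (((CochainComplex.single₀ C).map f).f 0 ≫ ε.f 0)
  have hεd : ε.f 0 ≫ I.d 0 1 = 0 := by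
    rw [ε.comm 0 1, single_obj_d, zero_comp]
  obtain ⟨o, ho⟩ := (hI 1).e1 (z ≫ I.d 0 1) (by
    rw [reassoc_of% hz, hεd, comp_zero])
  have hsucc : ∀ (n : ℕ) (p : Σ' (f : M'.X n ⟶ I.X n) (f' : M'.X (n + 1) ⟶ I.X (n + 1)),
      f ≫ I.d n (n + 1) = M'.d n (n + 1) ≫ f'),
      ∃ f'' : M'.X (n + 2) ⟶ I.X (n + 2),
        p.2.1 ≫ I.d (n + 1) (n + 2) = M'.d (n + 1) (n + 2) ≫ f'' := by
    rintro n ⟨g, g', h⟩
    obtain ⟨g'', hg''⟩ := (hI (n + 2)).eS n (g' ≫ I.d (n + 1) (n + 2)) (by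
      rw [← Category.assoc, ← h, Category.assoc, I.d_comp_d, comp_zero])
    exact ⟨g'', hg''.symm⟩
  refine ⟨CochainComplex.mkHom M' I z o ho.symm (fun n p =>
    ⟨(hsucc n p).choose, (hsucc n p).choose_spec⟩), ?_⟩
  apply HomologicalComplex.from_single_hom_ext
  rw [HomologicalComplex.comp_f, CochainComplex.mkHom_f_0, hz, HomologicalComplex.comp_f]

theorem exists_cohomotopy_zero (hI : ∀ n, CochainExt M' η (I.X n)) (γ : M' ⟶ I) (hγ : η ≫ γ = 0) :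
    Nonempty (Homotopy γ 0) := by
  have hγ0 : η.f 0 ≫ γ.f 0 = 0 := by
    rw [← HomologicalComplex.comp_f, hγ, HomologicalComplex.zero_f]
  obtain ⟨z, hz⟩ := (hI 0).e1 (γ.f 0) hγ0
  obtain ⟨o, ho⟩ := (hI 1).eS 0 (γ.f 1 - z ≫ I.d 0 1) (by
    rw [Preadditive.comp_sub, ← Category.assoc, hz, γ.comm 0 1, sub_self])
  have hsucc : ∀ (n : ℕ) (p : Σ' (f : M'.X (n + 1) ⟶ I.X n) (f' : M'.X (n + 2) ⟶ I.X (n + 1)),
      γ.f (n + 1) = f ≫ I.d n (n + 1) + M'.d (n + 1) (n + 2) ≫ f'),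
      ∃ f'' : M'.X (n + 3) ⟶ I.X (n + 2),
        γ.f (n + 2) = p.2.1 ≫ I.d (n + 1) (n + 2) + M'.d (n + 2) (n + 3) ≫ f'' := by
    rintro n ⟨g, g', h⟩
    have h' : M'.d (n + 1) (n + 2) ≫ g' = γ.f (n + 1) - g ≫ I.d n (n + 1) := by
      rw [h]; abel
    obtain ⟨g'', hg''⟩ := (hI (n + 2)).eS (n + 1) (γ.f (n + 2) - g' ≫ I.d (n + 1) (n + 2)) (by
      rw [Preadditive.comp_sub, ← Category.assoc, h', Preadditive.sub_comp, ← γ.comm (n + 1) (n + 2),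
        Category.assoc, I.d_comp_d, comp_zero]
      abel)
    exact ⟨g'', by rw [hg'']; abel⟩
  exact ⟨Homotopy.mkCoinductive γ z hz.symm o (by rw [ho]; abel) (fun n p =>
    ⟨(hsucc n p).choose, (hsucc n p).choose_spec⟩)⟩

theorem exists_cohomotopy (hI : ∀ n, CochainExt M' η (I.X n)) (α β : M' ⟶ I)
    (h : η ≫ α = η ≫ β) : Nonempty (Homotopy α β) := by
  obtain ⟨H⟩ := exists_cohomotopy_zero I hI (α - β) (by rw [Preadditive.comp_sub, h, sub_self])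
  exact ⟨Homotopy.equivSubZero.symm H⟩

end CochainAbstract

end Groth.Agent.Lib.Helper75.PureRes
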