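/-
Helper75: comparison theorems for pure resolutions, part 3: purity of images in universally exact complexes.
-/
import Mathlib
import Groth.Prelude.Def_CAlgX

set_option autoImplicit false
universe u v

open TensorProduct

namespace Groth.Agent.Lib.Helper75.PureRes

section Alg

variable {R : Type u} [CommRing R]
variable {A B C D E : Type u} [AddCommGroup A] [Module R A] [AddCommGroup B] [Module R B]
  [AddCommGroup C] [Module R C] [AddCommGroup D] [Module R D] [AddCommGroup E] [Module R E]

lemma rid_rTensor (u : A →ₗ[R] B) (x : A ⊗[R] R) :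
    TensorProduct.rid R B (u.rTensor R x) = u (TensorProduct.rid R A x) := by
  induction x using TensorProduct.induction_on with
  | zero => simp
  | tmul a r => simp
  | add x y hx hy => simp only [map_add, hx, hy]

lemma surjective_of_rTensor_self (g : C →ₗ[R] D) (h : Function.Surjective (g.rTensor R)) :
    Function.Surjective g := by
  intro d
  obtain ⟨x, hx⟩ := h (d ⊗ₜ 1)
  refine ⟨TensorProduct.rid R C x, ?_⟩
  rw [← rid_rTensor, hx, TensorProduct.rid_tmul, one_smul]

lemma injective_of_rTensor_self (g : C →ₗ[R] D) (h : Function.Injective (g.rTensor R)) :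
    Function.Injective g := by
  intro a b hab
  have h1 : g.rTensor R (a ⊗ₜ 1) = g.rTensor R (b ⊗ₜ 1) := by
    rw [LinearMap.rTensor_tmul, LinearMap.rTensor_tmul, hab]
  have h2 := congrArg (TensorProduct.rid R C) (h h1)
  simpa using h2

lemma exact_of_rTensor_self (u : A →ₗ[R] B) (v : B →ₗ[R] C) (huv : v ∘ₗ u = 0)
    (h : Function.Exact (u.rTensor R) (v.rTensor R)) : Function.Exact u v := by
  intro b
  constructor
  · intro hb
    have h1 : v.rTensor R (b ⊗ₜ 1) = 0 := by rw [LinearMap.rTensor_tmul, hb, zero_tmul]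
    obtain ⟨x, hx⟩ := (h _).mp h1
    refine ⟨TensorProduct.rid R A x, ?_⟩
    rw [← rid_rTensor, hx, TensorProduct.rid_tmul, one_smul]
  · rintro ⟨a, rfl⟩
    exact LinearMap.congr_fun huv a

/-- universal exactness at `B` of `A → B → C` makes the image of `B → C` a pure submodule. -/
theorem universallyInjective_range_subtype (u : A →ₗ[R] B) (v : B →ₗ[R] C) (huv : v ∘ₗ u = 0)
    (h : ∀ (T : Type u) [AddCommGroup T] [Module R T],
      Function.Exact (u.rTensor T) (v.rTensor T)) :
    CAlgX.UniversallyInjective R (LinearMap.range v).subtype := by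
  intro Q _ _
  rw [injective_iff_map_eq_zero]
  intro x hx
  obtain ⟨y, rfl⟩ := LinearMap.rTensor_surjective Q v.surjective_rangeRestrict x
  have h1 : v.rTensor Q y = 0 := by
    rw [← hx, ← LinearMap.comp_apply, ← LinearMap.rTensor_comp]
    rfl
  obtain ⟨a, rfl⟩ := (h Q y).mp h1
  rw [← LinearMap.comp_apply, ← LinearMap.rTensor_comp]
  have h2 : v.rangeRestrict ∘ₗ u = 0 := by
    ext a
    exact LinearMap.congr_fun huv a
  rw [h2, LinearMap.rTensor_zero, LinearMap.zero_apply]

lemma universallyInjective_subtype_of_eq {p q : Submodule R C} (h : p = q)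
    (hp : CAlgX.UniversallyInjective R p.subtype) : CAlgX.UniversallyInjective R q.subtype := by
  subst h
  exact hp

/-- the pure projectivity property used in the statements. -/
def PureProj (R : Type u) [CommRing R] (X : Type u) [AddCommGroup X] [Module R X] : Prop :=
  ∀ ⦃L T : Type u⦄ [AddCommGroup L] [Module R L] [AddCommGroup T] [Module R T] (g : L →ₗ[R] T),
    Function.Surjective g → CAlgX.UniversallyInjective R (LinearMap.ker g).subtype →
    ∀ φ : X →ₗ[R] T, ∃ ψ : X →ₗ[R] L, g ∘ₗ ψ = φ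

/-- the pure injectivity property used in the statements. -/
def PureInj (R : Type u) [CommRing R] (Y : Type u) [AddCommGroup Y] [Module R Y] : Prop :=
  ∀ ⦃K L : Type u⦄ [AddCommGroup K] [Module R K] [AddCommGroup L] [Module R L] (g : K →ₗ[R] L),
    CAlgX.UniversallyInjective R g → ∀ φ : K →ₗ[R] Y, ∃ ψ : L →ₗ[R] Y, ψ ∘ₗ g = φ

variable {X : Type u} [AddCommGroup X] [Module R X]

theorem lift0 (hX : PureProj R X) (u : A →ₗ[R] B) (v : B →ₗ[R] C) (g : C →ₗ[R] D)
    (huv : v ∘ₗ u = 0)
    (h : ∀ (T : Type u) [AddCommGroup T] [Module R T],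
      Function.Exact (u.rTensor T) (v.rTensor T))
    (hC : Function.Exact v g) (hg : Function.Surjective g) (γ : X →ₗ[R] D) :
    ∃ γ' : X →ₗ[R] C, g ∘ₗ γ' = γ := by
  refine hX g hg ?_ γ
  have h1 : LinearMap.range v = LinearMap.ker g := (LinearMap.exact_iff.mp hC).symm
  exact universallyInjective_subtype_of_eq h1 (universallyInjective_range_subtype u v huv h)

theorem lift1 (hX : PureProj R X) (u : A →ₗ[R] B) (v : B →ₗ[R] C) (g : C →ₗ[R] D)
    (z : D →ₗ[R] E) (huv : v ∘ₗ u = 0)
    (h : ∀ (T : Type u) [AddCommGroup T] [Module R T],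
      Function.Exact (u.rTensor T) (v.rTensor T))
    (hC : Function.Exact v g) (hD : Function.Exact g z) (γ : X →ₗ[R] D) (hγ : z ∘ₗ γ = 0) :
    ∃ γ' : X →ₗ[R] C, g ∘ₗ γ' = γ := by
  have hgz : ∀ c, g c ∈ LinearMap.ker z := fun c => (hD (g c)).mpr ⟨c, rfl⟩
  let g' : C →ₗ[R] LinearMap.ker z := g.codRestrict _ hgz
  have hg' : Function.Surjective g' := by
    rintro ⟨d, hd⟩
    obtain ⟨c, rfl⟩ := (hD d).mp hd
    exact ⟨c, rfl⟩
  have hC' : Function.Exact v g' := by
    intro c
    rw [← hC c]
    constructor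
    · intro hc
      exact congrArg Subtype.val hc
    · intro hc
      exact Subtype.ext hc
  let γ₀ : X →ₗ[R] LinearMap.ker z := γ.codRestrict _ (fun x => LinearMap.congr_fun hγ x)
  obtain ⟨γ', hγ'⟩ := lift0 hX u v g' huv h hC' hg' γ₀
  refine ⟨γ', ?_⟩
  ext x
  exact congrArg Subtype.val (LinearMap.congr_fun hγ' x)

variable {Y : Type u} [AddCommGroup Y] [Module R Y]

theorem ext1 (hY : PureInj R Y) (u : A →ₗ[R] B) (v : B →ₗ[R] C) (huv : v ∘ₗ u = 0)
    (h : ∀ (T : Type u) [AddCommGroup T] [Module R T],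
      Function.Exact (u.rTensor T) (v.rTensor T))
    (γ : B →ₗ[R] Y) (hγ : γ ∘ₗ u = 0) : ∃ γ' : C →ₗ[R] Y, γ' ∘ₗ v = γ := by
  have hex : Function.Exact u v := exact_of_rTensor_self u v huv (h R)
  have hker : LinearMap.ker v ≤ LinearMap.ker γ := by
    intro b hb
    obtain ⟨a, rfl⟩ := (hex b).mp hb
    exact LinearMap.congr_fun hγ a
  let φ : LinearMap.range v →ₗ[R] Y :=
    ((LinearMap.ker v).liftQ γ hker) ∘ₗ (LinearMap.quotKerEquivRange v).symm.toLinearMap
  obtain ⟨ψ, hψ⟩ := hY (LinearMap.range v).subtype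
    (universallyInjective_range_subtype u v huv h) φ
  refine ⟨ψ, ?_⟩
  ext b
  have h1 : ψ (v b) = φ (v.rangeRestrict b) := (LinearMap.congr_fun hψ (v.rangeRestrict b))
  rw [LinearMap.comp_apply, h1]
  change ((LinearMap.ker v).liftQ γ hker) ((LinearMap.quotKerEquivRange v).symm (v.rangeRestrict b))
    = γ b
  have h2 : (LinearMap.quotKerEquivRange v).symm (v.rangeRestrict b) =
      (LinearMap.ker v).mkQ b := by
    rw [LinearEquiv.symm_apply_eq]
    rfl
  rw [h2]
  rfl

end Alg

end Groth.Agent.Lib.Helper75.PureRes
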