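/-
Helper75: comparison theorems for pure resolutions, part 4: the lifting/extension properties in ModuleCat.
-/
import Mathlib
import Groth.Agent.Lib.Helper75.PureRes1
import Groth.Agent.Lib.Helper75.PureRes2
import Groth.Agent.Lib.Helper75.PureRes3

set_option autoImplicit false
universe u v

open CategoryTheory CategoryTheory.Limits TensorProduct

namespace Groth.Agent.Lib.Helper75.PureRes

section Assemble

variable {R : Type u} [CommRing R]

lemma hom_comp_eq_zero {X Y Z : ModuleCat.{u} R} (f : X ⟶ Y) (g : Y ⟶ Z) (h : f ≫ g = 0) :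
    g.hom ∘ₗ f.hom = 0 := by
  rw [← ModuleCat.hom_comp, h]
  rfl

theorem chainLift_of_pureProj (N' : ChainComplex (ModuleCat.{u} R) ℕ) {N : ModuleCat.{u} R}
    (ε : N' ⟶ (ChainComplex.single₀ (ModuleCat.{u} R)).obj N)
    (hN' : ∀ T : ModuleCat.{u} R,
      QuasiIso (((MonoidalCategory.tensorRight T).mapHomologicalComplex (ComplexShape.down ℕ)).map ε))
    (X : ModuleCat.{u} R) (hX : PureProj R X) : ChainLift N' ε X := by
  have hu := fun (T : Type u) [AddCommGroup T] [Module R T] => chain_univ_exact N' ε hN' T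
  have hdε : N'.d 1 0 ≫ ε.f 0 = 0 := chain_d_comp_π_f_zero N' ε
  have hsurj : Function.Surjective (ε.f 0).hom := surjective_of_rTensor_self _ (hu R).1
  have hex0 : Function.Exact (N'.d 1 0).hom (ε.f 0).hom :=
    exact_of_rTensor_self _ _ (hom_comp_eq_zero _ _ hdε) (hu R).2.1
  have hexS : ∀ n : ℕ, Function.Exact (N'.d (n + 2) (n + 1)).hom (N'.d (n + 1) n).hom := fun n =>
    exact_of_rTensor_self _ _ (hom_comp_eq_zero _ _ (N'.d_comp_d _ _ _)) ((hu R).2.2 n)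
  refine ⟨?_, ?_, ?_⟩
  · intro g
    obtain ⟨γ', hγ'⟩ := lift0 hX (N'.d 2 1).hom (N'.d 1 0).hom (ε.f 0).hom
      (hom_comp_eq_zero _ _ (N'.d_comp_d _ _ _)) (fun T _ _ => (hu T).2.2 0) hex0 hsurj g.hom
    refine ⟨ModuleCat.ofHom γ', ?_⟩
    apply ModuleCat.hom_ext
    rw [ModuleCat.hom_comp, ModuleCat.hom_ofHom, hγ']
  · intro g hg
    obtain ⟨γ', hγ'⟩ := lift1 hX (N'.d 3 2).hom (N'.d 2 1).hom (N'.d 1 0).hom (ε.f 0).hom
      (hom_comp_eq_zero _ _ (N'.d_comp_d _ _ _)) (fun T _ _ => (hu T).2.2 1) (hexS 0) hex0 g.hom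
      (hom_comp_eq_zero _ _ hg)
    refine ⟨ModuleCat.ofHom γ', ?_⟩
    apply ModuleCat.hom_ext
    rw [ModuleCat.hom_comp, ModuleCat.hom_ofHom, hγ']
  · intro n g hg
    obtain ⟨γ', hγ'⟩ := lift1 hX (N'.d (n + 2 + 2) (n + 2 + 1)).hom (N'.d (n + 2 + 1) (n + 2)).hom
      (N'.d (n + 2) (n + 1)).hom (N'.d (n + 1) n).hom
      (hom_comp_eq_zero _ _ (N'.d_comp_d _ _ _)) (fun T _ _ => (hu T).2.2 (n + 2)) (hexS (n + 1))
      (hexS n) g.hom (hom_comp_eq_zero _ _ hg)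
    refine ⟨ModuleCat.ofHom γ', ?_⟩
    apply ModuleCat.hom_ext
    rw [ModuleCat.hom_comp, ModuleCat.hom_ofHom, hγ']

theorem cochainExt_of_pureInj (M' : CochainComplex (ModuleCat.{u} R) ℕ) {M : ModuleCat.{u} R}
    (η : (CochainComplex.single₀ (ModuleCat.{u} R)).obj M ⟶ M')
    (hM' : ∀ T : ModuleCat.{u} R,
      QuasiIso (((MonoidalCategory.tensorRight T).mapHomologicalComplex (ComplexShape.up ℕ)).map η))
    (Y : ModuleCat.{u} R) (hY : PureInj R Y) : CochainExt M' η Y := by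
  have hu := fun (T : Type u) [AddCommGroup T] [Module R T] => cochain_univ_exact M' η hM' T
  have hηd : η.f 0 ≫ M'.d 0 1 = 0 := cochain_ι_f_zero_comp_d M' η
  refine ⟨?_, ?_, ?_⟩
  · intro g
    obtain ⟨γ', hγ'⟩ := hY (η.f 0).hom (fun Q _ _ => (hu Q).1) g.hom
    refine ⟨ModuleCat.ofHom γ', ?_⟩
    apply ModuleCat.hom_ext
    rw [ModuleCat.hom_comp, ModuleCat.hom_ofHom, hγ']
  · intro g hg
    obtain ⟨γ', hγ'⟩ := ext1 hY (η.f 0).hom (M'.d 0 1).hom (hom_comp_eq_zero _ _ hηd)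
      (fun T _ _ => (hu T).2.1) g.hom (hom_comp_eq_zero _ _ hg)
    refine ⟨ModuleCat.ofHom γ', ?_⟩
    apply ModuleCat.hom_ext
    rw [ModuleCat.hom_comp, ModuleCat.hom_ofHom, hγ']
  · intro n g hg
    obtain ⟨γ', hγ'⟩ := ext1 hY (M'.d n (n + 1)).hom (M'.d (n + 1) (n + 2)).hom
      (hom_comp_eq_zero _ _ (M'.d_comp_d _ _ _))
      (fun T _ _ => (hu T).2.2 n) g.hom (hom_comp_eq_zero _ _ hg)
    refine ⟨ModuleCat.ofHom γ', ?_⟩
    apply ModuleCat.hom_ext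
    rw [ModuleCat.hom_comp, ModuleCat.hom_ofHom, hγ']

end Assemble

end Groth.Agent.Lib.Helper75.PureRes
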