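/-
Helper75: pure resolutions, part 5: lifting of finitely presented modules implies purity of the kernel.
-/
import Mathlib
import Groth.Agent.Lib.Helper75.PureRes3

set_option autoImplicit false
universe u v

open TensorProduct

namespace Groth.Agent.Lib.Helper75.PureRes

section LemmaA

variable {R : Type u} [CommRing R]
variable {L M : Type u} [AddCommGroup L] [Module R L] [AddCommGroup M] [Module R M]

/-- If every map from a finitely presented module to `M` lifts along `g : L → M`, then the kernel of `g`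
is a pure submodule of `L`. -/
theorem universallyInjective_ker_of_lift (g : L →ₗ[R] M)
    (hlift : ∀ (n : ℕ) (S : Submodule R (Fin n → R)), S.FG →
      ∀ φ : ((Fin n → R) ⧸ S) →ₗ[R] M, ∃ ψ : ((Fin n → R) ⧸ S) →ₗ[R] L, g ∘ₗ ψ = φ) :
    CAlgX.UniversallyInjective R (LinearMap.ker g).subtype := by
  intro T _ _
  rw [injective_iff_map_eq_zero]
  intro x hx
  -- reduce to a finitely generated submodule of `K`
  obtain ⟨K₀, hK₀fg, hK₀le, y, hxy⟩ := Submodule.exists_fg_le_eq_rTensor_inclusion x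
  have h2 : LinearMap.rTensor T K₀.subtype y = 0 := by
    rw [← hx, hxy, ← LinearMap.comp_apply, ← LinearMap.rTensor_comp]
    rfl
  rw [hxy]
  obtain ⟨L₀, hKL, hL₀fg, h3⟩ := TensorProduct.eq_zero_of_fg_of_subtype_eq_zero hK₀fg h2
  have : Module.Finite R L₀ := Module.Finite.iff_fg.mpr hL₀fg
  obtain ⟨m, p, hp⟩ := Module.Finite.exists_fin' R L₀
  let q : (Fin m → R) →ₗ[R] L := L₀.subtype ∘ₗ p
  let P : Submodule R (Fin m → R) := K₀.comap q
  let p' : P →ₗ[R] K₀ := q.restrict (fun v hv => hv)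
  have hp' : Function.Surjective p' := by
    rintro ⟨k, hk⟩
    obtain ⟨v, hv⟩ := hp ⟨k, hKL hk⟩
    have hqv : q v = k := congrArg Subtype.val hv
    exact ⟨⟨v, show q v ∈ K₀ by rw [hqv]; exact hk⟩, Subtype.ext hqv⟩
  obtain ⟨yt, rfl⟩ := LinearMap.rTensor_surjective T hp' y
  -- the image of `yt` in `R^m ⊗ T` comes from the kernel of `p`
  have h4 : LinearMap.rTensor T p (LinearMap.rTensor T P.subtype yt) = 0 := by
    rw [← h3, ← LinearMap.comp_apply, ← LinearMap.rTensor_comp, ← LinearMap.comp_apply,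
      ← LinearMap.rTensor_comp]
    rfl
  obtain ⟨w, hw⟩ := (rTensor_exact T (LinearMap.exact_subtype_ker_map p) hp _).mp h4
  obtain ⟨P₀, hP₀fg, hP₀le, yt₀, rfl⟩ := Submodule.exists_fg_le_eq_rTensor_inclusion yt
  obtain ⟨W₀, hW₀fg, hW₀le, w₀, rfl⟩ := Submodule.exists_fg_le_eq_rTensor_inclusion w
  -- the finitely presented module
  let S : Submodule R (Fin m → R) := P₀ ⊔ W₀
  have hSfg : S.FG := hP₀fg.sup hW₀fg
  have hSker : S ≤ LinearMap.ker (g ∘ₗ q) := by
    refine sup_le ?_ ?_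
    · intro v hv
      have : q v ∈ K₀ := hP₀le hv
      exact hK₀le this
    · intro v hv
      have h0 : p v = 0 := hW₀le hv
      rw [LinearMap.mem_ker, LinearMap.comp_apply]
      have : q v = 0 := by
        change L₀.subtype (p v) = 0
        rw [h0, map_zero]
      rw [this, map_zero]
  let φ : ((Fin m → R) ⧸ S) →ₗ[R] M := S.liftQ (g ∘ₗ q) hSker
  obtain ⟨ψ, hψ⟩ := hlift m S hSfg φ
  let D : (Fin m → R) →ₗ[R] LinearMap.ker g := (q - ψ ∘ₗ S.mkQ).codRestrict (LinearMap.ker g) (fun v => by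
    rw [LinearMap.mem_ker, LinearMap.sub_apply, map_sub]
    have h1 : g (ψ (S.mkQ v)) = φ (S.mkQ v) := LinearMap.congr_fun hψ (S.mkQ v)
    change g (q v) - g (ψ (S.mkQ v)) = 0
    rw [h1]
    change g (q v) - g (q v) = 0
    exact sub_self _)
  have hD1 : D ∘ₗ P.subtype ∘ₗ (P₀.inclusion hP₀le) = (K₀.inclusion hK₀le) ∘ₗ p' ∘ₗ
      (P₀.inclusion hP₀le) := by
    ext v : 1
    apply Subtype.ext
    have hv : S.mkQ (v : Fin m → R) = 0 := by
      rw [Submodule.mkQ_apply, Submodule.Quotient.mk_eq_zero]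
      exact (le_sup_left : P₀ ≤ S) v.2
    change q v - ψ (S.mkQ v) = q v
    rw [hv, map_zero, sub_zero]
  have hD2 : D ∘ₗ (LinearMap.ker p).subtype ∘ₗ (W₀.inclusion hW₀le) = 0 := by
    ext v : 1
    apply Subtype.ext
    have hv : S.mkQ (v : Fin m → R) = 0 := by
      rw [Submodule.mkQ_apply, Submodule.Quotient.mk_eq_zero]
      exact (le_sup_right : W₀ ≤ S) v.2
    have h0 : p v = 0 := hW₀le v.2
    change q v - ψ (S.mkQ v) = 0
    rw [hv, map_zero, sub_zero]
    change L₀.subtype (p v) = 0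
    rw [h0, map_zero]
  calc LinearMap.rTensor T (K₀.inclusion hK₀le)
        (LinearMap.rTensor T p' (LinearMap.rTensor T (P₀.inclusion hP₀le) yt₀))
      = LinearMap.rTensor T ((K₀.inclusion hK₀le) ∘ₗ p' ∘ₗ (P₀.inclusion hP₀le)) yt₀ := by
        rw [LinearMap.rTensor_comp, LinearMap.rTensor_comp]; rfl
    _ = LinearMap.rTensor T D (LinearMap.rTensor T P.subtype
          (LinearMap.rTensor T (P₀.inclusion hP₀le) yt₀)) := by
        rw [← hD1, LinearMap.rTensor_comp, LinearMap.rTensor_comp]; rfl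
    _ = LinearMap.rTensor T D (LinearMap.rTensor T (LinearMap.ker p).subtype
          (LinearMap.rTensor T (W₀.inclusion hW₀le) w₀)) := by rw [hw]
    _ = LinearMap.rTensor T (D ∘ₗ (LinearMap.ker p).subtype ∘ₗ (W₀.inclusion hW₀le)) w₀ := by
        rw [LinearMap.rTensor_comp, LinearMap.rTensor_comp]; rfl
    _ = 0 := by rw [hD2, LinearMap.rTensor_zero, LinearMap.zero_apply]

end LemmaA

end Groth.Agent.Lib.Helper75.PureRes
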