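/-
Helper75: pure resolutions, part 6: the canonical pure cover of a module by a direct sum of finitely presented
modules.
-/
import Mathlib
import Groth.Agent.Lib.Helper75.PureRes5

set_option autoImplicit false
universe u v

open TensorProduct

namespace Groth.Agent.Lib.Helper75.PureRes

section Cover

variable (R : Type u) [CommRing R] (M : Type u) [AddCommGroup M] [Module R M]

/-- index type for the canonical pure cover of `M` -/
abbrev CoverIdx : Type u :=
  Σ n : ℕ, Σ S : {S : Submodule R (Fin n → R) // S.FG}, (((Fin n → R) ⧸ S.1) →ₗ[R] M)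

/-- the summands of the canonical pure cover of `M` -/
def CoverObj (i : CoverIdx R M) : Type u := (Fin i.1 → R) ⧸ i.2.1.1

noncomputable instance (i : CoverIdx R M) : AddCommGroup (CoverObj R M i) :=
  inferInstanceAs (AddCommGroup ((Fin i.1 → R) ⧸ i.2.1.1))

noncomputable instance (i : CoverIdx R M) : Module R (CoverObj R M i) :=
  inferInstanceAs (Module R ((Fin i.1 → R) ⧸ i.2.1.1))

lemma finitePresentation_quot (n : ℕ) (S : Submodule R (Fin n → R)) (hS : S.FG) :
    Module.FinitePresentation R ((Fin n → R) ⧸ S) :=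
  Module.finitePresentation_of_surjective S.mkQ
    (Submodule.mkQ_surjective _) (by rw [Submodule.ker_mkQ]; exact hS)

instance (i : CoverIdx R M) : Module.FinitePresentation R (CoverObj R M i) :=
  finitePresentation_quot R i.1 i.2.1.1 i.2.1.2

open Classical in
/-- the canonical pure cover of `M` -/
noncomputable def coverMap : (Π₀ i : CoverIdx R M, CoverObj R M i) →ₗ[R] M :=
  DFinsupp.lsum ℕ (fun i : CoverIdx R M => i.2.2)

open Classical in
theorem coverMap_lift (n : ℕ) (S : Submodule R (Fin n → R)) (hS : S.FG)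
    (φ : ((Fin n → R) ⧸ S) →ₗ[R] M) :
    ∃ ψ : ((Fin n → R) ⧸ S) →ₗ[R] (Π₀ i : CoverIdx R M, CoverObj R M i),
      coverMap R M ∘ₗ ψ = φ := by
  refine ⟨(DFinsupp.lsingle (R := R) (M := CoverObj R M) (⟨n, ⟨S, hS⟩, φ⟩ : CoverIdx R M)), ?_⟩
  refine LinearMap.ext fun x => ?_
  change coverMap R M (DFinsupp.single (⟨n, ⟨S, hS⟩, φ⟩ : CoverIdx R M) x) = φ x
  rw [coverMap, DFinsupp.lsum_single]
  rfl

theorem coverMap_surjective : Function.Surjective (coverMap R M) := by
  intro m
  let φ : ((Fin 1 → R) ⧸ (⊥ : Submodule R (Fin 1 → R))) →ₗ[R] M :=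
    (⊥ : Submodule R (Fin 1 → R)).liftQ
      ((LinearMap.toSpanSingleton R M m) ∘ₗ (LinearMap.proj 0)) bot_le
  obtain ⟨ψ, hψ⟩ := coverMap_lift R M 1 ⊥ Submodule.fg_bot φ
  refine ⟨ψ (Submodule.Quotient.mk (fun _ => 1)), ?_⟩
  have := LinearMap.congr_fun hψ (Submodule.Quotient.mk (fun _ => 1))
  rw [LinearMap.comp_apply] at this
  rw [this]
  change (1 : R) • m = m
  exact one_smul _ _

theorem coverMap_pure :
    CAlgX.UniversallyInjective R (LinearMap.ker (coverMap R M)).subtype :=
  universallyInjective_ker_of_lift (coverMap R M) (coverMap_lift R M)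

end Cover

end Groth.Agent.Lib.Helper75.PureRes
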