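/-
Helper75: pure resolutions, part 7: finitely presented modules are pure projective.
-/
import Mathlib
import Groth.Agent.Lib.Helper75.PureRes6

set_option autoImplicit false
universe u v

open TensorProduct

namespace Groth.Agent.Lib.Helper75.PureRes

section Factor

variable {R : Type u} [CommRing R]
variable {K L E F : Type u} [AddCommGroup K] [Module R K] [AddCommGroup L] [Module R L]
  [AddCommGroup E] [Module R E] [Module.Free R E] [Module.Finite R E]
  [AddCommGroup F] [Module R F] [Module.Free R F] [Module.Finite R F]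

lemma dTH_rTensor (A : E →ₗ[R] F) (z : Module.Dual R F ⊗[R] K) :
    dualTensorHomEquiv R E K (A.dualMap.rTensor K z) = (dualTensorHomEquiv R F K z) ∘ₗ A := by
  induction z using TensorProduct.induction_on with
  | zero => simp
  | tmul f k =>
    ext e
    simp [dualTensorHomEquiv]
  | add x y hx hy => rw [map_add, map_add, map_add, hx, hy, LinearMap.add_comp]

lemma dTH_lTensor (ι : K →ₗ[R] L) (z : Module.Dual R E ⊗[R] K) :
    dualTensorHomEquiv R E L (ι.lTensor (Module.Dual R E) z) =
      ι ∘ₗ (dualTensorHomEquiv R E K z) := by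
  induction z using TensorProduct.induction_on with
  | zero => simp
  | tmul f k =>
    ext e
    simp [dualTensorHomEquiv]
  | add x y hx hy => rw [map_add, map_add, map_add, hx, hy, LinearMap.comp_add]

/-- a universally injective map reflects solvability of finite linear systems. -/
theorem exists_factor_of_universallyInjective (ι : K →ₗ[R] L)
    (hι : CAlgX.UniversallyInjective R ι) (A : E →ₗ[R] F) (κ : E →ₗ[R] K) (lam : F →ₗ[R] L)
    (h : ι ∘ₗ κ = lam ∘ₗ A) : ∃ μ : F →ₗ[R] K, μ ∘ₗ A = κ := by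
  let T := Module.Dual R E ⧸ LinearMap.range A.dualMap
  let q : Module.Dual R E →ₗ[R] T := (LinearMap.range A.dualMap).mkQ
  have hq : Function.Surjective q := Submodule.mkQ_surjective _
  have hex : Function.Exact A.dualMap q := LinearMap.exact_map_mkQ_range A.dualMap
  have hqA : q ∘ₗ A.dualMap = 0 := hex.linearMap_comp_eq_zero
  have hinj : Function.Injective (ι.lTensor T) :=
    (LinearMap.lTensor_inj_iff_rTensor_inj T ι).mpr (hι T)
  let zκ := (dualTensorHomEquiv R E K).symm κ
  have h1 : ι.lTensor (Module.Dual R E) zκ =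
      A.dualMap.rTensor L ((dualTensorHomEquiv R F L).symm lam) := by
    apply (dualTensorHomEquiv R E L).injective
    rw [dTH_lTensor, dTH_rTensor, LinearEquiv.apply_symm_apply, LinearEquiv.apply_symm_apply, h]
  have h2 : q.rTensor K zκ = 0 := by
    apply hinj
    rw [map_zero, ← LinearMap.comp_apply, LinearMap.lTensor_comp_rTensor,
      ← LinearMap.rTensor_comp_lTensor, LinearMap.comp_apply, h1, ← LinearMap.comp_apply,
      ← LinearMap.rTensor_comp, hqA, LinearMap.rTensor_zero, LinearMap.zero_apply]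
  obtain ⟨z', hz'⟩ := (rTensor_exact K hex hq zκ).mp h2
  refine ⟨dualTensorHomEquiv R F K z', ?_⟩
  rw [← dTH_rTensor, hz', LinearEquiv.apply_symm_apply]

end Factor

section PureProjFP

variable {R : Type u} [CommRing R]

theorem pureProj_quot (n : ℕ) (S : Submodule R (Fin n → R)) (hS : S.FG) :
    PureProj R ((Fin n → R) ⧸ S) := by
  intro L N _ _ _ _ g hg hpure φ
  obtain ⟨k, A, hA⟩ := S.fg_iff_exists_fin_linearMap.mp hS
  obtain ⟨lam, hlam⟩ := Module.projective_lifting_property g (φ ∘ₗ S.mkQ) hg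
  have hAS : ∀ e, S.mkQ (A e) = 0 := fun e => by
    rw [Submodule.mkQ_apply, Submodule.Quotient.mk_eq_zero, ← hA]
    exact LinearMap.mem_range_self A e
  let κ : (Fin k → R) →ₗ[R] LinearMap.ker g := (lam ∘ₗ A).codRestrict (LinearMap.ker g) (fun e => by
    rw [LinearMap.mem_ker]
    have := LinearMap.congr_fun hlam (A e)
    simp only [LinearMap.comp_apply] at this ⊢
    rw [this, hAS, map_zero])
  have h : (LinearMap.ker g).subtype ∘ₗ κ = lam ∘ₗ A := LinearMap.subtype_comp_codRestrict _ _ _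
  obtain ⟨μ, hμ⟩ := exists_factor_of_universallyInjective (LinearMap.ker g).subtype hpure A κ lam h
  let ψ' : (Fin n → R) →ₗ[R] L := lam - (LinearMap.ker g).subtype ∘ₗ μ
  have hS' : S ≤ LinearMap.ker ψ' := by
    rw [← hA]
    rintro _ ⟨e, rfl⟩
    rw [LinearMap.mem_ker]
    change lam (A e) - ((LinearMap.ker g).subtype ∘ₗ (μ ∘ₗ A)) e = 0
    rw [hμ, h]
    exact sub_self _
  refine ⟨S.liftQ ψ' hS', ?_⟩
  apply Submodule.linearMap_qext
  refine LinearMap.ext fun v => ?_
  change g (lam v - (μ v : L)) = φ (S.mkQ v)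
  have h1 : g (lam v) = φ (S.mkQ v) := LinearMap.congr_fun hlam v
  have h2 : g (μ v : L) = 0 := (μ v).2
  rw [map_sub, h1, h2, sub_zero]

theorem pureProj_of_equiv {X Y : Type u} [AddCommGroup X] [Module R X] [AddCommGroup Y] [Module R Y]
    (e : X ≃ₗ[R] Y) (hY : PureProj R Y) : PureProj R X := by
  intro L N _ _ _ _ g hg hpure φ
  obtain ⟨ψ, hψ⟩ := hY g hg hpure (φ ∘ₗ e.symm.toLinearMap)
  refine ⟨ψ ∘ₗ e.toLinearMap, ?_⟩
  rw [← LinearMap.comp_assoc, hψ]
  ext x
  simp

theorem pureProj_of_finitePresentation (X : Type u) [AddCommGroup X] [Module R X]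
    [Module.FinitePresentation R X] : PureProj R X := by
  obtain ⟨n, S, e, hS⟩ := Module.FinitePresentation.exists_fin R X
  exact pureProj_of_equiv e (pureProj_quot n S hS)

theorem pureProj_of_retract {P X : Type u} [AddCommGroup P] [Module R P] [AddCommGroup X]
    [Module R X] (s : P →ₗ[R] X) (r : X →ₗ[R] P) (hrs : r ∘ₗ s = LinearMap.id)
    (hX : PureProj R X) : PureProj R P := by
  intro L N _ _ _ _ g hg hpure φ
  obtain ⟨ψ, hψ⟩ := hX g hg hpure (φ ∘ₗ r)
  refine ⟨ψ ∘ₗ s, ?_⟩
  rw [← LinearMap.comp_assoc, hψ, LinearMap.comp_assoc, hrs, LinearMap.comp_id]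

open Classical in
theorem pureProj_dfinsupp {ι : Type u} (Q : ι → Type u) [∀ i, AddCommGroup (Q i)]
    [∀ i, Module R (Q i)] (h : ∀ i, PureProj R (Q i)) : PureProj R (Π₀ i, Q i) := by
  intro L N _ _ _ _ g hg hpure φ
  have h' : ∀ i, ∃ ψ : Q i →ₗ[R] L, g ∘ₗ ψ = φ ∘ₗ DFinsupp.lsingle i := fun i =>
    h i g hg hpure _
  choose ψ hψ using h'
  refine ⟨DFinsupp.lsum ℕ ψ, ?_⟩
  apply DFinsupp.lhom_ext'
  intro i
  rw [LinearMap.comp_assoc, ← hψ i]
  congr 1
  ext x
  simp

end PureProjFP

end Groth.Agent.Lib.Helper75.PureRes
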