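/-
Helper75: pure resolutions, part 8: the canonical pure projective resolution.
-/
import Mathlib
import Groth.Agent.Lib.Helper75.PureRes1
import Groth.Agent.Lib.Helper75.PureRes7

set_option autoImplicit false
universe u v

open CategoryTheory CategoryTheory.Limits TensorProduct

namespace Groth.Agent.Lib.Helper75.PureRes

section Splice

variable {R : Type u} [CommRing R]
variable {A B C : Type u} [AddCommGroup A] [Module R A] [AddCommGroup B] [Module R B]
  [AddCommGroup C] [Module R C]

/-- exactness at `B` of `A → B → C` is universal as soon as the image of `B → C` is pure. -/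
theorem exact_rTensor_of_pure_range (d' : A →ₗ[R] B) (f : B →ₗ[R] C) (hex : Function.Exact d' f)
    (hpure : CAlgX.UniversallyInjective R (LinearMap.range f).subtype)
    (T : Type u) [AddCommGroup T] [Module R T] :
    Function.Exact (d'.rTensor T) (f.rTensor T) := by
  have hex' : Function.Exact d' f.rangeRestrict := by
    intro b
    rw [← hex b]
    constructor
    · intro hb
      exact congrArg Subtype.val hb
    · intro hb
      exact Subtype.ext hb
  have h1 := rTensor_exact T hex' f.surjective_rangeRestrict
  intro x
  rw [← h1 x]
  have h2 : f.rTensor T x = (LinearMap.range f).subtype.rTensor T (f.rangeRestrict.rTensor T x) := by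
    rw [← LinearMap.comp_apply, ← LinearMap.rTensor_comp]
    rfl
  rw [h2]
  constructor
  · intro hx
    exact hpure T (hx.trans (map_zero _).symm)
  · intro hx
    rw [hx, map_zero]

end Splice

section Resolution

variable (R : Type u) [CommRing R] (M : ModuleCat.{u} R)

/-- the iterated syzygies of the canonical pure covers -/
noncomputable def syz : ℕ → ModuleCat.{u} R
  | 0 => M
  | n + 1 => ModuleCat.of R (LinearMap.ker (coverMap R (syz n)))

/-- the terms of the canonical pure projective resolution -/
noncomputable def covX (n : ℕ) : ModuleCat.{u} R :=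
  ModuleCat.of R (Π₀ i : CoverIdx R (syz R M n), CoverObj R (syz R M n) i)

/-- the covering maps -/
noncomputable def covC (n : ℕ) : covX R M n →ₗ[R] syz R M n := coverMap R (syz R M n)

lemma covC_surjective (n : ℕ) : Function.Surjective (covC R M n) := coverMap_surjective R _

lemma covC_pure (n : ℕ) : CAlgX.UniversallyInjective R (LinearMap.ker (covC R M n)).subtype :=
  coverMap_pure R _

/-- the inclusion of the next syzygy -/
noncomputable def syzι (n : ℕ) : syz R M (n + 1) →ₗ[R] covX R M n :=
  (LinearMap.ker (covC R M n)).subtype

lemma syzι_injective (n : ℕ) : Function.Injective (syzι R M n) := Submodule.subtype_injective _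

lemma range_syzι (n : ℕ) : LinearMap.range (syzι R M n) = LinearMap.ker (covC R M n) :=
  Submodule.range_subtype _

/-- the differentials -/
noncomputable def covD (n : ℕ) : covX R M (n + 1) →ₗ[R] covX R M n :=
  syzι R M n ∘ₗ covC R M (n + 1)

lemma range_covD (n : ℕ) : LinearMap.range (covD R M n) = LinearMap.ker (covC R M n) := by
  rw [covD, LinearMap.range_comp, LinearMap.range_eq_top.mpr (covC_surjective R M (n + 1)),
    Submodule.map_top, range_syzι]

lemma ker_covD (n : ℕ) : LinearMap.ker (covD R M n) = LinearMap.ker (covC R M (n + 1)) := by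
  rw [covD, LinearMap.ker_comp, LinearMap.ker_eq_bot.mpr (syzι_injective R M n),
    Submodule.comap_bot]

lemma covC_comp_covD (n : ℕ) : covC R M n ∘ₗ covD R M n = 0 := by
  ext x : 1
  have : covD R M n x ∈ LinearMap.range (covD R M n) := LinearMap.mem_range_self _ x
  rw [range_covD] at this
  exact this

lemma covD_comp_covD (n : ℕ) : covD R M n ∘ₗ covD R M (n + 1) = 0 := by
  rw [covD, LinearMap.comp_assoc, covC_comp_covD, LinearMap.comp_zero]

lemma exact_covD_covC (n : ℕ) : Function.Exact (covD R M n) (covC R M n) :=
  LinearMap.exact_iff.mpr (range_covD R M n).symm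

lemma exact_covD_covD (n : ℕ) : Function.Exact (covD R M (n + 1)) (covD R M n) :=
  LinearMap.exact_iff.mpr (by rw [ker_covD, range_covD])

lemma covD_pure_range (n : ℕ) :
    CAlgX.UniversallyInjective R (LinearMap.range (covD R M n)).subtype :=
  universallyInjective_subtype_of_eq (range_covD R M n).symm (covC_pure R M n)

/-- the differentials as morphisms -/
noncomputable def covDm (n : ℕ) : covX R M (n + 1) ⟶ covX R M n := ModuleCat.ofHom (covD R M n)

/-- the first covering map as a morphism -/
noncomputable def covCm : covX R M 0 ⟶ M := ModuleCat.ofHom (covC R M 0)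

lemma covDm_hom (n : ℕ) : (covDm R M n).hom = covD R M n := rfl

lemma covCm_hom : (covCm R M).hom = covC R M 0 := rfl

lemma covDm_comp (n : ℕ) : covDm R M (n + 1) ≫ covDm R M n = 0 := by
  apply ModuleCat.hom_ext
  rw [ModuleCat.hom_comp, covDm_hom, covDm_hom, covD_comp_covD]
  rfl

lemma covDm_comp_covCm : covDm R M 0 ≫ covCm R M = 0 := by
  apply ModuleCat.hom_ext
  exact covC_comp_covD R M 0

/-- the canonical pure projective resolution -/
noncomputable def covCx : ChainComplex (ModuleCat.{u} R) ℕ :=
  ChainComplex.of (covX R M) (covDm R M) (covDm_comp R M)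

lemma covCx_d (n : ℕ) : (covCx R M).d (n + 1) n = covDm R M n :=
  ChainComplex.of_d _ _ _

/-- the augmentation -/
noncomputable def covπ : covCx R M ⟶ (ChainComplex.single₀ (ModuleCat.{u} R)).obj M :=
  (ChainComplex.toSingle₀Equiv (covCx R M) M).symm ⟨covCm R M, by
    rw [covCx_d]
    exact covDm_comp_covCm R M⟩

lemma covπ_f_zero : (covπ R M).f 0 = covCm R M := by
  simp [covπ]

theorem covπ_quasiIso (T : ModuleCat.{u} R) :
    QuasiIso (((MonoidalCategory.tensorRight T).mapHomologicalComplex (ComplexShape.down ℕ)).map
      (covπ R M)) := by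
  let F := MonoidalCategory.tensorRight T
  let FC := F.mapHomologicalComplex (ComplexShape.down ℕ)
  refine ⟨fun n => ?_⟩
  cases n with
  | zero =>
    rw [ChainComplex.quasiIsoAt₀_iff, ShortComplex.quasiIso_iff_of_zeros']
    · have hd : (covCx R M).d 1 0 = covDm R M 0 := covCx_d R M 0
      have hπ := covπ_f_zero R M
      constructor
      · rw [ShortComplex.ShortExact.moduleCat_exact_iff_function_exact]
        change Function.Exact (F.map ((covCx R M).d 1 0)).hom (F.map ((covπ R M).f 0)).hom
        rw [hd, hπ]
        exact rTensor_exact T (exact_covD_covC R M 0) (covC_surjective R M 0)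
      · change Epi (F.map ((covπ R M).f 0))
        rw [hπ, ModuleCat.epi_iff_surjective]
        exact LinearMap.rTensor_surjective T (covC_surjective R M 0)
    · change (FC.obj (covCx R M)).d 0 0 = 0
      apply HomologicalComplex.shape
      simp
    · change F.map (((ChainComplex.single₀ (ModuleCat.{u} R)).obj M).d 1 0) = 0
      rw [HomologicalComplex.single_obj_d, Functor.map_zero]
    · change F.map (((ChainComplex.single₀ (ModuleCat.{u} R)).obj M).d 0 0) = 0
      rw [HomologicalComplex.single_obj_d, Functor.map_zero]
  | succ n =>
    have hL : (FC.obj ((ChainComplex.single₀ (ModuleCat.{u} R)).obj M)).ExactAt (n + 1) := by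
      apply ShortComplex.exact_of_isZero_X₂
      exact Functor.map_isZero F (HomologicalComplex.isZero_single_obj_X _ _ _ _ (by simp))
    rw [quasiIsoAt_iff_exactAt' _ (n + 1) hL,
      HomologicalComplex.exactAt_iff' _ (n + 2) (n + 1) n (by simp) (by simp),
      ShortComplex.ShortExact.moduleCat_exact_iff_function_exact]
    change Function.Exact (F.map ((covCx R M).d (n + 2) (n + 1))).hom
      (F.map ((covCx R M).d (n + 1) n)).hom
    rw [covCx_d, covCx_d]
    exact exact_rTensor_of_pure_range (covD R M (n + 1)) (covD R M n) (exact_covD_covD R M n)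
      (covD_pure_range R M n) T

end Resolution

end Groth.Agent.Lib.Helper75.PureRes
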