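/-
Helper75: pure resolutions, part 9: the canonical pure injective resolution (iterated double character modules).
Uses helper26's S8772 (the evaluation map into the double character module is universally injective).
-/
import Mathlib
import Groth.Agent.S8772
import Groth.Agent.Lib.Helper75.PureRes3

set_option autoImplicit false
universe u v

open CategoryTheory CategoryTheory.Limits TensorProduct

namespace Groth.Agent.Lib.Helper75.PureRes

section SpliceDual

variable {R : Type u} [CommRing R]
variable {A B Q C : Type u} [AddCommGroup A] [Module R A] [AddCommGroup B] [Module R B]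
  [AddCommGroup Q] [Module R Q] [AddCommGroup C] [Module R C]

/-- exactness of `A → B → Q` with `B → Q` surjective stays universal after composing with a universally
injective map `Q → C`. -/
theorem exact_rTensor_of_factor (d' : A →ₗ[R] B) (q : B →ₗ[R] Q) (j : Q →ₗ[R] C)
    (hq : Function.Surjective q) (hex : Function.Exact d' q)
    (hj : CAlgX.UniversallyInjective R j) (T : Type u) [AddCommGroup T] [Module R T] :
    Function.Exact (d'.rTensor T) ((j ∘ₗ q).rTensor T) := by
  have h1 := rTensor_exact T hex hq
  intro x
  rw [← h1 x, LinearMap.rTensor_comp, LinearMap.comp_apply]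
  constructor
  · intro hx
    exact hj T (hx.trans (map_zero _).symm)
  · intro hx
    rw [hx, map_zero]

/-- character modules are pure injective. -/
theorem pureInj_characterModule (B : Type u) [AddCommGroup B] [Module R B] :
    PureInj R (CharacterModule B) := by
  intro K L _ _ _ _ g hg φ
  have h1 := hg B
  rw [rTensor_injective_iff_lcomp_surjective] at h1
  obtain ⟨ψ, hψ⟩ := h1 φ
  exact ⟨ψ, hψ⟩

end SpliceDual

section Coresolution

variable (R : Type u) [CommRing R] (M : ModuleCat.{u} R)

/-- the double character module as an object -/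
noncomputable def CC (X : ModuleCat.{u} R) : ModuleCat.{u} R :=
  ModuleCat.of R (CharacterModule (CharacterModule X))

/-- the iterated cosyzygies -/
noncomputable def cosyz : ℕ → ModuleCat.{u} R
  | 0 => M
  | n + 1 => ModuleCat.of R (CC R (cosyz n) ⧸ LinearMap.range (PureExt.charEval R (cosyz n)))

/-- the terms of the canonical pure injective resolution -/
noncomputable def injX (n : ℕ) : ModuleCat.{u} R := CC R (cosyz R M n)

/-- the embeddings -/
noncomputable def injE (n : ℕ) : cosyz R M n →ₗ[R] injX R M n := PureExt.charEval R (cosyz R M n)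

lemma injE_pure (n : ℕ) : CAlgX.UniversallyInjective R (injE R M n) :=
  Groth.Agent.S8772.result R (cosyz R M n)

/-- the quotient maps -/
noncomputable def injQ (n : ℕ) : injX R M n →ₗ[R] cosyz R M (n + 1) :=
  (LinearMap.range (injE R M n)).mkQ

lemma injQ_surjective (n : ℕ) : Function.Surjective (injQ R M n) := Submodule.mkQ_surjective _

lemma exact_injE_injQ (n : ℕ) : Function.Exact (injE R M n) (injQ R M n) :=
  LinearMap.exact_map_mkQ_range (injE R M n)

/-- the differentials -/
noncomputable def injD (n : ℕ) : injX R M n →ₗ[R] injX R M (n + 1) :=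
  injE R M (n + 1) ∘ₗ injQ R M n

lemma injD_comp_injE (n : ℕ) : injD R M n ∘ₗ injE R M n = 0 := by
  rw [injD, LinearMap.comp_assoc, (exact_injE_injQ R M n).linearMap_comp_eq_zero,
    LinearMap.comp_zero]

lemma injD_comp_injD (n : ℕ) : injD R M (n + 1) ∘ₗ injD R M n = 0 := by
  rw [injD, injD, LinearMap.comp_assoc, ← LinearMap.comp_assoc _ _ (injQ R M (n + 1)),
    (exact_injE_injQ R M (n + 1)).linearMap_comp_eq_zero, LinearMap.zero_comp, LinearMap.comp_zero]

lemma exact_injE_injD (n : ℕ) (T : Type u) [AddCommGroup T] [Module R T] :
    Function.Exact ((injE R M n).rTensor T) ((injD R M n).rTensor T) :=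
  exact_rTensor_of_factor (injE R M n) (injQ R M n) (injE R M (n + 1)) (injQ_surjective R M n)
    (exact_injE_injQ R M n) (injE_pure R M (n + 1)) T

lemma exact_injD_injD (n : ℕ) (T : Type u) [AddCommGroup T] [Module R T] :
    Function.Exact ((injD R M n).rTensor T) ((injD R M (n + 1)).rTensor T) := by
  have hex : Function.Exact (injD R M n) (injQ R M (n + 1)) := by
    rw [LinearMap.exact_iff, injD, LinearMap.range_comp,
      LinearMap.range_eq_top.mpr (injQ_surjective R M n), Submodule.map_top]
    exact LinearMap.exact_iff.mp (exact_injE_injQ R M (n + 1))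
  exact exact_rTensor_of_factor (injD R M n) (injQ R M (n + 1)) (injE R M (n + 2))
    (injQ_surjective R M (n + 1)) hex (injE_pure R M (n + 2)) T

lemma injX_pureInj (n : ℕ) : PureInj R (injX R M n) :=
  pureInj_characterModule (CharacterModule (cosyz R M n))

/-- the differentials as morphisms -/
noncomputable def injDm (n : ℕ) : injX R M n ⟶ injX R M (n + 1) := ModuleCat.ofHom (injD R M n)

/-- the first embedding as a morphism -/
noncomputable def injEm : M ⟶ injX R M 0 := ModuleCat.ofHom (injE R M 0)

lemma injDm_hom (n : ℕ) : (injDm R M n).hom = injD R M n := rfl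

lemma injEm_hom : (injEm R M).hom = injE R M 0 := rfl

lemma injDm_comp (n : ℕ) : injDm R M n ≫ injDm R M (n + 1) = 0 := by
  apply ModuleCat.hom_ext
  exact injD_comp_injD R M n

lemma injEm_comp_injDm : injEm R M ≫ injDm R M 0 = 0 := by
  apply ModuleCat.hom_ext
  exact injD_comp_injE R M 0

/-- the canonical pure injective resolution -/
noncomputable def injCx : CochainComplex (ModuleCat.{u} R) ℕ :=
  CochainComplex.of (injX R M) (injDm R M) (injDm_comp R M)

lemma injCx_d (n : ℕ) : (injCx R M).d n (n + 1) = injDm R M n :=
  CochainComplex.of_d _ _ _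

/-- the coaugmentation -/
noncomputable def injη : (CochainComplex.single₀ (ModuleCat.{u} R)).obj M ⟶ injCx R M :=
  (CochainComplex.fromSingle₀Equiv (injCx R M) M).symm ⟨injEm R M, by
    rw [injCx_d]
    exact injEm_comp_injDm R M⟩

lemma injη_f_zero : (injη R M).f 0 = injEm R M := by
  simp [injη]

theorem injη_quasiIso (T : ModuleCat.{u} R) :
    QuasiIso (((MonoidalCategory.tensorRight T).mapHomologicalComplex (ComplexShape.up ℕ)).map
      (injη R M)) := by
  let F := MonoidalCategory.tensorRight T
  let FC := F.mapHomologicalComplex (ComplexShape.up ℕ)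
  refine ⟨fun n => ?_⟩
  cases n with
  | zero =>
    rw [CochainComplex.quasiIsoAt₀_iff, ShortComplex.quasiIso_iff_of_zeros]
    · have hd : (injCx R M).d 0 1 = injDm R M 0 := injCx_d R M 0
      have hη := injη_f_zero R M
      constructor
      · rw [ShortComplex.ShortExact.moduleCat_exact_iff_function_exact]
        change Function.Exact (F.map ((injη R M).f 0)).hom (F.map ((injCx R M).d 0 1)).hom
        rw [hd, hη]
        exact exact_injE_injD R M 0 T
      · change Mono (F.map ((injη R M).f 0))
        rw [hη, ModuleCat.mono_iff_injective]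
        exact injE_pure R M 0 T
    · change F.map (((CochainComplex.single₀ (ModuleCat.{u} R)).obj M).d 0 0) = 0
      rw [HomologicalComplex.single_obj_d, Functor.map_zero]
    · change F.map (((CochainComplex.single₀ (ModuleCat.{u} R)).obj M).d 0 1) = 0
      rw [HomologicalComplex.single_obj_d, Functor.map_zero]
    · change (FC.obj (injCx R M)).d 0 0 = 0
      apply HomologicalComplex.shape
      simp
  | succ n =>
    have hK : (FC.obj ((CochainComplex.single₀ (ModuleCat.{u} R)).obj M)).ExactAt (n + 1) := by
      apply ShortComplex.exact_of_isZero_X₂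
      exact Functor.map_isZero F (HomologicalComplex.isZero_single_obj_X _ _ _ _ (by simp))
    rw [quasiIsoAt_iff_exactAt _ (n + 1) hK,
      HomologicalComplex.exactAt_iff' _ n (n + 1) (n + 2) (by simp) (by simp),
      ShortComplex.ShortExact.moduleCat_exact_iff_function_exact]
    change Function.Exact (F.map ((injCx R M).d n (n + 1))).hom
      (F.map ((injCx R M).d (n + 1) (n + 2))).hom
    rw [injCx_d, injCx_d]
    exact exact_injD_injD R M n T

end Coresolution

end Groth.Agent.Lib.Helper75.PureRes
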