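import Mathlib

/-!
# LL for helper96's S2982: local subgroup of characters
-/

set_option autoImplicit false
universe u
open TensorProduct

namespace Groth.Agent.Lib.Helper75.S2982_LL

section Sub

variable {K : Type u} [CommRing K] {M : Type u} [CommGroup M] (J : Ideal (MonoidAlgebra K M)) (t : K)

/-- the subgroup of `m` with `t • (single m 1 - 1) ∈ J` -/
def HJ : Subgroup M where
  carrier := {m | t • (MonoidAlgebra.single m (1 : K) - 1) ∈ J}
  one_mem' := by
    change t • (MonoidAlgebra.single (1 : M) (1 : K) - 1) ∈ J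
    rw [← MonoidAlgebra.one_def, sub_self, smul_zero]
    exact J.zero_mem
  mul_mem' := by
    intro a b ha hb
    change t • (MonoidAlgebra.single (a * b) (1 : K) - 1) ∈ J
    have h1 : (MonoidAlgebra.single (a * b) (1 : K) - 1 : MonoidAlgebra K M) =
        MonoidAlgebra.single a (1 : K) * (MonoidAlgebra.single b (1 : K) - 1) +
          (MonoidAlgebra.single a (1 : K) - 1) := by
      rw [mul_sub, MonoidAlgebra.single_mul_single, mul_one, mul_one]
      abel
    rw [h1, smul_add, ← mul_smul_comm]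
    exact J.add_mem (J.mul_mem_left _ hb) ha
  inv_mem' := by
    intro a ha
    change t • (MonoidAlgebra.single a⁻¹ (1 : K) - 1) ∈ J
    have h1 : (MonoidAlgebra.single a⁻¹ (1 : K) - 1 : MonoidAlgebra K M) =
        - (MonoidAlgebra.single a⁻¹ (1 : K) * (MonoidAlgebra.single a (1 : K) - 1)) := by
      rw [mul_sub, MonoidAlgebra.single_mul_single, mul_one, mul_one, inv_mul_cancel,
        ← MonoidAlgebra.one_def]
      abel
    rw [h1, smul_neg, ← mul_smul_comm]
    exact J.neg_mem (J.mul_mem_left _ ha)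

theorem mem_HJ (m : M) : m ∈ HJ J t ↔ t • (MonoidAlgebra.single m (1 : K) - 1) ∈ J := Iff.rfl

end Sub

open Classical in
theorem exists_local_subgroup_of {K : Type u} [CommRing K] {M : Type u} [CommGroup M] {C : Type u} [CommRing C] [Bialgebra K C] [Algebra.FiniteType K C] (f : C →ₐc[K] MonoidAlgebra K M) (Q : Ideal K) [Q.IsPrime]
    (hA1 : ∀ (b : M) (c : C), (f c).coeff b • (MonoidAlgebra.single b (1 : K) - 1) ∈ Ideal.map f (RingHom.ker (Bialgebra.counitAlgHom K C)))
    (hA2 : ∀ (b : M) (I : Ideal K), (∀ c : C, (f c).coeff b ∈ I) → ∀ c : C, (f c).coeff b ∈ I * I)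
    (hB : ∀ s : Set C, Algebra.adjoin K s = ⊤ → ∀ (M' : Subgroup M) (I : Ideal K), (∀ x ∈ s, ∀ m : M, m ∉ M' → (f x).coeff m ∈ I) → ∀ (c : C) (m : M), m ∉ M' → (f c).coeff m ∈ I) :
    ∃ (t : K) (M' : Subgroup M), t ∉ Q ∧ (∀ (c : C) (m : M), m ∉ M' → t * (f c).coeff m = 0) ∧ (∀ m ∈ M', t • (MonoidAlgebra.single m (1 : K) - 1) ∈ Ideal.map f (RingHom.ker (Bialgebra.counitAlgHom K C))) := by
  obtain ⟨s, hs⟩ := (Algebra.FiniteType.out : (⊤ : Subalgebra K C).FG)
  set J : Ideal (MonoidAlgebra K M) := Ideal.map f (RingHom.ker (Bialgebra.counitAlgHom K C)) with hJ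
  let F : Finset M := s.biUnion (fun x => (f x).coeff.support)
  let S : Set M := {m | ∃ c : C, (f c).coeff m ∉ Q}
  let M' : Subgroup M := Subgroup.closure ((F : Set M) ∩ S)
  -- chosen witnesses
  let rb : M → K := fun b => if h : b ∈ S then (f (Classical.choose h)).coeff b else 1
  have hrbQ : ∀ b, rb b ∉ Q := by
    intro b
    by_cases h : b ∈ S
    · simp only [rb, dif_pos h]
      exact Classical.choose_spec h
    · simp only [rb, dif_neg h]
      exact fun h1 => Ideal.IsPrime.ne_top' ((Ideal.eq_top_iff_one Q).mpr h1)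
  have hrbJ : ∀ b ∈ S, rb b • (MonoidAlgebra.single b (1 : K) - 1) ∈ J := by
    intro b h
    simp only [rb, dif_pos h]
    exact hA1 b _
  -- the ideal of "bad" coefficients
  let gens : Set K := {y | ∃ x ∈ s, ∃ b ∈ F, b ∉ M' ∧ y = (f x).coeff b}
  have hgensfin : gens.Finite := by
    refine ((s ×ˢ F : Finset (C × M)).finite_toSet.image
      (fun p => (f p.1).coeff p.2)).subset ?_
    rintro y ⟨x, hx, b, hb, -, rfl⟩
    exact ⟨(x, b), by simp [hx, hb], rfl⟩
  let I : Ideal K := Ideal.span gens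
  have hIfg : I.FG := ⟨hgensfin.toFinset, by simp [I]⟩
  have hI1 : ∀ (c : C) (m : M), m ∉ M' → (f c).coeff m ∈ I := by
    refine hB (s : Set C) hs M' I ?_
    intro x hx m hm
    by_cases hmF : m ∈ F
    · exact Ideal.subset_span ⟨x, hx, m, hmF, hm, rfl⟩
    · have : (f x).coeff m = 0 := by
        by_contra h0
        exact hmF (Finset.mem_biUnion.mpr ⟨x, hx, Finsupp.mem_support_iff.mpr h0⟩)
      rw [this]
      exact I.zero_mem
  have hI2 : I ≤ Q := by
    refine Ideal.span_le.mpr ?_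
    rintro y ⟨x, -, b, hb, hbM', rfl⟩
    by_contra hy
    exact hbM' (Subgroup.subset_closure ⟨hb, ⟨x, hy⟩⟩)
  have hI3 : I ≤ I * I := by
    refine Ideal.span_le.mpr ?_
    rintro y ⟨x, -, b, -, hbM', rfl⟩
    exact hA2 b I (fun c => hI1 c b hbM') x
  obtain ⟨r, hr1, hr2⟩ := Submodule.exists_sub_one_mem_and_smul_eq_zero_of_fg_of_le_smul I I hIfg
    (by rw [smul_eq_mul]; exact hI3)
  have hrQ : r ∉ Q := by
    intro h
    have h1 : (1 : K) ∈ Q := by
      have := Q.sub_mem h (hI2 hr1)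
      simpa using this
    exact Ideal.IsPrime.ne_top' ((Ideal.eq_top_iff_one Q).mpr h1)
  let Fs : Finset M := F.filter (· ∈ S)
  let t : K := r * ∏ b ∈ Fs, rb b
  have htQ : t ∉ Q := by
    intro h
    rcases Ideal.IsPrime.mem_or_mem ‹Q.IsPrime› h with h | h
    · exact hrQ h
    · obtain ⟨b, -, hb⟩ := (Ideal.IsPrime.prod_mem_iff).mp h
      exact hrbQ b hb
  refine ⟨t, M', htQ, ?_, ?_⟩
  · intro c m hm
    have h1 : r * (f c).coeff m = 0 := hr2 _ (hI1 c m hm)
    change r * (∏ b ∈ Fs, rb b) * (f c).coeff m = 0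
    rw [mul_right_comm, h1, zero_mul]
  · have hle : M' ≤ HJ J t := by
      refine (Subgroup.closure_le _).mpr ?_
      rintro b ⟨hbF, hbS⟩
      change t • (MonoidAlgebra.single b (1 : K) - 1) ∈ J
      have hbFs : b ∈ Fs := Finset.mem_filter.mpr ⟨hbF, hbS⟩
      obtain ⟨u, hu⟩ := Finset.dvd_prod_of_mem rb hbFs
      have ht : t = (r * u) * rb b := by
        change r * (∏ b ∈ Fs, rb b) = _
        rw [hu]; ring
      rw [ht, mul_smul]
      exact Submodule.smul_of_tower_mem J (r * u) (hrbJ b hbS)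
    intro m hm
    exact hle hm

end Groth.Agent.Lib.Helper75.S2982_LL
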