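import Mathlib.RingTheory.Flat.EquationalCriterion
import Mathlib.Algebra.Ring.Subring.Basic
import Mathlib.Algebra.Module.Submodule.Defs

/-!
# Flatness over a "semi-valuation" subring by lattice elimination

Abstract form: `O ⊆ A` a subring, `P` a flat `A`-module, `C` an `O`-module embedded in `P`
compatibly, such that (V1) finite families in `A` have a "dominant" entry modulo `O` and (V2) every
element of `P` can be moved into `C` by a unit of `A` lying in `O`.  Then `C` is flat over `O`.
-/

set_option autoImplicit false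
universe u v w

namespace Groth.Agent.Lib.Helper75.SVFlat

open Module

variable {A : Type u} [CommRing A] (O : Subring A) {P : Type v} [AddCommGroup P] [Module A P]
  {C : Type w} [AddCommGroup C] [Module O C]

/-- one elimination step -/
lemma step (ι : C →+ P) {l k : ℕ} (f : Fin l → O) (x : Fin l → C)
    (a : Fin l → Fin k → A) (c : Fin k → C)
    (h1 : ∀ i, ι (x i) = ∑ j, a i j • ι (c j)) (h2 : ∀ j, ∑ i, (f i : A) * a i j = 0)
    (i0 : Fin l) (j0 : Fin k) (t : A) (ht : a i0 j0 * t = 1) :
    (∀ i, ι (x i) = ∑ j, (if j = j0 then a i j0 * t else a i j - a i j0 * t * a i0 j) •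
        ι (if j = j0 then x i0 else c j)) ∧
    (∀ j, ∑ i, (f i : A) * (if j = j0 then a i j0 * t else a i j - a i j0 * t * a i0 j) = 0) := by
  constructor
  · intro i
    have e0 := h1 i0
    have ei := h1 i
    rw [← Finset.add_sum_erase Finset.univ _ (Finset.mem_univ j0)] at e0 ei ⊢
    have hsum : ∑ j ∈ Finset.univ.erase j0,
        (if j = j0 then a i j0 * t else a i j - a i j0 * t * a i0 j) •
          ι (if j = j0 then x i0 else c j) =
        ∑ j ∈ Finset.univ.erase j0, (a i j - a i j0 * t * a i0 j) • ι (c j) := by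
      apply Finset.sum_congr rfl
      intro j hj
      have hne : j ≠ j0 := Finset.ne_of_mem_erase hj
      rw [if_neg hne, if_neg hne]
    rw [hsum, if_pos rfl, if_pos rfl, e0, ei]
    simp only [sub_smul, Finset.sum_sub_distrib, smul_add, Finset.smul_sum, smul_smul]
    have h3 : a i j0 * t * a i0 j0 = a i j0 := by rw [mul_assoc, mul_comm t, ht, mul_one]
    rw [h3]
    abel
  · intro j
    by_cases hj : j = j0
    · simp only [if_pos hj]
      calc ∑ i, (f i : A) * (a i j0 * t) = (∑ i, (f i : A) * a i j0) * t := by
            rw [Finset.sum_mul]; apply Finset.sum_congr rfl; intros; ring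
        _ = 0 := by rw [h2 j0, zero_mul]
    · simp only [if_neg hj]
      calc ∑ i, (f i : A) * (a i j - a i j0 * t * a i0 j)
          = (∑ i, (f i : A) * a i j) - (∑ i, (f i : A) * a i j0) * (t * a i0 j) := by
            rw [Finset.sum_mul, ← Finset.sum_sub_distrib]
            apply Finset.sum_congr rfl; intros; ring
        _ = 0 := by rw [h2 j, h2 j0, zero_mul, sub_zero]

theorem flat_of_lattice (ι : C →+ P) (hι : Function.Injective ι)
    (hsmul : ∀ (o : O) (c : C), ι (o • c) = (o : A) • ι c)
    (V1 : ∀ (k : ℕ) (u : Fin k → A), (∀ j, u j ∈ O) ∨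
      ∃ (j0 : Fin k) (t : A), u j0 * t = 1 ∧ t ∈ O ∧ ∀ j, u j * t ∈ O)
    (V2 : ∀ p : P, ∃ s t : A, s ∈ O ∧ s * t = 1 ∧ ∃ c : C, s • p = ι c)
    [Module.Flat A P] : Module.Flat O C := by
  apply Module.Flat.of_forall_isTrivialRelation
  intro l f x hfx
  have hP : ∑ i, (f i : A) • ι (x i) = 0 := by
    have := congrArg ι hfx
    rw [map_sum, map_zero] at this
    rw [← this]
    apply Finset.sum_congr rfl
    intro i _
    rw [hsmul]
  obtain ⟨k, a, y, hxy, hfa⟩ := Module.Flat.isTrivialRelation_of_sum_smul_eq_zero hP
  beta_reduce at hxy hfa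
  choose s t hs hst c hc using fun j => V2 (y j)
  have key : ∀ T : Finset (Fin l), ∃ (a' : Fin l → Fin k → A) (c' : Fin k → C),
      (∀ i, ι (x i) = ∑ j, a' i j • ι (c' j)) ∧ (∀ j, ∑ i, (f i : A) * a' i j = 0) ∧
      (∀ i ∈ T, ∀ j, a' i j ∈ O) := by
    intro T
    induction T using Finset.induction_on with
    | empty =>
      refine ⟨fun i j => a i j * t j, c, ?_, ?_, ?_⟩
      · intro i
        beta_reduce
        rw [hxy i]
        apply Finset.sum_congr rfl
        intro j _
        rw [← hc j, smul_smul, mul_assoc, mul_comm (t j), hst j, mul_one]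
      · intro j
        beta_reduce
        calc ∑ i, (f i : A) * (a i j * t j) = (∑ i, (f i : A) * a i j) * t j := by
              rw [Finset.sum_mul]; apply Finset.sum_congr rfl; intros; ring
          _ = 0 := by rw [hfa j, zero_mul]
      · intro i hi; exact absurd hi (Finset.notMem_empty i)
    | insert i0 T hi0 ih =>
      obtain ⟨a', c', h1, h2, h3⟩ := ih
      rcases V1 k (a' i0) with hall | ⟨j0, t0, ht0, ht0O, hall⟩
      · refine ⟨a', c', h1, h2, ?_⟩
        intro i hi j
        rcases Finset.mem_insert.mp hi with rfl | hi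
        · exact hall j
        · exact h3 i hi j
      · obtain ⟨h1', h2'⟩ := step O ι f x a' c' h1 h2 i0 j0 t0 ht0
        refine ⟨fun i j => if j = j0 then a' i j0 * t0 else a' i j - a' i j0 * t0 * a' i0 j,
          fun j => if j = j0 then x i0 else c' j, h1', h2', ?_⟩
        intro i hi j
        rcases Finset.mem_insert.mp hi with rfl | hi
        · by_cases hj : j = j0
          · simp only [if_pos hj]
            rw [ht0]; exact O.one_mem
          · simp only [if_neg hj]
            rw [ht0, one_mul, sub_self]; exact O.zero_mem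
        · by_cases hj : j = j0
          · simp only [if_pos hj]
            exact O.mul_mem (h3 i hi j0) ht0O
          · simp only [if_neg hj]
            have e : a' i j0 * t0 * a' i0 j = a' i j0 * (a' i0 j * t0) := by ring
            rw [e]
            exact O.sub_mem (h3 i hi j) (O.mul_mem (h3 i hi j0) (hall j))
  obtain ⟨a', c', h1, h2, h3⟩ := key Finset.univ
  refine ⟨k, fun i j => ⟨a' i j, h3 i (Finset.mem_univ i) j⟩, c', ?_, ?_⟩
  · intro i
    apply hι
    rw [h1 i, map_sum]
    apply Finset.sum_congr rfl
    intro j _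
    rw [hsmul]
  · intro j
    have := h2 j
    apply Subtype.ext
    simpa [AddSubmonoidClass.coe_finset_sum] using this

end Groth.Agent.Lib.Helper75.SVFlat
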