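import Mathlib
import Groth.Agent.Lib.Helper75.SVFlat
import Groth.Agent.Lib.Helper58.NagataFP

set_option autoImplicit false
universe u

open TensorProduct

namespace Groth.Agent.Lib.Helper75.SVMain

noncomputable section

variable (A : Type u) [CommRing A] [IsLocalRing A] (R : ValuationSubring (IsLocalRing.ResidueField A))

/-- the semi-valuation ring -/
abbrev OO : Subring A := R.toSubring.comap (IsLocalRing.residue A)

/-- the semi-valuation -/
def wv (a : A) : R.ValueGroup := R.valuation (IsLocalRing.residue A a)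

lemma wv_mul (a b : A) : wv A R (a * b) = wv A R a * wv A R b := by simp [wv]

lemma wv_one : wv A R 1 = 1 := by simp [wv]

lemma mem_OO_iff (a : A) : a ∈ OO A R ↔ wv A R a ≤ 1 := by
  rw [Subring.mem_comap, ValuationSubring.mem_toSubring, ← ValuationSubring.valuation_le_one_iff]
  rfl

lemma isUnit_of_wv_ne_zero (a : A) (h : wv A R a ≠ 0) : IsUnit a := by
  by_contra hu
  apply h
  have h1 : a ∈ IsLocalRing.maximalIdeal A := (IsLocalRing.mem_maximalIdeal a).mpr hu
  have h2 : IsLocalRing.residue A a = 0 := (IsLocalRing.residue_eq_zero_iff a).mpr h1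
  simp [wv, h2]

lemma maximalIdeal_le (a : A) (ha : a ∈ IsLocalRing.maximalIdeal A) : a ∈ OO A R := by
  rw [mem_OO_iff]
  have h2 : IsLocalRing.residue A a = 0 := (IsLocalRing.residue_eq_zero_iff a).mpr ha
  simp [wv, h2]

lemma V1 (k : ℕ) (u : Fin k → A) : (∀ j, u j ∈ OO A R) ∨
    ∃ (j0 : Fin k) (t : A), u j0 * t = 1 ∧ t ∈ OO A R ∧ ∀ j, u j * t ∈ OO A R := by
  by_cases hall : ∀ j, u j ∈ OO A R
  · exact Or.inl hall
  · right
    push Not at hall
    obtain ⟨j1, hj1⟩ := hall
    haveI : Nonempty (Fin k) := ⟨j1⟩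
    obtain ⟨j0, hj0⟩ := Finite.exists_max (fun j => wv A R (u j))
    have h1 : 1 < wv A R (u j0) := by
      have := (mem_OO_iff A R (u j1)).not.mp hj1
      exact lt_of_lt_of_le (not_le.mp this) (hj0 j1)
    have hpos : 0 < wv A R (u j0) := lt_trans zero_lt_one h1
    have hu : IsUnit (u j0) := isUnit_of_wv_ne_zero A R _ (ne_of_gt hpos)
    obtain ⟨v, hv⟩ := hu
    have hmul : u j0 * ↑v⁻¹ = 1 := by rw [← hv]; exact v.mul_inv
    have hw : wv A R (↑v⁻¹ : A) = (wv A R (u j0))⁻¹ := by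
      have := congrArg (wv A R) hmul
      rw [wv_mul, wv_one] at this
      exact eq_inv_of_mul_eq_one_right this
    refine ⟨j0, ↑v⁻¹, hmul, ?_, ?_⟩
    · rw [mem_OO_iff, hw]
      exact inv_le_one_of_one_le₀ h1.le
    · intro j
      rw [mem_OO_iff, wv_mul, hw, mul_inv_le_iff₀ hpos, one_mul]
      exact hj0 j

variable {A R}
variable (C : Type u) [AddCommGroup C] [Module (OO A R) C]

lemma one_tmul_smul (o : OO A R) (c : C) :
    (1 : A) ⊗ₜ[OO A R] (o • c) = (o : A) • ((1 : A) ⊗ₜ[OO A R] c) := by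
  rw [TensorProduct.smul_tmul', ← TensorProduct.smul_tmul]
  congr 1

lemma V2 (p : A ⊗[OO A R] C) : ∃ s t : A, s ∈ OO A R ∧ s * t = 1 ∧
    ∃ c : C, s • p = (1 : A) ⊗ₜ[OO A R] c := by
  induction p using TensorProduct.induction_on with
  | zero => exact ⟨1, 1, Subring.one_mem _, one_mul 1, 0, by simp⟩
  | tmul a c =>
    rcases V1 A R 1 (fun _ => a) with h | ⟨_, t, hat, htO, -⟩
    · refine ⟨1, 1, Subring.one_mem _, one_mul 1, (⟨a, h 0⟩ : OO A R) • c, ?_⟩
      rw [one_smul, one_tmul_smul, TensorProduct.smul_tmul', smul_eq_mul, mul_one]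
    · refine ⟨t, a, htO, by rw [mul_comm]; exact hat, c, ?_⟩
      rw [TensorProduct.smul_tmul', smul_eq_mul, mul_comm, hat]
  | add p q hp hq =>
    obtain ⟨s1, t1, hs1, h1, c1, e1⟩ := hp
    obtain ⟨s2, t2, hs2, h2, c2, e2⟩ := hq
    refine ⟨s1 * s2, t1 * t2, Subring.mul_mem _ hs1 hs2, by rw [mul_mul_mul_comm, h1, h2, one_mul],
      (⟨s2, hs2⟩ : OO A R) • c1 + (⟨s1, hs1⟩ : OO A R) • c2, ?_⟩
    rw [smul_add, TensorProduct.tmul_add, one_tmul_smul, one_tmul_smul, ← e1, ← e2, smul_smul,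
      smul_smul, mul_comm s2 s1]

theorem flat_C (hadm : Function.Injective (fun c : C => (1 : A) ⊗ₜ[OO A R] c))
    [Module.Flat A (A ⊗[OO A R] C)] : Module.Flat (OO A R) C := by
  refine SVFlat.flat_of_lattice (OO A R) (P := A ⊗[OO A R] C)
    ((TensorProduct.mk (OO A R) A C 1).toAddMonoidHom) hadm ?_ (V1 A R) ?_
  · intro o c
    exact one_tmul_smul C o c
  · intro p
    exact V2 C p


/-! ### finite presentation -/

section fp

/-- reduction map `O → R` -/
def rho : OO A R →+* R :=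
  ((IsLocalRing.residue A).comp (OO A R).subtype).codRestrict R (fun x => x.2)

lemma rho_surjective : Function.Surjective (rho (A := A) (R := R)) := by
  intro r
  obtain ⟨a, ha⟩ := IsLocalRing.residue_surjective (r : IsLocalRing.ResidueField A)
  have haO : a ∈ OO A R := by
    change IsLocalRing.residue A a ∈ R.toSubring
    rw [ha]; exact r.2
  exact ⟨⟨a, haO⟩, Subtype.ext ha⟩

lemma mem_ker_rho (o : OO A R) :
    o ∈ RingHom.ker (rho (A := A) (R := R)) ↔ (o : A) ∈ IsLocalRing.maximalIdeal A := by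
  rw [RingHom.mem_ker, ← IsLocalRing.residue_eq_zero_iff]
  constructor
  · intro h
    exact congrArg Subtype.val h
  · intro h
    exact Subtype.ext h

lemma exists_inv_of_rho_ne_zero (o : OO A R) (ho : rho o ≠ 0) : ∃ t : A, (o : A) * t = 1 := by
  have h1 : (o : A) ∉ IsLocalRing.maximalIdeal A := fun h => ho ((mem_ker_rho o).mpr h)
  have hu : IsUnit (o : A) := IsLocalRing.notMem_maximalIdeal.mp h1
  obtain ⟨v, hv⟩ := hu
  exact ⟨↑v⁻¹, by rw [← hv]; exact v.mul_inv⟩

/-- `μ * t` for `μ` in the kernel of `rho` -/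
def mulm (μ : OO A R) (hμ : μ ∈ RingHom.ker (rho (A := A) (R := R))) (t : A) : OO A R :=
  ⟨(μ : A) * t, maximalIdeal_le A R _ (Ideal.mul_mem_right t _ ((mem_ker_rho μ).mp hμ))⟩

lemma mulm_mem (μ : OO A R) (hμ : μ ∈ RingHom.ker (rho (A := A) (R := R))) (t : A) :
    mulm μ hμ t ∈ RingHom.ker (rho (A := A) (R := R)) :=
  (mem_ker_rho _).mpr (Ideal.mul_mem_right t _ ((mem_ker_rho μ).mp hμ))

lemma ker_rho_eq (o : OO A R) (ho : rho o ≠ 0) :
    RingHom.ker (rho (A := A) (R := R)) = Ideal.span {o} * RingHom.ker (rho (A := A) (R := R)) := by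
  apply le_antisymm
  · intro μ hμ
    obtain ⟨t, ht⟩ := exists_inv_of_rho_ne_zero o ho
    rw [Ideal.mem_span_singleton_mul]
    refine ⟨mulm μ hμ t, mulm_mem μ hμ t, ?_⟩
    apply Subtype.ext
    change (o : A) * ((μ : A) * t) = μ
    rw [mul_left_comm, ht, mul_one]
  · exact Ideal.mul_le_right

variable {n : ℕ}

lemma mem_map_C_ker_rho (o : OO A R) (ho : rho o ≠ 0) (h : MvPolynomial (Fin n) (OO A R))
    (hh : h ∈ Ideal.map (MvPolynomial.C : OO A R →+* MvPolynomial (Fin n) (OO A R))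
      (RingHom.ker (rho (A := A) (R := R)))) :
    ∃ h' ∈ Ideal.map (MvPolynomial.C : OO A R →+* MvPolynomial (Fin n) (OO A R))
      (RingHom.ker (rho (A := A) (R := R))), o • h' = h := by
  rw [ker_rho_eq o ho, Ideal.map_mul, Ideal.map_span, Set.image_singleton,
    Ideal.mem_span_singleton_mul] at hh
  obtain ⟨z, hz, rfl⟩ := hh
  exact ⟨z, hz, by rw [MvPolynomial.smul_eq_C_mul]⟩

variable {C : Type u} [CommRing C] [Algebra (OO A R) C]

lemma smul_injective_of_inv (hadm : Function.Injective (fun c : C => (1 : A) ⊗ₜ[OO A R] c))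
    (o : OO A R) (t : A) (hot : (o : A) * t = 1) (c : C) (hc : o • c = 0) : c = 0 := by
  apply hadm
  change (1 : A) ⊗ₜ[OO A R] c = (1 : A) ⊗ₜ[OO A R] (0 : C)
  rw [TensorProduct.tmul_zero]
  have h1 := one_tmul_smul C o c
  rw [hc, TensorProduct.tmul_zero] at h1
  have h2 := congrArg (fun z => t • z) h1
  simp only [smul_zero, smul_smul] at h2
  rw [mul_comm, hot, one_smul] at h2
  exact h2.symm

lemma torsionFree_JR (hadm : Function.Injective (fun c : C => (1 : A) ⊗ₜ[OO A R] c))
    (φ : MvPolynomial (Fin n) (OO A R) →ₐ[OO A R] C) (r : R) (hr : r ≠ 0)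
    (p : MvPolynomial (Fin n) R)
    (hp : r • p ∈ Ideal.map (MvPolynomial.map (σ := Fin n) (rho (A := A) (R := R)))
      (RingHom.ker φ.toRingHom)) :
    p ∈ Ideal.map (MvPolynomial.map (σ := Fin n) (rho (A := A) (R := R)))
      (RingHom.ker φ.toRingHom) := by
  have hsurj' : Function.Surjective (MvPolynomial.map (σ := Fin n) (rho (A := A) (R := R))) :=
    MvPolynomial.map_surjective _ rho_surjective
  obtain ⟨o, rfl⟩ := rho_surjective r
  obtain ⟨P, rfl⟩ := hsurj' p
  have e : rho o • MvPolynomial.map (σ := Fin n) (rho (A := A) (R := R)) P =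
      MvPolynomial.map (σ := Fin n) (rho (A := A) (R := R)) (o • P) := by
    rw [MvPolynomial.smul_eq_C_mul, MvPolynomial.smul_eq_C_mul, map_mul, MvPolynomial.map_C]
  rw [e, Ideal.mem_map_iff_of_surjective _ hsurj'] at hp
  obtain ⟨g, hg, hge⟩ := hp
  have hk : o • P - g ∈ RingHom.ker (MvPolynomial.map (σ := Fin n) (rho (A := A) (R := R))) := by
    rw [RingHom.mem_ker, map_sub, hge, sub_self]
  rw [MvPolynomial.ker_map] at hk
  obtain ⟨h', hh', hoh'⟩ := mem_map_C_ker_rho o hr _ hk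
  have hg2 : o • (P - h') ∈ RingHom.ker φ.toRingHom := by
    rw [smul_sub, hoh', sub_sub_cancel]; exact hg
  have hPh : P - h' ∈ RingHom.ker φ.toRingHom := by
    rw [RingHom.mem_ker] at hg2 ⊢
    obtain ⟨t, ht⟩ := exists_inv_of_rho_ne_zero o hr
    apply smul_injective_of_inv hadm o t ht
    rw [← hg2]
    exact (map_smul φ o (P - h')).symm
  rw [Ideal.mem_map_iff_of_surjective _ hsurj']
  refine ⟨P - h', hPh, ?_⟩
  have h0 : MvPolynomial.map (σ := Fin n) (rho (A := A) (R := R)) h' = 0 := by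
    rw [← RingHom.mem_ker, MvPolynomial.ker_map]; exact hh'
  rw [map_sub, h0, sub_zero]

end fp

section fp2

variable {n : ℕ} {C : Type u} [CommRing C] [Algebra (OO A R) C]

lemma JR_fg (hadm : Function.Injective (fun c : C => (1 : A) ⊗ₜ[OO A R] c))
    (φ : MvPolynomial (Fin n) (OO A R) →ₐ[OO A R] C) :
    (Ideal.map (MvPolynomial.map (σ := Fin n) (rho (A := A) (R := R)))
      (RingHom.ker φ.toRingHom)).FG := by
  set JR := Ideal.map (MvPolynomial.map (σ := Fin n) (rho (A := A) (R := R)))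
      (RingHom.ker φ.toRingHom) with hJR
  have hfp : Module.FinitePresentation (MvPolynomial (Fin n) R) (MvPolynomial (Fin n) R ⧸ JR) := by
    refine Groth.Agent.Lib.Helper58.NagataFP.finitePresentation_of_finiteType R
      (MvPolynomial (Fin n) R) (MvPolynomial (Fin n) R ⧸ JR) ?_
    intro r hr m hm
    obtain ⟨p, rfl⟩ := Ideal.Quotient.mk_surjective m
    have h1 : r • (Ideal.Quotient.mk JR p) = Ideal.Quotient.mk JR (r • p) := rfl
    rw [h1, Ideal.Quotient.eq_zero_iff_mem] at hm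
    rw [Ideal.Quotient.eq_zero_iff_mem]
    exact torsionFree_JR hadm φ r hr p hm
  have := Module.FinitePresentation.fg_ker (Submodule.mkQ JR) (Submodule.mkQ_surjective JR)
  rwa [Submodule.ker_mkQ] at this

omit [IsLocalRing A] in
lemma exists_finset_of_map_fg {S T : Type*} [CommRing S] [CommRing T] (f : S →+* T) (I : Ideal S)
    (h : (I.map f).FG) :
    ∃ G : Finset S, (G : Set S) ⊆ I ∧ I.map f = Ideal.span (f '' (G : Set S)) := by
  classical
  obtain ⟨s', hs', hspan⟩ := (Submodule.fg_span_iff_fg_span_finset_subset (f '' (I : Set S))).mp h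
  obtain ⟨G, hG, rfl⟩ := Finset.subset_set_image_iff.mp hs'
  refine ⟨G, hG, ?_⟩
  rw [Finset.coe_image] at hspan
  exact hspan

lemma mem_smul_of_flat [Module.Flat (OO A R) C]
    (φ : MvPolynomial (Fin n) (OO A R) →ₐ[OO A R] C) (hφ : Function.Surjective φ)
    (𝔞 : Ideal (OO A R)) (z : MvPolynomial (Fin n) (OO A R)) (hzJ : z ∈ RingHom.ker φ.toRingHom)
    (hz : z ∈ Ideal.map (MvPolynomial.C : OO A R →+* MvPolynomial (Fin n) (OO A R)) 𝔞) :
    ∃ (ι : Type) (_ : Fintype ι) (μ : ι → OO A R) (e : ι → MvPolynomial (Fin n) (OO A R)),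
      (∀ v, μ v ∈ 𝔞) ∧ (∀ v, e v ∈ RingHom.ker φ.toRingHom) ∧ z = ∑ v, μ v • e v := by
  classical
  let ι := ↥z.support
  let μ : ι → OO A R := fun v => z.coeff v.1
  let mon : ι → MvPolynomial (Fin n) (OO A R) := fun v => MvPolynomial.monomial v.1 1
  have hz_sum : z = ∑ v : ι, μ v • mon v := by
    conv_lhs => rw [MvPolynomial.as_sum z]
    rw [← Finset.sum_coe_sort z.support]
    apply Finset.sum_congr rfl
    intro v _
    simp [μ, mon, MvPolynomial.smul_monomial]
  have hrel : ∑ v : ι, μ v • φ (mon v) = 0 := by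
    have h1 := congrArg φ hz_sum
    rw [map_sum] at h1
    simp only [map_smul] at h1
    rw [← h1]
    exact hzJ
  obtain ⟨k, a, y, hxy, hfa⟩ := Module.Flat.isTrivialRelation_of_sum_smul_eq_zero
    (R := OO A R) (M := C) (f := μ) (x := fun v => φ (mon v)) hrel
  beta_reduce at hxy hfa
  choose Y hY using fun j => hφ (y j)
  refine ⟨ι, inferInstance, μ, fun v => mon v - ∑ j, a v j • Y j,
    fun v => (MvPolynomial.mem_map_C_iff.mp hz) v.1, ?_, ?_⟩
  · intro v
    rw [RingHom.mem_ker]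
    change φ _ = 0
    rw [map_sub, map_sum]
    simp only [map_smul, hY]
    rw [← hxy v, sub_self]
  · simp only [smul_sub, Finset.sum_sub_distrib]
    rw [← hz_sum]
    have h0 : ∑ v : ι, μ v • ∑ j, a v j • Y j = 0 := by
      simp only [Finset.smul_sum, smul_smul]
      rw [Finset.sum_comm]
      apply Finset.sum_eq_zero
      intro j _
      rw [← Finset.sum_smul, hfa j, zero_smul]
    rw [h0, sub_zero]

lemma inclR_injective_of_flat (M : Type u) [AddCommGroup M] [Module (OO A R) M]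
    [Module.Flat (OO A R) M] : Function.Injective (fun c : M => (1 : A) ⊗ₜ[OO A R] c) := by
  have h1 : Function.Injective (LinearMap.rTensor M (Algebra.linearMap (OO A R) A)) :=
    Module.Flat.rTensor_preserves_injective_linearMap _ Subtype.val_injective
  intro c c' h
  have h2 : LinearMap.rTensor M (Algebra.linearMap (OO A R) A) ((1 : OO A R) ⊗ₜ c) =
      LinearMap.rTensor M (Algebra.linearMap (OO A R) A) ((1 : OO A R) ⊗ₜ c') := by
    simpa using h
  have h3 := congrArg (TensorProduct.lid (OO A R) M) (h1 h2)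
  simpa using h3

lemma descend_span (G : Finset (MvPolynomial (Fin n) (OO A R)))
    (y : A ⊗[OO A R] MvPolynomial (Fin n) (OO A R))
    (hy : y ∈ Ideal.span ((fun p => (1 : A) ⊗ₜ[OO A R] p) '' (G : Set (MvPolynomial (Fin n) (OO A R))))) :
    ∃ s t : A, s ∈ OO A R ∧ s * t = 1 ∧
      ∃ p ∈ Ideal.span (G : Set (MvPolynomial (Fin n) (OO A R))), s • y = (1 : A) ⊗ₜ[OO A R] p := by
  induction hy using Submodule.span_induction with
  | mem y hy =>
    obtain ⟨g, hg, rfl⟩ := hy
    exact ⟨1, 1, Subring.one_mem _, one_mul 1, g, Ideal.subset_span hg, one_smul _ _⟩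
  | zero => exact ⟨1, 1, Subring.one_mem _, one_mul 1, 0, Submodule.zero_mem _, by simp⟩
  | add y z _ _ hy hz =>
    obtain ⟨s1, t1, hs1, h1, p1, hp1, e1⟩ := hy
    obtain ⟨s2, t2, hs2, h2, p2, hp2, e2⟩ := hz
    refine ⟨s1 * s2, t1 * t2, Subring.mul_mem _ hs1 hs2,
      by rw [mul_mul_mul_comm, h1, h2, one_mul],
      (⟨s2, hs2⟩ : OO A R) • p1 + (⟨s1, hs1⟩ : OO A R) • p2, ?_, ?_⟩
    · refine Submodule.add_mem _ ?_ ?_
      · rw [MvPolynomial.smul_eq_C_mul]; exact Ideal.mul_mem_left _ _ hp1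
      · rw [MvPolynomial.smul_eq_C_mul]; exact Ideal.mul_mem_left _ _ hp2
    · rw [smul_add, TensorProduct.tmul_add, one_tmul_smul, one_tmul_smul, ← e1, ← e2, smul_smul,
        smul_smul, mul_comm s2 s1]
  | smul q y _ hy =>
    obtain ⟨s1, t1, hs1, h1, p1, hp1, e1⟩ := hy
    obtain ⟨s2, t2, hs2, h2, p2, e2⟩ := V2 (MvPolynomial (Fin n) (OO A R)) q
    refine ⟨s2 * s1, t2 * t1, Subring.mul_mem _ hs2 hs1,
      by rw [mul_mul_mul_comm, h2, h1, one_mul], p2 * p1, Ideal.mul_mem_left _ _ hp1, ?_⟩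
    rw [smul_eq_mul, ← smul_mul_smul_comm, e1, e2, Algebra.TensorProduct.tmul_mul_tmul, one_mul]

end fp2

section fp3

variable {C : Type u} [CommRing C] [Algebra (OO A R) C]

theorem fp_C [Algebra.FiniteType (OO A R) C]
    (hadm : Function.Injective (fun c : C => (1 : A) ⊗ₜ[OO A R] c))
    [Module.Flat (OO A R) C] (hfp : Algebra.FinitePresentation A (A ⊗[OO A R] C)) :
    Algebra.FinitePresentation (OO A R) C := by
  classical
  obtain ⟨n, φ, hφ⟩ := Algebra.FiniteType.iff_quotient_mvPolynomial''.mp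
    (inferInstance : Algebra.FiniteType (OO A R) C)
  -- A side
  let ψ : A ⊗[OO A R] MvPolynomial (Fin n) (OO A R) →ₐ[A] A ⊗[OO A R] C :=
    Algebra.TensorProduct.map (AlgHom.id A A) φ
  have hψ : Function.Surjective ψ :=
    Algebra.TensorProduct.map_surjective _ _ Function.surjective_id hφ
  have hkerψ : (RingHom.ker ψ.toRingHom).FG :=
    Algebra.FinitePresentation.ker_fG_of_surjective ψ hψ
  have hker_eq : RingHom.ker ψ.toRingHom = (RingHom.ker φ.toRingHom).map
      (Algebra.TensorProduct.includeRight :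
        MvPolynomial (Fin n) (OO A R) →ₐ[OO A R]
          A ⊗[OO A R] MvPolynomial (Fin n) (OO A R)).toRingHom := by
    have h := Algebra.TensorProduct.lTensor_ker (A := A) φ hφ
    apply Ideal.ext
    intro x
    exact Ideal.ext_iff.mp h x
  rw [hker_eq] at hkerψ
  obtain ⟨GA, hGA, hGAspan⟩ := exists_finset_of_map_fg _ (RingHom.ker φ.toRingHom) hkerψ
  -- R side
  obtain ⟨GR, hGR, hGRspan⟩ := exists_finset_of_map_fg _ (RingHom.ker φ.toRingHom) (JR_fg hadm φ)
  have hle : RingHom.ker φ.toRingHom ≤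
      Ideal.span (GR : Set (MvPolynomial (Fin n) (OO A R))) ⊔
        Ideal.span (GA : Set (MvPolynomial (Fin n) (OO A R))) := by
    intro x hx
    have hsurj' := MvPolynomial.map_surjective (σ := Fin n) _ (rho_surjective (A := A) (R := R))
    have h1 : MvPolynomial.map (σ := Fin n) (rho (A := A) (R := R)) x ∈
        Ideal.map (MvPolynomial.map (σ := Fin n) (rho (A := A) (R := R)))
          (RingHom.ker φ.toRingHom) := Ideal.mem_map_of_mem _ hx
    rw [hGRspan, ← Ideal.map_span, Ideal.mem_map_iff_of_surjective _ hsurj'] at h1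
    obtain ⟨x', hx', hxx'⟩ := h1
    have hx'J : x' ∈ RingHom.ker φ.toRingHom := (Ideal.span_le.mpr hGR) hx'
    have hzJ : x - x' ∈ RingHom.ker φ.toRingHom := Ideal.sub_mem _ hx hx'J
    have hzk : x - x' ∈ Ideal.map (MvPolynomial.C : OO A R →+* MvPolynomial (Fin n) (OO A R))
        (RingHom.ker (rho (A := A) (R := R))) := by
      rw [← MvPolynomial.ker_map, RingHom.mem_ker, map_sub, hxx', sub_self]
    obtain ⟨ι, _, μ, e, hμ, he, hsum⟩ := mem_smul_of_flat φ hφ _ _ hzJ hzk
    have hz : x - x' ∈ Ideal.span (GA : Set (MvPolynomial (Fin n) (OO A R))) := by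
      rw [hsum]
      apply Submodule.sum_mem
      intro v _
      have h2 : (1 : A) ⊗ₜ[OO A R] (e v) ∈ Ideal.span ((fun p => (1 : A) ⊗ₜ[OO A R] p) ''
          (GA : Set (MvPolynomial (Fin n) (OO A R)))) := by
        have h2' := Ideal.mem_map_of_mem (Algebra.TensorProduct.includeRight :
              MvPolynomial (Fin n) (OO A R) →ₐ[OO A R]
                A ⊗[OO A R] MvPolynomial (Fin n) (OO A R)).toRingHom (he v)
        rw [hGAspan] at h2'
        exact h2'
      obtain ⟨s, t, hs, hst, p, hp, hsp⟩ := descend_span GA _ h2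
      have h3 : (⟨s, hs⟩ : OO A R) • e v = p := by
        apply inclR_injective_of_flat (A := A) (R := R) (MvPolynomial (Fin n) (OO A R))
        change (1 : A) ⊗ₜ[OO A R] ((⟨s, hs⟩ : OO A R) • e v) = (1 : A) ⊗ₜ[OO A R] p
        rw [one_tmul_smul]
        exact hsp
      have h4 : μ v • e v = mulm (μ v) (hμ v) t • ((⟨s, hs⟩ : OO A R) • e v) := by
        rw [smul_smul]
        congr 1
        apply Subtype.ext
        change (μ v : A) = (μ v : A) * t * s
        rw [mul_assoc, mul_comm t s, hst, mul_one]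
      rw [h4, h3, MvPolynomial.smul_eq_C_mul]
      exact Ideal.mul_mem_left _ _ hp
    have hx_eq : x = x' + (x - x') := by ring
    rw [hx_eq]
    exact Submodule.add_mem_sup hx' hz
  have hJfg : (RingHom.ker φ.toRingHom).FG := by
    have hJeq : RingHom.ker φ.toRingHom =
        Ideal.span (GR : Set (MvPolynomial (Fin n) (OO A R))) ⊔
          Ideal.span (GA : Set (MvPolynomial (Fin n) (OO A R))) :=
      le_antisymm hle (sup_le (Ideal.span_le.mpr hGR) (Ideal.span_le.mpr hGA))
    rw [hJeq]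
    exact Submodule.FG.sup ⟨GR, rfl⟩ ⟨GA, rfl⟩
  exact Algebra.FinitePresentation.of_surjective hφ hJfg

end fp3

theorem main (A : Type u) [CommRing A] [IsLocalRing A]
    (R : ValuationSubring (IsLocalRing.ResidueField A))
    (O : Subring A) (hO : O = R.toSubring.comap (IsLocalRing.residue A))
    (C : Type u) [CommRing C] [Algebra ↥O C] [Algebra.FiniteType ↥O C]
    (hadm : Function.Injective (Algebra.TensorProduct.includeRight : C →ₐ[↥O] A ⊗[↥O] C))
    (hflat : Module.Flat A (A ⊗[↥O] C)) (hfp : Algebra.FinitePresentation A (A ⊗[↥O] C)) :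
    Module.Flat ↥O C ∧ Algebra.FinitePresentation ↥O C := by
  subst hO
  have hadm' : Function.Injective (fun c : C => (1 : A) ⊗ₜ[OO A R] c) := hadm
  have : Module.Flat (OO A R) C := flat_C C hadm'
  exact ⟨inferInstance, fp_C hadm' hfp⟩

end

end Groth.Agent.Lib.Helper75.SVMain
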