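import Mathlib
import Groth.Agent.Lib.Lead.SekGeom

/-!
# Lifting units from the locus `λ = 0` on a local affine scheme (helper75, for lead's S14684)
-/

set_option autoImplicit false
universe u
open CategoryTheory CategoryTheory.Limits AlgebraicGeometry MonoidalCategory CartesianMonoidalCategory

namespace Groth.Agent.Lib.Helper75.SekLocalUnit

open Groth.Agent.Lib.Lead Groth.Agent.Lib.Lead.SekPts Groth.Agent.Lib.Lead.SekGeom

/-- a surjective ring map from a local ring onto a nontrivial ring reflects units -/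
theorem isUnit_of_map_isUnit {A B : Type*} [CommRing A] [CommRing B] [IsLocalRing A] [Nontrivial B]
    (φ : A →+* B) (hφ : Function.Surjective φ) (a : A) (h : IsUnit (φ a)) : IsUnit a := by
  by_contra hna
  obtain ⟨c, hc⟩ := h.exists_right_inv
  obtain ⟨b, rfl⟩ := hφ c
  have hm : a * b ∈ IsLocalRing.maximalIdeal A :=
    Ideal.mul_mem_right _ _ ((IsLocalRing.mem_maximalIdeal a).mpr hna)
  have hu : IsUnit (1 - a * b) := by
    have := IsLocalRing.isUnit_one_sub_self_of_mem_nonunits (a * b) hm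
    exact this
  have h0 : φ (1 - a * b) = 0 := by
    rw [map_sub, map_one, map_mul, hc, sub_self]
  have : IsUnit (0 : B) := h0 ▸ hu.map φ
  exact not_isUnit_zero this

variable {X : Scheme.{u}} (R : Type u) [CommRing R] (lam : R) (f : X ⟶ Spec (CommRingCat.of R))

theorem exists_lift_local (Uo : Over X) [IsAffine Uo.left] [IsLocalRing Γ(Uo.left, ⊤)]
    (hbar : Uo ⊗ Xl R lam f ⟶ Red.bc f (Red.diag R ℤ)) :
    ∃ w : Uo ⟶ Red.bc f (Red.diag R ℤ), fst Uo (Xl R lam f) ≫ w = hbar := by
  haveI h1 : IsClosedImmersion (Spec.map (mkLam R lam)) :=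
    IsClosedImmersion.spec_of_surjective _ Ideal.Quotient.mk_surjective
  haveI h2 : IsClosedImmersion (Xl R lam f).hom :=
    inferInstanceAs (IsClosedImmersion (pullback.fst f (Spec.map (mkLam R lam))))
  haveI h3 : IsClosedImmersion (fst Uo (Xl R lam f)).left :=
    inferInstanceAs (IsClosedImmersion (pullback.fst Uo.hom (Xl R lam f).hom))
  have hsurj : Function.Surjective (fst Uo (Xl R lam f)).left.appTop.hom :=
    (IsClosedImmersion.isAffine_surjective_of_isAffine (fst Uo (Xl R lam f)).left).2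
  obtain ⟨a, ha⟩ := hsurj (eps R f (Uo ⊗ Xl R lam f) hbar)
  by_cases htriv : Subsingleton Γ((Uo ⊗ Xl R lam f).left, ⊤)
  · obtain ⟨w, -⟩ := exists_eps R f Uo 1
    refine ⟨w, ?_⟩
    apply eps_injective R f (Uo ⊗ Xl R lam f)
    exact Subsingleton.elim _ _
  · haveI hnt : Nontrivial Γ((Uo ⊗ Xl R lam f).left, ⊤) := not_subsingleton_iff_nontrivial.mp htriv
    have hu : IsUnit a := by
      apply isUnit_of_map_isUnit (fst Uo (Xl R lam f)).left.appTop.hom hsurj a
      rw [ha]
      exact isUnit_eps R f _ hbar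
    obtain ⟨w, hw⟩ := exists_eps R f Uo hu.unit
    refine ⟨w, ?_⟩
    apply eps_injective R f (Uo ⊗ Xl R lam f)
    rw [eps_comp, hw]
    exact ha

end Groth.Agent.Lib.Helper75.SekLocalUnit
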