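import Mathlib
import Groth.Agent.Lib.Lead.SekGeom
import Groth.Agent.Lib.Lead.GmTorsor
import Groth.Agent.Lib.Helper84.SekFlat

/-!
# Finite presentation / smoothness of `G^(λ)` and `G_m` over a base; flatness of `Spec O_{X,x} → X`
(helper75, for lead's S14684)
-/

set_option autoImplicit false
universe u
open CategoryTheory CategoryTheory.Limits AlgebraicGeometry

namespace Groth.Agent.Lib.Helper75.SekSmooth

open Groth.Agent.Lib.Lead

section Alg

variable (R : Type u) [CommRing R] (lam : R)

theorem finitePresentation_A : Algebra.FinitePresentation R (SekSuwa.A R lam) := by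
  haveI h1 : Algebra.FinitePresentation R (SekSuwa.Poly R lam) :=
    inferInstanceAs (Algebra.FinitePresentation R (MvPolynomial (Fin 2) R))
  have hfg : (SekSuwa.Poly.relIdeal R lam).FG := ⟨{SekSuwa.Poly.rel R lam}, by
    rw [Finset.coe_singleton]; rfl⟩
  exact Algebra.FinitePresentation.quotient hfg

end Alg

section Geom

variable {X : Scheme.{u}} (R : Type u) [CommRing R] (lam : R) (f : X ⟶ Spec (CommRingCat.of R))

instance lfp_G : LocallyOfFinitePresentation (SekSuwa.G R lam).hom := by
  change LocallyOfFinitePresentation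
    (Spec.map (CommRingCat.ofHom (algebraMap R (SekSuwa.A R lam))))
  rw [HasRingHomProperty.Spec_iff (P := @LocallyOfFinitePresentation)]
  exact RingHom.finitePresentation_algebraMap.mpr (finitePresentation_A R lam)

instance lfp_bc_G : LocallyOfFinitePresentation (Red.bc f (SekSuwa.G R lam)).hom := by
  change LocallyOfFinitePresentation (pullback.snd (SekSuwa.G R lam).hom f)
  infer_instance

instance smooth_diag : Smooth (Red.diag R ℤ).hom := by
  change Smooth (Spec.map (CommRingCat.ofHom (algebraMap R (MonoidAlgebra R (Multiplicative ℤ)))))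
  rw [HasRingHomProperty.Spec_iff (P := @Smooth)]
  exact RingHom.smooth_algebraMap.mpr (GmTorsor.smooth_monoidAlgebra R)

instance smooth_bc_Gm : Smooth (Red.bc f (Red.diag R ℤ)).hom := by
  change Smooth (pullback.snd (Red.diag R ℤ).hom f)
  infer_instance

instance lfp_bc_Gm : LocallyOfFinitePresentation (Red.bc f (Red.diag R ℤ)).hom := by
  haveI := smooth_bc_Gm R f
  infer_instance

end Geom

section Stalk

instance flat_fromSpecStalk (X : Scheme.{u}) (x : X) : Flat (X.fromSpecStalk x) := by
  obtain ⟨_, ⟨U, hU, rfl⟩, hxU, -⟩ :=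
    X.isBasis_affineOpens.exists_subset_of_mem_open (Set.mem_univ x) isOpen_univ
  have hU' : IsAffineOpen U := hU
  rw [← hU'.fromSpecStalk_eq_fromSpecStalk hxU]
  unfold IsAffineOpen.fromSpecStalk
  haveI : Flat (Spec.map (X.presheaf.germ U x hxU)) := by
    rw [HasRingHomProperty.Spec_iff (P := @Flat)]
    letI := X.presheaf.algebra_section_stalk ⟨x, hxU⟩
    haveI := hU'.isLocalization_stalk ⟨x, hxU⟩
    have hfl : Module.Flat Γ(X, U) (X.presheaf.stalk x) :=
      IsLocalization.flat (X.presheaf.stalk x) (hU'.primeIdealOf ⟨x, hxU⟩).asIdeal.primeCompl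
    exact (RingHom.flat_algebraMap_iff).mpr hfl
  infer_instance

end Stalk

end Groth.Agent.Lib.Helper75.SekSmooth
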