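import Mathlib

/- helper75: linear algebra for traces along exact sequences (used for S14284):
`trace_of_exact`, `trace_eq_of_bijective`, `eigen_of_injective`, `eigen_of_surjective`, `norm_trace_le`. -/

set_option autoImplicit false
universe u

namespace Groth.Agent.Lib.Helper75.SpTr

open Module

section LinAlg

variable {K : Type*} [Field K] {V' V V'' : Type*}
  [AddCommGroup V'] [Module K V'] [AddCommGroup V] [Module K V] [AddCommGroup V''] [Module K V'']

/-- trace additivity along a short exact sequence of finite-dimensional vector spaces with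
compatible endomorphisms. -/
theorem trace_of_exact [FiniteDimensional K V'] [FiniteDimensional K V] [FiniteDimensional K V'']
    (i : V' →ₗ[K] V) (p : V →ₗ[K] V'') (hi : Function.Injective i) (hp : Function.Surjective p)
    (hex : LinearMap.range i = LinearMap.ker p)
    (Φ' : V' →ₗ[K] V') (Φ : V →ₗ[K] V) (Φ'' : V'' →ₗ[K] V'')
    (h1 : i ∘ₗ Φ' = Φ ∘ₗ i) (h2 : p ∘ₗ Φ = Φ'' ∘ₗ p) :
    LinearMap.trace K V Φ = LinearMap.trace K V' Φ' + LinearMap.trace K V'' Φ'' := by
  obtain ⟨σ, hσ⟩ := p.exists_rightInverse_of_surjective (LinearMap.range_eq_top.mpr hp)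
  obtain ⟨ρ, hρ⟩ := i.exists_leftInverse_of_injective (LinearMap.ker_eq_bot.mpr hi)
  have hpi : p ∘ₗ i = 0 := by
    ext x
    have : i x ∈ LinearMap.ker p := hex ▸ LinearMap.mem_range_self i x
    simpa using this
  set e : V →ₗ[K] V := LinearMap.id - σ ∘ₗ p with he
  have hpe : p ∘ₗ e = 0 := by
    rw [he, LinearMap.comp_sub, ← LinearMap.comp_assoc, hσ]
    simp
  have hiρe : i ∘ₗ ρ ∘ₗ e = e := by
    ext x
    have hx : e x ∈ LinearMap.range i := by
      rw [hex, LinearMap.mem_ker]
      exact LinearMap.congr_fun hpe x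
    obtain ⟨z, hz⟩ := hx
    simp only [LinearMap.comp_apply]
    rw [← hz]
    have := LinearMap.congr_fun hρ z
    simp only [LinearMap.comp_apply, LinearMap.id_apply] at this
    rw [this]
  have hei : e ∘ₗ i = i := by
    rw [he, LinearMap.sub_comp, LinearMap.comp_assoc, hpi]
    simp
  have hiρe' : ∀ x, i (ρ (e x)) = e x := fun x => LinearMap.congr_fun hiρe x
  have hei' : ∀ x, e (i x) = i x := fun x => LinearMap.congr_fun hei x
  have hρ' : ∀ z, ρ (i z) = z := fun z => LinearMap.congr_fun hρ z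
  have hσ' : ∀ y, p (σ y) = y := fun y => LinearMap.congr_fun hσ y
  have h1' : ∀ x, i (Φ' x) = Φ (i x) := fun x => LinearMap.congr_fun h1 x
  have h2' : ∀ x, p (Φ x) = Φ'' (p x) := fun x => LinearMap.congr_fun h2 x
  have hsplit : Φ = i ∘ₗ (ρ ∘ₗ e ∘ₗ Φ) + σ ∘ₗ (p ∘ₗ Φ) := by
    ext x
    simp only [LinearMap.add_apply, LinearMap.comp_apply, hiρe']
    simp [he]
  have t1 : LinearMap.trace K V (i ∘ₗ (ρ ∘ₗ e ∘ₗ Φ)) = LinearMap.trace K V' Φ' := by
    rw [LinearMap.trace_comp_comm']
    congr 1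
    ext x
    simp only [LinearMap.comp_apply, ← h1', hei', hρ']
  have t2 : LinearMap.trace K V (σ ∘ₗ (p ∘ₗ Φ)) = LinearMap.trace K V'' Φ'' := by
    rw [LinearMap.trace_comp_comm']
    congr 1
    ext x
    simp only [LinearMap.comp_apply, h2', hσ']
  conv_lhs => rw [hsplit]
  rw [map_add, t1, t2]

theorem trace_eq_of_bijective [FiniteDimensional K V'] [FiniteDimensional K V]
    (θ : V' →ₗ[K] V) (hθ : Function.Bijective θ)
    (Φ' : V' →ₗ[K] V') (Φ : V →ₗ[K] V) (h : θ ∘ₗ Φ' = Φ ∘ₗ θ) :
    LinearMap.trace K V' Φ' = LinearMap.trace K V Φ := by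
  let e := LinearEquiv.ofBijective θ hθ
  have : e.conj Φ' = Φ := by
    ext y
    obtain ⟨x, rfl⟩ := hθ.2 y
    have h1 : e.symm (θ x) = x := by
      apply e.injective
      simp [e]
    rw [LinearEquiv.conj_apply]
    simp only [LinearMap.comp_apply, LinearEquiv.coe_coe, h1]
    exact LinearMap.congr_fun h x
  rw [← this, LinearMap.trace_conj']

theorem eigen_of_injective (i : V' →ₗ[K] V) (hi : Function.Injective i)
    (Φ' : V' →ₗ[K] V') (Φ : V →ₗ[K] V) (h1 : i ∘ₗ Φ' = Φ ∘ₗ i) (μ : K)
    (h : Module.End.HasEigenvalue Φ' μ) : Module.End.HasEigenvalue Φ μ := by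
  obtain ⟨v, hv⟩ := h.exists_hasEigenvector
  refine Module.End.hasEigenvalue_of_hasEigenvector (x := i v) ?_
  refine ⟨?_, ?_⟩
  · rw [Module.End.mem_eigenspace_iff]
    have := LinearMap.congr_fun h1 v
    simp only [LinearMap.comp_apply] at this
    rw [← this, hv.apply_eq_smul, map_smul]
  · intro h0
    exact hv.2 (hi (by rw [h0, map_zero]))

theorem eigen_of_surjective [FiniteDimensional K V] [FiniteDimensional K V'']
    (p : V →ₗ[K] V'') (hp : Function.Surjective p)
    (Φ : V →ₗ[K] V) (Φ'' : V'' →ₗ[K] V'') (h2 : p ∘ₗ Φ = Φ'' ∘ₗ p) (μ : K)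
    (h : Module.End.HasEigenvalue Φ'' μ) : Module.End.HasEigenvalue Φ μ := by
  by_contra hn
  have hinj : Function.Injective (Φ - μ • (1 : Module.End K V)) := by
    rw [← LinearMap.ker_eq_bot]
    by_contra hne
    apply hn
    rw [Module.End.hasEigenvalue_iff]
    intro h0
    apply hne
    rw [← h0, Module.End.eigenspace_def]
  have hsurj : Function.Surjective (Φ - μ • (1 : Module.End K V)) :=
    LinearMap.surjective_of_injective hinj
  have hsurj'' : Function.Surjective (Φ'' - μ • (1 : Module.End K V'')) := by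
    intro y
    obtain ⟨x, rfl⟩ := hp y
    obtain ⟨z, hz⟩ := hsurj x
    refine ⟨p z, ?_⟩
    have := LinearMap.congr_fun h2 z
    simp only [LinearMap.comp_apply] at this
    simp only [LinearMap.sub_apply, LinearMap.smul_apply, Module.End.one_apply] at hz ⊢
    rw [← this, ← map_smul, ← map_sub, hz]
  have hinj'' : Function.Injective (Φ'' - μ • (1 : Module.End K V'')) :=
    LinearMap.injective_iff_surjective.mpr hsurj''
  obtain ⟨v, hv⟩ := h.exists_hasEigenvector
  apply hv.2
  apply hinj''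
  simp only [LinearMap.sub_apply, LinearMap.smul_apply, Module.End.one_apply, map_zero]
  rw [hv.apply_eq_smul, sub_self]

end LinAlg

/-- the trace is bounded by dimension times a bound for the eigenvalues. -/
theorem norm_trace_le {V : Type*} [AddCommGroup V] [Module ℂ V] [FiniteDimensional ℂ V]
    (Ψ : V →ₗ[ℂ] V) (R : ℝ) (h : ∀ μ : ℂ, Module.End.HasEigenvalue Ψ μ → ‖μ‖ ≤ R) :
    ‖LinearMap.trace ℂ V Ψ‖ ≤ (Module.finrank ℂ V : ℝ) * R := by
  have hsp : Ψ.charpoly.Splits := IsAlgClosed.splits _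
  rw [Module.End.trace_eq_sum_roots_charpoly_of_splits hsp]
  have h1 : ‖(Ψ.charpoly.roots).sum‖ ≤ ((Ψ.charpoly.roots).map (fun x => ‖x‖)).sum :=
    norm_multiset_sum_le _
  have h2 : ((Ψ.charpoly.roots).map (fun x => ‖x‖)).sum ≤
      (Multiset.card (Ψ.charpoly.roots) : ℝ) * R := by
    have := Multiset.sum_le_card_nsmul ((Ψ.charpoly.roots).map (fun x => ‖x‖)) R ?_
    · simpa using this
    · intro y hy
      obtain ⟨μ, hμ, rfl⟩ := Multiset.mem_map.mp hy
      apply h
      rw [Module.End.hasEigenvalue_iff_isRoot_charpoly]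
      exact (Polynomial.mem_roots'.mp hμ).2
  have hR : 0 ≤ R ∨ Multiset.card (Ψ.charpoly.roots) = 0 := by
    by_cases hc : Multiset.card (Ψ.charpoly.roots) = 0
    · exact Or.inr hc
    · left
      obtain ⟨μ, hμ⟩ := Multiset.card_pos_iff_exists_mem.mp (Nat.pos_of_ne_zero hc)
      have := h μ (by
        rw [Module.End.hasEigenvalue_iff_isRoot_charpoly]
        exact (Polynomial.mem_roots'.mp hμ).2)
      exact le_trans (norm_nonneg _) this
  have h3 : (Multiset.card (Ψ.charpoly.roots) : ℝ) * R ≤ (Module.finrank ℂ V : ℝ) * R := by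
    rcases hR with hR | hR
    · apply mul_le_mul_of_nonneg_right _ hR
      have := Polynomial.card_roots' Ψ.charpoly
      rw [LinearMap.charpoly_natDegree] at this
      exact_mod_cast this
    · have hsplit := hsp
      have : Multiset.card Ψ.charpoly.roots = Ψ.charpoly.natDegree :=
        (Polynomial.splits_iff_card_roots.mp hsplit)
      rw [LinearMap.charpoly_natDegree] at this
      rw [this]
  exact h1.trans (h2.trans h3)

end Groth.Agent.Lib.Helper75.SpTr
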