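import Groth.Agent.Lib.Helper75.SpTrA

/- helper75: traces of X on ModuleCat ℂ[X] objects (restriction of scalars to ℂ): `F`, `gl`, `Phi`, `tr`, `trRange`,
mono/epi transfer of finiteness, eigenvalues, finrank; `tr_X_eq` (tr X_j = tr B_j + tr H_j + tr B_{j+1}). -/

set_option autoImplicit false
universe u

namespace Groth.Agent.Lib.Helper75.SpTr

open CategoryTheory CategoryTheory.Limits Polynomial Module

/-- restriction of scalars from `ℂ[X]` to `ℂ`. -/
noncomputable abbrev F : ModuleCat.{u} ℂ[X] ⥤ ModuleCat.{u} ℂ :=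
  ModuleCat.restrictScalars (algebraMap ℂ ℂ[X])

/-- underlying `ℂ`-linear map. -/
noncomputable abbrev gl {N N' : ModuleCat.{u} ℂ[X]} (g : N ⟶ N') : (F.obj N) →ₗ[ℂ] (F.obj N') :=
  (F.map g).hom

/-- multiplication by `X` as a `ℂ`-linear endomorphism. -/
noncomputable abbrev Phi (N : ModuleCat.{u} ℂ[X]) : (F.obj N) →ₗ[ℂ] (F.obj N) :=
  (F.map ((X : ℂ[X]) • 𝟙 N)).hom

theorem gl_apply {N N' : ModuleCat.{u} ℂ[X]} (g : N ⟶ N') (x : N) : gl g x = g.hom x := rfl

theorem gl_comp_Phi {N N' : ModuleCat.{u} ℂ[X]} (g : N ⟶ N') :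
    gl g ∘ₗ Phi N = Phi N' ∘ₗ gl g := by
  rw [← ModuleCat.hom_comp, ← ModuleCat.hom_comp, ← F.map_comp, ← F.map_comp]
  congr 2
  rw [Linear.smul_comp, Linear.comp_smul, Category.id_comp, Category.comp_id]

theorem gl_comp {N N' N'' : ModuleCat.{u} ℂ[X]} (g : N ⟶ N') (g' : N' ⟶ N'') :
    gl (g ≫ g') = gl g' ∘ₗ gl g := by
  rw [← ModuleCat.hom_comp, ← F.map_comp]

theorem gl_injective {N N' : ModuleCat.{u} ℂ[X]} (g : N ⟶ N') [Mono g] :
    Function.Injective (gl g) :=
  (ModuleCat.mono_iff_injective g).mp inferInstance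

theorem gl_surjective {N N' : ModuleCat.{u} ℂ[X]} (g : N ⟶ N') [Epi g] :
    Function.Surjective (gl g) :=
  (ModuleCat.epi_iff_surjective g).mp inferInstance

theorem gl_exact {S : ShortComplex (ModuleCat.{u} ℂ[X])} (hS : S.Exact) :
    LinearMap.range (gl S.f) = LinearMap.ker (gl S.g) := by
  ext x
  constructor
  · rintro ⟨y, rfl⟩
    exact S.moduleCat_zero_apply y
  · intro hx
    exact (S.moduleCat_exact_iff.mp hS) x hx

/-- the range of a differential is stable under `X`. -/
theorem Phi_mem_range {N N' : ModuleCat.{u} ℂ[X]} (g : N ⟶ N') :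
    ∀ x ∈ LinearMap.range (gl g), Phi N' x ∈ LinearMap.range (gl g) := by
  rintro _ ⟨y, rfl⟩
  refine ⟨Phi N y, ?_⟩
  exact LinearMap.congr_fun (gl_comp_Phi g) y

/-- trace of `X` on the range of a morphism. -/
noncomputable def trRange {N N' : ModuleCat.{u} ℂ[X]} (g : N ⟶ N') : ℂ :=
  LinearMap.trace ℂ (LinearMap.range (gl g)) ((Phi N').restrict (Phi_mem_range g))

/-- trace of `X` on an object. -/
noncomputable abbrev tr (N : ModuleCat.{u} ℂ[X]) : ℂ := LinearMap.trace ℂ (F.obj N) (Phi N)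

section ses

variable {N' N N'' : ModuleCat.{u} ℂ[X]}

theorem finite_of_mono (i : N' ⟶ N) [Mono i] [Module.Finite ℂ (F.obj N)] :
    Module.Finite ℂ (F.obj N') :=
  Module.Finite.of_injective (gl i) (gl_injective i)

theorem finite_of_epi (p : N ⟶ N'') [Epi p] [Module.Finite ℂ (F.obj N)] :
    Module.Finite ℂ (F.obj N'') :=
  Module.Finite.of_surjective (gl p) (gl_surjective p)

theorem eigen_of_mono (i : N' ⟶ N) [Mono i] (μ : ℂ) (h : Module.End.HasEigenvalue (Phi N') μ) :
    Module.End.HasEigenvalue (Phi N) μ :=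
  eigen_of_injective (gl i) (gl_injective i) _ _ (gl_comp_Phi i) μ h

theorem eigen_of_epi (p : N ⟶ N'') [Epi p] [Module.Finite ℂ (F.obj N)] (μ : ℂ)
    (h : Module.End.HasEigenvalue (Phi N'') μ) :
    Module.End.HasEigenvalue (Phi N) μ := by
  have := finite_of_epi p
  exact eigen_of_surjective (gl p) (gl_surjective p) _ _ (gl_comp_Phi p) μ h

theorem finrank_le_of_mono (i : N' ⟶ N) [Mono i] [Module.Finite ℂ (F.obj N)] :
    Module.finrank ℂ (F.obj N') ≤ Module.finrank ℂ (F.obj N) :=
  LinearMap.finrank_le_finrank_of_injective (gl_injective i)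

theorem finrank_le_of_epi (p : N ⟶ N'') [Epi p] [Module.Finite ℂ (F.obj N)] :
    Module.finrank ℂ (F.obj N'') ≤ Module.finrank ℂ (F.obj N) :=
  LinearMap.finrank_le_finrank_of_surjective (gl_surjective p)

theorem finite_of_iso (e : N ≅ N') [Module.Finite ℂ (F.obj N)] : Module.Finite ℂ (F.obj N') :=
  finite_of_epi e.hom

theorem tr_eq_of_iso (e : N ≅ N') [Module.Finite ℂ (F.obj N)] : tr N = tr N' := by
  have := finite_of_iso e
  refine trace_eq_of_bijective (gl e.hom) ⟨gl_injective e.hom, gl_surjective e.hom⟩ _ _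
    (gl_comp_Phi e.hom)

end ses

section complex

variable {ι : Type*} {c : ComplexShape ι} (K : HomologicalComplex (ModuleCat.{u} ℂ[X]) c)

theorem finite_cycles (j : ι) [Module.Finite ℂ (F.obj (K.X j))] :
    Module.Finite ℂ (F.obj (K.cycles j)) := finite_of_mono (K.iCycles j)

theorem finite_homology (j : ι) [Module.Finite ℂ (F.obj (K.X j))] :
    Module.Finite ℂ (F.obj (K.homology j)) := by
  have := finite_cycles K j
  exact finite_of_epi (K.homologyπ j)

theorem eigen_homology (j : ι) [Module.Finite ℂ (F.obj (K.X j))] (μ : ℂ)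
    (h : Module.End.HasEigenvalue (Phi (K.homology j)) μ) :
    Module.End.HasEigenvalue (Phi (K.X j)) μ := by
  have := finite_cycles K j
  exact eigen_of_mono (K.iCycles j) μ (eigen_of_epi (K.homologyπ j) μ h)

theorem finrank_homology_le (j : ι) [Module.Finite ℂ (F.obj (K.X j))] :
    Module.finrank ℂ (F.obj (K.homology j)) ≤ Module.finrank ℂ (F.obj (K.X j)) := by
  have := finite_cycles K j
  exact (finrank_le_of_epi (K.homologyπ j)).trans (finrank_le_of_mono (K.iCycles j))

/-- bound for the trace on the range of a morphism into a finite-dimensional object. -/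
theorem norm_trRange_le {N N' : ModuleCat.{u} ℂ[X]} (g : N ⟶ N') [Module.Finite ℂ (F.obj N')]
    (R : ℝ) (hR : ∀ μ : ℂ, Module.End.HasEigenvalue (Phi N') μ → ‖μ‖ ≤ R) (n : ℕ)
    (hn : Module.finrank ℂ (F.obj N') ≤ n) (hR0 : 0 ≤ R) :
    ‖trRange g‖ ≤ (n : ℝ) * R := by
  unfold trRange
  refine (norm_trace_le _ R ?_).trans ?_
  · intro μ hμ
    apply hR
    refine eigen_of_injective (LinearMap.range (gl g)).subtype (Submodule.subtype_injective _)
      _ _ ?_ μ hμ
    ext x
    rfl
  · apply mul_le_mul_of_nonneg_right _ hR0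
    have := Submodule.finrank_le (LinearMap.range (gl g))
    exact_mod_cast this.trans hn

theorem norm_tr_le (N : ModuleCat.{u} ℂ[X]) [Module.Finite ℂ (F.obj N)]
    (R : ℝ) (hR : ∀ μ : ℂ, Module.End.HasEigenvalue (Phi N) μ → ‖μ‖ ≤ R) (n : ℕ)
    (hn : Module.finrank ℂ (F.obj N) ≤ n) (hR0 : 0 ≤ R) :
    ‖tr N‖ ≤ (n : ℝ) * R := by
  refine (norm_trace_le _ R hR).trans ?_
  apply mul_le_mul_of_nonneg_right _ hR0
  exact_mod_cast hn

/-- the key trace identity at a position of a complex. -/
theorem tr_X_eq (i j k : ι) (hij : c.Rel i j) (hjk : c.Rel j k)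
    [Module.Finite ℂ (F.obj (K.X j))] :
    tr (K.X j) = trRange (K.d i j) + tr (K.homology j) + trRange (K.d j k) := by
  have hfc := finite_cycles K j
  have hfh := finite_homology K j
  -- first sequence
  have ex1 : (ShortComplex.mk (K.iCycles j) (K.d j k) (K.iCycles_d j k)).Exact :=
    ShortComplex.exact_of_f_is_kernel _ (K.cyclesIsKernel j k (c.next_eq' hjk))
  have e1 := gl_exact ex1
  dsimp at e1
  have s1 : tr (K.X j) = tr (K.cycles j) + trRange (K.d j k) := by
    unfold trRange
    refine trace_of_exact (gl (K.iCycles j)) (gl (K.d j k)).rangeRestrict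
      (gl_injective _) (LinearMap.surjective_rangeRestrict _) ?_ _ _ _ (gl_comp_Phi _) ?_
    · rw [e1, LinearMap.ker_rangeRestrict]
    · ext x
      exact LinearMap.congr_fun (gl_comp_Phi (K.d j k)) x
  -- second sequence
  have ex2 : (ShortComplex.mk (K.toCycles i j) (K.homologyπ j)
      (K.toCycles_comp_homologyπ i j)).Exact :=
    ShortComplex.exact_of_g_is_cokernel _ (K.homologyIsCokernel i j (c.prev_eq' hij))
  have e2 := gl_exact ex2
  dsimp at e2
  have s2 : tr (K.cycles j) = trRange (K.toCycles i j) + tr (K.homology j) := by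
    unfold trRange
    refine trace_of_exact (LinearMap.range (gl (K.toCycles i j))).subtype (gl (K.homologyπ j))
      (Submodule.subtype_injective _) (gl_surjective _) ?_ _ _ _ ?_ (gl_comp_Phi _)
    · rw [Submodule.range_subtype, e2]
    · ext x
      rfl
  -- comparison of the two ranges
  have s3 : trRange (K.toCycles i j) = trRange (K.d i j) := by
    unfold trRange
    have hmem : ∀ x ∈ LinearMap.range (gl (K.toCycles i j)),
        gl (K.iCycles j) x ∈ LinearMap.range (gl (K.d i j)) := by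
      rintro _ ⟨y, rfl⟩
      refine ⟨y, ?_⟩
      rw [← K.toCycles_i i j, gl_comp]
      rfl
    refine trace_eq_of_bijective ((gl (K.iCycles j)).restrict hmem) ⟨?_, ?_⟩ _ _ ?_
    · intro x y hxy
      apply Subtype.ext
      apply gl_injective (K.iCycles j)
      exact congrArg Subtype.val hxy
    · rintro ⟨_, ⟨y, rfl⟩⟩
      refine ⟨⟨gl (K.toCycles i j) y, ⟨y, rfl⟩⟩, ?_⟩
      apply Subtype.ext
      change gl (K.iCycles j) (gl (K.toCycles i j) y) = gl (K.d i j) y
      rw [← K.toCycles_i i j, gl_comp]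
      rfl
    · ext x
      exact LinearMap.congr_fun (gl_comp_Phi (K.iCycles j)) x
  rw [s1, s2, s3]

end complex

end Groth.Agent.Lib.Helper75.SpTr
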