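import Groth.Agent.Lib.Helper75.SpTrB

/- helper75: alternating sums of traces over a page of a first-quadrant spectral sequence of ℂ[X]-modules:
`Bdd` (boundedness hypotheses), `Bdd.next` (pass to the homology page), `Bdd.tsum_eq` (equal alternating trace sums). -/

set_option autoImplicit false
universe u

namespace Groth.Agent.Lib.Helper75.SpTr

open CategoryTheory CategoryTheory.Limits Polynomial Module

theorem subsingleton_of_isZero {N : ModuleCat.{u} ℂ[X]} (h : IsZero N) :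
    Subsingleton (F.obj N) :=
  ModuleCat.subsingleton_of_isZero (F.map_isZero h)

theorem tr_eq_zero_of_isZero {N : ModuleCat.{u} ℂ[X]} (h : IsZero N) : tr N = 0 := by
  have := subsingleton_of_isZero h
  have : Phi N = 0 := LinearMap.ext fun x => Subsingleton.elim _ _
  unfold tr
  rw [this, map_zero]

theorem trRange_eq_zero_of_isZero {N N' : ModuleCat.{u} ℂ[X]} (g : N ⟶ N') (h : IsZero N') :
    trRange g = 0 := by
  have := subsingleton_of_isZero h
  unfold trRange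
  have : (Phi N').restrict (Phi_mem_range g) = 0 :=
    LinearMap.ext fun x => Subsingleton.elim _ _
  rw [this, map_zero]

/-- the sign `(-1)^(p+q)` on `ℤ × ℤ`. -/
noncomputable def sgn (x : ℤ × ℤ) : ℂ := (-1 : ℂ) ^ (x.1 + x.2)

theorem norm_sgn (x : ℤ × ℤ) : ‖sgn x‖ = 1 := by
  unfold sgn
  rw [norm_zpow, norm_neg, norm_one, one_zpow]

theorem sgn_add (x w : ℤ × ℤ) (hw : w.1 + w.2 = 1) : sgn (x + w) = - sgn x := by
  unfold sgn
  have : (x + w).1 + (x + w).2 = (x.1 + x.2) + 1 := by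
    simp only [Prod.fst_add, Prod.snd_add]; omega
  rw [this, zpow_add₀ (by norm_num : (-1 : ℂ) ≠ 0), zpow_one, mul_neg_one]

/-- the embedding of the first quadrant. -/
def emb (pq : ℕ × ℕ) : ℤ × ℤ := ((pq.1 : ℤ), (pq.2 : ℤ))

theorem emb_injective : Function.Injective emb := by
  intro x y h
  simp only [emb, Prod.mk.injEq, Nat.cast_inj] at h
  exact Prod.ext h.1 h.2

theorem not_mem_range_emb {x : ℤ × ℤ} (hx : x ∉ Set.range emb) : x.1 < 0 ∨ x.2 < 0 := by
  by_contra h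
  simp only [not_or, not_lt] at h
  apply hx
  refine ⟨(x.1.toNat, x.2.toNat), ?_⟩
  simp only [emb]
  ext
  · simp [h.1]
  · simp [h.2]

theorem sgn_emb (pq : ℕ × ℕ) : sgn (emb pq) = (-1 : ℂ) ^ (pq.1 + pq.2) := by
  unfold sgn emb
  rw [← Nat.cast_add, zpow_natCast]

section main

variable {w : ℤ × ℤ}
  (N : ℕ) (a c : ℕ → ℝ) (b d : ℕ → ℕ)

/-- the dominating function. -/
noncomputable def G (pq : ℕ × ℕ) : ℝ :=
  (c pq.1 * (d pq.1 : ℝ)) * (if pq.2 ≤ N then a pq.2 * (b pq.2 : ℝ) else 0)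

variable {N a c b d}

theorem summable_G (ha : ∀ q, 0 ≤ a q) (hc : ∀ p, 0 ≤ c p)
    (hsum : Summable fun p : ℕ => c p * (d p : ℝ)) : Summable (G N a c b d) := by
  unfold G
  refine Summable.mul_of_nonneg (f := fun p => c p * (d p : ℝ))
    (g := fun q => if q ≤ N then a q * (b q : ℝ) else 0) hsum ?_ ?_ ?_
  · refine summable_of_ne_finset_zero (s := Finset.range (N + 1)) ?_
    intro q hq
    simp only [Finset.mem_range, not_lt] at hq
    rw [if_neg (by omega)]
  · intro p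
    exact mul_nonneg (hc p) (Nat.cast_nonneg _)
  · intro q
    dsimp only
    split_ifs
    · exact mul_nonneg (ha q) (Nat.cast_nonneg _)
    · exact le_refl _

theorem G_nonneg (ha : ∀ q, 0 ≤ a q) (hc : ∀ p, 0 ≤ c p) (pq : ℕ × ℕ) : 0 ≤ G N a c b d pq := by
  unfold G
  refine mul_nonneg (mul_nonneg (hc _) (Nat.cast_nonneg _)) ?_
  split_ifs
  · exact mul_nonneg (ha _) (Nat.cast_nonneg _)
  · exact le_refl _

/-- the hypotheses on a page. -/
structure Bdd (L : HomologicalComplex (ModuleCat.{u} ℂ[X]) (ComplexShape.up' w))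
    (N : ℕ) (a c : ℕ → ℝ) (b d : ℕ → ℕ) : Prop where
  h1 : ∀ pq : ℤ × ℤ, pq.1 < 0 ∨ pq.2 < 0 → IsZero (L.X pq)
  h2 : ∀ pq : ℤ × ℤ, Module.Finite ℂ (F.obj (L.X pq))
  h3 : ∀ p q : ℕ, N < q → IsZero (L.X ((p : ℤ), (q : ℤ)))
  h4 : ∀ (p q : ℕ) (μ : ℂ), Module.End.HasEigenvalue (Phi (L.X ((p : ℤ), (q : ℤ)))) μ →
    ‖μ‖ ≤ a q * c p
  h5 : ∀ p q : ℕ, Module.finrank ℂ (F.obj (L.X ((p : ℤ), (q : ℤ)))) ≤ b q * d p

variable {L : HomologicalComplex (ModuleCat.{u} ℂ[X]) (ComplexShape.up' w)}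

theorem Bdd.norm_tr_le (hL : Bdd L N a c b d) (ha : ∀ q, 0 ≤ a q) (hc : ∀ p, 0 ≤ c p)
    (pq : ℕ × ℕ) : ‖tr (L.X (emb pq))‖ ≤ G N a c b d pq := by
  obtain ⟨p, q⟩ := pq
  by_cases hq : q ≤ N
  · have := hL.h2 (emb (p, q))
    refine (SpTr.norm_tr_le (L.X (emb (p, q))) (a q * c p) (hL.h4 p q) (b q * d p) (hL.h5 p q)
      (mul_nonneg (ha q) (hc p))).trans (le_of_eq ?_)
    unfold G
    rw [if_pos hq]
    push_cast
    ring
  · have h0 : tr (L.X (emb (p, q))) = 0 := tr_eq_zero_of_isZero (hL.h3 p q (by omega))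
    rw [h0, norm_zero]
    exact G_nonneg ha hc _

theorem Bdd.norm_trRange_le (hL : Bdd L N a c b d) (ha : ∀ q, 0 ≤ a q) (hc : ∀ p, 0 ≤ c p)
    (y : ℤ × ℤ) (pq : ℕ × ℕ) : ‖trRange (L.d y (emb pq))‖ ≤ G N a c b d pq := by
  obtain ⟨p, q⟩ := pq
  by_cases hq : q ≤ N
  · have := hL.h2 (emb (p, q))
    refine (SpTr.norm_trRange_le (L.d y (emb (p, q))) (a q * c p) (hL.h4 p q) (b q * d p)
      (hL.h5 p q) (mul_nonneg (ha q) (hc p))).trans (le_of_eq ?_)
    unfold G
    rw [if_pos hq]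
    push_cast
    ring
  · have h0 : trRange (L.d y (emb (p, q))) = 0 :=
      trRange_eq_zero_of_isZero _ (hL.h3 p q (by omega))
    rw [h0, norm_zero]
    exact G_nonneg ha hc _

theorem Bdd.summable_tr (hL : Bdd L N a c b d) (ha : ∀ q, 0 ≤ a q) (hc : ∀ p, 0 ≤ c p)
    (hsum : Summable fun p : ℕ => c p * (d p : ℝ)) :
    Summable fun x : ℤ × ℤ => sgn x * tr (L.X x) := by
  rw [← emb_injective.summable_iff]
  · refine Summable.of_norm_bounded (summable_G (N := N) (b := b) ha hc hsum) ?_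
    intro pq
    rw [Function.comp_apply, norm_mul, norm_sgn, one_mul]
    exact hL.norm_tr_le ha hc pq
  · intro x hx
    rw [tr_eq_zero_of_isZero (hL.h1 x (not_mem_range_emb hx)), mul_zero]

theorem Bdd.summable_trRange (hL : Bdd L N a c b d) (ha : ∀ q, 0 ≤ a q) (hc : ∀ p, 0 ≤ c p)
    (hsum : Summable fun p : ℕ => c p * (d p : ℝ)) :
    Summable fun x : ℤ × ℤ => sgn x * trRange (L.d (x - w) x) := by
  rw [← emb_injective.summable_iff]
  · refine Summable.of_norm_bounded (summable_G (N := N) (b := b) ha hc hsum) ?_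
    intro pq
    rw [Function.comp_apply, norm_mul, norm_sgn, one_mul]
    exact hL.norm_trRange_le ha hc _ pq
  · intro x hx
    rw [trRange_eq_zero_of_isZero _ (hL.h1 x (not_mem_range_emb hx)), mul_zero]

theorem Bdd.tsum_nat (hL : Bdd L N a c b d) :
    ∑' pq : ℕ × ℕ, (-1 : ℂ) ^ (pq.1 + pq.2) * tr (L.X ((pq.1 : ℤ), (pq.2 : ℤ))) =
      ∑' x : ℤ × ℤ, sgn x * tr (L.X x) := by
  rw [← emb_injective.tsum_eq (f := fun x : ℤ × ℤ => sgn x * tr (L.X x))]
  · refine tsum_congr fun pq => ?_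
    rw [sgn_emb]
    rfl
  · intro x hx
    by_contra hx'
    apply hx
    change sgn x * tr (L.X x) = 0
    rw [tr_eq_zero_of_isZero (hL.h1 x (not_mem_range_emb hx')), mul_zero]

variable {w' : ℤ × ℤ} {K : HomologicalComplex (ModuleCat.{u} ℂ[X]) (ComplexShape.up' w)}
  {K' : HomologicalComplex (ModuleCat.{u} ℂ[X]) (ComplexShape.up' w')}

/-- the bounds pass to the next page. -/
theorem Bdd.next (hK : Bdd K N a c b d) (e : ∀ x, K.homology x ≅ K'.X x) : Bdd K' N a c b d where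
  h1 pq h := IsZero.of_iso (HomologicalComplex.ExactAt.of_isZero (hK.h1 pq h)).isZero_homology
    (e pq).symm
  h2 pq := by
    have := hK.h2 pq
    have := finite_homology K pq
    exact finite_of_iso (e pq)
  h3 p q h := IsZero.of_iso (HomologicalComplex.ExactAt.of_isZero (hK.h3 p q h)).isZero_homology
    (e _).symm
  h4 p q μ hμ := by
    have := hK.h2 ((p : ℤ), (q : ℤ))
    exact hK.h4 p q μ (eigen_homology K _ μ (eigen_of_mono (e _).inv μ hμ))
  h5 p q := by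
    have := hK.h2 ((p : ℤ), (q : ℤ))
    have := finite_homology K ((p : ℤ), (q : ℤ))
    exact ((finrank_le_of_mono (e _).inv).trans (finrank_homology_le K _)).trans (hK.h5 p q)

/-- the alternating sums of traces agree. -/
theorem Bdd.tsum_eq (hK : Bdd K N a c b d) (hw : w.1 + w.2 = 1)
    (e : ∀ x, K.homology x ≅ K'.X x)
    (ha : ∀ q, 0 ≤ a q) (hc : ∀ p, 0 ≤ c p)
    (hsum : Summable fun p : ℕ => c p * (d p : ℝ)) :
    ∑' pq : ℕ × ℕ, (-1 : ℂ) ^ (pq.1 + pq.2) * tr (K'.X ((pq.1 : ℤ), (pq.2 : ℤ))) =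
      ∑' pq : ℕ × ℕ, (-1 : ℂ) ^ (pq.1 + pq.2) * tr (K.X ((pq.1 : ℤ), (pq.2 : ℤ))) := by
  have hK' := hK.next e
  rw [hK.tsum_nat, hK'.tsum_nat]
  have hβ := hK.summable_trRange ha hc hsum
  have ht' := hK'.summable_tr ha hc hsum
  have hβ' : Summable fun x : ℤ × ℤ => sgn (x + w) * trRange (K.d (x + w - w) (x + w)) :=
    (Equiv.summable_iff (Equiv.addRight w)).mpr hβ
  have hid : ∀ x : ℤ × ℤ, sgn x * tr (K.X x) =
      (sgn x * trRange (K.d (x - w) x) + sgn x * tr (K'.X x)) -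
        sgn (x + w) * trRange (K.d (x + w - w) (x + w)) := by
    intro x
    have := hK.h2 x
    have := finite_homology K x
    rw [tr_X_eq K (x - w) x (x + w) (by simp [ComplexShape.up'_Rel]) (by simp [ComplexShape.up'_Rel]),
      tr_eq_of_iso (e x), sgn_add x w hw, add_sub_cancel_right]
    ring
  rw [tsum_congr hid, (hβ.add ht').tsum_sub hβ', hβ.tsum_add ht']
  have : ∑' x : ℤ × ℤ, sgn (x + w) * trRange (K.d (x + w - w) (x + w)) =
      ∑' x : ℤ × ℤ, sgn x * trRange (K.d (x - w) x) :=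
    (Equiv.addRight w).tsum_eq (fun x : ℤ × ℤ => sgn x * trRange (K.d (x - w) x))
  rw [this]
  ring

end main

end Groth.Agent.Lib.Helper75.SpTr
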