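import Groth.Agent.Lib.Helper75.SpTrC
import Groth.Prelude.Def_SpSeq

/- helper75: trace additivity for short exact sequences / finite filtrations of ℂ[X]-modules
(`tr_of_shortExact`, `finite_of_shortExact`, `tr_filtration`), `tr_homology_eq_of_d_zero`. -/

set_option autoImplicit false
universe u

namespace Groth.Agent.Lib.Helper75.SpTr

open CategoryTheory CategoryTheory.Limits Polynomial Module

theorem finite_of_shortExact {S : ShortComplex (ModuleCat.{u} ℂ[X])} (hS : S.ShortExact)
    [Module.Finite ℂ (F.obj S.X₁)] [Module.Finite ℂ (F.obj S.X₃)] :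
    Module.Finite ℂ (F.obj S.X₂) := by
  have := hS.mono_f
  have := hS.epi_g
  have h : LinearMap.range (gl S.f) = LinearMap.ker (gl S.g) := gl_exact hS.exact
  have h1 : Module.Finite ℂ (LinearMap.ker (gl S.g)) :=
    h ▸ (inferInstance : Module.Finite ℂ (LinearMap.range (gl S.f)))
  have h2 : Module.Finite ℂ ((F.obj S.X₂) ⧸ LinearMap.ker (gl S.g)) :=
    Module.Finite.equiv ((gl S.g).quotKerEquivOfSurjective (gl_surjective S.g)).symm
  exact Module.Finite.of_submodule_quotient (LinearMap.ker (gl S.g))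

theorem tr_of_shortExact {S : ShortComplex (ModuleCat.{u} ℂ[X])} (hS : S.ShortExact)
    [Module.Finite ℂ (F.obj S.X₂)] : tr S.X₂ = tr S.X₁ + tr S.X₃ := by
  have := hS.mono_f
  have := hS.epi_g
  have := finite_of_mono S.f
  have := finite_of_epi S.g
  exact trace_of_exact (gl S.f) (gl S.g) (gl_injective _) (gl_surjective _) (gl_exact hS.exact)
    _ _ _ (gl_comp_Phi _) (gl_comp_Phi _)

theorem finite_of_isZero {N : ModuleCat.{u} ℂ[X]} (h : IsZero N) : Module.Finite ℂ (F.obj N) := by
  have := subsingleton_of_isZero h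
  infer_instance

theorem trRange_eq_zero_of_eq_zero {N N' : ModuleCat.{u} ℂ[X]} (g : N ⟶ N') (h : g = 0) :
    trRange g = 0 := by
  unfold trRange
  have : (Phi N').restrict (Phi_mem_range g) = 0 := by
    refine LinearMap.ext fun x => Subtype.ext ?_
    obtain ⟨y, hy⟩ := x.2
    have hx : (x : F.obj N') = 0 := by
      rw [← hy, h]
      rfl
    change Phi N' (x : F.obj N') = 0
    rw [hx, map_zero]
  rw [this, map_zero]

theorem tr_homology_eq_of_d_zero {w : ℤ × ℤ}
    (K : HomologicalComplex (ModuleCat.{u} ℂ[X]) (ComplexShape.up' w)) (x : ℤ × ℤ)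
    (h1 : K.d (x - w) x = 0) (h2 : K.d x (x + w) = 0) [Module.Finite ℂ (F.obj (K.X x))] :
    tr (K.homology x) = tr (K.X x) := by
  rw [tr_X_eq K (x - w) x (x + w) (by simp [ComplexShape.up'_Rel]) (by simp [ComplexShape.up'_Rel]),
    trRange_eq_zero_of_eq_zero _ h1, trRange_eq_zero_of_eq_zero _ h2, zero_add, add_zero]

section filtration

variable {X : ModuleCat.{u} ℂ[X]} (Fil : ℤ → Subobject X) (anti : Antitone Fil)

theorem isZero_of_eq_bot {Y : Subobject X} (h : Y = ⊥) : IsZero (Y : ModuleCat.{u} ℂ[X]) :=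
  IsZero.of_iso (isZero_zero _) (Subobject.isoOfEq _ _ h ≪≫ Subobject.botCoeIsoZero)

/-- the short exact sequence `F (p+1) → F p → gr p`. -/
theorem shortExact_gr (p : ℤ) :
    (ShortComplex.mk ((Fil (p + 1)).ofLE (Fil p) (anti (Int.le_add_one le_rfl)))
      (cokernel.π ((Fil (p + 1)).ofLE (Fil p) (anti (Int.le_add_one le_rfl))))
      (cokernel.condition _)).ShortExact :=
  { exact := ShortComplex.exact_cokernel _
    mono_f := by dsimp; infer_instance
    epi_g := by dsimp; infer_instance }

theorem Ico_eq_insert (p b : ℤ) (h : p < b) : Finset.Ico p b = insert p (Finset.Ico (p + 1) b) := by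
  ext x
  simp only [Finset.mem_Ico, Finset.mem_insert]
  omega

theorem filtration_aux (b : ℤ) (hb : Fil b = ⊥)
    (hfin : ∀ p, Module.Finite ℂ (F.obj (SpSeq.grPiece Fil anti p))) :
    ∀ (k : ℕ) (p : ℤ), p + k = b →
      Module.Finite ℂ (F.obj (Fil p : ModuleCat.{u} ℂ[X])) ∧
        tr (Fil p : ModuleCat.{u} ℂ[X]) = ∑ i ∈ Finset.Ico p b, tr (SpSeq.grPiece Fil anti i) := by
  intro k
  induction k with
  | zero =>
    intro p hp
    have hp' : p = b := by simpa using hp
    subst hp'
    have hz := isZero_of_eq_bot hb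
    exact ⟨finite_of_isZero hz, by rw [tr_eq_zero_of_isZero hz, Finset.Ico_self, Finset.sum_empty]⟩
  | succ k ih =>
    intro p hp
    obtain ⟨hf, ht⟩ := ih (p + 1) (by push_cast at hp; omega)
    have hS := shortExact_gr Fil anti p
    have := hfin p
    have hf2 : Module.Finite ℂ (F.obj (Fil p : ModuleCat.{u} ℂ[X])) := by
      have : Module.Finite ℂ (F.obj (ShortComplex.mk ((Fil (p + 1)).ofLE (Fil p)
        (anti (Int.le_add_one le_rfl))) (cokernel.π ((Fil (p + 1)).ofLE (Fil p)
        (anti (Int.le_add_one le_rfl)))) (cokernel.condition _)).X₁) := hf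
      have : Module.Finite ℂ (F.obj (ShortComplex.mk ((Fil (p + 1)).ofLE (Fil p)
        (anti (Int.le_add_one le_rfl))) (cokernel.π ((Fil (p + 1)).ofLE (Fil p)
        (anti (Int.le_add_one le_rfl)))) (cokernel.condition _)).X₃) := hfin p
      exact finite_of_shortExact hS
    refine ⟨hf2, ?_⟩
    have h3 := tr_of_shortExact hS
    dsimp at h3
    rw [h3, ht, Ico_eq_insert p b (by push_cast at hp; omega), Finset.sum_insert (by simp),
      add_comm]
    rfl

theorem tr_filtration (a b : ℤ) (ha : Fil a = ⊤) (hb : Fil b = ⊥)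
    (hfin : ∀ p, Module.Finite ℂ (F.obj (SpSeq.grPiece Fil anti p))) :
    Module.Finite ℂ (F.obj X) ∧ tr X = ∑ p ∈ Finset.Ico a b, tr (SpSeq.grPiece Fil anti p) := by
  have hiso : IsIso (Fil a).arrow := (Subobject.isIso_arrow_iff_eq_top _).mpr ha
  have e : (Fil a : ModuleCat.{u} ℂ[X]) ≅ X := asIso (Fil a).arrow
  rcases le_total a b with hab | hab
  · obtain ⟨hf, ht⟩ := filtration_aux Fil anti b hb hfin (b - a).toNat a (by omega)
    exact ⟨finite_of_iso e, by rw [← ht, tr_eq_of_iso e]⟩
  · have h1 : Fil a = ⊥ := by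
      apply le_antisymm _ bot_le
      rw [← hb]
      exact anti hab
    have hz : IsZero X := IsZero.of_iso (isZero_of_eq_bot h1) e.symm
    exact ⟨finite_of_isZero hz, by
      rw [tr_eq_zero_of_isZero hz, Finset.Ico_eq_empty (by omega), Finset.sum_empty]⟩

end filtration

end Groth.Agent.Lib.Helper75.SpTr
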