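import Groth.Agent.Lib.Helper75.SpTrD

/- helper75: E_2 spectral sequence of ℂ[X]-modules with abutment: `bdd_page`, `tsum_page`, `tr_stationary`, `Tinf`,
`tsum_Tinf` (dominated convergence), `tr_H` (trace on abutment via finite filtration), `final` (S14283). -/

set_option autoImplicit false
universe u

namespace Groth.Agent.Lib.Helper75.SpTr

open CategoryTheory CategoryTheory.Limits Polynomial Module Filter Topology

section spseq

variable (E : E₂CohomologicalSpectralSequence (ModuleCat.{u} ℂ[X]))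
  {N : ℕ} {a c : ℕ → ℝ} {b d : ℕ → ℕ}

theorem bdd_page (h2 : Bdd (E.page 2 le_rfl) N a c b d) (r : ℤ) (hr : 2 ≤ r) :
    Bdd (E.page r hr) N a c b d := by
  induction r, hr using Int.leInduction with
  | base => exact h2
  | succ r hr ih => exact ih.next (fun x => E.iso r (r + 1) x rfl hr)

theorem tsum_page (h2 : Bdd (E.page 2 le_rfl) N a c b d) (ha : ∀ q, 0 ≤ a q) (hc : ∀ p, 0 ≤ c p)
    (hsum : Summable fun p : ℕ => c p * (d p : ℝ)) (r : ℤ) (hr : 2 ≤ r) :
    ∑' pq : ℕ × ℕ, (-1 : ℂ) ^ (pq.1 + pq.2) * tr ((E.page r hr).X ((pq.1 : ℤ), (pq.2 : ℤ))) =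
      ∑' pq : ℕ × ℕ, (-1 : ℂ) ^ (pq.1 + pq.2) *
        tr ((E.page 2 le_rfl).X ((pq.1 : ℤ), (pq.2 : ℤ))) := by
  induction r, hr using Int.leInduction with
  | base => rfl
  | succ r hr ih =>
    rw [← ih]
    exact (bdd_page E h2 r hr).tsum_eq (by simp) (fun x => E.iso r (r + 1) x rfl hr) ha hc hsum

theorem tr_stationary (h2 : Bdd (E.page 2 le_rfl) N a c b d) (pq : ℤ × ℤ) (r₁ : ℤ)
    (hst : SpSeq.StationaryAt E pq r₁) (r : ℤ) (hr : r₁ ≤ r) :
    tr ((E.page r (hst.1.trans hr)).X pq) = tr ((E.page r₁ hst.1).X pq) := by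
  induction r, hr using Int.leInduction with
  | base => rfl
  | succ r hr ih =>
    rw [← ih]
    have h0 : (2 : ℤ) ≤ r := hst.1.trans hr
    have hB := bdd_page E h2 r h0
    have := hB.h2 pq
    have := finite_homology (E.page r h0) pq
    rw [← tr_eq_of_iso (E.iso r (r + 1) pq rfl h0)]
    exact tr_homology_eq_of_d_zero (E.page r h0) pq (hst.2 r h0 hr).1 (hst.2 r h0 hr).2

variable {H : ℤ → ModuleCat.{u} ℂ[X]} (abut : SpSeq.Abutment E H)

/-- the trace on the limit term. -/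
noncomputable def Tinf (pq : ℤ × ℤ) : ℂ :=
  tr ((E.page (abut.rk pq) (abut.stat pq).1).X pq)

theorem Tinf_eq_zero (h2 : Bdd (E.page 2 le_rfl) N a c b d) (x : ℤ × ℤ)
    (hx : x.1 < 0 ∨ x.2 < 0) : Tinf E abut x = 0 :=
  tr_eq_zero_of_isZero ((bdd_page E h2 _ (abut.stat x).1).h1 x hx)

theorem norm_Tinf_le (h2 : Bdd (E.page 2 le_rfl) N a c b d) (ha : ∀ q, 0 ≤ a q)
    (hc : ∀ p, 0 ≤ c p) (pq : ℕ × ℕ) : ‖Tinf E abut (emb pq)‖ ≤ G N a c b d pq :=
  (bdd_page E h2 _ (abut.stat (emb pq)).1).norm_tr_le ha hc pq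

theorem norm_neg_one_pow (k : ℕ) : ‖(-1 : ℂ) ^ k‖ = 1 := by
  rw [norm_pow, norm_neg, norm_one, one_pow]

theorem tsum_Tinf (h2 : Bdd (E.page 2 le_rfl) N a c b d) (ha : ∀ q, 0 ≤ a q) (hc : ∀ p, 0 ≤ c p)
    (hsum : Summable fun p : ℕ => c p * (d p : ℝ)) :
    ∑' pq : ℕ × ℕ, (-1 : ℂ) ^ (pq.1 + pq.2) * Tinf E abut (emb pq) =
      ∑' pq : ℕ × ℕ, (-1 : ℂ) ^ (pq.1 + pq.2) *
        tr ((E.page 2 le_rfl).X ((pq.1 : ℤ), (pq.2 : ℤ))) := by
  have key := tendsto_tsum_of_dominated_convergence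
    (f := fun (n : ℕ) (pq : ℕ × ℕ) => (-1 : ℂ) ^ (pq.1 + pq.2) *
      tr ((E.page (2 + n) (by omega)).X ((pq.1 : ℤ), (pq.2 : ℤ))))
    (g := fun pq : ℕ × ℕ => (-1 : ℂ) ^ (pq.1 + pq.2) * Tinf E abut (emb pq))
    (𝓕 := atTop) (summable_G (N := N) (b := b) ha hc hsum) ?_ ?_
  · have hconst : (fun n : ℕ => ∑' pq : ℕ × ℕ, (-1 : ℂ) ^ (pq.1 + pq.2) *
        tr ((E.page (2 + n) (by omega)).X ((pq.1 : ℤ), (pq.2 : ℤ)))) =
        fun _ => ∑' pq : ℕ × ℕ, (-1 : ℂ) ^ (pq.1 + pq.2) *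
          tr ((E.page 2 le_rfl).X ((pq.1 : ℤ), (pq.2 : ℤ))) := by
      funext n
      exact tsum_page E h2 ha hc hsum (2 + n) (by omega)
    rw [hconst] at key
    exact tendsto_nhds_unique key tendsto_const_nhds
  · intro pq
    refine tendsto_atTop_of_eventually_const (i₀ := (abut.rk (emb pq) - 2).toNat) ?_
    intro n hn
    have hle : abut.rk (emb pq) ≤ 2 + (n : ℤ) := by
      have := Int.self_le_toNat (abut.rk (emb pq) - 2)
      have hn' : ((abut.rk (emb pq) - 2).toNat : ℤ) ≤ n := by exact_mod_cast hn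
      omega
    congr 1
    exact tr_stationary E h2 (emb pq) _ (abut.stat (emb pq)) (2 + n) hle
  · refine Eventually.of_forall fun n pq => ?_
    rw [norm_mul, norm_neg_one_pow, one_mul]
    exact (bdd_page E h2 (2 + n) (by omega)).norm_tr_le ha hc pq

theorem gr_iso_transport (pq : ℤ × ℤ) (n : ℤ) (h : pq.1 + pq.2 = n) :
    Nonempty ((E.page (abut.rk pq) (abut.stat pq).1).X pq ≅
      SpSeq.grPiece (abut.fil n) (abut.anti n) pq.1) := by
  subst h
  exact ⟨abut.β pq⟩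

theorem tr_H (h2 : Bdd (E.page 2 le_rfl) N a c b d) (hfinF : ∀ n, abut.IsFinite n) (n : ℕ) :
    Module.Finite ℂ (F.obj (H n)) ∧
      tr (H n) = ∑ kl ∈ Finset.HasAntidiagonal.antidiagonal n, Tinf E abut (emb kl) := by
  obtain ⟨⟨a₀, ha₀⟩, ⟨b₀, hb₀⟩⟩ := hfinF n
  change abut.fil n a₀ = ⊤ at ha₀
  change abut.fil n b₀ = ⊥ at hb₀
  have ha' : abut.fil n (min a₀ 0) = ⊤ := top_le_iff.mp (by
    rw [← ha₀]; exact abut.anti n (min_le_left a₀ 0))
  have hb' : abut.fil n (max b₀ ((n : ℤ) + 1)) = ⊥ := le_bot_iff.mp (by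
    rw [← hb₀]; exact abut.anti n (le_max_left b₀ _))
  have hgr : ∀ p : ℤ, Module.Finite ℂ (F.obj (SpSeq.grPiece (abut.fil n) (abut.anti n) p)) ∧
      tr (SpSeq.grPiece (abut.fil n) (abut.anti n) p) = Tinf E abut (p, (n : ℤ) - p) := by
    intro p
    obtain ⟨e⟩ := gr_iso_transport E abut (p, (n : ℤ) - p) n (by simp)
    have := (bdd_page E h2 _ (abut.stat (p, (n : ℤ) - p)).1).h2 (p, (n : ℤ) - p)
    exact ⟨finite_of_iso e, (tr_eq_of_iso e).symm⟩
  obtain ⟨hf, ht⟩ := tr_filtration (abut.fil n) (abut.anti n) _ _ ha' hb' (fun p => (hgr p).1)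
  refine ⟨hf, ?_⟩
  rw [ht, Finset.sum_congr rfl (fun p _ => (hgr p).2),
    Finset.Nat.sum_antidiagonal_eq_sum_range_succ_mk]
  have hsub : ∑ p ∈ Finset.Ico (0 : ℤ) ((n : ℤ) + 1), Tinf E abut (p, (n : ℤ) - p) =
      ∑ p ∈ Finset.Ico (min a₀ 0) (max b₀ ((n : ℤ) + 1)), Tinf E abut (p, (n : ℤ) - p) := by
    refine Finset.sum_subset (Finset.Ico_subset_Ico (min_le_right _ _) (le_max_right _ _)) ?_
    intro p _ hp
    apply Tinf_eq_zero E abut h2
    simp only [Finset.mem_Ico, not_and, not_lt] at hp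
    dsimp only
    by_cases h0 : p < 0
    · exact Or.inl h0
    · right
      have := hp (by omega)
      omega
  rw [← hsub]
  refine Finset.sum_nbij' (fun p => p.toNat) (fun k => (k : ℤ)) ?_ ?_ ?_ ?_ ?_
  · intro p hp
    simp only [Finset.mem_Ico] at hp
    simp only [Finset.mem_range]
    omega
  · intro k hk
    simp only [Finset.mem_range] at hk
    simp only [Finset.mem_Ico]
    omega
  · intro p hp
    simp only [Finset.mem_Ico] at hp
    simp only [Int.toNat_of_nonneg hp.1]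
  · intro k _
    simp
  · intro p hp
    simp only [Finset.mem_Ico] at hp
    unfold emb
    have h1 : ((p.toNat : ℕ) : ℤ) = p := Int.toNat_of_nonneg hp.1
    have h2' : (((n - p.toNat : ℕ)) : ℤ) = (n : ℤ) - p := by
      rw [Nat.cast_sub (by omega), h1]
    simp only [h1, h2']

theorem final (h2 : Bdd (E.page 2 le_rfl) N a c b d) (hfinF : ∀ n, abut.IsFinite n)
    (ha : ∀ q, 0 ≤ a q) (hc : ∀ p, 0 ≤ c p)
    (hsum : Summable fun p : ℕ => c p * (d p : ℝ)) :
    Summable (fun n : ℕ => ‖tr (H n)‖) ∧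
      ∑' n : ℕ, (-1 : ℂ) ^ n * tr (H n) =
        ∑' pq : ℕ × ℕ, (-1 : ℂ) ^ (pq.1 + pq.2) *
          tr ((E.page 2 le_rfl).X ((pq.1 : ℤ), (pq.2 : ℤ))) := by
  have hG := summable_G (N := N) (b := b) ha hc hsum
  have hGσ : Summable fun x : Σ n : ℕ, Finset.HasAntidiagonal.antidiagonal n => G N a c b d (x.2 : ℕ × ℕ) :=
    (Finset.HasAntidiagonal.sigmaAntidiagonalEquivProd.summable_iff (f := G N a c b d)).mpr hG
  have hGn : Summable fun n : ℕ => ∑ kl ∈ Finset.HasAntidiagonal.antidiagonal n, G N a c b d kl := by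
    have := hGσ.sigma' fun n => (hasSum_fintype _).summable
    refine this.congr fun n => ?_
    rw [tsum_fintype]
    exact Finset.sum_coe_sort (Finset.HasAntidiagonal.antidiagonal n) (G N a c b d)
  constructor
  · refine Summable.of_nonneg_of_le (fun n => norm_nonneg _) (fun n => ?_) hGn
    rw [(tr_H E abut h2 hfinF n).2]
    exact (norm_sum_le _ _).trans (Finset.sum_le_sum fun kl _ => norm_Tinf_le E abut h2 ha hc kl)
  · rw [← tsum_Tinf E abut h2 ha hc hsum]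
    set g : ℕ × ℕ → ℂ := fun pq => (-1 : ℂ) ^ (pq.1 + pq.2) * Tinf E abut (emb pq) with hg
    have hgs : Summable g := by
      refine Summable.of_norm_bounded hG fun pq => ?_
      rw [hg, norm_mul, norm_neg_one_pow, one_mul]
      exact norm_Tinf_le E abut h2 ha hc pq
    have hgσ : Summable fun x : Σ n : ℕ, Finset.HasAntidiagonal.antidiagonal n => g (x.2 : ℕ × ℕ) :=
      (Finset.HasAntidiagonal.sigmaAntidiagonalEquivProd.summable_iff (f := g)).mpr hgs
    have h1 : ∀ n : ℕ, (-1 : ℂ) ^ n * tr (H n) = ∑' kl : Finset.HasAntidiagonal.antidiagonal n, g (kl : ℕ × ℕ) := by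
      intro n
      rw [tsum_fintype, Finset.sum_coe_sort (Finset.HasAntidiagonal.antidiagonal n) g,
        (tr_H E abut h2 hfinF n).2, Finset.mul_sum]
      refine Finset.sum_congr rfl fun kl hkl => ?_
      rw [hg]
      dsimp only
      rw [Finset.HasAntidiagonal.mem_antidiagonal.mp hkl]
    rw [tsum_congr h1, ← hgσ.tsum_sigma' fun n => (hasSum_fintype _).summable]
    exact Finset.HasAntidiagonal.sigmaAntidiagonalEquivProd.tsum_eq g

end spseq

end Groth.Agent.Lib.Helper75.SpTr
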