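import Groth.Agent.Lib.Helper75.FlatCx21

/- helper75: three-term complexes of flat modules over an Artinian local ring:
   exactness of the fibre complex implies exactness and flat cokernel (used for S11457). -/

set_option autoImplicit false
universe u

namespace Groth.Agent.Lib.Helper75.SqLift

open TensorProduct IsLocalRing Groth.Agent.Lib.Helper75.FlatCx

section Fibre

variable {R : Type u} [CommRing R] (𝔞 : Ideal R)
  {X Y : Type u} [AddCommGroup X] [Module R X] [AddCommGroup Y] [Module R Y]

/-- elementwise criterion for injectivity of `d ⊗ R/𝔞` -/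
theorem rTensor_quot_injective (d : X →ₗ[R] Y)
    (h : ∀ x, d x ∈ 𝔞 • (⊤ : Submodule R Y) → x ∈ 𝔞 • (⊤ : Submodule R X)) :
    Function.Injective (d.rTensor (R ⧸ 𝔞)) := by
  rw [injective_iff_map_eq_zero]
  intro z hz
  obtain ⟨q, rfl⟩ := exists_tmul_one_eq 𝔞 z
  rw [LinearMap.rTensor_tmul, tmul_one_eq_zero_iff] at hz
  rw [tmul_one_eq_zero_iff]
  exact h q hz

theorem map_mem_smul_top (d : X →ₗ[R] Y) {x : X} (hx : x ∈ 𝔞 • (⊤ : Submodule R X)) :
    d x ∈ 𝔞 • (⊤ : Submodule R Y) := by
  have : (𝔞 • (⊤ : Submodule R X)).map d ≤ 𝔞 • (⊤ : Submodule R Y) := by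
    rw [Submodule.map_smul'']
    exact Submodule.smul_mono le_rfl le_top
  exact this ⟨x, hx, rfl⟩

end Fibre

section GenLem

variable {R : Type u} [CommRing R] [IsLocalRing R] [IsArtinianRing R]
  {F2 F1 F0 : Type u} [AddCommGroup F2] [Module R F2] [AddCommGroup F1] [Module R F1]
  [AddCommGroup F0] [Module R F0]

theorem injective_of_rTensor_residue [Module.Flat R F1] (d : F2 →ₗ[R] F1)
    (hk : Function.Injective (d.rTensor (R ⧸ maximalIdeal R))) : Function.Injective d := by
  have hfin : IsFiniteLength R R :=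
    isFiniteLength_iff_isNoetherian_isArtinian.mpr ⟨inferInstance, inferInstance⟩
  obtain ⟨n, hn⟩ := ENat.ne_top_iff_exists.mp (Module.length_ne_top_iff.mpr hfin)
  have h1 : Function.Injective (d.rTensor R) := rTensor_injective_of_length d hk n R hn.symm
  rw [injective_iff_map_eq_zero]
  intro x hx
  have h2 : (d.rTensor R) (x ⊗ₜ[R] (1 : R)) = 0 := by
    rw [LinearMap.rTensor_tmul, hx, TensorProduct.zero_tmul]
  have h3 := h1 (h2.trans (map_zero _).symm)
  have := congrArg (TensorProduct.rid R F2) h3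
  simpa using this

/-- A three-term complex of flat modules over an Artinian local ring whose fibre over the
residue field is exact is itself exact, with flat cokernel. -/
theorem exact_of_fibre [Module.Flat R F1] [Module.Flat R F0]
    (d2 : F2 →ₗ[R] F1) (d1 : F1 →ₗ[R] F0) (hd : ∀ x, d1 (d2 x) = 0)
    (h2 : ∀ x, d2 x ∈ maximalIdeal R • (⊤ : Submodule R F1) →
      x ∈ maximalIdeal R • (⊤ : Submodule R F2))
    (h1 : ∀ y, d1 y ∈ maximalIdeal R • (⊤ : Submodule R F0) →
      ∃ x, y - d2 x ∈ maximalIdeal R • (⊤ : Submodule R F1)) :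
    Function.Injective d2 ∧ LinearMap.ker d1 ≤ LinearMap.range d2 ∧
    ∀ {V : Type u} [AddCommGroup V] [Module R V] (v : F0 →ₗ[R] V), Function.Exact d1 v →
      Function.Surjective v → Module.Flat R V := by
  have hk2 : Function.Injective (d2.rTensor (R ⧸ maximalIdeal R)) :=
    rTensor_quot_injective _ d2 h2
  have hle : LinearMap.range d2 ≤ LinearMap.ker d1 := by
    rintro _ ⟨x, rfl⟩
    exact hd x
  have hZ : Module.Flat R (F1 ⧸ LinearMap.range d2) :=
    flat_of_artinian d2 hk2 (LinearMap.range d2).mkQ (LinearMap.exact_map_mkQ_range d2)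
      (Submodule.mkQ_surjective _)
  set d1' : (F1 ⧸ LinearMap.range d2) →ₗ[R] F0 := (LinearMap.range d2).liftQ d1 hle with hd1'
  have hk1 : Function.Injective (d1'.rTensor (R ⧸ maximalIdeal R)) := by
    apply rTensor_quot_injective
    intro z hz
    obtain ⟨y, rfl⟩ := Submodule.mkQ_surjective _ z
    rw [hd1', Submodule.mkQ_apply, Submodule.liftQ_apply] at hz
    obtain ⟨x0, hx0⟩ := h1 y hz
    have h3 := map_mem_smul_top (maximalIdeal R) (LinearMap.range d2).mkQ hx0
    rw [map_sub] at h3
    have h4 : (LinearMap.range d2).mkQ (d2 x0) = 0 := by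
      rw [Submodule.mkQ_apply, Submodule.Quotient.mk_eq_zero]
      exact ⟨x0, rfl⟩
    rwa [h4, sub_zero] at h3
  have hinj1 : Function.Injective d1' := injective_of_rTensor_residue d1' hk1
  refine ⟨injective_of_rTensor_residue d2 hk2, ?_, ?_⟩
  · intro y hy
    have h3 : d1' ((LinearMap.range d2).mkQ y) = 0 := by
      rw [hd1', Submodule.mkQ_apply, Submodule.liftQ_apply]
      exact hy
    have h4 := hinj1 (h3.trans (map_zero _).symm)
    rwa [Submodule.mkQ_apply, Submodule.Quotient.mk_eq_zero] at h4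
  · intro V _ _ v hex hv
    refine flat_of_artinian d1' hk1 v ?_ hv
    intro y
    rw [hex y]
    constructor
    · rintro ⟨x, rfl⟩
      exact ⟨(LinearMap.range d2).mkQ x, by rw [hd1', Submodule.mkQ_apply, Submodule.liftQ_apply]⟩
    · rintro ⟨z, rfl⟩
      obtain ⟨x, rfl⟩ := Submodule.mkQ_surjective _ z
      exact ⟨x, by rw [hd1', Submodule.mkQ_apply, Submodule.liftQ_apply]⟩

end GenLem

end Groth.Agent.Lib.Helper75.SqLift
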