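import Groth.Agent.Lib.Helper75.SqLift1

/- helper75: exact sequence with flat cokernel stays exact mod any ideal, elementwise form. -/

set_option autoImplicit false
universe u

namespace Groth.Agent.Lib.Helper75.SqLift

open TensorProduct IsLocalRing Groth.Agent.Lib.Helper75.FlatCx

section Bar

variable {C : Type u} [CommRing C] (𝔞 : Ideal C)
  {G2 G1 G0 Q : Type u} [AddCommGroup G2] [Module C G2] [AddCommGroup G1] [Module C G1]
  [AddCommGroup G0] [Module C G0] [AddCommGroup Q] [Module C Q]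

/-- an exact sequence `0 → G2 → G1 → G0 → Q → 0` with `G0`, `Q` flat stays exact modulo any ideal
(elementwise form). -/
theorem fibre_of_flat_coker [Module.Flat C G0] [Module.Flat C Q]
    (e2 : G2 →ₗ[C] G1) (e1 : G1 →ₗ[C] G0) (v : G0 →ₗ[C] Q)
    (hinj : Function.Injective e2) (hex2 : Function.Exact e2 e1) (hex1 : Function.Exact e1 v)
    (hv : Function.Surjective v) :
    (∀ x, e2 x ∈ 𝔞 • (⊤ : Submodule C G1) → x ∈ 𝔞 • (⊤ : Submodule C G2)) ∧
    (∀ y, e1 y ∈ 𝔞 • (⊤ : Submodule C G0) → ∃ x, y - e2 x ∈ 𝔞 • (⊤ : Submodule C G1)) := by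
  have hr : Module.Flat C (LinearMap.range e1) := KerModel.flat_range v hex1 hv
  constructor
  · intro x hx
    have hex' : Function.Exact e2 e1.rangeRestrict := by
      intro y
      rw [← hex2 y]
      constructor
      · intro h
        have := congrArg Subtype.val h
        simpa using this
      · intro h
        apply Subtype.ext
        simpa using h
    have h1 := rTensor_injective_of_flat_quot e2 e1.rangeRestrict hinj hex'
      e1.surjective_rangeRestrict (C ⧸ 𝔞)
    rw [← tmul_one_eq_zero_iff] at hx ⊢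
    apply h1
    rw [LinearMap.rTensor_tmul, hx, map_zero]
  · intro y hy
    have h1 := KerModel.ker_rTensor_exact v hex1 hv (C ⧸ 𝔞)
    rw [← tmul_one_eq_zero_iff] at hy
    have h2 : (e1.rTensor (C ⧸ 𝔞)) (y ⊗ₜ[C] (1 : C ⧸ 𝔞)) = 0 := by
      rw [LinearMap.rTensor_tmul, hy]
    obtain ⟨w, hw⟩ := (h1 _).mp h2
    obtain ⟨k, rfl⟩ := exists_tmul_one_eq 𝔞 w
    rw [LinearMap.rTensor_tmul, Submodule.subtype_apply] at hw
    obtain ⟨x, hx⟩ := (hex2 k.1).mp k.2
    refine ⟨x, ?_⟩
    rw [← tmul_one_eq_zero_iff, TensorProduct.sub_tmul, hx, hw, sub_self]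

end Bar

end Groth.Agent.Lib.Helper75.SqLift
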