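import Groth.Agent.Lib.Helper75.SqLift2
import Mathlib.RingTheory.TensorProduct.Quotient
import Mathlib.RingTheory.Ideal.Over

/- helper75: transfer of `𝔪 • ⊤` membership along a reduction map `F → F̄` modulo `J ≤ 𝔪`. -/

set_option autoImplicit false
universe u

namespace Groth.Agent.Lib.Helper75.SqLift

open TensorProduct IsLocalRing Groth.Agent.Lib.Helper75.FlatCx

section Transfer

variable {R : Type u} [CommRing R] (𝔪 J : Ideal R)
  {F Fb : Type u} [AddCommGroup F] [Module R F] [AddCommGroup Fb] [Module R Fb]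
  [Module (R ⧸ J) Fb] [IsScalarTower R (R ⧸ J) Fb] (bar : F →ₗ[R] Fb)

theorem bar_mem_of_mem {x : F} (hx : x ∈ 𝔪 • (⊤ : Submodule R F)) :
    bar x ∈ (𝔪.map (Ideal.Quotient.mk J)) • (⊤ : Submodule (R ⧸ J) Fb) := by
  induction hx using Submodule.smul_induction_on' with
  | smul r hr n _ =>
    rw [map_smul, ← algebraMap_smul (R ⧸ J) r (bar n)]
    exact Submodule.smul_mem_smul (Ideal.mem_map_of_mem _ hr) Submodule.mem_top
  | add a _ b _ ha hb =>
    rw [map_add]
    exact add_mem ha hb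

theorem mem_of_bar_mem (hbar : Function.Surjective bar)
    (hker : LinearMap.ker bar ≤ 𝔪 • (⊤ : Submodule R F)) {x : F}
    (hx : bar x ∈ (𝔪.map (Ideal.Quotient.mk J)) • (⊤ : Submodule (R ⧸ J) Fb)) :
    x ∈ 𝔪 • (⊤ : Submodule R F) := by
  have key : ∀ z ∈ (𝔪.map (Ideal.Quotient.mk J)) • (⊤ : Submodule (R ⧸ J) Fb),
      ∃ x' ∈ 𝔪 • (⊤ : Submodule R F), bar x' = z := by
    intro z hz
    induction hz using Submodule.smul_induction_on' with
    | smul a ha n _ =>
      obtain ⟨r, hr, rfl⟩ := (Ideal.mem_map_iff_of_surjective _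
        Ideal.Quotient.mk_surjective).mp ha
      obtain ⟨n', rfl⟩ := hbar n
      refine ⟨r • n', Submodule.smul_mem_smul hr Submodule.mem_top, ?_⟩
      rw [map_smul, ← algebraMap_smul (R ⧸ J) r (bar n')]
      rfl
    | add a _ b _ ha hb =>
      obtain ⟨xa, hxa, rfl⟩ := ha
      obtain ⟨xb, hxb, rfl⟩ := hb
      exact ⟨xa + xb, add_mem hxa hxb, map_add _ _ _⟩
  obtain ⟨x', hx', hxx'⟩ := key _ hx
  have h1 : x - x' ∈ LinearMap.ker bar := by
    rw [LinearMap.mem_ker, map_sub, hxx', sub_self]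
  have h2 := add_mem (hker h1) hx'
  rwa [sub_add_cancel] at h2

end Transfer

end Groth.Agent.Lib.Helper75.SqLift
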