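import Groth.Agent.Lib.Helper75.SqLift3
import Mathlib.LinearAlgebra.Matrix.Determinant.Basic
import Mathlib.LinearAlgebra.Matrix.ToLin

/- helper75: signed maximal minors of an (r+1) x r matrix annihilate its columns. -/

set_option autoImplicit false
universe u

namespace Groth.Agent.Lib.Helper75.SqLift

open TensorProduct IsLocalRing Groth.Agent.Lib.Helper75.FlatCx

section Det

variable {S : Type*} [CommRing S] {r : ℕ}

/-- signed maximal minors of an `(r+1) × r` matrix -/
abbrev minor (φ : Matrix (Fin (r + 1)) (Fin r) S) (i : Fin (r + 1)) : S :=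
  (-1 : S) ^ (i : ℕ) * (φ.submatrix i.succAbove id).det

theorem sum_minor_mul (φ : Matrix (Fin (r + 1)) (Fin r) S) (j : Fin r) :
    ∑ i, minor φ i * φ i j = 0 := by
  let M : Matrix (Fin (r + 1)) (Fin (r + 1)) S :=
    Matrix.of fun i k => Fin.cases (φ i j) (fun k' => φ i k') k
  have h0 : M.det = 0 := by
    apply Matrix.det_zero_of_column_eq (Fin.succ_ne_zero j).symm
    intro i
    simp [M]
  rw [Matrix.det_succ_column_zero] at h0
  rw [← h0]
  apply Finset.sum_congr rfl
  intro i _
  have h1 : M.submatrix i.succAbove Fin.succ = φ.submatrix i.succAbove id := by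
    ext a b
    simp [M]
  rw [h1]
  simp only [minor, M, Matrix.of_apply, Fin.cases_zero]
  ring

theorem linearCombination_minor_mulVec (φ : Matrix (Fin (r + 1)) (Fin r) S) (x : Fin r → S) :
    Fintype.linearCombination S (minor φ) (φ.mulVecLin x) = 0 := by
  rw [Fintype.linearCombination_apply]
  simp only [Matrix.mulVecLin_apply, Matrix.mulVec, dotProduct, smul_eq_mul, Finset.sum_mul]
  rw [Finset.sum_comm]
  have : ∀ j : Fin r, ∑ i, φ i j * x j * minor φ i = x j * ∑ i, minor φ i * φ i j := by
    intro j
    rw [Finset.mul_sum]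
    apply Finset.sum_congr rfl
    intro i _
    ring
  simp only [this, sum_minor_mul, mul_zero, Finset.sum_const_zero]

theorem minor_map {S' : Type*} [CommRing S'] (f : S →+* S') (φ : Matrix (Fin (r + 1)) (Fin r) S)
    (i : Fin (r + 1)) : minor (φ.map f) i = f (minor φ i) := by
  simp only [minor, map_mul, map_pow, map_neg, map_one, RingHom.map_det]
  rfl

end Det

end Groth.Agent.Lib.Helper75.SqLift
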