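import Groth.Agent.Lib.Helper75.SqLift4

/- helper75: lifting exactness of the Hilbert–Burch complex `0 → B^r → B^{r+1} → B` and flatness of
   the cokernel from `B/JB` to `B`, for `B` flat over an Artinian local ring (S11457). -/

set_option autoImplicit false
universe u

namespace Groth.Agent.Lib.Helper75.SqLift

open TensorProduct IsLocalRing Groth.Agent.Lib.Helper75.FlatCx

section Main

variable {R : Type u} [CommRing R] (J : Ideal R) {B : Type u} [CommRing B] [Algebra R B]

/-- coordinatewise reduction modulo `J B` -/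
noncomputable def barN (n : ℕ) : (Fin n → B) →ₗ[R] (Fin n → B ⧸ J.map (algebraMap R B)) :=
  (Ideal.Quotient.mkₐ R (J.map (algebraMap R B))).toLinearMap.compLeft (Fin n)

theorem barN_apply (n : ℕ) (x : Fin n → B) (i : Fin n) :
    barN J n x i = Ideal.Quotient.mk (J.map (algebraMap R B)) (x i) := rfl

theorem barN_surjective (n : ℕ) : Function.Surjective (barN (B := B) J n) := by
  intro y
  choose x hx using fun i => Ideal.Quotient.mk_surjective (y i)
  exact ⟨x, funext hx⟩

theorem mem_smul_top_of_mem_map (𝔪 : Ideal R) (hJ : J ≤ 𝔪) {b : B}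
    (hb : b ∈ J.map (algebraMap R B)) : b ∈ 𝔪 • (⊤ : Submodule R B) := by
  have h1 : b ∈ (J • (⊤ : Submodule R B)) := by
    rw [Ideal.smul_top_eq_map]
    exact hb
  exact Submodule.smul_mono hJ le_rfl h1

theorem ker_barN_le (𝔪 : Ideal R) (hJ : J ≤ 𝔪) (n : ℕ) :
    LinearMap.ker (barN (B := B) J n) ≤ 𝔪 • (⊤ : Submodule R (Fin n → B)) := by
  intro x hx
  have h1 : ∀ i, x i ∈ J.map (algebraMap R B) := by
    intro i
    have := congrFun hx i
    rw [barN_apply] at this
    exact Ideal.Quotient.eq_zero_iff_mem.mp this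
  rw [← Finset.univ_sum_single x]
  apply Submodule.sum_mem
  intro i _
  exact map_mem_smul_top 𝔪 (LinearMap.single R (fun _ : Fin n => B) i)
    (mem_smul_top_of_mem_map J 𝔪 hJ (h1 i))

theorem ker_mk_le (𝔪 : Ideal R) (hJ : J ≤ 𝔪) :
    LinearMap.ker (Ideal.Quotient.mkₐ R (J.map (algebraMap R B))).toLinearMap ≤
      𝔪 • (⊤ : Submodule R B) := by
  intro x hx
  exact mem_smul_top_of_mem_map J 𝔪 hJ (Ideal.Quotient.eq_zero_iff_mem.mp hx)

instance towerQuot : IsScalarTower R (R ⧸ J) (B ⧸ J.map (algebraMap R B)) :=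
  Ideal.Quotient.tower_quotient_map_quotient

theorem barN_mem_iff (𝔪 : Ideal R) (hJ : J ≤ 𝔪) (n : ℕ) (x : Fin n → B) :
    barN J n x ∈ (𝔪.map (Ideal.Quotient.mk J)) •
      (⊤ : Submodule (R ⧸ J) (Fin n → B ⧸ J.map (algebraMap R B))) ↔
    x ∈ 𝔪 • (⊤ : Submodule R (Fin n → B)) :=
  ⟨fun h => mem_of_bar_mem 𝔪 J (barN J n) (barN_surjective J n) (ker_barN_le J 𝔪 hJ n) h,
    fun h => bar_mem_of_mem 𝔪 J (barN J n) h⟩

theorem mk_mem_iff (𝔪 : Ideal R) (hJ : J ≤ 𝔪) (x : B) :
    Ideal.Quotient.mk (J.map (algebraMap R B)) x ∈ (𝔪.map (Ideal.Quotient.mk J)) •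
      (⊤ : Submodule (R ⧸ J) (B ⧸ J.map (algebraMap R B))) ↔
    x ∈ 𝔪 • (⊤ : Submodule R B) :=
  ⟨fun h => mem_of_bar_mem 𝔪 J (Ideal.Quotient.mkₐ R (J.map (algebraMap R B))).toLinearMap
      Ideal.Quotient.mk_surjective (ker_mk_le J 𝔪 hJ) h,
    fun h => bar_mem_of_mem 𝔪 J (Ideal.Quotient.mkₐ R (J.map (algebraMap R B))).toLinearMap h⟩

end Main

section LC

variable (R : Type*) {S : Type*} [CommRing R] [CommRing S] [Algebra R S] {ι : Type*} [Fintype ι]

theorem exact_linearCombination_mkQ (g : ι → S) :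
    Function.Exact ((Fintype.linearCombination S g).restrictScalars R)
      ((Submodule.mkQ (Ideal.span (Set.range g))).restrictScalars R) := by
  intro y
  have h : LinearMap.range (Fintype.linearCombination S g) = Ideal.span (Set.range g) :=
    Fintype.range_linearCombination _ _
  rw [LinearMap.restrictScalars_apply, Submodule.mkQ_apply, Submodule.Quotient.mk_eq_zero, ← h]
  rfl

theorem mkQ_restrictScalars_surjective (P : Ideal S) :
    Function.Surjective ((Submodule.mkQ P).restrictScalars R) := by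
  intro y
  obtain ⟨b, rfl⟩ := Submodule.Quotient.mk_surjective _ y
  exact ⟨b, rfl⟩

end LC

section Assemble

variable {R : Type u} [CommRing R] [IsLocalRing R] [IsArtinianRing R] (J : Ideal R)
  (hJ : J ≤ maximalIdeal R) {B : Type u} [CommRing B] [Algebra R B] [Module.Flat R B]

omit [IsLocalRing R] [IsArtinianRing R] in
theorem flat_quot_map : Module.Flat (R ⧸ J) (B ⧸ J.map (algebraMap R B)) :=
  Module.Flat.of_linearEquiv
    (Algebra.TensorProduct.quotIdealMapEquivQuotTensor B J).toLinearEquiv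

include hJ in
/-- Exactness and flat cokernel of the Hilbert–Burch complex over `B`, from fibre exactness
(elementwise, modulo the image of the maximal ideal) of the reduced complex over `B/JB`. -/
theorem lift_hilbertBurch_aux (r : ℕ) (φ : Matrix (Fin (r + 1)) (Fin r) B)
    (E2 : ∀ x : Fin r → B ⧸ J.map (algebraMap R B),
      (φ.map (Ideal.Quotient.mk (J.map (algebraMap R B)))).mulVecLin x ∈
        ((maximalIdeal R).map (Ideal.Quotient.mk J)) •
          (⊤ : Submodule (R ⧸ J) (Fin (r + 1) → B ⧸ J.map (algebraMap R B))) →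
      x ∈ ((maximalIdeal R).map (Ideal.Quotient.mk J)) •
          (⊤ : Submodule (R ⧸ J) (Fin r → B ⧸ J.map (algebraMap R B))))
    (E1 : ∀ y : Fin (r + 1) → B ⧸ J.map (algebraMap R B),
      Fintype.linearCombination (B ⧸ J.map (algebraMap R B))
        (minor (φ.map (Ideal.Quotient.mk (J.map (algebraMap R B))))) y ∈
        ((maximalIdeal R).map (Ideal.Quotient.mk J)) •
          (⊤ : Submodule (R ⧸ J) (B ⧸ J.map (algebraMap R B))) →
      ∃ x : Fin r → B ⧸ J.map (algebraMap R B),
        y - (φ.map (Ideal.Quotient.mk (J.map (algebraMap R B)))).mulVecLin x ∈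
          ((maximalIdeal R).map (Ideal.Quotient.mk J)) •
            (⊤ : Submodule (R ⧸ J) (Fin (r + 1) → B ⧸ J.map (algebraMap R B)))) :
    Function.Injective φ.mulVecLin ∧
      LinearMap.range φ.mulVecLin = LinearMap.ker (Fintype.linearCombination B (minor φ)) ∧
      Module.Flat R (B ⧸ Ideal.span (Set.range (minor φ))) := by
  set I := J.map (algebraMap R B) with hI
  set φb := φ.map (Ideal.Quotient.mk I) with hφb
  let e2 : (Fin r → B ⧸ I) →ₗ[R ⧸ J] (Fin (r + 1) → B ⧸ I) := φb.mulVecLin.restrictScalars (R ⧸ J)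
  let e1 : (Fin (r + 1) → B ⧸ I) →ₗ[R ⧸ J] (B ⧸ I) :=
    (Fintype.linearCombination (B ⧸ I) (minor φb)).restrictScalars (R ⧸ J)
  -- the complex over `R`
  let d2 : (Fin r → B) →ₗ[R] (Fin (r + 1) → B) := φ.mulVecLin.restrictScalars R
  let d1 : (Fin (r + 1) → B) →ₗ[R] B := (Fintype.linearCombination B (minor φ)).restrictScalars R
  have hd : ∀ x, d1 (d2 x) = 0 := fun x => linearCombination_minor_mulVec φ x
  have hc2 : ∀ x, barN J (r + 1) (d2 x) = e2 (barN J r x) := by
    intro x
    funext i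
    exact RingHom.map_mulVec (Ideal.Quotient.mk I) φ x i
  have hc1 : ∀ y, (Ideal.Quotient.mkₐ R I).toLinearMap (d1 y) = e1 (barN J (r + 1) y) := by
    intro y
    change Ideal.Quotient.mk I (Fintype.linearCombination B (minor φ) y) =
      Fintype.linearCombination (B ⧸ I) (minor φb) (barN J (r + 1) y)
    rw [Fintype.linearCombination_apply, Fintype.linearCombination_apply, map_sum]
    apply Finset.sum_congr rfl
    intro i _
    rw [smul_eq_mul, smul_eq_mul, map_mul, hφb, minor_map, barN_apply]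
  have : Module.Flat R (Fin (r + 1) → B) := Module.Flat.trans R B _
  have h2 : ∀ x, d2 x ∈ maximalIdeal R • (⊤ : Submodule R (Fin (r + 1) → B)) →
      x ∈ maximalIdeal R • (⊤ : Submodule R (Fin r → B)) := by
    intro x hx
    rw [← barN_mem_iff J _ hJ] at hx ⊢
    rw [hc2] at hx
    exact E2 _ hx
  have h1 : ∀ y, d1 y ∈ maximalIdeal R • (⊤ : Submodule R B) →
      ∃ x, y - d2 x ∈ maximalIdeal R • (⊤ : Submodule R (Fin (r + 1) → B)) := by
    intro y hy
    rw [← mk_mem_iff J _ hJ] at hy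
    have hy' : e1 (barN J (r + 1) y) ∈ (Ideal.map (Ideal.Quotient.mk J) (maximalIdeal R)) •
        (⊤ : Submodule (R ⧸ J) (B ⧸ I)) := by
      rw [← hc1]
      exact hy
    obtain ⟨xb, hxb⟩ := E1 _ hy'
    obtain ⟨x, rfl⟩ := barN_surjective J r xb
    refine ⟨x, ?_⟩
    rw [← barN_mem_iff J _ hJ, map_sub, hc2]
    exact hxb
  obtain ⟨r1, r2, r3⟩ := exact_of_fibre d2 d1 hd h2 h1
  refine ⟨fun a b hab => r1 hab, le_antisymm ?_ ?_, ?_⟩
  · rintro _ ⟨x, rfl⟩
    exact hd x
  · intro y hy
    obtain ⟨x, hx⟩ := r2 hy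
    exact ⟨x, hx⟩
  · exact r3 ((Submodule.mkQ (Ideal.span (Set.range (minor φ)))).restrictScalars R)
      (exact_linearCombination_mkQ R (minor φ)) (mkQ_restrictScalars_surjective R _)

include hJ in
theorem lift_hilbertBurch (r : ℕ) (φ : Matrix (Fin (r + 1)) (Fin r) B)
    (hinj : Function.Injective
      (φ.map (Ideal.Quotient.mk (J.map (algebraMap R B)))).mulVecLin)
    (hex : LinearMap.range (φ.map (Ideal.Quotient.mk (J.map (algebraMap R B)))).mulVecLin =
      LinearMap.ker (Fintype.linearCombination (B ⧸ J.map (algebraMap R B))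
        (minor (φ.map (Ideal.Quotient.mk (J.map (algebraMap R B)))))))
    [hflat : Module.Flat (R ⧸ J) ((B ⧸ J.map (algebraMap R B)) ⧸
      Ideal.span (Set.range (minor (φ.map (Ideal.Quotient.mk (J.map (algebraMap R B)))))))] :
    Function.Injective φ.mulVecLin ∧
      LinearMap.range φ.mulVecLin = LinearMap.ker (Fintype.linearCombination B (minor φ)) ∧
      Module.Flat R (B ⧸ Ideal.span (Set.range (minor φ))) := by
  set I := J.map (algebraMap R B) with hI
  set φb := φ.map (Ideal.Quotient.mk I) with hφb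
  have hBb : Module.Flat (R ⧸ J) (B ⧸ I) := flat_quot_map J
  -- the reduced complex over `R ⧸ J`
  let e2 : (Fin r → B ⧸ I) →ₗ[R ⧸ J] (Fin (r + 1) → B ⧸ I) := φb.mulVecLin.restrictScalars (R ⧸ J)
  let e1 : (Fin (r + 1) → B ⧸ I) →ₗ[R ⧸ J] (B ⧸ I) :=
    (Fintype.linearCombination (B ⧸ I) (minor φb)).restrictScalars (R ⧸ J)
  let v : (B ⧸ I) →ₗ[R ⧸ J] ((B ⧸ I) ⧸ Ideal.span (Set.range (minor φb))) :=
    (Submodule.mkQ (Ideal.span (Set.range (minor φb)))).restrictScalars (R ⧸ J)
  have hex2 : Function.Exact e2 e1 := by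
    intro y
    have : y ∈ LinearMap.ker (Fintype.linearCombination (B ⧸ I) (minor φb)) ↔
        y ∈ LinearMap.range φb.mulVecLin := by rw [hex]
    exact this
  have hex1 : Function.Exact e1 v := exact_linearCombination_mkQ (R ⧸ J) (minor φb)
  have hv : Function.Surjective v := mkQ_restrictScalars_surjective (R ⧸ J) _
  obtain ⟨E2, E1⟩ := fibre_of_flat_coker ((maximalIdeal R).map (Ideal.Quotient.mk J))
    e2 e1 v hinj hex2 hex1 hv
  exact lift_hilbertBurch_aux J hJ r φ (fun x hx => E2 x hx) (fun y hy => E1 y hy)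

end Assemble

end Groth.Agent.Lib.Helper75.SqLift
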