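import Groth.Agent.Lib.Helper75.SqLift5
import Groth.Agent.Lib.Helper71.HilbertBurch

/- helper75: lifting of determinantal ideals over small extensions (S11459).
   The two lemmas `map_inf_eq_mul_of_flat_quotient`, `le_of_le_sup_map_of_isNilpotent` are copied
   from helper67's `Lib/Helper67/RegFlat2` (to avoid its large import closure). -/

set_option autoImplicit false
universe u v

namespace Groth.Agent.Lib.Helper75.SqLift

open TensorProduct IsLocalRing

section FlatQuotInf

variable {R : Type u} [CommRing R] {M : Type v} [AddCommGroup M] [Module R M]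

/-- If `M/K` is flat then `𝔞M ∩ K = 𝔞K`. (helper67) -/
theorem smul_top_inf_eq_smul_of_flat_quotient (K : Submodule R M) [Module.Flat R (M ⧸ K)]
    (𝔞 : Ideal R) : (𝔞 • (⊤ : Submodule R M)) ⊓ K = 𝔞 • K := by
  apply le_antisymm
  · rintro x ⟨hx1, hx2⟩
    have hinj : Function.Injective (LinearMap.lTensor (R ⧸ 𝔞) K.subtype) :=
      LinearMap.lTensor_injective_of_exact_of_flat K.mkQ (Submodule.mkQ_surjective K) K.subtype
        K.injective_subtype (LinearMap.exact_subtype_mkQ K) (R ⧸ 𝔞)
    have h0 : ((1 : R ⧸ 𝔞) ⊗ₜ[R] (⟨x, hx2⟩ : K)) = 0 := by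
      apply hinj
      rw [map_zero, LinearMap.lTensor_tmul, Submodule.subtype_apply]
      apply (TensorProduct.quotTensorEquivQuotSMul M 𝔞).injective
      rw [map_zero, TensorProduct.quotTensorEquivQuotSMul_mk_one_tmul,
        Submodule.Quotient.mk_eq_zero]
      exact hx1
    have h1 : (⟨x, hx2⟩ : K) ∈ (𝔞 • (⊤ : Submodule R K)) := by
      have := congrArg (TensorProduct.quotTensorEquivQuotSMul K 𝔞) h0
      rw [map_zero, TensorProduct.quotTensorEquivQuotSMul_mk_one_tmul,
        Submodule.Quotient.mk_eq_zero] at this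
      exact this
    have h2 : x ∈ Submodule.map K.subtype (𝔞 • (⊤ : Submodule R K)) := ⟨⟨x, hx2⟩, h1, rfl⟩
    rw [Submodule.map_smul'', Submodule.map_subtype_top] at h2
    exact h2
  · exact le_inf (Submodule.smul_mono le_rfl le_top) Submodule.smul_le_right

end FlatQuotInf

section IdealVersion

variable {C : Type u} {A : Type v} [CommRing C] [CommRing A] [Algebra C A]

/-- If `A/I` is flat over `C` then `𝔞A ∩ I = 𝔞I`. (helper67) -/
theorem map_inf_eq_mul_of_flat_quotient (I : Ideal A) [Module.Flat C (A ⧸ I)] (𝔞 : Ideal C) :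
    𝔞.map (algebraMap C A) ⊓ I = 𝔞.map (algebraMap C A) * I := by
  have : Module.Flat C (A ⧸ I.restrictScalars C) :=
    Module.Flat.of_linearEquiv (Submodule.Quotient.restrictScalarsEquiv C I)
  have h := smul_top_inf_eq_smul_of_flat_quotient (I.restrictScalars C) 𝔞
  ext x
  constructor
  · intro hx
    have h1 : x ∈ 𝔞 • I.restrictScalars C := by
      rw [← h]
      refine ⟨?_, hx.2⟩
      rw [Ideal.smul_top_eq_map]
      exact hx.1
    rw [← Ideal.smul_restrictScalars] at h1
    exact h1
  · intro hx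
    exact ⟨Ideal.mul_le_left hx, Ideal.mul_le_right hx⟩

end IdealVersion

section Coeff

variable {B : Type*} [CommRing B] {n : ℕ}

theorem exists_coeff_of_mem_mul_span (K : Ideal B) (v : Fin n → B) {x : B}
    (hx : x ∈ K * Ideal.span (Set.range v)) :
    ∃ c : Fin n → B, (∀ i, c i ∈ K) ∧ x = ∑ i, c i * v i := by
  induction hx using Submodule.mul_induction_on' with
  | mem_mul_mem k hk s hs =>
    obtain ⟨a, rfl⟩ := (Ideal.mem_span_range_iff_exists_fun).mp hs
    refine ⟨fun i => k * a i, fun i => K.mul_mem_right _ hk, ?_⟩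
    rw [Finset.mul_sum]
    exact Finset.sum_congr rfl fun i _ => by ring
  | add x _ y _ hx hy =>
    obtain ⟨c, hc, rfl⟩ := hx
    obtain ⟨d, hd, rfl⟩ := hy
    refine ⟨fun i => c i + d i, fun i => K.add_mem (hc i) (hd i), ?_⟩
    rw [← Finset.sum_add_distrib]
    exact Finset.sum_congr rfl fun i _ => by ring

/-- Hilbert–Burch uniqueness, elementwise: if `g` generates the relations `range Ψ`, `f` is
orthogonal to `range Ψ`, and the ideal of `g` contains a regular pair, then `f = a • g`. -/
theorem exists_eq_mul_of_orth {m : ℕ} (Ψ : Matrix (Fin n) (Fin m) B) (f g : Fin n → B)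
    (hker : ∀ v : Fin n → B, ∑ i, v i * g i = 0 → ∃ w, Ψ.mulVec w = v)
    (horth : ∀ w : Fin m → B, ∑ i, (Ψ.mulVec w) i * f i = 0)
    (x y : B) (hx : x ∈ Ideal.span (Set.range g)) (hy : y ∈ Ideal.span (Set.range g))
    (hxreg : ∀ r : B, x * r = 0 → r = 0)
    (hyreg : ∀ p q : B, y * p = x * q → ∃ p' : B, p = x * p') :
    ∃ a : B, ∀ k, f k = a * g k := by
  have key : ∀ v : Fin n → B, ∑ i, v i * g i = 0 → ∑ i, v i * f i = 0 := by
    intro v hv
    obtain ⟨w, rfl⟩ := hker v hv
    exact horth w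
  obtain ⟨α, hα⟩ := (Ideal.mem_span_range_iff_exists_fun).mp hx
  obtain ⟨β, hβ⟩ := (Ideal.mem_span_range_iff_exists_fun).mp hy
  set hx' := ∑ i, α i * f i with hhx
  set hy' := ∑ i, β i * f i with hhy
  have h1 : y * hx' = x * hy' := by
    have := key (fun i => y * α i - x * β i) (by
      simp only [sub_mul, Finset.sum_sub_distrib, mul_assoc, ← Finset.mul_sum, hα, hβ]
      ring)
    simp only [sub_mul, Finset.sum_sub_distrib, mul_assoc, ← Finset.mul_sum] at this
    exact sub_eq_zero.mp this
  obtain ⟨a, ha⟩ := hyreg hx' hy' h1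
  refine ⟨a, fun k => ?_⟩
  have h2 := key (fun i => x * (if i = k then 1 else 0) - g k * α i) (by
    simp only [sub_mul, Finset.sum_sub_distrib, mul_assoc, ← Finset.mul_sum, hα]
    simp only [ite_mul, one_mul, zero_mul, Finset.sum_ite_eq', Finset.mem_univ, if_true]
    ring)
  simp only [sub_mul, Finset.sum_sub_distrib, mul_assoc, ← Finset.mul_sum, ← hhx] at h2
  simp only [ite_mul, one_mul, zero_mul, Finset.sum_ite_eq', Finset.mem_univ, if_true] at h2
  have h3 : x * (f k - a * g k) = 0 := by
    rw [mul_sub, sub_eq_zero.mp h2, ha]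
    ring
  exact sub_eq_zero.mp (hxreg _ h3)

end Coeff

end Groth.Agent.Lib.Helper75.SqLift
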