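import Groth.Agent.Lib.Helper75.SqLift6

/- helper75: lifting of determinantal ideals over small extensions (S11459), main part. -/

set_option autoImplicit false
universe u v

namespace Groth.Agent.Lib.Helper75.SqLift

open TensorProduct IsLocalRing

section RegPair

variable {S : Type u} [CommRing S] [IsNoetherianRing S] {r : ℕ}

omit [IsNoetherianRing S] in
theorem D_eq_minor (Ψ : Matrix (Fin (r + 1)) (Fin r) S) : Helper71.HB.D Ψ = minor Ψ :=
  funext fun _ => rfl

theorem exists_regular_pair_of_exact (Ψ : Matrix (Fin (r + 1)) (Fin r) S)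
    (hinj : Function.Injective Ψ.mulVecLin)
    (hex : LinearMap.range Ψ.mulVecLin =
      LinearMap.ker (Fintype.linearCombination S (minor Ψ)))
    (hne : Ideal.span (Set.range (minor Ψ)) ≠ ⊥) :
    ∃ x ∈ Ideal.span (Set.range (minor Ψ)), ∃ y ∈ Ideal.span (Set.range (minor Ψ)),
      (∀ t : S, x * t = 0 → t = 0) ∧ (∀ p q : S, y * p = x * q → ∃ p' : S, p = x * p') := by
  have h1 : LinearMap.ker Ψ.mulVecLin = ⊥ := LinearMap.ker_eq_bot.mpr hinj
  have h2 : LinearMap.range (Fintype.linearCombination S (minor Ψ)) ≠ ⊥ := by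
    rw [Fintype.range_linearCombination]
    exact hne
  obtain ⟨-, -, hd⟩ := Helper71.HB.main_forward r (r + 1) Ψ
    (Fintype.linearCombination S (minor Ψ)) h1 hex.symm h2
  have := Helper71.HB.exists_regular_pair _ hd
  rw [Helper71.HB.minorIdeal_eq, D_eq_minor] at this
  exact this

end RegPair

section Lift

variable {R : Type u} [CommRing R] [IsLocalRing R] [IsArtinianRing R] (J : Ideal R)
  {B : Type u} [CommRing B] [Algebra R B] [Module.Flat R B] [Algebra.FiniteType R B]

local notation "K" => Ideal.map (algebraMap R B) J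

theorem lift_ideal (hJ : maximalIdeal R * J = ⊥) (hJne : J ≠ ⊤) (r : ℕ)
    (φ : Matrix (Fin (r + 1)) (Fin r) (B ⧸ J.map (algebraMap R B)))
    (hinj : Function.Injective φ.mulVecLin)
    (hex : LinearMap.range φ.mulVecLin =
      LinearMap.ker (Fintype.linearCombination (B ⧸ J.map (algebraMap R B)) (minor φ)))
    [hflat : Module.Flat (R ⧸ J) ((B ⧸ J.map (algebraMap R B)) ⧸
      Ideal.span (Set.range (minor φ)))]
    (hne : Ideal.span (Set.range (minor φ)) ≠ ⊥)
    (I' : Ideal B) [Module.Flat R (B ⧸ I')]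
    (hI' : I'.map (Ideal.Quotient.mk (J.map (algebraMap R B))) =
      Ideal.span (Set.range (minor φ))) :
    ∃ φ' : Matrix (Fin (r + 1)) (Fin r) B,
      φ'.map (Ideal.Quotient.mk (J.map (algebraMap R B))) = φ ∧
      I' = Ideal.span (Set.range (minor φ')) := by
  have hJle : J ≤ maximalIdeal R := IsLocalRing.le_maximalIdeal hJne
  have hJJ : J * J = ⊥ := by
    rw [eq_bot_iff, ← hJ]
    exact Ideal.mul_mono_left hJle
  have hKK : K * K = ⊥ := by
    rw [← Ideal.map_mul, hJJ, Ideal.map_bot]
  have hNB : IsNoetherianRing B := Algebra.FiniteType.isNoetherianRing R B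
  have hNBb : IsNoetherianRing (B ⧸ K) := inferInstance
  have hmk : Function.Surjective (Ideal.Quotient.mk K) := Ideal.Quotient.mk_surjective
  -- Step 1: lift generators into `I'`
  have h1 : ∀ i, ∃ b ∈ I', Ideal.Quotient.mk K b = minor φ i := by
    intro i
    have : minor φ i ∈ I'.map (Ideal.Quotient.mk K) := by
      rw [hI']
      exact Ideal.subset_span ⟨i, rfl⟩
    exact (Ideal.mem_map_iff_of_surjective _ hmk).mp this
  choose f' hf'I hf'mk using h1
  -- lift of the matrix
  choose ψ hψ using fun i j => hmk (φ i j)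
  -- Step 2: `I' = (f')`
  have hle : Ideal.span (Set.range f') ≤ I' := by
    rw [Ideal.span_le]
    rintro _ ⟨i, rfl⟩
    exact hf'I i
  have hmapf' : (Ideal.span (Set.range f')).map (Ideal.Quotient.mk K) =
      Ideal.span (Set.range (minor φ)) := by
    rw [Ideal.map_span, ← Set.range_comp]
    congr 2
    funext i
    exact hf'mk i
  have hsup : I' ≤ Ideal.span (Set.range f') ⊔ K := by
    intro x hx
    have h2 : Ideal.Quotient.mk K x ∈ (Ideal.span (Set.range f')).map (Ideal.Quotient.mk K) := by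
      rw [hmapf', ← hI']
      exact Ideal.mem_map_of_mem _ hx
    obtain ⟨y, hy, hyx⟩ := (Ideal.mem_map_iff_of_surjective _ hmk).mp h2
    have h3 : x - y ∈ K := by
      rw [← Ideal.Quotient.eq_zero_iff_mem, map_sub, hyx, sub_self]
    have := Submodule.add_mem_sup hy h3
    rwa [add_sub_cancel] at this
  have hinf : K ⊓ I' = K * I' := map_inf_eq_mul_of_flat_quotient I' J
  have hI'eq : I' = Ideal.span (Set.range f') := by
    apply le_antisymm _ hle
    intro x hx
    obtain ⟨y, hy, z, hz, rfl⟩ := Submodule.mem_sup.mp (hsup hx)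
    have hzI : z ∈ I' := by
      have := I'.sub_mem hx (hle hy)
      simpa using this
    have hz2 : z ∈ K * I' := by
      rw [← hinf]
      exact ⟨hz, hzI⟩
    have hz3 : K * I' ≤ Ideal.span (Set.range f') := by
      calc K * I' ≤ K * (Ideal.span (Set.range f') ⊔ K) := Ideal.mul_mono_right hsup
        _ = K * Ideal.span (Set.range f') ⊔ K * K := Ideal.mul_sup _ _ _
        _ ≤ Ideal.span (Set.range f') := by
            rw [hKK]
            exact sup_le Ideal.mul_le_right bot_le
    exact Submodule.add_mem _ hy (hz3 hz2)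
  -- Step 3: lift the relations
  have h3 : ∀ j, ∃ c : Fin (r + 1) → B, (∀ i, c i ∈ K) ∧
      ∑ i, f' i * ψ i j = ∑ i, c i * f' i := by
    intro j
    apply exists_coeff_of_mem_mul_span
    rw [← hI'eq, ← hinf]
    refine ⟨?_, ?_⟩
    · show ∑ i, f' i * ψ i j ∈ K
      rw [← Ideal.Quotient.eq_zero_iff_mem, map_sum]
      simp only [map_mul, hf'mk, hψ]
      exact sum_minor_mul φ j
    · exact I'.sum_mem fun i _ => I'.mul_mem_right _ (hf'I i)
  choose c hcK hc using h3
  let φ' : Matrix (Fin (r + 1)) (Fin r) B := Matrix.of fun i j => ψ i j - c j i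
  have hφ'map : φ'.map (Ideal.Quotient.mk K) = φ := by
    ext i j
    simp only [Matrix.map_apply, φ', Matrix.of_apply, map_sub, hψ]
    rw [Ideal.Quotient.eq_zero_iff_mem.mpr (hcK j i), sub_zero]
  have hrel : ∀ j, ∑ i, f' i * φ' i j = 0 := by
    intro j
    simp only [φ', Matrix.of_apply, mul_sub, Finset.sum_sub_distrib, hc j]
    rw [sub_eq_zero]
    exact Finset.sum_congr rfl fun i _ => mul_comm _ _
  refine ⟨φ', hφ'map, ?_⟩
  -- Step 4: exactness over `B`
  have hinj' : Function.Injective (φ'.map (Ideal.Quotient.mk K)).mulVecLin := by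
    rw [hφ'map]; exact hinj
  have hex' : LinearMap.range (φ'.map (Ideal.Quotient.mk K)).mulVecLin =
      LinearMap.ker (Fintype.linearCombination (B ⧸ K)
        (minor (φ'.map (Ideal.Quotient.mk K)))) := by
    rw [hφ'map]; exact hex
  have hflat' : Module.Flat (R ⧸ J) ((B ⧸ K) ⧸
      Ideal.span (Set.range (minor (φ'.map (Ideal.Quotient.mk K))))) := by
    rw [hφ'map]; exact hflat
  obtain ⟨e1, e2, -⟩ := lift_hilbertBurch J hJle r φ' hinj' hex'
  have hgmk : ∀ i, Ideal.Quotient.mk K (minor φ' i) = minor φ i := by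
    intro i
    rw [← minor_map, hφ'map]
  -- Step 5: regular pairs
  have hne' : Ideal.span (Set.range (minor φ')) ≠ ⊥ := by
    intro h0
    apply hne
    rw [eq_bot_iff, Ideal.span_le]
    rintro _ ⟨i, rfl⟩
    have : minor φ' i ∈ Ideal.span (Set.range (minor φ')) := Ideal.subset_span ⟨i, rfl⟩
    rw [h0, Ideal.mem_bot] at this
    rw [← hgmk, this, map_zero]
    exact Ideal.zero_mem _
  obtain ⟨x, hx, y, hy, hxreg, hyreg⟩ := exists_regular_pair_of_exact φ' e1 e2 hne'
  obtain ⟨xb, hxb, -, -, hxbreg, -⟩ := exists_regular_pair_of_exact φ hinj hex hne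
  have hker : ∀ v : Fin (r + 1) → B, ∑ i, v i * minor φ' i = 0 → ∃ w, φ'.mulVec w = v := by
    intro v hv
    have : v ∈ LinearMap.ker (Fintype.linearCombination B (minor φ')) := by
      rw [LinearMap.mem_ker, Fintype.linearCombination_apply]
      simpa only [smul_eq_mul] using hv
    rw [← e2] at this
    exact this
  have horth : ∀ w : Fin r → B, ∑ i, (φ'.mulVec w) i * f' i = 0 := by
    intro w
    simp only [Matrix.mulVec, dotProduct, Finset.sum_mul]
    rw [Finset.sum_comm]
    have : ∀ j : Fin r, ∑ i, φ' i j * w j * f' i = w j * ∑ i, f' i * φ' i j := by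
      intro j
      rw [Finset.mul_sum]
      exact Finset.sum_congr rfl fun i _ => by ring
    simp only [this, hrel, mul_zero, Finset.sum_const_zero]
  obtain ⟨a, ha⟩ := exists_eq_mul_of_orth φ' f' (minor φ') hker horth x y hx hy hxreg hyreg
  -- Step 5c: `a ≡ 1 mod K`
  have ha1 : a - 1 ∈ K := by
    rw [← Ideal.Quotient.eq_zero_iff_mem]
    have h4 : ∀ z ∈ Ideal.span (Set.range (minor φ)), z * Ideal.Quotient.mk K (a - 1) = 0 := by
      intro z hz
      induction hz using Submodule.span_induction with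
      | mem z hz =>
        obtain ⟨k, rfl⟩ := hz
        have := congrArg (Ideal.Quotient.mk K) (ha k)
        rw [map_mul, hf'mk, hgmk] at this
        rw [map_sub, map_one, mul_sub, mul_one, mul_comm, ← this, sub_self]
      | zero => rw [zero_mul]
      | add u v _ _ hu hv => rw [add_mul, hu, hv, add_zero]
      | smul t u _ hu => rw [smul_eq_mul, mul_assoc, hu, mul_zero]
    exact hxbreg _ (h4 xb hxb)
  have hsq : (a - 1) * (a - 1) = 0 := by
    have : (a - 1) * (a - 1) ∈ K * K := Ideal.mul_mem_mul ha1 ha1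
    rwa [hKK, Ideal.mem_bot] at this
  have hunit : a * (2 - a) = 1 := by
    have : a * (2 - a) = 1 - (a - 1) * (a - 1) := by ring
    rw [this, hsq, sub_zero]
  -- Step 6
  rw [hI'eq]
  apply le_antisymm
  · rw [Ideal.span_le]
    rintro _ ⟨k, rfl⟩
    rw [ha k]
    exact Ideal.mul_mem_left _ _ (Ideal.subset_span ⟨k, rfl⟩)
  · rw [Ideal.span_le]
    rintro _ ⟨k, rfl⟩
    have : minor φ' k = (2 - a) * f' k := by
      rw [ha k, ← mul_assoc, mul_comm (2 - a) a, hunit, one_mul]
    rw [this]
    exact Ideal.mul_mem_left _ _ (Ideal.subset_span ⟨k, rfl⟩)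

end Lift

end Groth.Agent.Lib.Helper75.SqLift
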