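import Groth.Agent.Lib.Helper75.SqLift7

/- helper75: lifting of determinantal ideals along a nilpotent ideal `J ≤ 𝔪` of an Artinian local
   ring, from fibre exactness of the reduced Hilbert–Burch complex (S11458).
   `le_of_le_sup_map_of_isNilpotent` is copied from helper67's `Lib/Helper67/RegFlat2`. -/

set_option autoImplicit false
universe u v

namespace Groth.Agent.Lib.Helper75.SqLift

open TensorProduct IsLocalRing

section Nak

variable {C : Type u} {A : Type v} [CommRing C] [CommRing A] [Algebra C A]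

/-- Nakayama for nilpotent ideals and flat quotients (helper67). -/
theorem le_of_le_sup_map_of_isNilpotent (I I' : Ideal A) [Module.Flat C (A ⧸ I)] (𝔞 : Ideal C)
    (h𝔞 : IsNilpotent 𝔞) (hle : I' ≤ I) (h : I ≤ I' ⊔ 𝔞.map (algebraMap C A)) : I ≤ I' := by
  have key : ∀ n : ℕ, I ≤ I' ⊔ (𝔞 ^ (n + 1)).map (algebraMap C A) := by
    intro n
    induction n with
    | zero => simpa using h
    | succ n ih =>
      intro x hx
      obtain ⟨y, hy, z, hz, rfl⟩ := Submodule.mem_sup.mp (ih hx)
      have hzI : z ∈ I := by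
        have := I.sub_mem hx (hle hy)
        simpa using this
      have hz2 : z ∈ (𝔞 ^ (n + 1)).map (algebraMap C A) * I := by
        rw [← map_inf_eq_mul_of_flat_quotient]
        exact ⟨hz, hzI⟩
      have hz3 : (𝔞 ^ (n + 1)).map (algebraMap C A) * I ≤
          I' ⊔ (𝔞 ^ (n + 1 + 1)).map (algebraMap C A) := by
        calc (𝔞 ^ (n + 1)).map (algebraMap C A) * I
            ≤ (𝔞 ^ (n + 1)).map (algebraMap C A) * (I' ⊔ 𝔞.map (algebraMap C A)) :=
              Ideal.mul_mono_right h
          _ = (𝔞 ^ (n + 1)).map (algebraMap C A) * I' ⊔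
                (𝔞 ^ (n + 1)).map (algebraMap C A) * 𝔞.map (algebraMap C A) := Ideal.mul_sup _ _ _
          _ ≤ I' ⊔ (𝔞 ^ (n + 1 + 1)).map (algebraMap C A) := by
              refine sup_le_sup Ideal.mul_le_right ?_
              rw [← Ideal.map_mul, ← pow_succ]
      exact Submodule.add_mem _ (Submodule.mem_sup_left hy) (hz3 hz2)
  obtain ⟨n, hn⟩ := h𝔞
  have := key n
  rw [pow_succ, hn] at this
  simpa using this

end Nak

section LiftF

variable {R : Type u} [CommRing R] [IsLocalRing R] [IsArtinianRing R] (J : Ideal R)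
  {B : Type u} [CommRing B] [Algebra R B] [Module.Flat R B] [Algebra.FiniteType R B]

local notation "K" => Ideal.map (algebraMap R B) J

theorem lift_ideal_of_fibre (hJle : J ≤ maximalIdeal R) (hnil : IsNilpotent J) (r : ℕ)
    (φ : Matrix (Fin (r + 1)) (Fin r) (B ⧸ J.map (algebraMap R B)))
    (hinj : Function.Injective φ.mulVecLin)
    (hex : LinearMap.range φ.mulVecLin =
      LinearMap.ker (Fintype.linearCombination (B ⧸ J.map (algebraMap R B)) (minor φ)))
    (E2 : ∀ x : Fin r → B ⧸ J.map (algebraMap R B),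
      φ.mulVecLin x ∈ ((maximalIdeal R).map (Ideal.Quotient.mk J)) •
          (⊤ : Submodule (R ⧸ J) (Fin (r + 1) → B ⧸ J.map (algebraMap R B))) →
      x ∈ ((maximalIdeal R).map (Ideal.Quotient.mk J)) •
          (⊤ : Submodule (R ⧸ J) (Fin r → B ⧸ J.map (algebraMap R B))))
    (E1 : ∀ y : Fin (r + 1) → B ⧸ J.map (algebraMap R B),
      Fintype.linearCombination (B ⧸ J.map (algebraMap R B)) (minor φ) y ∈
        ((maximalIdeal R).map (Ideal.Quotient.mk J)) •
          (⊤ : Submodule (R ⧸ J) (B ⧸ J.map (algebraMap R B))) →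
      ∃ x : Fin r → B ⧸ J.map (algebraMap R B),
        y - φ.mulVecLin x ∈ ((maximalIdeal R).map (Ideal.Quotient.mk J)) •
            (⊤ : Submodule (R ⧸ J) (Fin (r + 1) → B ⧸ J.map (algebraMap R B))))
    (hne : Ideal.span (Set.range (minor φ)) ≠ ⊥)
    (I' : Ideal B) [Module.Flat R (B ⧸ I')]
    (hI' : I'.map (Ideal.Quotient.mk (J.map (algebraMap R B))) =
      Ideal.span (Set.range (minor φ))) :
    ∃ φ' : Matrix (Fin (r + 1)) (Fin r) B,
      φ'.map (Ideal.Quotient.mk (J.map (algebraMap R B))) = φ ∧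
      I' = Ideal.span (Set.range (minor φ')) ∧ Function.Injective φ'.mulVecLin ∧
      LinearMap.range φ'.mulVecLin =
        LinearMap.ker (Fintype.linearCombination B (minor φ')) := by
  obtain ⟨N, hN⟩ := id hnil
  have hKN : K ^ N = ⊥ := by
    rw [← Ideal.map_pow, hN, Ideal.zero_eq_bot, Ideal.map_bot]
  have hNB : IsNoetherianRing B := Algebra.FiniteType.isNoetherianRing R B
  have hNBb : IsNoetherianRing (B ⧸ K) := inferInstance
  have hmk : Function.Surjective (Ideal.Quotient.mk K) := Ideal.Quotient.mk_surjective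
  -- Step 1: lift generators into `I'`
  have h1 : ∀ i, ∃ b ∈ I', Ideal.Quotient.mk K b = minor φ i := by
    intro i
    have : minor φ i ∈ I'.map (Ideal.Quotient.mk K) := by
      rw [hI']
      exact Ideal.subset_span ⟨i, rfl⟩
    exact (Ideal.mem_map_iff_of_surjective _ hmk).mp this
  choose f' hf'I hf'mk using h1
  -- lift of the matrix
  choose ψ hψ using fun i j => hmk (φ i j)
  -- Step 2: `I' = (f')`
  have hle : Ideal.span (Set.range f') ≤ I' := by
    rw [Ideal.span_le]
    rintro _ ⟨i, rfl⟩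
    exact hf'I i
  have hmapf' : (Ideal.span (Set.range f')).map (Ideal.Quotient.mk K) =
      Ideal.span (Set.range (minor φ)) := by
    rw [Ideal.map_span, ← Set.range_comp]
    congr 2
    funext i
    exact hf'mk i
  have hsup : I' ≤ Ideal.span (Set.range f') ⊔ K := by
    intro x hx
    have h2 : Ideal.Quotient.mk K x ∈ (Ideal.span (Set.range f')).map (Ideal.Quotient.mk K) := by
      rw [hmapf', ← hI']
      exact Ideal.mem_map_of_mem _ hx
    obtain ⟨y, hy, hyx⟩ := (Ideal.mem_map_iff_of_surjective _ hmk).mp h2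
    have h3 : x - y ∈ K := by
      rw [← Ideal.Quotient.eq_zero_iff_mem, map_sub, hyx, sub_self]
    have := Submodule.add_mem_sup hy h3
    rwa [add_sub_cancel] at this
  have hinf : K ⊓ I' = K * I' := map_inf_eq_mul_of_flat_quotient I' J
  have hI'eq : I' = Ideal.span (Set.range f') :=
    le_antisymm (le_of_le_sup_map_of_isNilpotent I' _ J hnil hle hsup) hle
  -- Step 3: lift the relations
  have h3 : ∀ j, ∃ c : Fin (r + 1) → B, (∀ i, c i ∈ K) ∧
      ∑ i, f' i * ψ i j = ∑ i, c i * f' i := by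
    intro j
    apply exists_coeff_of_mem_mul_span
    rw [← hI'eq, ← hinf]
    refine ⟨?_, ?_⟩
    · show ∑ i, f' i * ψ i j ∈ K
      rw [← Ideal.Quotient.eq_zero_iff_mem, map_sum]
      simp only [map_mul, hf'mk, hψ]
      exact sum_minor_mul φ j
    · exact I'.sum_mem fun i _ => I'.mul_mem_right _ (hf'I i)
  choose c hcK hc using h3
  let φ' : Matrix (Fin (r + 1)) (Fin r) B := Matrix.of fun i j => ψ i j - c j i
  have hφ'map : φ'.map (Ideal.Quotient.mk K) = φ := by
    ext i j
    simp only [Matrix.map_apply, φ', Matrix.of_apply, map_sub, hψ]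
    rw [Ideal.Quotient.eq_zero_iff_mem.mpr (hcK j i), sub_zero]
  have hrel : ∀ j, ∑ i, f' i * φ' i j = 0 := by
    intro j
    simp only [φ', Matrix.of_apply, mul_sub, Finset.sum_sub_distrib, hc j]
    rw [sub_eq_zero]
    exact Finset.sum_congr rfl fun i _ => mul_comm _ _
  -- Step 4: exactness over `B`
  obtain ⟨e1, e2, -⟩ := lift_hilbertBurch_aux J hJle r φ'
    (by rw [hφ'map]; exact E2) (by rw [hφ'map]; exact E1)
  have hgmk : ∀ i, Ideal.Quotient.mk K (minor φ' i) = minor φ i := by
    intro i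
    rw [← minor_map, hφ'map]
  -- Step 5: regular pairs
  have hne' : Ideal.span (Set.range (minor φ')) ≠ ⊥ := by
    intro h0
    apply hne
    rw [eq_bot_iff, Ideal.span_le]
    rintro _ ⟨i, rfl⟩
    have : minor φ' i ∈ Ideal.span (Set.range (minor φ')) := Ideal.subset_span ⟨i, rfl⟩
    rw [h0, Ideal.mem_bot] at this
    rw [← hgmk, this, map_zero]
    exact Ideal.zero_mem _
  obtain ⟨x, hx, y, hy, hxreg, hyreg⟩ := exists_regular_pair_of_exact φ' e1 e2 hne'
  obtain ⟨xb, hxb, -, -, hxbreg, -⟩ := exists_regular_pair_of_exact φ hinj hex hne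
  have hker : ∀ v : Fin (r + 1) → B, ∑ i, v i * minor φ' i = 0 → ∃ w, φ'.mulVec w = v := by
    intro v hv
    have : v ∈ LinearMap.ker (Fintype.linearCombination B (minor φ')) := by
      rw [LinearMap.mem_ker, Fintype.linearCombination_apply]
      simpa only [smul_eq_mul] using hv
    rw [← e2] at this
    exact this
  have horth : ∀ w : Fin r → B, ∑ i, (φ'.mulVec w) i * f' i = 0 := by
    intro w
    simp only [Matrix.mulVec, dotProduct, Finset.sum_mul]
    rw [Finset.sum_comm]
    have : ∀ j : Fin r, ∑ i, φ' i j * w j * f' i = w j * ∑ i, f' i * φ' i j := by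
      intro j
      rw [Finset.mul_sum]
      exact Finset.sum_congr rfl fun i _ => by ring
    simp only [this, hrel, mul_zero, Finset.sum_const_zero]
  obtain ⟨a, ha⟩ := exists_eq_mul_of_orth φ' f' (minor φ') hker horth x y hx hy hxreg hyreg
  -- Step 5c: `a ≡ 1 mod K`
  have ha1 : a - 1 ∈ K := by
    rw [← Ideal.Quotient.eq_zero_iff_mem]
    have h4 : ∀ z ∈ Ideal.span (Set.range (minor φ)), z * Ideal.Quotient.mk K (a - 1) = 0 := by
      intro z hz
      induction hz using Submodule.span_induction with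
      | mem z hz =>
        obtain ⟨k, rfl⟩ := hz
        have := congrArg (Ideal.Quotient.mk K) (ha k)
        rw [map_mul, hf'mk, hgmk] at this
        rw [map_sub, map_one, mul_sub, mul_one, mul_comm, ← this, sub_self]
      | zero => rw [zero_mul]
      | add u v _ _ hu hv => rw [add_mul, hu, hv, add_zero]
      | smul t u _ hu => rw [smul_eq_mul, mul_assoc, hu, mul_zero]
    exact hxbreg _ (h4 xb hxb)
  have hnila : IsNilpotent (a - 1) := by
    refine ⟨N, ?_⟩
    have := Ideal.pow_mem_pow ha1 N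
    rwa [hKN, Ideal.mem_bot] at this
  have hua : IsUnit a := by
    have := hnila.isUnit_add_one
    rwa [sub_add_cancel] at this
  obtain ⟨u, rfl⟩ := hua
  refine ⟨φ', hφ'map, ?_, e1, e2⟩
  -- Step 6
  rw [hI'eq]
  apply le_antisymm
  · rw [Ideal.span_le]
    rintro _ ⟨k, rfl⟩
    rw [ha k]
    exact Ideal.mul_mem_left _ _ (Ideal.subset_span ⟨k, rfl⟩)
  · rw [Ideal.span_le]
    rintro _ ⟨k, rfl⟩
    have : minor φ' k = (↑u⁻¹ : B) * f' k := by
      rw [ha k, ← mul_assoc, Units.inv_mul, one_mul]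
    rw [this]
    exact Ideal.mul_mem_left _ _ (Ideal.subset_span ⟨k, rfl⟩)

end LiftF

end Groth.Agent.Lib.Helper75.SqLift
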