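import Mathlib.Algebra.Category.ModuleCat.Monoidal.Basic
import Mathlib.Algebra.Category.ModuleCat.Abelian
import Mathlib.Algebra.Category.ModuleCat.Colimits
import Mathlib.CategoryTheory.Linear.LinearFunctor
import Mathlib.CategoryTheory.Limits.Preserves.Finite
import Mathlib.Algebra.Category.ModuleCat.Basic
import Mathlib.LinearAlgebra.TensorProduct.Basic
import Mathlib.LinearAlgebra.FreeModule.Basic
import Mathlib.LinearAlgebra.DirectSum.Finsupp
import Mathlib.Algebra.Homology.ShortComplex.ShortExact

set_option autoImplicit false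
universe u

namespace Groth.Agent.Lib.Helper75

open CategoryTheory CategoryTheory.Limits

variable {A : Type u} [CommRing A]
  (T : ModuleCat.{u} A ⥤ ModuleCat.{u} A) [T.Additive] [T.Linear A]

/-- the homothety `θ_x : A → M`, `a ↦ a • x`, as a morphism -/
noncomputable def theta (M : ModuleCat.{u} A) (x : M) : ModuleCat.of A A ⟶ M :=
  (ModuleCat.homLinearEquiv (S := A)).symm ((LinearMap.ringLmapEquivSelf A A M).symm x)

@[simp]
theorem theta_apply (M : ModuleCat.{u} A) (x : M) (a : A) : (theta M x).hom a = a • x := by
  change (LinearMap.smulRight (1 : A →ₗ[A] A) x) a = a • x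
  simp

theorem theta_comp {M N : ModuleCat.{u} A} (f : M ⟶ N) (x : M) :
    theta M x ≫ f = theta N (f.hom x) := by
  ext
  simp only [ModuleCat.hom_comp, LinearMap.coe_comp, Function.comp_apply]
  rw [theta_apply M x (1 : A), theta_apply N (f.hom x) (1 : A), one_smul, one_smul]

/-- the comparison map `t_M : T(A) ⊗ M → T(M)` -/
noncomputable def tMap (M : ModuleCat.{u} A) :
    TensorProduct A (T.obj (ModuleCat.of A A)) M →ₗ[A] T.obj M :=
  TensorProduct.lift (LinearMap.flip
    ((ModuleCat.homLinearEquiv (S := A)).toLinearMap ∘ₗ Functor.mapLinearMap A T ∘ₗ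
      (ModuleCat.homLinearEquiv (S := A)).symm.toLinearMap ∘ₗ
        (LinearMap.ringLmapEquivSelf A A M).symm.toLinearMap))

theorem tMap_tmul (M : ModuleCat.{u} A) (y : T.obj (ModuleCat.of A A)) (x : M) :
    tMap T M (y ⊗ₜ x) = (T.map (theta M x)).hom y := by
  rfl

theorem tMap_naturality {M N : ModuleCat.{u} A} (f : M ⟶ N) :
    (T.map f).hom ∘ₗ tMap T M = tMap T N ∘ₗ (LinearMap.lTensor _ f.hom) := by
  apply TensorProduct.ext'
  intro y x
  simp only [LinearMap.coe_comp, Function.comp_apply, LinearMap.lTensor_tmul, tMap_tmul]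
  rw [← theta_comp, T.map_comp]
  rfl

section free

variable [∀ J : Type u, PreservesColimitsOfShape (Discrete J) T]

/-- a free module with its basis homotheties is a coproduct of copies of `A` -/
noncomputable def freeCofan (L : ModuleCat.{u} A) {I : Type u} (b : Module.Basis I A L) :
    Cofan (fun _ : I => ModuleCat.of A A) :=
  Cofan.mk L (fun i => theta L (b i))

noncomputable def freeCofanIsColimit (L : ModuleCat.{u} A) {I : Type u} (b : Module.Basis I A L) :
    IsColimit (freeCofan L b) :=
  Cofan.IsColimit.mk (freeCofan L b)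
    (fun t => ModuleCat.ofHom (b.constr A (fun i => (t.inj i).hom (1 : A))))
    (fun t j => by
      ext
      change (b.constr A (fun i => (t.inj i).hom (1 : A))) ((theta L (b j)).hom (1 : A)) = _
      rw [theta_apply, one_smul, Module.Basis.constr_basis])
    (fun t m hm => by
      have key : ∀ i, m.hom (b i) = (t.inj i).hom (1 : A) := fun i => by
        have := congrArg (fun f => f.hom (1 : A)) (hm i)
        change m.hom ((theta L (b i)).hom (1 : A)) = _ at this
        rwa [theta_apply, one_smul] at this
      ext : 1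
      apply b.ext
      intro i
      change m.hom (b i) = b.constr A (fun i => (t.inj i).hom (1 : A)) (b i)
      rw [Module.Basis.constr_basis, key])

theorem tMap_bijective_of_free (L : ModuleCat.{u} A) [Module.Free A L] :
    Function.Bijective (tMap T L) := by
  classical
  let I := Module.Free.ChooseBasisIndex A L
  let b : Module.Basis I A L := Module.Free.chooseBasis A L
  have hTc : IsColimit (T.mapCocone (freeCofan L b)) :=
    isColimitOfPreserves T (freeCofanIsColimit L b)
  let Φ : (I →₀ T.obj (ModuleCat.of A A)) →ₗ[A] T.obj L :=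
    Finsupp.lsum A (fun i => (T.map (theta L (b i))).hom)
  have hΦs : ∀ (i : I) (y : T.obj (ModuleCat.of A A)),
      Φ (Finsupp.single i y) = (T.map (theta L (b i))).hom y := by
    intro i y
    change (Finsupp.lsum A (fun i => (T.map (theta L (b i))).hom)) (Finsupp.single i y) = _
    rw [Finsupp.lsum_apply]
    exact Finsupp.sum_single_index (h := fun j z => (T.map (theta L (b j))).hom z) (map_zero _)
  let s : Cocone (Discrete.functor (fun _ : I => ModuleCat.of A A) ⋙ T) :=
    { pt := ModuleCat.of A (I →₀ T.obj (ModuleCat.of A A))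
      ι := Discrete.natTrans (fun i => ModuleCat.ofHom (Finsupp.lsingle i.as)) }
  let g : T.obj L ⟶ ModuleCat.of A (I →₀ T.obj (ModuleCat.of A A)) := hTc.desc s
  have hg : ∀ i : I, T.map (theta L (b i)) ≫ g = ModuleCat.ofHom (Finsupp.lsingle i) :=
    fun i => hTc.fac s ⟨i⟩
  have hg' : ∀ (i : I) (y : T.obj (ModuleCat.of A A)),
      g.hom ((T.map (theta L (b i))).hom y) = Finsupp.single i y := by
    intro i y
    have := congrArg (fun f => f.hom y) (hg i)
    simpa using this
  have h1 : ∀ x, g.hom (Φ x) = x := by
    intro x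
    induction x using Finsupp.induction_linear with
    | zero => simp
    | add x y hx hy => rw [map_add, map_add, hx, hy]
    | single i y => rw [hΦs, hg']
  have h2 : g ≫ ModuleCat.ofHom Φ = 𝟙 (T.obj L) := by
    apply hTc.hom_ext
    rintro ⟨i⟩
    change T.map (theta L (b i)) ≫ (g ≫ ModuleCat.ofHom Φ) =
      T.map (theta L (b i)) ≫ 𝟙 (T.obj L)
    rw [← Category.assoc, hg i, Category.comp_id]
    ext y
    exact hΦs i y
  have hΦ : Function.Bijective Φ := by
    constructor
    · exact Function.LeftInverse.injective (g := g.hom) h1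
    · exact Function.RightInverse.surjective (g := g.hom)
        (fun x => congrArg (fun f => f.hom x) h2)
  let Ψ : TensorProduct A (T.obj (ModuleCat.of A A)) L ≃ₗ[A] (I →₀ T.obj (ModuleCat.of A A)) :=
    (LinearEquiv.lTensor _ b.repr).trans (TensorProduct.finsuppScalarRight A A _ I)
  have hcomp : tMap T L = Φ ∘ₗ Ψ.toLinearMap := by
    apply TensorProduct.ext
    apply LinearMap.ext
    intro y
    apply b.ext
    intro i
    change tMap T L (y ⊗ₜ b i) = Φ (Ψ (y ⊗ₜ b i))
    have hΨ : Ψ (y ⊗ₜ b i) = Finsupp.single i y := by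
      change TensorProduct.finsuppScalarRight A A _ I (y ⊗ₜ (b.repr (b i))) = _
      rw [Module.Basis.repr_self, TensorProduct.finsuppScalarRight_apply_tmul,
        Finsupp.sum_single_index (by simp), one_smul]
    rw [hΨ, hΦs, tMap_tmul]
  rw [hcomp]
  exact hΦ.comp Ψ.bijective

end free

end Groth.Agent.Lib.Helper75
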