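import Groth.Agent.Lib.Helper75.GradedNoeth

set_option autoImplicit false

namespace Groth.Agent.Lib.Helper75

open DirectSum

theorem veronese_finiteType {R A : Type*} [CommRing R] [CommRing A] [Algebra R A]
    (𝒜 : ℕ → Submodule R A) [GradedAlgebra 𝒜] [Algebra.FiniteType (𝒜 0) A]
    {B : Type*} [CommRing B] [Algebra R B] (ℬ : ℕ → Submodule R B) [GradedAlgebra ℬ]
    (d : ℕ) (hd : 0 < d) (φ : B →ₐ[R] A) (hφ : Function.Injective φ)
    (hdeg : ∀ n : ℕ, Submodule.map φ.toLinearMap (ℬ n) = 𝒜 (n * d)) :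
    Algebra.FiniteType (ℬ 0) B := by
  classical
  obtain ⟨s, hs, hs'⟩ := GradedAlgebra.exists_finset_adjoin_eq_top_and_homogeneous 𝒜
  choose dv hdv using Subtype.forall'.mp hs'
  -- v : s → A is Subtype.val
  have hx : Algebra.adjoin (𝒜 0) (Set.range (Subtype.val : s → A)) = ⊤ := by simpa using hs
  -- the finite generating set
  let Tset : Set B := {b | ∃ e : s → Fin (d + 1), φ b = ∏ i : s, (i : A) ^ (e i : ℕ)}
  have hTfin : Tset.Finite := by
    have : Tset = ⋃ e : s → Fin (d + 1), {b | φ b = ∏ i : s, (i : A) ^ (e i : ℕ)} := by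
      ext b
      simp [Tset]
    rw [this]
    refine Set.finite_iUnion (fun e => Set.Subsingleton.finite ?_)
    intro b1 hb1 b2 hb2
    exact hφ (hb1.trans hb2.symm)
  refine ⟨⟨hTfin.toFinset, ?_⟩⟩
  rw [Set.Finite.coe_toFinset]
  set C := Algebra.adjoin (ℬ 0) Tset with hC
  have hmem : ∀ (e : s → ℕ) (k : ℕ), ∑ i : s, e i * dv i = k → (∏ i : s, (i : A) ^ e i) ∈ 𝒜 k := by
    intro e k hk
    rw [← hk]
    have := SetLike.prod_pow_mem_graded 𝒜 dv (fun i : s => (i : A)) e (F := Finset.univ) (fun i _ => hdv i)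
    simpa using this
  -- Claim 1
  have claim1 : ∀ e : s → ℕ, (∀ i, e i ≤ d) → d ∣ ∑ i : s, e i * dv i →
      ∃ c ∈ C, φ c = ∏ i : s, (i : A) ^ e i := by
    intro e he hdvd
    obtain ⟨k, hk⟩ := hdvd
    have h1 : (∏ i : s, (i : A) ^ e i) ∈ 𝒜 (k * d) := hmem e _ (by rw [hk, mul_comm])
    rw [← hdeg k] at h1
    obtain ⟨b, -, hb⟩ := h1
    refine ⟨b, Algebra.subset_adjoin ?_, hb⟩
    refine ⟨fun i => ⟨e i, Nat.lt_succ_of_le (he i)⟩, ?_⟩
    exact hb
  -- Claim 2
  have claim2 : ∀ e : s → ℕ, d ∣ ∑ i : s, e i * dv i → ∃ c ∈ C, φ c = ∏ i : s, (i : A) ^ e i := by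
    intro e hdvd
    have hsplit : ∏ i : s, (i : A) ^ e i =
        (∏ i : s, (i : A) ^ (e i % d)) * ∏ i : s, ((i : A) ^ d) ^ (e i / d) := by
      rw [← Finset.prod_mul_distrib]
      refine Finset.prod_congr rfl (fun i _ => ?_)
      rw [← pow_mul, ← pow_add, Nat.mod_add_div]
    have hmod : d ∣ ∑ i : s, (e i % d) * dv i := by
      have h2 : ∑ i : s, e i * dv i = ∑ i : s, (e i % d) * dv i + d * ∑ i : s, (e i / d) * dv i := by
        rw [Finset.mul_sum, ← Finset.sum_add_distrib]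
        refine Finset.sum_congr rfl (fun i _ => ?_)
        conv_lhs => rw [← Nat.mod_add_div (e i) d]
        ring
      rw [h2] at hdvd
      exact (Nat.dvd_add_left (Dvd.intro _ rfl)).mp hdvd
    obtain ⟨c1, hc1, hφc1⟩ := claim1 (fun i => e i % d) (fun i => (Nat.mod_lt _ hd).le) hmod
    have hpow : ∀ i : s, ∃ c ∈ C, φ c = (i : A) ^ d := by
      intro i
      obtain ⟨c, hc, hφc⟩ := claim1 (Pi.single i d) (fun j => by
        by_cases h : j = i
        · subst h; simp
        · simp [h]) (by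
        rw [Finset.sum_eq_single i]
        · simp
        · intro j _ hj; simp [hj]
        · intro h; exact absurd (Finset.mem_univ i) h)
      refine ⟨c, hc, ?_⟩
      rw [hφc, Finset.prod_eq_single i]
      · simp
      · intro j _ hj; simp [hj]
      · intro h; exact absurd (Finset.mem_univ i) h
    choose cp hcp hφcp using hpow
    refine ⟨c1 * ∏ i : s, cp i ^ (e i / d), ?_, ?_⟩
    · exact Subalgebra.mul_mem _ hc1 (Subalgebra.prod_mem _ (fun i _ => Subalgebra.pow_mem _ (hcp i) _))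
    · rw [map_mul, map_prod, hφc1, hsplit]
      congr 1
      refine Finset.prod_congr rfl (fun i _ => ?_)
      rw [map_pow, hφcp]
  have hzero : ∀ r ∈ 𝒜 0, ∃ c ∈ C, φ c = r := by
    intro r hr
    have h0 := hdeg 0
    rw [Nat.zero_mul] at h0
    rw [← h0] at hr
    obtain ⟨b, hb, hφb⟩ := hr
    exact ⟨b, Subalgebra.algebraMap_mem C (⟨b, hb⟩ : ℬ 0), hφb⟩
  -- Claim 3
  have claim3 : ∀ (k : ℕ) (a : A), ∃ c ∈ C, φ c = (decompose 𝒜 a (k * d) : A) := by
    intro k a
    have ha : a ∈ Submodule.span (𝒜 0) (Submonoid.closure (Set.range (Subtype.val : s → A)) : Set A) := by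
      rw [← Algebra.adjoin_eq_span, hx]
      trivial
    induction ha using Submodule.span_induction with
    | mem a ha' =>
      obtain ⟨ai, rfl⟩ := Submonoid.exists_of_mem_closure_range _ _ ha'
      by_cases H : ∑ i : s, ai i * dv i = k * d
      · rw [decompose_of_mem_same 𝒜 (hmem ai _ H)]
        exact claim2 ai (by rw [H]; exact Dvd.intro_left _ rfl)
      · rw [decompose_of_mem_ne 𝒜 (hmem ai _ rfl) H]
        exact ⟨0, Subalgebra.zero_mem _, map_zero _⟩
    | zero =>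
      exact ⟨0, Subalgebra.zero_mem _, by simp⟩
    | add x y _ _ hx' hy' =>
      obtain ⟨c1, hc1, h1⟩ := hx'
      obtain ⟨c2, hc2, h2⟩ := hy'
      refine ⟨c1 + c2, Subalgebra.add_mem _ hc1 hc2, ?_⟩
      rw [map_add, h1, h2, decompose_add, add_apply, Submodule.coe_add]
    | smul r x _ hx' =>
      obtain ⟨c1, hc1, h1⟩ := hx'
      obtain ⟨c0, hc0, h0⟩ := hzero r.1 r.2
      refine ⟨c0 * c1, Subalgebra.mul_mem _ hc0 hc1, ?_⟩
      rw [map_mul, h0, h1, Algebra.smul_def, SetLike.GradeZero.algebraMap_apply,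
        coe_decompose_mul_of_left_mem_zero 𝒜 r.2]
  rw [eq_top_iff]
  intro b _
  rw [← DirectSum.sum_support_decompose ℬ b]
  refine Subalgebra.sum_mem _ (fun k _ => ?_)
  have hbk : φ (decompose ℬ b k : B) ∈ 𝒜 (k * d) := by
    rw [← hdeg k]
    exact ⟨_, SetLike.coe_mem _, rfl⟩
  obtain ⟨c, hc, hφc⟩ := claim3 k (φ (decompose ℬ b k : B))
  rw [decompose_of_mem_same 𝒜 hbk] at hφc
  rw [← hφ hφc]
  exact hc

end Groth.Agent.Lib.Helper75
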