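import Mathlib.AlgebraicGeometry.Limits
import Mathlib.AlgebraicGeometry.Morphisms.QuasiSeparated
import Mathlib.AlgebraicGeometry.Morphisms.QuasiCompact
import Mathlib.AlgebraicGeometry.Morphisms.UnderlyingMap
import Mathlib.AlgebraicGeometry.Restrict

/- helper75: S15558 — affine Zariski covering system of an inverse system of qcqs schemes over a
cofinite poset: finite families `InU` of affine opens (closed under covering finite intersections of
preimages), `T l` compatible families on `Iic l`, `Y_l = ∐_{t ∈ T l} t.top`. -/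

set_option autoImplicit false
universe u v
open CategoryTheory AlgebraicGeometry Opposite TopologicalSpace CategoryTheory.Limits

namespace Groth.Agent.Lib.Helper75.ZarCov

section cov

attribute [local instance] Classical.propDecidable

variable {Z : Scheme.{u}}

/-- intersection of a finite family of opens -/
def interOpen {ι : Type*} [Finite ι] (G : ι → Z.Opens) : Z.Opens :=
  ⟨⋂ i, (G i : Set Z), isOpen_iInter_of_finite fun i => (G i).2⟩

lemma mem_interOpen {ι : Type*} [Finite ι] (G : ι → Z.Opens) (x : Z) :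
    x ∈ interOpen G ↔ ∀ i, x ∈ G i := by
  change x ∈ (⋂ i, (G i : Set Z)) ↔ _
  simp

lemma interOpen_le {ι : Type*} [Finite ι] (G : ι → Z.Opens) (i : ι) : interOpen G ≤ G i := by
  intro x hx
  exact (mem_interOpen G x).mp hx i

lemma isCompact_interOpen [CompactSpace Z] [QuasiSeparatedSpace Z] {ι : Type*} [Finite ι]
    (G : ι → Z.Opens) (hG : ∀ i, IsCompact (G i : Set Z)) :
    IsCompact (interOpen G : Set Z) := by
  classical
  cases nonempty_fintype ι
  have key : ∀ s : Finset ι, IsCompact (⋂ i ∈ s, (G i : Set Z)) ∧ IsOpen (⋂ i ∈ s, (G i : Set Z)) := by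
    intro s
    induction s using Finset.induction_on with
    | empty => simp [isCompact_univ]
    | insert a s ha ih =>
      rw [Finset.set_biInter_insert]
      exact ⟨QuasiSeparatedSpace.inter_isCompact _ _ (G a).2 (hG a) ih.2 ih.1, (G a).2.inter ih.2⟩
  have := (key Finset.univ).1
  simpa [interOpen] using this

/-- a chosen finite affine open cover of a quasi-compact open (empty otherwise) -/
noncomputable def cov (W : Z.Opens) : Set Z.Opens :=
  if h : IsCompact (W : Set Z) then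
    (fun i : Z.affineOpens => (i : Z.Opens)) ''
      (isCompact_iff_finite_and_eq_biUnion_affineOpens.mp h).choose
  else ∅

lemma cov_finite (W : Z.Opens) : (cov W).Finite := by
  unfold cov
  split_ifs with h
  · exact (isCompact_iff_finite_and_eq_biUnion_affineOpens.mp h).choose_spec.1.image _
  · exact Set.finite_empty

lemma cov_affine {W V : Z.Opens} (h : V ∈ cov W) : IsAffineOpen V := by
  unfold cov at h
  split_ifs at h with hc
  · obtain ⟨i, -, rfl⟩ := h
    exact i.2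
  · exact absurd h (Set.notMem_empty _)

lemma cov_le {W V : Z.Opens} (h : V ∈ cov W) : V ≤ W := by
  unfold cov at h
  split_ifs at h with hc
  · obtain ⟨i, hi, rfl⟩ := h
    have e := (isCompact_iff_finite_and_eq_biUnion_affineOpens.mp hc).choose_spec.2
    conv_rhs => rw [e]
    exact le_iSup₂ (f := fun (i : Z.affineOpens) (_ : i ∈ _) => (i : Z.Opens)) i hi
  · exact absurd h (Set.notMem_empty _)

lemma cov_cover {W : Z.Opens} (hW : IsCompact (W : Set Z)) {x : Z} (hx : x ∈ W) :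
    ∃ V ∈ cov W, x ∈ V := by
  have e := (isCompact_iff_finite_and_eq_biUnion_affineOpens.mp hW).choose_spec.2
  rw [e] at hx
  simp only [Opens.mem_iSup] at hx
  obtain ⟨i, hi, hxi⟩ := hx
  refine ⟨i, ?_, hxi⟩
  unfold cov
  rw [dif_pos hW]
  exact ⟨i, hi, rfl⟩

end cov

section main

variable {Λ : Type v} [PartialOrder Λ] (X : Λᵒᵖ ⥤ Scheme.{u})

/-- transition morphisms -/
noncomputable abbrev tr {l m : Λ} (h : m ≤ l) : X.obj (op l) ⟶ X.obj (op m) :=
  X.map (homOfLE h).op

lemma tr_refl (l : Λ) (h : l ≤ l) : tr X h = 𝟙 _ := X.map_id _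

lemma tr_trans {l m n : Λ} (h : m ≤ l) (h' : n ≤ m) :
    tr X h ≫ tr X h' = tr X (h'.trans h) := by
  rw [tr, tr, ← X.map_comp]
  rfl

lemma preimage_tr_refl (l : Λ) (h : l ≤ l) (U : (X.obj (op l)).Opens) :
    (tr X h) ⁻¹ᵁ U = U := by
  rw [tr_refl X l h]
  rfl

lemma tr_refl_apply (l : Λ) (h : l ≤ l) (x : X.obj (op l)) : (tr X h) x = x := by
  rw [tr_refl X l h]
  rfl

lemma tr_trans_apply {l m n : Λ} (h : m ≤ l) (h' : n ≤ m) (x : X.obj (op l)) :
    (tr X h') ((tr X h) x) = (tr X (h'.trans h)) x := by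
  rw [← tr_trans X h h']
  rfl

lemma wf_lt [∀ l : Λ, Finite (Set.Iic l)] : WellFounded ((· < ·) : Λ → Λ → Prop) := by
  refine Subrelation.wf ?_ (measure fun l : Λ => (Set.Iic l).ncard).wf
  intro a b hab
  exact Set.ncard_lt_ncard (Set.Iic_ssubset_Iic.mpr hab) (Set.toFinite _)

variable [∀ l : Λ, Finite (Set.Iic l)]

instance finite_lt (l : Λ) : Finite {m : Λ // m < l} :=
  Finite.of_injective (fun m => (⟨m.1, Set.mem_Iic.mpr m.2.le⟩ : Set.Iic l))
    (fun a b h => by have := congrArg Subtype.val h; exact Subtype.ext this)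

/-- the finite families of affine opens -/
inductive InU : (l : Λ) → (X.obj (op l)).Opens → Prop
  | mk (l : Λ) (F : (m : {m : Λ // m < l}) → (X.obj (op m.1)).Opens) (hF : ∀ m, InU m.1 (F m))
      (V : (X.obj (op l)).Opens)
      (hV : V ∈ cov (interOpen fun m : {m : Λ // m < l} => (tr X m.2.le) ⁻¹ᵁ (F m))) : InU l V

lemma InU.affine {l : Λ} {V : (X.obj (op l)).Opens} (h : InU X l V) : IsAffineOpen V := by
  cases h with
  | mk _ F hF _ hV => exact cov_affine hV

lemma InU_iff {l : Λ} {V : (X.obj (op l)).Opens} : InU X l V ↔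
    ∃ F : (m : {m : Λ // m < l}) → (X.obj (op m.1)).Opens, (∀ m, InU X m.1 (F m)) ∧
      V ∈ cov (interOpen fun m : {m : Λ // m < l} => (tr X m.2.le) ⁻¹ᵁ (F m)) := by
  constructor
  · intro h
    cases h with
    | mk _ F hF _ hV => exact ⟨F, hF, hV⟩
  · rintro ⟨F, hF, hV⟩
    exact InU.mk l F hF V hV

lemma InU_finite (l : Λ) : {V | InU X l V}.Finite := by
  refine (wf_lt (Λ := Λ)).induction (C := fun l => {V | InU X l V}.Finite) l ?_
  intro l ih
  have e : {V | InU X l V} =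
      ⋃ F ∈ Set.pi Set.univ (fun m : {m : Λ // m < l} => {V | InU X m.1 V}),
        cov (interOpen fun m : {m : Λ // m < l} => (tr X m.2.le) ⁻¹ᵁ (F m)) := by
    ext V
    simp only [Set.mem_ofPred_eq, Set.mem_iUnion, Set.mem_pi, Set.mem_univ, true_implies,
      exists_prop]
    exact InU_iff X
  rw [e]
  exact Set.Finite.biUnion (Set.Finite.pi fun m => ih m.1 m.2) (fun F _ => cov_finite _)


/-- compatible families of members of `InU` on `Iic l` -/
def T (l : Λ) : Type (max u v) :=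
  {t : (m : Set.Iic l) → (X.obj (op m.1)).Opens //
    (∀ m, InU X m.1 (t m)) ∧
      ∀ (m n : Set.Iic l) (h : n.1 ≤ m.1), t m ≤ (tr X h) ⁻¹ᵁ (t n)}

instance finite_T (l : Λ) : Finite (T X l) := by
  have : ∀ m : Set.Iic l, Finite {V : (X.obj (op m.1)).Opens // InU X m.1 V} :=
    fun m => (InU_finite X m.1).to_subtype
  refine Finite.of_injective
    (fun t : T X l => (fun m : Set.Iic l =>
      (⟨t.1 m, t.2.1 m⟩ : {V : (X.obj (op m.1)).Opens // InU X m.1 V}))) ?_
  intro a b h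
  apply Subtype.ext
  funext m
  have := congrFun h m
  exact congrArg Subtype.val this

variable {X}

/-- inclusion of initial segments -/
def up {l l' : Λ} (h : l ≤ l') (m : Set.Iic l) : Set.Iic l' :=
  ⟨m.1, Set.mem_Iic.mpr (le_trans (Set.mem_Iic.mp m.2) h)⟩

/-- restriction of families -/
def T.res {l l' : Λ} (h : l ≤ l') (t : T X l') : T X l :=
  ⟨fun m => t.1 (up h m), fun m => t.2.1 (up h m), fun m n hmn => t.2.2 (up h m) (up h n) hmn⟩

/-- the top component -/
def T.top {l : Λ} (t : T X l) : (X.obj (op l)).Opens := t.1 ⟨l, Set.mem_Iic.mpr le_rfl⟩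

lemma T.top_le {l l' : Λ} (h : l ≤ l') (t : T X l') :
    t.top ≤ (tr X h) ⁻¹ᵁ (t.res h).top := by
  unfold T.top T.res up
  exact t.2.2 ⟨l', Set.mem_Iic.mpr le_rfl⟩ ⟨l, Set.mem_Iic.mpr h⟩ h

lemma T.top_affine {l : Λ} (t : T X l) : IsAffineOpen t.top := (t.2.1 _).affine

variable (X)

/-- the pieces -/
noncomputable abbrev g (l : Λ) (t : T X l) : Scheme.{u} := (t.top : Scheme.{u})

instance (l : Λ) (t : T X l) : IsAffine (g X l t) := t.top_affine

/-- the covering scheme at level `l` -/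
noncomputable abbrev YObj (l : Λ) : Scheme.{u} := ∐ (g X l)

instance (l : Λ) : IsAffine (YObj X l) := by
  infer_instance

/-- transition maps of `Y` -/
noncomputable def YMap {l l' : Λ} (h : l ≤ l') : YObj X l' ⟶ YObj X l :=
  Sigma.desc fun t : T X l' =>
    (tr X h).resLE (t.res h).top t.top (t.top_le h) ≫ Sigma.ι (g X l) (t.res h)

/-- the projection -/
noncomputable def πl (l : Λ) : YObj X l ⟶ X.obj (op l) :=
  Sigma.desc fun t : T X l => t.top.ι

@[reassoc]
lemma ι_YMap {l l' : Λ} (h : l ≤ l') (t : T X l') :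
    Sigma.ι (g X l') t ≫ YMap X h =
      (tr X h).resLE (t.res h).top t.top (t.top_le h) ≫ Sigma.ι (g X l) (t.res h) := by
  unfold YMap
  exact Sigma.ι_desc _ _

@[reassoc]
lemma ι_πl (l : Λ) (t : T X l) : Sigma.ι (g X l) t ≫ πl X l = t.top.ι := by
  unfold πl
  exact Sigma.ι_desc _ _

lemma resLE_eq {A B : Scheme.{u}} {f f' : A ⟶ B} (e : f = f') {U : B.Opens} {V : A.Opens}
    (h : V ≤ f ⁻¹ᵁ U) (h' : V ≤ f' ⁻¹ᵁ U) : f.resLE U V h = f'.resLE U V h' := by
  subst e
  rfl

lemma YMap_refl (l : Λ) (h : l ≤ l) : YMap X h = 𝟙 _ := by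
  apply Sigma.hom_ext
  intro t
  rw [ι_YMap, Category.comp_id]
  have key : ∀ (t' : T X l) (_ : t' = t) (hle : t.top ≤ (tr X h) ⁻¹ᵁ t'.top),
      (tr X h).resLE t'.top t.top hle ≫ Sigma.ι (g X l) t' = Sigma.ι (g X l) t := by
    rintro t' rfl hle
    rw [resLE_eq (tr_refl X l h) hle le_rfl, Scheme.Hom.resLE_id, Scheme.homOfLE_rfl,
      Category.id_comp]
  exact key (t.res h) rfl _

lemma YMap_trans {l l' l'' : Λ} (h : l ≤ l') (h' : l' ≤ l'') :
    YMap X h' ≫ YMap X h = YMap X (h.trans h') := by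
  apply Sigma.hom_ext
  intro t
  rw [ι_YMap_assoc, ι_YMap, ι_YMap, ← Category.assoc, Scheme.Hom.resLE_comp_resLE]
  congr 1
  exact resLE_eq (tr_trans X h' h) _ _

lemma YMap_πl {l l' : Λ} (h : l ≤ l') : YMap X h ≫ πl X l = πl X l' ≫ tr X h := by
  apply Sigma.hom_ext
  intro t
  rw [ι_YMap_assoc, ι_πl, ι_πl_assoc, Scheme.Hom.resLE_comp_ι]

/-- the inverse system `Y` -/
noncomputable def Y : Λᵒᵖ ⥤ Scheme.{u} where
  obj a := YObj X a.unop
  map f := YMap X (leOfHom f.unop)
  map_id a := YMap_refl X a.unop _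
  map_comp _ _ := (YMap_trans X _ _).symm

/-- the morphism of inverse systems -/
noncomputable def π : Y X ⟶ X where
  app a := πl X a.unop
  naturality _ _ f := YMap_πl X (leOfHom f.unop)

section choice

attribute [local instance] Classical.propDecidable

variable [∀ l : Λ, CompactSpace (X.obj (op l))] [∀ l : Λ, QuasiSeparatedSpace (X.obj (op l))]

/-- selection of a member of the cover through a point -/
noncomputable def sel (m : Λ) (F : (n : {n : Λ // n < m}) → (X.obj (op n.1)).Opens)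
    (y : X.obj (op m)) : (X.obj (op m)).Opens :=
  if h : ∃ V, V ∈ cov (interOpen fun n : {n : Λ // n < m} => (tr X n.2.le) ⁻¹ᵁ (F n)) ∧ y ∈ V
  then h.choose else ⊥

lemma sel_spec (m : Λ) (F : (n : {n : Λ // n < m}) → (X.obj (op n.1)).Opens)
    (y : X.obj (op m)) (hF : ∀ n, InU X n.1 (F n)) (hy : ∀ n, (tr X n.2.le) y ∈ F n) :
    InU X m (sel X m F y) ∧ y ∈ sel X m F y ∧
      sel X m F y ≤ interOpen fun n : {n : Λ // n < m} => (tr X n.2.le) ⁻¹ᵁ (F n) := by
  have hc : IsCompact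
      ((interOpen fun n : {n : Λ // n < m} => (tr X n.2.le) ⁻¹ᵁ (F n) :
        (X.obj (op m)).Opens) : Set (X.obj (op m))) := by
    apply isCompact_interOpen
    intro n
    exact Scheme.Hom.isCompact_preimage (f := tr X n.2.le) (hF n).affine.isCompact
  have hyW : y ∈ interOpen fun n : {n : Λ // n < m} => (tr X n.2.le) ⁻¹ᵁ (F n) := by
    rw [mem_interOpen]
    intro n
    exact hy n
  have h : ∃ V, V ∈ cov (interOpen fun n : {n : Λ // n < m} => (tr X n.2.le) ⁻¹ᵁ (F n)) ∧
      y ∈ V := by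
    obtain ⟨V, hV, hyV⟩ := cov_cover hc hyW
    exact ⟨V, hV, hyV⟩
  unfold sel
  rw [dif_pos h]
  exact ⟨InU.mk m F hF _ h.choose_spec.1, h.choose_spec.2, cov_le h.choose_spec.1⟩

/-- a compatible family through a point, by well-founded recursion -/
noncomputable def fam (l₀ : Λ) (x : X.obj (op l₀)) : (m : Λ) → m ≤ l₀ → (X.obj (op m)).Opens :=
  (wf_lt (Λ := Λ)).fix (C := fun m => m ≤ l₀ → (X.obj (op m)).Opens)
    (fun m rec hm => sel X m (fun n => rec n.1 n.2 (n.2.le.trans hm)) ((tr X hm) x))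

omit [∀ l : Λ, CompactSpace (X.obj (op l))] [∀ l : Λ, QuasiSeparatedSpace (X.obj (op l))] in
lemma fam_eq (l₀ : Λ) (x : X.obj (op l₀)) (m : Λ) (hm : m ≤ l₀) :
    fam X l₀ x m hm =
      sel X m (fun n => fam X l₀ x n.1 (n.2.le.trans hm)) ((tr X hm) x) := by
  have h := WellFounded.fix_eq (wf_lt (Λ := Λ)) (C := fun m => m ≤ l₀ → (X.obj (op m)).Opens)
    (fun m rec hm => sel X m (fun n => rec n.1 n.2 (n.2.le.trans hm)) ((tr X hm) x)) m
  exact congrFun h hm

lemma fam_spec (l₀ : Λ) (x : X.obj (op l₀)) : ∀ (m : Λ) (hm : m ≤ l₀),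
    InU X m (fam X l₀ x m hm) ∧ (tr X hm) x ∈ fam X l₀ x m hm ∧
      ∀ (n : Λ) (hn : n < m),
        fam X l₀ x m hm ≤ (tr X hn.le) ⁻¹ᵁ (fam X l₀ x n (hn.le.trans hm)) := by
  intro m
  refine (wf_lt (Λ := Λ)).induction
    (C := fun m => ∀ (hm : m ≤ l₀),
      InU X m (fam X l₀ x m hm) ∧ (tr X hm) x ∈ fam X l₀ x m hm ∧
        ∀ (n : Λ) (hn : n < m),
          fam X l₀ x m hm ≤ (tr X hn.le) ⁻¹ᵁ (fam X l₀ x n (hn.le.trans hm))) m ?_
  intro m ih hm
  have hs := sel_spec X m (fun n => fam X l₀ x n.1 (n.2.le.trans hm)) ((tr X hm) x)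
    (fun n => (ih n.1 n.2 _).1)
    (fun n => by
      rw [tr_trans_apply]
      exact (ih n.1 n.2 _).2.1)
  rw [← fam_eq] at hs
  refine ⟨hs.1, hs.2.1, fun n hn => ?_⟩
  exact hs.2.2.trans (interOpen_le (fun n : {n : Λ // n < m} =>
    (tr X n.2.le) ⁻¹ᵁ (fam X l₀ x n.1 (n.2.le.trans hm))) ⟨n, hn⟩)

lemma exists_T (l₀ : Λ) (x : X.obj (op l₀)) : ∃ t : T X l₀, x ∈ t.top := by
  refine ⟨⟨fun m => fam X l₀ x m.1 (Set.mem_Iic.mp m.2), fun m => (fam_spec X l₀ x _ _).1,
    fun m n h => ?_⟩, ?_⟩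
  · rcases h.eq_or_lt with e | hlt
    · obtain rfl : n = m := Subtype.ext e
      rw [preimage_tr_refl]
    · exact (fam_spec X l₀ x m.1 (Set.mem_Iic.mp m.2)).2.2 n.1 hlt
  · have := (fam_spec X l₀ x l₀ le_rfl).2.1
    rw [tr_refl_apply] at this
    exact this

lemma πl_surjective (l : Λ) : Surjective (πl X l) := by
  constructor
  intro x
  obtain ⟨t, hx⟩ := exists_T X l x
  refine ⟨(Sigma.ι (g X l) t) ⟨x, hx⟩, ?_⟩
  rw [← Scheme.Hom.comp_apply, ι_πl]
  rfl

end choice

lemma pieces (l : Λ) : ∃ (ι : Type u) (U : ι → (YObj X l).Opens),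
    Pairwise (fun i j => Disjoint (U i) (U j)) ∧ iSup U = ⊤ ∧
      ∀ i, IsOpenImmersion ((U i).ι ≫ πl X l) := by
  refine ⟨Shrink.{u} (T X l),
    fun i => (Sigma.ι (g X l) ((equivShrink.{u} (T X l)).symm i)).opensRange, ?_, ?_, ?_⟩
  · intro i j hij
    exact disjoint_opensRange_sigmaι (g X l) _ _
      (fun h => hij ((equivShrink.{u} (T X l)).symm.injective h))
  · have h1 := (sigmaOpenCover (g X l)).iSup_opensRange
    rw [← h1]
    exact (equivShrink.{u} (T X l)).symm.surjective.iSup_comp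
      (fun t => (Sigma.ι (g X l) t).opensRange)
  · intro i
    rw [← Scheme.Hom.isoOpensRange_inv_comp, Category.assoc, ι_πl]
    infer_instance

end main

theorem main {Λ : Type v} [PartialOrder Λ]
    (hΛ : ∀ l : Λ, (Set.Iic l).Finite) (X : Λᵒᵖ ⥤ Scheme.{u})
    (hqc : ∀ l : Λ, CompactSpace ↥(X.obj (Opposite.op l)))
    (hqs : ∀ l : Λ, QuasiSeparatedSpace ↥(X.obj (Opposite.op l))) :
    ∃ (Y : Λᵒᵖ ⥤ Scheme.{u}) (π : Y ⟶ X), ∀ l : Λ,
      IsAffine (Y.obj (Opposite.op l)) ∧ Surjective (π.app (Opposite.op l)) ∧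
        ∃ (ι : Type u) (U : ι → (Y.obj (Opposite.op l)).Opens),
          Pairwise (fun i j => Disjoint (U i) (U j)) ∧ iSup U = ⊤ ∧
            ∀ i, IsOpenImmersion ((U i).ι ≫ π.app (Opposite.op l)) := by
  have : ∀ l : Λ, Finite (Set.Iic l) := fun l => (hΛ l).to_subtype
  refine ⟨Y X, π X, fun l => ⟨?_, ?_, ?_⟩⟩
  · change IsAffine (YObj X l)
    infer_instance
  · exact πl_surjective X l
  · exact pieces X l

end Groth.Agent.Lib.Helper75.ZarCov
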